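import Groth.Agent.L18.IdealModule
import Groth.Agent.L22.Ideal
import Groth.Agent.L21.Extend.Gen

/-! An ideal sheaf is effective Cartier iff it is invertible as a module. -/

universe u

open CategoryTheory AlgebraicGeometry TopologicalSpace Opposite

noncomputable section

namespace Groth.Agent.L19.IdealInvertible

open Groth.L21.Extend

variable {S : Scheme.{u}} (I : S.IdealSheafData)

abbrev io (V : S.Opens) (m : Γ(ClSub.idealMod I, V)) : Γ(S, V) :=
  show Γ(S, V) from (ClSub.idealModι I).app V m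

theorem io_rs {V W : S.Opens} (h : V ≤ W) (m : Γ(ClSub.idealMod I, W)) :
    io I V (rs (ClSub.idealMod I) h m) = rO S h (io I W m) :=
  ConcreteCategory.congr_hom ((ClSub.idealModι I).mapPresheaf.naturality (homOfLE h).op) m

theorem io_smul {V : S.Opens} (a : Γ(S, V)) (m : Γ(ClSub.idealMod I, V)) :
    io I V (a • m) = a * io I V m :=
  Scheme.Modules.Hom.app_smul (ClSub.idealModι I) a m

theorem io_inj (V : S.Opens) : Function.Injective (io I V) :=
  (Groth.L18.IdealModule.exact_sections I V).1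

theorem isEffCartier_iff : PicF.IsInvertible (ClSub.idealMod I) ↔ BlowUp.IsEffCartierIdeal I := by
  constructor
  · intro h x
    obtain ⟨O, hxO, ⟨φ⟩⟩ := h x
    obtain ⟨e, he⟩ := exists_gen_of_iso _ φ
    obtain ⟨U, hU, hxU, hUO⟩ := exists_isAffineOpen_mem_and_subset (x := x) (U := O) hxO
    have hle : U ≤ O := hUO
    have heU := IsGen.restrict _ he hle
    set m := rs (ClSub.idealMod I) hle e
    refine ⟨⟨U, hU⟩, hxU, io I U m, ?_, ?_⟩
    · rw [mem_nonZeroDivisors_iff_right]
      intro a ha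
      apply (heU U le_rfl).1
      apply io_inj
      show io I U (a • rs _ le_rfl m) = io I U ((0 : Γ(S, U)) • rs _ le_rfl m)
      rw [rs_self, io_smul, io_smul, zero_mul, ha]
    · ext a
      rw [Groth.L18.IdealModule.mem_ideal_iff I hU, Ideal.mem_span_singleton']
      constructor
      · rintro ⟨n, rfl⟩
        obtain ⟨b, hb⟩ := (heU U le_rfl).2 n
        refine ⟨b, ?_⟩
        rw [← io_smul]
        simp only [rs_self] at hb
        rw [hb]
      · rintro ⟨b, rfl⟩
        exact ⟨b • m, io_smul I b m⟩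
  · intro h x
    obtain ⟨U, hxU, f, hf, hIU, hV⟩ := Groth.L22.Ideals.exists_generator h x
    obtain ⟨m, hm⟩ := (Groth.L18.IdealModule.mem_ideal_iff I U.2 f).1
      (hIU ▸ Ideal.subset_span rfl)
    refine ⟨U.1, hxU, exists_iso_of_isGen _ (e := m) fun V hVU => ?_⟩
    have key : ∀ (W : S.Opens) (hW : W ≤ U.1) (a : Γ(S, W)),
        io I W (a • rs (ClSub.idealMod I) hW m) = a * rO S hW f := fun W hW a => by
      rw [io_smul, io_rs]
      exact congrArg (fun t => a * rO S hW t) hm
    have hinj : ∀ (W : S.Opens) (hW : W ≤ U.1),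
        Function.Injective fun a : Γ(S, W) => a • rs (ClSub.idealMod I) hW m := by
      intro W hW a b hab
      refine eq_of_locally (Coh.structureModule S) a b fun y hy => ?_
      obtain ⟨B, hB, hyB, hBW⟩ := exists_isAffineOpen_mem_and_subset (x := y) (U := W) hy
      refine ⟨B, hBW, hyB, ?_⟩
      have h1 := congrArg (rs (ClSub.idealMod I) (hBW : B ≤ W)) hab
      simp only [rs_smul, rs_rs] at h1
      have h2 := congrArg (io I B) h1
      rw [key, key] at h2
      exact (mul_cancel_right_mem_nonZeroDivisors (hV ⟨B, hB⟩ _).1).1 h2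
    refine ⟨hinj V hVU, fun n => ?_⟩
    have hloc : ∀ y : V, ∃ (B : S.Opens) (hBV : B ≤ V), y.1 ∈ B ∧ ∃ a : Γ(S, B),
        a • rs (ClSub.idealMod I) (hBV.trans hVU) m = rs (ClSub.idealMod I) hBV n := by
      intro y
      obtain ⟨B, hB, hyB, hBW⟩ := exists_isAffineOpen_mem_and_subset (x := y.1) (U := V) y.2
      have hBV : B ≤ V := hBW
      have hmem : io I B (rs (ClSub.idealMod I) hBV n) ∈ I.ideal ⟨B, hB⟩ :=
        (Groth.L18.IdealModule.mem_ideal_iff I hB _).2 ⟨_, rfl⟩
      rw [(hV ⟨B, hB⟩ (hBV.trans hVU)).2, Ideal.mem_span_singleton'] at hmem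
      obtain ⟨a, ha⟩ := hmem
      refine ⟨B, hBV, hyB, a, io_inj I B ?_⟩
      rw [key, ← ha]
    choose B hBV hyB a ha using hloc
    obtain ⟨t, ht⟩ := exists_glue (Coh.structureModule S) B V hBV
      (fun y hy => ⟨⟨y, hy⟩, hyB _⟩) a fun i k => by
        apply hinj (B i ⊓ B k) (inf_le_left.trans ((hBV i).trans hVU))
        show rO S (inf_le_left : B i ⊓ B k ≤ B i) (a i) • rs (ClSub.idealMod I) _ m =
          rO S (inf_le_right : B i ⊓ B k ≤ B k) (a k) • rs (ClSub.idealMod I) _ m
        have h1 := congrArg (rs (ClSub.idealMod I) (inf_le_left : B i ⊓ B k ≤ B i)) (ha i)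
        have h2 := congrArg (rs (ClSub.idealMod I) (inf_le_right : B i ⊓ B k ≤ B k)) (ha k)
        simp only [rs_smul, rs_rs] at h1 h2
        rw [h1, h2]
    refine ⟨t, eq_of_locally _ _ _ fun y hy => ⟨B ⟨y, hy⟩, hBV _, hyB _, ?_⟩⟩
    rw [rs_smul, rs_rs, ← ha ⟨y, hy⟩]
    exact congrArg (· • rs (ClSub.idealMod I) _ m) (ht ⟨y, hy⟩)

end Groth.Agent.L19.IdealInvertible
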