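import Mathlib.AlgebraicGeometry.Morphisms.QuasiCompact
import Mathlib.RingTheory.Ideal.MinimalPrime.Localization
import Mathlib.AlgebraicGeometry.PullbackCarrier

/-!
# Closure of the image of a quasi-compact morphism
-/

universe u

open CategoryTheory CategoryTheory.Limits AlgebraicGeometry

namespace Groth.L19

set_option backward.isDefEq.respectTransparency.types false in
/-- A point in the closure of the image of a quasi-compact morphism is a specialization of a point
of the image. -/
theorem exists_specializes_of_mem_closure_range {X Y : Scheme.{u}} (f : X ⟶ Y) [QuasiCompact f]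
    {z : Y} (hz : z ∈ closure (Set.range f)) : ∃ x : X, f x ⤳ z := by
  obtain ⟨i, z', rfl⟩ := Y.affineCover.exists_eq z
  let g := Y.affineCover.f i
  have hz' : z' ∈ closure (Set.range (pullback.snd f g)) := by
    rw [Scheme.Pullback.range_snd,
      ← IsOpenMap.preimage_closure_eq_closure_preimage g.isOpenEmbedding.isOpenMap g.continuous]
    exact hz
  haveI : CompactSpace ↥(pullback f g) := QuasiCompact.compactSpace_of_compactSpace (pullback.snd f g)
  obtain ⟨R, p, hp⟩ := compactSpace_iff_exists.mp this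
  obtain ⟨φ, hφ⟩ := Spec.map_surjective (p ≫ pullback.snd f g)
  suffices ∃ w, (p ≫ pullback.snd f g) w ⤳ z' by
    obtain ⟨w, hw⟩ := this
    refine ⟨pullback.fst f g (p w), ?_⟩
    rw [← Scheme.Hom.comp_apply, pullback.condition, Scheme.Hom.comp_apply]
    exact (show pullback.snd f g (p w) ⤳ z' by simpa using hw).map g.continuous
  have hz'' : (show PrimeSpectrum _ from z') ∈ closure (Set.range (PrimeSpectrum.comap φ.hom)) := by
    refine closure_mono ?_ hz'
    rintro _ ⟨q, rfl⟩
    obtain ⟨w, rfl⟩ := hp q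
    refine ⟨w, ?_⟩
    exact (congrArg (fun h : Spec R ⟶ _ => h w) hφ).trans (Scheme.Hom.comp_apply ..)
  rw [PrimeSpectrum.closure_range_comap, PrimeSpectrum.mem_zeroLocus] at hz''
  obtain ⟨q, hq, hqz⟩ := Ideal.exists_minimalPrimes_le (J := (show PrimeSpectrum _ from z').asIdeal)
    (I := RingHom.ker φ.hom) hz''
  obtain ⟨q', hq', -, rfl⟩ := Ideal.exists_comap_eq_of_mem_minimalPrimes φ.hom q
    (I := ⊥) (by simpa [RingHom.ker_eq_comap_bot] using hq)
  refine ⟨(⟨q', hq'⟩ : PrimeSpectrum R), ?_⟩
  have h := (PrimeSpectrum.le_iff_specializes (PrimeSpectrum.comap φ.hom ⟨q', hq'⟩) _).mp hqz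
  exact (congrArg (fun m : Spec R ⟶ _ => m ⟨q', hq'⟩) hφ) ▸ h

end Groth.L19
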