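import Mathlib.AlgebraicGeometry.Morphisms.Flat
import Mathlib.AlgebraicGeometry.Noetherian
import Mathlib.RingTheory.Flat.FaithfullyFlat.Algebra

universe u

open CategoryTheory AlgebraicGeometry TensorProduct

namespace Groth.L19

theorem flat_of_flat_of_faithfullyFlat (A B C : Type u) [CommRing A] [CommRing B] [CommRing C]
    [Algebra A B] [Algebra B C] [Algebra A C] [IsScalarTower A B C]
    [Module.FaithfullyFlat B C] [Module.Flat A C] : Module.Flat A B := by
  rw [Module.Flat.iff_lTensor_preserves_injective_linearMap]
  intro M N _ _ _ _ u hu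
  let uB : B ⊗[A] M →ₗ[B] B ⊗[A] N := AlgebraTensorModule.lTensor B B u
  show Function.Injective uB
  rw [← Module.FaithfullyFlat.lTensor_injective_iff_injective B C]
  have h : Function.Injective (u.lTensor C) := Module.Flat.lTensor_preserves_injective_linearMap u hu
  let eM := AlgebraTensorModule.cancelBaseChange A B B C M
  let eN := AlgebraTensorModule.cancelBaseChange A B B C N
  have hc : ∀ x, eN (uB.lTensor C x) = u.lTensor C (eM x) := by
    intro x
    induction x using TensorProduct.induction_on with
    | zero => simp
    | add a b ha hb => simp only [map_add, ha, hb]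
    | tmul c y =>
      induction y using TensorProduct.induction_on with
      | zero => simp
      | add a b ha hb => simp only [tmul_add, map_add, ha, hb]
      | tmul b m => simp [uB, eM, eN, LinearMap.lTensor_tmul]
  intro x y hxy
  apply eM.injective
  apply h
  rw [← hc, ← hc, hxy]

theorem flat_stalkMap_of_comp {X Y Z : Scheme.{u}} (f : X ⟶ Y) (g : Y ⟶ Z) (x : X)
    (hf : (f.stalkMap x).hom.Flat) (h : ((f ≫ g).stalkMap x).hom.Flat) :
    (g.stalkMap (f x)).hom.Flat := by
  replace h : ((f.stalkMap x).hom.comp (g.stalkMap (f x)).hom).Flat := by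
    rw [Scheme.Hom.stalkMap_comp] at h; exact h
  have hl : IsLocalHom (f.stalkMap x).hom := inferInstance
  algebraize [(g.stalkMap (f x)).hom, (f.stalkMap x).hom, (f.stalkMap x).hom.comp (g.stalkMap (f x)).hom]
  have : Module.Flat (Y.presheaf.stalk (f x)) (X.presheaf.stalk x) := hf
  have : IsLocalHom (algebraMap (Y.presheaf.stalk (f x)) (X.presheaf.stalk x)) := hl
  have : Module.FaithfullyFlat (Y.presheaf.stalk (f x)) (X.presheaf.stalk x) :=
    Module.FaithfullyFlat.of_flat_of_isLocalHom
  exact flat_of_flat_of_faithfullyFlat _ _ (X.presheaf.stalk x)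

theorem stalkMap_injective_of_flat {X Y : Scheme.{u}} (f : X ⟶ Y) [Flat f] (x : X) :
    Function.Injective (f.stalkMap x).hom := by
  have hf := AlgebraicGeometry.Flat.stalkMap f x
  have hl : IsLocalHom (f.stalkMap x).hom := inferInstance
  algebraize [(f.stalkMap x).hom]
  have : Module.Flat (Y.presheaf.stalk (f x)) (X.presheaf.stalk x) := hf
  have : IsLocalHom (algebraMap (Y.presheaf.stalk (f x)) (X.presheaf.stalk x)) := hl
  have : Module.FaithfullyFlat (Y.presheaf.stalk (f x)) (X.presheaf.stalk x) :=
    Module.FaithfullyFlat.of_flat_of_isLocalHom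
  exact FaithfulSMul.algebraMap_injective _ _

theorem isNoetherianRing_of_faithfullyFlat (A B : Type u) [CommRing A] [CommRing B] [Algebra A B]
    [Module.FaithfullyFlat A B] [IsNoetherianRing B] : IsNoetherianRing A := by
  rw [isNoetherianRing_iff, isNoetherian_iff']
  have hmono : StrictMono (fun I : Ideal A => I.map (algebraMap A B)) :=
    Monotone.strictMono_of_injective (fun _ _ h => Ideal.map_mono h) fun I J h => by
      have := congrArg (Ideal.comap (algebraMap A B)) h
      simpa [Ideal.comap_map_eq_self_of_faithfullyFlat] using this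
  exact hmono.wellFoundedGT

end Groth.L19
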