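import Groth.Agent.L19.PullChart
import Groth.Agent.L29.LocFree
import Mathlib.RingTheory.Flat.EquationalCriterion
import Mathlib.RingTheory.Localization.Free
import Mathlib.RingTheory.Spectrum.Prime.FreeLocus

/-!
# Finite locally free modules through affine charts; descent
-/

set_option autoImplicit false
set_option linter.style.haveILetI false
set_option backward.isDefEq.respectTransparency.types false
set_option backward.isDefEq.respectTransparency false

universe u

open CategoryTheory CategoryTheory.Limits AlgebraicGeometry TensorProduct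

noncomputable section

namespace Groth.L19.PullChart

section Algebra

variable {R : Type u} [CommRing R] {ι : Type u} (B : ι → Type u) [∀ i, CommRing (B i)]
  [∀ i, Algebra R (B i)] [∀ i, Module.Flat R (B i)]

/-- Elements are detected on a jointly surjective family of flat algebras. -/
theorem eq_zero_of_one_tmul
    (hsurj : ∀ p : PrimeSpectrum R, ∃ i q, PrimeSpectrum.comap (algebraMap R (B i)) q = p)
    {M : Type u} [AddCommGroup M] [Module R M] {z : M} (h : ∀ i, (1 : B i) ⊗ₜ[R] z = 0) : z = 0 := by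
  by_contra hne
  let g : R →ₗ[R] M := LinearMap.toSpanSingleton R _ z
  have hg0 : LinearMap.ker g ≠ ⊤ := fun h => hne (by
    have h1 : (1 : R) ∈ LinearMap.ker g := h ▸ Submodule.mem_top
    simpa [g] using h1)
  obtain ⟨m, hm, hIm⟩ := Ideal.exists_le_maximal _ hg0
  obtain ⟨i, q, hq⟩ := hsurj ⟨m, hm.isPrime⟩
  let gq : (R ⧸ LinearMap.ker g) →ₗ[R] M := (LinearMap.ker g).liftQ g le_rfl
  have hgq : Function.Injective gq := by
    rw [← LinearMap.ker_eq_bot]
    exact Submodule.ker_liftQ_eq_bot _ _ le_rfl le_rfl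
  have h0 : (1 : B i) ⊗ₜ[R] Submodule.Quotient.mk (p := LinearMap.ker g) 1 = 0 := by
    refine Module.Flat.lTensor_preserves_injective_linearMap (M := B i) gq hgq ?_
    rw [map_zero, LinearMap.lTensor_tmul]
    show (1 : B i) ⊗ₜ[R] g 1 = 0
    simp only [g, LinearMap.toSpanSingleton_apply, one_smul]
    exact h i
  change (1 : B i) ⊗ₜ[R] Ideal.Quotient.mk (LinearMap.ker g) 1 = 0 at h0
  have h1 := congrArg (TensorProduct.tensorQuotEquivQuotSMul (B i) (LinearMap.ker g)) h0
  rw [map_zero, TensorProduct.tensorQuotEquivQuotSMul_tmul_mk, one_smul,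
    Submodule.Quotient.mk_eq_zero] at h1
  refine q.2.ne_top ((Ideal.eq_top_iff_one _).mpr ?_)
  refine Submodule.smul_induction_on h1 (fun a ha b _ => ?_) fun a b => add_mem
  rw [Algebra.smul_def]
  exact q.asIdeal.mul_mem_right _ ((congrArg PrimeSpectrum.asIdeal hq).ge (hIm ha) :)

/-- Finite projectivity descends along jointly surjective finite families of flat algebras. -/
theorem projective_of_jointlySurjective [Finite ι]
    (hsurj : ∀ p : PrimeSpectrum R, ∃ i q, PrimeSpectrum.comap (algebraMap R (B i)) q = p)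
    (N : Type u) [AddCommGroup N] [Module R N] [∀ i, Module.Finite (B i) (B i ⊗[R] N)]
    [∀ i, Module.Projective (B i) (B i ⊗[R] N)] :
    Module.FinitePresentation R N ∧ Module.Projective R N := by
  haveI := finite_of_jointlySurjective B hsurj N
  haveI hflat : Module.Flat R N := by
    refine Module.Flat.iff_lTensor_injective'.mpr fun I => ?_
    rw [← LinearMap.ker_eq_bot, Submodule.eq_bot_iff]
    intro z hz
    refine eq_zero_of_one_tmul B hsurj fun i => ?_
    haveI : Module.Flat R (B i ⊗[R] N) := Module.Flat.trans R (B i) _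
    have hinj : Function.Injective (I.subtype.lTensor (B i ⊗[R] N)) :=
      Module.Flat.lTensor_preserves_injective_linearMap _ Subtype.val_injective
    have hkey : ∀ w : N ⊗[R] I, TensorProduct.assoc R (B i) N R
        (I.subtype.lTensor (B i ⊗[R] N) ((TensorProduct.assoc R (B i) N I).symm (1 ⊗ₜ w))) =
          1 ⊗ₜ I.subtype.lTensor N w := by
      intro w
      induction w using TensorProduct.induction_on with
      | zero => simp
      | tmul n a => simp
      | add x y hx hy => simp only [tmul_add, map_add, hx, hy]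
    have h2 : I.subtype.lTensor (B i ⊗[R] N)
        ((TensorProduct.assoc R (B i) N I).symm (1 ⊗ₜ z)) = 0 := by
      apply (TensorProduct.assoc R (B i) N R).injective
      rw [hkey, LinearMap.mem_ker.mp hz, tmul_zero, map_zero]
    have h3 := hinj (h2.trans (map_zero _).symm)
    exact (TensorProduct.assoc R (B i) N I).symm.injective (h3.trans (map_zero _).symm)
  haveI hfp : Module.FinitePresentation R N := by
    obtain ⟨n, π, hπ⟩ := Module.Finite.exists_fin' R N
    refine Module.finitePresentation_of_surjective π hπ ?_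
    haveI : ∀ i, Module.Finite (B i) (B i ⊗[R] LinearMap.ker π) := fun i => by
      let lk : B i ⊗[R] LinearMap.ker π →ₗ[B i] B i ⊗[R] (Fin n → R) :=
        TensorProduct.AlgebraTensorModule.lTensor (B i) (B i) (LinearMap.ker π).subtype
      let lp : B i ⊗[R] (Fin n → R) →ₗ[B i] B i ⊗[R] N :=
        TensorProduct.AlgebraTensorModule.lTensor (B i) (B i) π
      haveI : Module.FinitePresentation (B i) (B i ⊗[R] N) := Module.finitePresentation_of_projective _ _
      have hk : (LinearMap.ker lp).FG :=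
        Module.FinitePresentation.fg_ker lp (LinearMap.lTensor_surjective _ hπ)
      have hex : Function.Exact lk lp :=
        lTensor_exact (B i) (LinearMap.exact_subtype_ker_map π) hπ
      have hinj : Function.Injective lk :=
        Module.Flat.lTensor_preserves_injective_linearMap _ Subtype.val_injective
      rw [hex.linearMap_ker_eq] at hk
      haveI : Module.Finite (B i) (LinearMap.range lk) := Module.Finite.iff_fg.mpr hk
      exact Module.Finite.equiv (LinearEquiv.ofInjective lk hinj).symm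
    exact Module.Finite.iff_fg.mp (finite_of_jointlySurjective B hsurj (LinearMap.ker π))
  exact ⟨hfp, Module.Flat.projective_of_finitePresentation⟩

end Algebra

variable {X' X : Scheme.{u}}

/-- The free module as a `tilde`. -/
def freeTildeIso (R : CommRingCat.{u}) (n : ℕ) :
    tilde (ModuleCat.of R (ULift.{u} (Fin n) →₀ R)) ≅ FlatMod.freeMod (Spec R) n :=
  tildeFinsupp (R := R) (ULift.{u} (Fin n)) ≪≫
    Sigma.whiskerEquiv (f := fun _ : ULift.{u} (Fin n) => Coh.structureModule (Spec R))
      (g := fun _ : Fin n => Coh.structureModule (Spec R)) Equiv.ulift fun _ => Iso.refl _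

/-- A free chart gives a free restriction to its range. -/
theorem exists_free_of_chart (M : X.Modules) {Z : Scheme.{u}} (k : Z ⟶ X) [IsOpenImmersion k] {n : ℕ}
    (i : M.restrict k ≅ FlatMod.freeMod Z n) :
    Nonempty (M.restrict k.opensRange.ι ≅ FlatMod.freeMod (k.opensRange : Scheme.{u}) n) :=
  ⟨(Scheme.Modules.restrictFunctorIsoPullback _).app _ ≪≫
    (Scheme.Modules.pullbackCongr k.isoOpensRange_inv_comp.symm).app M ≪≫
    ((Scheme.Modules.pullbackComp k.isoOpensRange.inv k).app M).symm ≪≫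
    (Scheme.Modules.pullback k.isoOpensRange.inv).mapIso
      (((Scheme.Modules.restrictFunctorIsoPullback k).app M).symm ≪≫ i) ≪≫
    Groth.L29.LocFree.pullbackFreeIso _ n⟩

/-- On an affine open inside a trivialising open the sections are finite free. -/
theorem free_of_restrict (M : X.Modules) {U : X.Opens} {n : ℕ}
    (i : M.restrict U.ι ≅ FlatMod.freeMod (U : Scheme.{u}) n) {R : CommRingCat.{u}} (k : Spec R ⟶ X)
    [IsOpenImmersion k] (hk : k.opensRange ≤ U) (N : ModuleCat.{u} R) (e : M.restrict k ≅ tilde N) :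
    Module.Free R N ∧ Module.Finite R N := by
  let l : Spec R ⟶ (U : Scheme.{u}) :=
    IsOpenImmersion.lift U.ι k (by rw [Scheme.Opens.range_ι]; exact hk)
  have hl : l ≫ U.ι = k := IsOpenImmersion.lift_fac _ _ _
  let e' : tilde N ≅ FlatMod.freeMod (Spec R) n := e.symm ≪≫
    (Scheme.Modules.restrictFunctorIsoPullback k).app M ≪≫
    (Scheme.Modules.pullbackCongr hl.symm).app M ≪≫ ((Scheme.Modules.pullbackComp l U.ι).app M).symm ≪≫
    (Scheme.Modules.pullback l).mapIso
      (((Scheme.Modules.restrictFunctorIsoPullback U.ι).app M).symm ≪≫ i) ≪≫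
    Groth.L29.LocFree.pullbackFreeIso _ n
  let e'' : N ≅ ModuleCat.of R (ULift.{u} (Fin n) →₀ R) :=
    (tilde.functor R).preimageIso (e' ≪≫ (freeTildeIso R n).symm)
  exact ⟨Module.Free.of_equiv e''.toLinearEquiv.symm, Module.Finite.equiv e''.toLinearEquiv.symm⟩

/-- A module with finite projective charts is finite locally free. -/
theorem isFinLocFree_of_projective_charts (M : X.Modules)
    (h : ∀ x : X, ∃ (R : CommRingCat.{u}) (j : Spec R ⟶ X) (_ : IsOpenImmersion j) (N : ModuleCat.{u} R),
      x ∈ j.opensRange ∧ Module.FinitePresentation R N ∧ Module.Projective R N ∧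
        Nonempty (M.restrict j ≅ tilde N)) : FlatMod.IsFinLocFree M := by
  intro x
  obtain ⟨R, j, hj, N, ⟨p, rfl⟩, hfp, hproj, ⟨e⟩⟩ := h x
  let p' : PrimeSpectrum R := p
  haveI : Module.Free (Localization.AtPrime p'.asIdeal) (LocalizedModule p'.asIdeal.primeCompl N) :=
    Module.free_of_flat_of_isLocalRing
  obtain ⟨r, hr, hfree, -⟩ := Module.FinitePresentation.exists_free_localizedModule_powers
    p'.asIdeal.primeCompl (LocalizedModule.mkLinearMap p'.asIdeal.primeCompl N)
    (Localization.AtPrime p'.asIdeal)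
  let S : CommRingCat.{u} := CommRingCat.of (Localization.Away r)
  let φ : R ⟶ S := CommRingCat.ofHom (algebraMap R (Localization.Away r))
  haveI : IsOpenImmersion (Spec.map φ) := IsOpenImmersion.of_isLocalization r
  let k : Spec S ⟶ X := Spec.map φ ≫ j
  obtain ⟨e₁⟩ := nonempty_chart_pullback (𝟙 X) M φ j k (Category.comp_id _) N e
  obtain ⟨e₂⟩ := Groth.L18.TildeF.extendScalars_equiv (S := Localization.Away r) N
  let T := Localization.Away r ⊗[R] (N : Type u)
  haveI : Module.Free (Localization.Away r) T :=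
    Module.Free.of_equiv (LocalizedModule.equivTensorProduct (Submonoid.powers r) N)
  rcases subsingleton_or_nontrivial (Localization.Away r) with hsub | hnt
  · obtain ⟨q, -⟩ : p ∈ Set.range (Spec.map φ) := by
      show p' ∈ Set.range (PrimeSpectrum.comap (algebraMap R (Localization.Away r)))
      rw [PrimeSpectrum.localization_away_comap_range _ r]
      exact hr
    exact ((inferInstance : IsEmpty (PrimeSpectrum (Localization.Away r))).false q).elim
  let b := Module.Free.chooseBasis (Localization.Away r) T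
  haveI : Fintype (Module.Free.ChooseBasisIndex (Localization.Away r) T) :=
    @Fintype.ofFinite _ (Module.Finite.finite_basis b)
  let σ := (Fintype.equivFin (Module.Free.ChooseBasisIndex (Localization.Away r) T)).trans Equiv.ulift.symm
  let f₂ := e₂.trans (b.repr.trans (Finsupp.domLCongr σ))
  let i : M.restrict k ≅ FlatMod.freeMod (Spec S) _ :=
    ((Scheme.Modules.restrictFunctor k).mapIso ((Scheme.Modules.pullbackId X).app M)).symm ≪≫ e₁ ≪≫
      (tilde.functor S).mapIso f₂.toModuleIso ≪≫ freeTildeIso S _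
  obtain ⟨i'⟩ := exists_free_of_chart M k i
  refine ⟨k.opensRange, _, ?_, ⟨i'⟩⟩
  obtain ⟨q, hq⟩ : p ∈ Set.range (Spec.map φ) := by
    show p' ∈ Set.range (PrimeSpectrum.comap (algebraMap R (Localization.Away r)))
    rw [PrimeSpectrum.localization_away_comap_range _ r]
    exact hr
  exact ⟨q, by rw [Scheme.Hom.comp_apply, hq]⟩

/-- Finite local freeness descends along quasi-compact faithfully flat morphisms. -/
theorem isFinLocFree_of_pullback (f : X' ⟶ X) [Flat f] [Surjective f] [QuasiCompact f] (M : X.Modules)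
    [Coh.IsQCoh M] (h : FlatMod.IsFinLocFree ((Scheme.Modules.pullback f).obj M)) :
    FlatMod.IsFinLocFree M := by
  refine isFinLocFree_of_projective_charts M fun x => ?_
  obtain ⟨_, ⟨U, hU, rfl⟩, hxU, -⟩ :=
    X.isBasis_affineOpens.exists_subset_of_mem_open (Set.mem_univ x) isOpen_univ
  replace hU : IsAffineOpen U := hU
  obtain ⟨N, ⟨e⟩⟩ := Groth.L00.Local.exists_tilde_iso_restrict hU.fromSpec M
  have hW : ∀ x' : (f ⁻¹ᵁ U : X'.Opens), ∃ (W : X'.Opens) (V : X'.Opens) (n : ℕ), IsAffineOpen W ∧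
      x'.1 ∈ W ∧ W ≤ V ∧ W ≤ f ⁻¹ᵁ U ∧
      Nonempty (((Scheme.Modules.pullback f).obj M).restrict V.ι ≅ FlatMod.freeMod (V : Scheme.{u}) n) := by
    intro x'
    obtain ⟨V, n, hxV, hi⟩ := h x'.1
    obtain ⟨_, ⟨W, hW, rfl⟩, hxW, hWV⟩ := X'.isBasis_affineOpens.exists_subset_of_mem_open
      (show x'.1 ∈ ((V ⊓ f ⁻¹ᵁ U : X'.Opens) : Set X') from ⟨hxV, x'.2⟩) (V ⊓ f ⁻¹ᵁ U).2
    exact ⟨W, V, n, hW, hxW, fun z hz => (hWV hz).1, fun z hz => (hWV hz).2, hi⟩
  choose W V n hWa hxW hWV hWU hi using hW
  obtain ⟨s, hs⟩ := (f.isCompact_preimage hU.isCompact).elim_finite_subcover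
    (fun x' => (W x' : Set X')) (fun x' => (W x').2)
    (fun z hz => Set.mem_iUnion.mpr ⟨⟨z, hz⟩, hxW _⟩)
  let T := { x' // x' ∈ s }
  letI : ∀ t : T, Algebra Γ(X, U) Γ(X', W t.1) := fun t => (f.appLE U (W t.1) (hWU t.1)).hom.toAlgebra
  haveI : ∀ t : T, Module.Flat Γ(X, U) Γ(X', W t.1) := fun t =>
    HasRingHomProperty.appLE (P := @Flat) f ‹Flat f› ⟨U, hU⟩ ⟨W t.1, hWa t.1⟩ (hWU t.1)
  have hfree : ∀ t : T, Module.Free Γ(X', W t.1) (Γ(X', W t.1) ⊗[Γ(X, U)] N) ∧
      Module.Finite Γ(X', W t.1) (Γ(X', W t.1) ⊗[Γ(X, U)] N) := fun t => by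
    obtain ⟨e'⟩ := nonempty_chart_pullback f M (f.appLE U (W t.1) (hWU t.1)) hU.fromSpec
      (hWa t.1).fromSpec (hU.SpecMap_appLE_fromSpec f (hWa t.1) (hWU t.1)).symm N e
    obtain ⟨i⟩ := hi t.1
    obtain ⟨h1, h2⟩ := free_of_restrict _ i (hWa t.1).fromSpec
      (by rw [(hWa t.1).opensRange_fromSpec]; exact hWV t.1) _ e'
    obtain ⟨e''⟩ := Groth.L18.TildeF.extendScalars_equiv (S := Γ(X', W t.1)) N
    exact ⟨Module.Free.of_equiv e'', Module.Finite.equiv e''⟩
  haveI : ∀ t : T, Module.Finite Γ(X', W t.1) (Γ(X', W t.1) ⊗[Γ(X, U)] N) := fun t => (hfree t).2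
  haveI : ∀ t : T, Module.Projective Γ(X', W t.1) (Γ(X', W t.1) ⊗[Γ(X, U)] N) := fun t => by
    haveI := (hfree t).1
    exact Module.Projective.of_free
  obtain ⟨hfp, hproj⟩ := projective_of_jointlySurjective (ι := T) (fun t => Γ(X', W t.1)) (fun p => by
    obtain ⟨x', hx'⟩ := f.surjective (hU.fromSpec p)
    have hx'U : x' ∈ (f ⁻¹ᵁ U : Set X') := by
      show f x' ∈ U
      rw [hx']; exact hU.range_fromSpec.le ⟨p, rfl⟩
    obtain ⟨t, ht, hxt⟩ := Set.mem_iUnion₂.mp (hs hx'U)
    refine ⟨⟨t, ht⟩, (hWa t).primeIdealOf ⟨x', hxt⟩, hU.fromSpec.isOpenEmbedding.injective ?_⟩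
    have h1 := congr($(hU.SpecMap_appLE_fromSpec f (hWa t) (hWU t)) ((hWa t).primeIdealOf ⟨x', hxt⟩))
    rw [Scheme.Hom.comp_apply, Scheme.Hom.comp_apply] at h1
    erw [(hWa t).fromSpec_primeIdealOf] at h1
    exact h1.trans hx') N
  exact ⟨_, hU.fromSpec, inferInstance, N, by rw [hU.opensRange_fromSpec]; exact hxU, hfp, hproj, ⟨e⟩⟩

end Groth.L19.PullChart
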