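import Mathlib.AlgebraicGeometry.Morphisms.Separated
import Mathlib.AlgebraicGeometry.Morphisms.UniversallyOpen
import Mathlib.AlgebraicGeometry.Morphisms.Integral
import Mathlib.AlgebraicGeometry.Noetherian
import Mathlib.AlgebraicGeometry.Properties
import Mathlib.AlgebraicGeometry.Morphisms.Flat
import Mathlib.Topology.KrullDimension

universe u v

open CategoryTheory CategoryTheory.Limits AlgebraicGeometry TopologicalSpace

namespace Groth.L19

theorem exists_generalization_of_isOpenMap_comap {A B : Type u} [CommRing A] [CommRing B] (φ : A →+* B)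
    (h : IsOpenMap (PrimeSpectrum.comap φ)) :
    GeneralizingMap (PrimeSpectrum.comap φ) := by
  intro p q hq
  have key : ∀ g : B, g ∉ p.asIdeal → ∃ P : PrimeSpectrum B, g ∉ P.asIdeal ∧ PrimeSpectrum.comap φ P = q := by
    intro g hg
    have ho := h _ (PrimeSpectrum.isOpen_basicOpen (a := g))
    have := ho.stableUnderGeneralization hq ⟨p, hg, rfl⟩
    obtain ⟨P, hP, rfl⟩ := this
    exact ⟨P, hP, rfl⟩
  let S : Submonoid B := p.asIdeal.primeCompl ⊔ q.asIdeal.primeCompl.map φ
  have hd : Disjoint ((q.asIdeal.map φ : Ideal B) : Set B) (S : Set B) := by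
    rw [Set.disjoint_left]
    intro x hx hxS
    obtain ⟨g, hg, c, hc, rfl⟩ := Submonoid.mem_sup.mp hxS
    obtain ⟨b, hb, rfl⟩ := hc
    obtain ⟨P, hgP, hPq⟩ := key g hg
    have hle : q.asIdeal.map φ ≤ P.asIdeal := by
      rw [Ideal.map_le_iff_le_comap, ← hPq]; rfl
    rcases P.isPrime.mem_or_mem (hle hx) with h1 | h1
    · exact hgP h1
    · apply hb
      rw [← hPq]; exact h1
  obtain ⟨P, hP, hle, hdis⟩ := Ideal.exists_le_prime_disjoint _ _ hd
  refine ⟨⟨P, hP⟩, ?_, ?_⟩
  · show _ ⤳ _
    rw [← PrimeSpectrum.le_iff_specializes]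
    intro x hx
    by_contra hxp
    exact Set.disjoint_left.mp hdis hx (Submonoid.mem_sup_left (show x ∈ p.asIdeal.primeCompl from hxp))
  · apply PrimeSpectrum.ext
    apply le_antisymm
    · intro x hx
      by_contra hxq
      exact Set.disjoint_left.mp hdis hx
        (Submonoid.mem_sup_right (Submonoid.mem_map_of_mem _ (show x ∈ q.asIdeal.primeCompl from hxq)))
    · exact Ideal.map_le_iff_le_comap.mp hle

theorem generalizingMap_of_isOpenMap {X Y : Scheme.{u}} (f : X ⟶ Y) (hf : IsOpenMap f.base) :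
    GeneralizingMap f.base := by
  intro x y hy
  obtain ⟨V, hV, hxV, -⟩ := Opens.isBasis_iff_nbhd.mp Y.isBasis_affineOpens (Opens.mem_top (f x))
  change IsAffineOpen V at hV
  obtain ⟨U, hU, hxU, hUV⟩ := Opens.isBasis_iff_nbhd.mp X.isBasis_affineOpens (show x ∈ f ⁻¹ᵁ V from hxV)
  change IsAffineOpen U at hU
  let φ := f.appLE V U hUV
  have hsq : Spec.map φ ≫ hV.fromSpec = hU.fromSpec ≫ f := hV.SpecMap_appLE_fromSpec f hU hUV
  have hsq' : ∀ w, hV.fromSpec (Spec.map φ w) = f (hU.fromSpec w) := fun w => by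
    rw [← Scheme.Hom.comp_apply, hsq]; rfl
  have hφ : IsOpenMap (PrimeSpectrum.comap φ.hom) := by
    intro (O : Set (Spec Γ(X, U))) hO
    have h1 : IsOpen (f '' (hU.fromSpec '' O)) := hf _ (hU.fromSpec.isOpenEmbedding.isOpenMap _ hO)
    have h2 : (Spec.map φ) '' O = hV.fromSpec ⁻¹' (f '' (hU.fromSpec '' O)) := by
      rw [Set.image_image]
      simp only [← hsq']
      rw [← Set.image_image (g := hV.fromSpec) (f := Spec.map φ),
        Set.preimage_image_eq _ hV.fromSpec.isOpenEmbedding.injective]
    exact h2 ▸ h1.preimage hV.fromSpec.continuous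
  obtain ⟨p, rfl⟩ : x ∈ Set.range hU.fromSpec := by rw [hU.range_fromSpec]; exact hxU
  have hyV : y ∈ (V : Set Y) := hy.mem_open V.isOpen hxV
  obtain ⟨q, rfl⟩ : y ∈ Set.range hV.fromSpec := by rw [hV.range_fromSpec]; exact hyV
  have hq : q ⤳ Spec.map φ p :=
    hV.fromSpec.isOpenEmbedding.isInducing.specializes_iff.mp (by rw [hsq']; exact hy)
  obtain ⟨P, hP, hPq⟩ := exists_generalization_of_isOpenMap_comap φ.hom hφ hq
  refine ⟨hU.fromSpec P, hP.map hU.fromSpec.continuous, ?_⟩
  exact (hsq' P).symm.trans (congrArg hV.fromSpec hPq)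

section dim

variable {α : Type u} {β : Type v} [TopologicalSpace α] [TopologicalSpace β] [QuasiSober α] [T0Space α]
  [QuasiSober β] [T0Space β]

theorem topologicalKrullDim_eq_krullDim (α : Type u) [TopologicalSpace α] [QuasiSober α] [T0Space α] :
    topologicalKrullDim α = @Order.krullDim α (specializationOrder α).toPreorder := by
  let _ := specializationOrder α
  exact Order.krullDim_eq_of_orderIso (irreducibleSetEquivPoints (α := α))

theorem krullDim_le_of_lift {α β : Type*} [Preorder α] [Preorder β] (f : α → β) (hs : Function.Surjective f)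
    (hlift : ∀ (a : α) (b : β), f a < b → ∃ a', a < a' ∧ f a' = b) :
    Order.krullDim β ≤ Order.krullDim α := by
  refine iSup_le fun p => ?_
  have key : ∃ q : LTSeries α, q.length = p.length ∧ f q.last = p.last := by
    induction p using RelSeries.inductionOn' with
    | singleton b =>
      obtain ⟨a, rfl⟩ := hs b
      exact ⟨RelSeries.singleton _ a, rfl, rfl⟩
    | snoc p b hp ih =>
      obtain ⟨q, hq1, hq2⟩ := ih
      obtain ⟨a', ha1, ha2⟩ := hlift q.last b (by rw [hq2]; exact hp)
      exact ⟨RelSeries.snoc q a' ha1, by simp [hq1], by simp [ha2]⟩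
  obtain ⟨q, hq, -⟩ := key
  exact hq ▸ Order.LTSeries.length_le_krullDim q

theorem topologicalKrullDim_le_of_surjective_generalizing {f : α → β}
    (hs : Function.Surjective f) (hg : GeneralizingMap f) :
    topologicalKrullDim β ≤ topologicalKrullDim α := by
  rw [topologicalKrullDim_eq_krullDim, topologicalKrullDim_eq_krullDim]
  let _ := specializationOrder α
  let _ := specializationOrder β
  refine krullDim_le_of_lift f hs fun a b hab => ?_
  obtain ⟨a', ha', rfl⟩ := hg (show b ⤳ f a from hab.le)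
  refine ⟨a', lt_of_le_of_ne ha' ?_, rfl⟩
  rintro rfl
  exact hab.false

theorem topologicalKrullDim_le_of_surjective_specializing {f : α → β}
    (hs : Function.Surjective f) (hg : SpecializingMap f) :
    topologicalKrullDim β ≤ topologicalKrullDim α := by
  rw [topologicalKrullDim_eq_krullDim, topologicalKrullDim_eq_krullDim]
  let _ := specializationOrder α
  let _ := specializationOrder β
  rw [← Order.krullDim_orderDual (α := β), ← Order.krullDim_orderDual (α := α)]
  refine krullDim_le_of_lift (α := αᵒᵈ) (β := βᵒᵈ) f hs fun a b hab => ?_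
  obtain ⟨a', ha', rfl⟩ := hg (show f a ⤳ b from hab.le)
  refine ⟨a', lt_of_le_of_ne ha' ?_, rfl⟩
  rintro rfl
  exact hab.false

end dim

theorem closure_image_mem_irreducibleComponents {α : Type u} {β : Type v} [TopologicalSpace α] [TopologicalSpace β]
    [QuasiSober α] [QuasiSober β] {f : α → β} (hc : Continuous f) (hf : GeneralizingMap f)
    (T : Set α) (hT : T ∈ irreducibleComponents α) :
    closure (f '' T) ∈ irreducibleComponents β := by
  have hTirr : IsIrreducible T := hT.1
  refine ⟨(hTirr.image f hc.continuousOn).closure, ?_⟩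
  intro S hS hle
  have hTcl : IsClosed T := isClosed_of_mem_irreducibleComponents T hT
  obtain ⟨ξ, hξ⟩ := QuasiSober.sober hTirr hTcl
  obtain ⟨y, hy⟩ := QuasiSober.sober hS.closure isClosed_closure
  have hfx : y ⤳ f ξ := hy.specializes (subset_closure (hle (subset_closure ⟨ξ, hξ.mem, rfl⟩)))
  obtain ⟨ξ', hξ', rfl⟩ := hf hfx
  have hTsub : T ⊆ closure {ξ'} := by
    rw [← hξ.def]
    exact closure_minimal (Set.singleton_subset_iff.mpr hξ'.mem_closure) isClosed_closure
  have := hT.2 isIrreducible_singleton.closure hTsub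
  have hmem : ξ' ∈ T := this (subset_closure rfl)
  calc S ⊆ closure S := subset_closure
    _ = closure {f ξ'} := hy.def.symm
    _ ⊆ closure (f '' T) := closure_mono (Set.singleton_subset_iff.mpr ⟨ξ', hmem, rfl⟩)

theorem irreducibleSpace_of_generalizing {α : Type u} {β : Type v} [TopologicalSpace α] [TopologicalSpace β]
    {f : α → β} (hf : GeneralizingMap f) (η : β) (hη : ∀ y : β, η ⤳ y)
    (h : IsIrreducible (f ⁻¹' {η})) : IrreducibleSpace α := by
  rw [irreducibleSpace_def]
  have : closure (f ⁻¹' {η}) = Set.univ := by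
    rw [Set.eq_univ_iff_forall]
    intro x
    obtain ⟨x', hx', hfx'⟩ := hf (hη (f x))
    exact closure_mono (Set.singleton_subset_iff.mpr (show x' ∈ f ⁻¹' {η} from hfx')) hx'.mem_closure
  have h2 := h.closure
  rw [this] at h2
  simpa using h2

theorem isOpen_of_isClosed_of_stableUnderGeneralization {Y : Scheme.{u}} [IsLocallyNoetherian Y]
    (W : Set Y) (hW : IsClosed W) (hgen : StableUnderGeneralization W) : IsOpen W := by
  rw [isOpen_iff_forall_mem_open]
  intro y hy
  obtain ⟨U, hU, hyU, -⟩ := Opens.isBasis_iff_nbhd.mp Y.isBasis_affineOpens (Opens.mem_top y)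
  change IsAffineOpen U at hU
  have : NoetherianSpace U := by
    have := IsLocallyNoetherian.component_noetherian ⟨U, hU⟩
    exact noetherianSpace_of_isAffineOpen U hU
  let Bad : Set (Set U) := {Z ∈ irreducibleComponents U | ¬ Z ⊆ Subtype.val ⁻¹' W}
  have hfin : Bad.Finite := (NoetherianSpace.finite_irreducibleComponents).subset fun _ h => h.1
  have hcl : IsClosed (⋃ Z ∈ Bad, Z) :=
    hfin.isClosed_biUnion fun Z hZ => isClosed_of_mem_irreducibleComponents Z hZ.1
  have heq : (Subtype.val ⁻¹' W : Set U) = (⋃ Z ∈ Bad, Z)ᶜ := by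
    ext z
    simp only [Set.mem_compl_iff, Set.mem_iUnion, exists_prop, not_exists, not_and]
    constructor
    · intro hz Z hZ hzZ
      obtain ⟨ξ, hξ⟩ := QuasiSober.sober hZ.1.1 (isClosed_of_mem_irreducibleComponents Z hZ.1)
      have h1 : (Subtype.val ξ : Y) ∈ W := hgen ((hξ.specializes hzZ).map continuous_subtype_val) hz
      apply hZ.2
      rw [← hξ.def]
      exact closure_minimal (Set.singleton_subset_iff.mpr h1) (hW.preimage continuous_subtype_val)
    · intro h
      by_contra hz
      exact h (irreducibleComponent z) ⟨irreducibleComponent_mem_irreducibleComponents z,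
        fun hc => hz (hc mem_irreducibleComponent)⟩ mem_irreducibleComponent
  refine ⟨W ∩ U, Set.inter_subset_left, ?_, hy, hyU⟩
  have h1 : IsOpen (Subtype.val '' (Subtype.val ⁻¹' W : Set U)) :=
    U.isOpen.isOpenMap_subtype_val _ (heq ▸ hcl.isOpen_compl)
  convert h1 using 1
  ext w
  exact ⟨fun h => ⟨⟨w, h.2⟩, h.1, rfl⟩, by rintro ⟨v, hv, rfl⟩; exact ⟨hv, v.2⟩⟩

end Groth.L19
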