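import Mathlib.AlgebraicGeometry.Morphisms.Integral
import Mathlib.AlgebraicGeometry.Morphisms.UniversallyClosed
import Mathlib.RingTheory.Ideal.GoingUp
import Groth.Agent.L19.Topology

universe u

open CategoryTheory AlgebraicGeometry TopologicalSpace

namespace Groth.L19

theorem eq_of_specializes_of_isIntegralHom {X S : Scheme.{u}} (f : X ⟶ S) [IsIntegralHom f]
    {x y : X} (h : x ⤳ y) (he : f x = f y) : x = y := by
  obtain ⟨V, hV, hyV, -⟩ := Opens.isBasis_iff_nbhd.mp S.isBasis_affineOpens (Opens.mem_top (f y))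
  change IsAffineOpen V at hV
  have hU : IsAffineOpen (f ⁻¹ᵁ V) := hV.preimage f
  let φ := f.appLE V (f ⁻¹ᵁ V) le_rfl
  have hint : φ.hom.IsIntegral := by
    have := IsIntegralHom.isIntegral_app f V hV
    rwa [← Scheme.Hom.appLE_eq_app] at this
  have hy : y ∈ Set.range hU.fromSpec := by rw [hU.range_fromSpec]; exact hyV
  have hx : x ∈ Set.range hU.fromSpec := by rw [hU.range_fromSpec]; exact h.mem_open (f ⁻¹ᵁ V).isOpen hyV
  obtain ⟨p, rfl⟩ := hx
  obtain ⟨q, rfl⟩ := hy
  have hsq : ∀ w, hV.fromSpec (Spec.map φ w) = f (hU.fromSpec w) := fun w => by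
    rw [← Scheme.Hom.comp_apply, hV.SpecMap_appLE_fromSpec f hU le_rfl]; rfl
  rw [← hsq, ← hsq] at he
  have he' := hV.fromSpec.isOpenEmbedding.injective he
  have hle : p.asIdeal ≤ q.asIdeal :=
    (PrimeSpectrum.le_iff_specializes p q).mpr (hU.fromSpec.isOpenEmbedding.isInducing.specializes_iff.mp h)
  by_contra hne
  letI := φ.hom.toAlgebra
  haveI : Algebra.IsIntegral Γ(S, V) Γ(X, f ⁻¹ᵁ V) := ⟨hint⟩
  have hlt : p.asIdeal < q.asIdeal := lt_of_le_of_ne hle fun e => hne (congrArg hU.fromSpec (PrimeSpectrum.ext e))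
  haveI := p.isPrime
  exact (Ideal.IsIntegral.comap_lt_comap (R := Γ(S, V)) hlt).ne (congrArg PrimeSpectrum.asIdeal he')

theorem topologicalKrullDim_le_of_isIntegralHom {X Y : Scheme.{u}} (f : X ⟶ Y) [IsIntegralHom f] :
    topologicalKrullDim X ≤ topologicalKrullDim Y := by
  rw [topologicalKrullDim_eq_krullDim, topologicalKrullDim_eq_krullDim]
  let _ := specializationOrder X
  let _ := specializationOrder Y
  refine Order.krullDim_le_of_strictMono f.base (fun a b hab => ?_)
  have hs : b ⤳ a := hab.le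
  refine lt_of_le_of_ne (show f b ⤳ f a from hs.map f.continuous) fun e => ?_
  exact hab.ne (eq_of_specializes_of_isIntegralHom f hs e.symm).symm

end Groth.L19
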