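import Groth.Agent.L22.AffineDescent
import Groth.Agent.L18.QuasiAffine
import Groth.Agent.L23.ImmersionDescent
import Groth.Agent.L20.QuasiAffine
import Groth.Prelude.Def_Mor2

/-!
# Fpqc descent of quasi-affine morphisms
-/

set_option autoImplicit false
universe u

open CategoryTheory CategoryTheory.Limits AlgebraicGeometry

namespace Groth.L19.QADescent

variable {X Y S T : Scheme.{u}}

set_option backward.isDefEq.respectTransparency.types false in
theorem isQuasiAffine_of_isPullback {g : Y ⟶ X} {iY : Y ⟶ T} {iX : X ⟶ S} {f : T ⟶ S}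
    (H : IsPullback g iY iX f) [IsAffine S] [IsAffine T] [Flat f] [Surjective f] [CompactSpace X]
    [QuasiSeparatedSpace X] [Y.IsQuasiAffine] : X.IsQuasiAffine := by
  have hR := ((Groth.L22.AffDesc.isPushout_appTop H).op.map Scheme.Spec).flip
  haveI := Groth.L23.descendsAlong_qcImmersion.{u}
  have hfs' : (@Surjective ⊓ @Flat : MorphismProperty Scheme.{u}) (Spec.map f.appTop) :=
    (MorphismProperty.arrow_mk_iso_iff _
      (Arrow.isoMk T.isoSpec S.isoSpec (by
        simpa [Scheme.isoSpec] using (Scheme.toSpecΓ_naturality f).symm) :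
        Arrow.mk f ≅ Arrow.mk (Spec.map f.appTop))).1 ⟨inferInstance, inferInstance⟩
  have hS : (@IsImmersion ⊓ @QuasiCompact : MorphismProperty Scheme.{u}) X.toSpecΓ :=
    MorphismProperty.of_isPullback_of_descendsAlong
      (Q := @Surjective ⊓ @Flat ⊓ @QuasiCompact) (Groth.L22.AffDesc.isPullback_toSpecΓ H).flip
      ⟨⟨MorphismProperty.of_isPullback hR.flip hfs'.1, MorphismProperty.of_isPullback hR.flip hfs'.2⟩,
        inferInstance⟩ ⟨inferInstance, inferInstance⟩
  exact { toCompactSpace := inferInstance, toIsImmersion := hS.1 }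

set_option backward.isDefEq.respectTransparency.types false in
theorem quasiSeparated_of_quasiAffine (f : X ⟶ S) (hf : Mor2.IsQuasiAffine f) : QuasiSeparated f := by
  refine (HasAffineProperty.iff_of_iSup_eq_top (P := (@QuasiSeparated : MorphismProperty Scheme.{u})) _ (iSup_affineOpens_eq_top S)).mpr ?_
  intro V
  haveI := hf.2 V V.2
  infer_instance

set_option backward.isDefEq.respectTransparency.types false in
theorem descend {fst : Y ⟶ T} {snd : Y ⟶ X} {f : T ⟶ S} {iX : X ⟶ S} (H : IsPullback fst snd f iX) (hf : (@Surjective ⊓ @Flat ⊓ @QuasiCompact : MorphismProperty Scheme.{u}) f)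
    (hY : Mor2.IsQuasiAffine fst) : Mor2.IsQuasiAffine iX := by
  obtain ⟨⟨_, _⟩, _⟩ := hf
  have hf : (@Surjective ⊓ @Flat ⊓ @QuasiCompact : MorphismProperty Scheme.{u}) f :=
    ⟨⟨inferInstance, inferInstance⟩, inferInstance⟩
  haveI := hY.1
  haveI : QuasiSeparated (fst) := quasiSeparated_of_quasiAffine _ hY
  haveI : QuasiCompact iX :=
    MorphismProperty.of_isPullback_of_descendsAlong (P := @QuasiCompact) H hf inferInstance
  haveI : QuasiSeparated iX := by
    have h : MorphismProperty.diagonal @QuasiCompact (fst) := by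
      rw [← quasiSeparated_eq_diagonal_is_quasiCompact]; infer_instance
    have := MorphismProperty.of_isPullback_of_descendsAlong
      (P := MorphismProperty.diagonal @QuasiCompact) H hf h
    rwa [← quasiSeparated_eq_diagonal_is_quasiCompact] at this
  refine ⟨inferInstance, fun U hU => ?_⟩
  haveI : IsAffine U.toScheme := hU
  have hc : IsCompact (f ⁻¹ᵁ U : Set T) := QuasiCompact.isCompact_preimage _ U.2 hU.isCompact
  haveI : CompactSpace (f ⁻¹ᵁ U).toScheme := isCompact_iff_compactSpace.mp hc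
  let 𝒰 := (f ⁻¹ᵁ U).toScheme.affineCover.finiteSubcover
  let p : (∐ fun i => 𝒰.X i) ⟶ (f ⁻¹ᵁ U).toScheme := Sigma.desc fun i => 𝒰.f i
  haveI : ∀ i, IsAffine (𝒰.X i) := fun i => by dsimp [𝒰]; infer_instance
  haveI : Surjective p := by
    refine ⟨fun y => ?_⟩
    obtain ⟨i, z, hz⟩ := 𝒰.exists_eq y
    exact ⟨Sigma.ι (fun i => 𝒰.X i) i z, by
      rw [← Scheme.Hom.comp_apply, Sigma.ι_desc]; exact hz⟩
  haveI : Flat p := IsZariskiLocalAtSource.sigmaDesc fun i => inferInstance
  let q := p ≫ (f ∣_ U)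
  haveI : Surjective (f ∣_ U) :=
    MorphismProperty.of_isPullback (P := @Surjective) (isPullback_morphismRestrict f U).flip
      inferInstance
  haveI : Surjective q := inferInstanceAs (Surjective (p ≫ (f ∣_ U)))
  haveI : Flat q := inferInstanceAs (Flat (p ≫ (f ∣_ U)))
  have hsq := IsPullback.of_hasPullback (iX ∣_ U) q
  haveI : QuasiCompact (iX ∣_ U) :=
    MorphismProperty.of_isPullback (P := @QuasiCompact) (isPullback_morphismRestrict iX U).flip
      inferInstance
  haveI : QuasiSeparated (iX ∣_ U) :=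
    MorphismProperty.of_isPullback (P := @QuasiSeparated) (isPullback_morphismRestrict iX U).flip
      inferInstance
  haveI : CompactSpace (iX ⁻¹ᵁ U).toScheme := QuasiCompact.compactSpace_of_compactSpace (iX ∣_ U)
  haveI : QuasiSeparatedSpace (iX ⁻¹ᵁ U).toScheme :=
    quasiSeparatedSpace_of_quasiSeparated (iX ∣_ U)
  have hbig := hsq.paste_horiz (isPullback_morphismRestrict iX U).flip
  have hbig' : IsPullback (pullback.fst (iX ∣_ U) q ≫ (iX ⁻¹ᵁ U).ι) (pullback.snd (iX ∣_ U) q) iX
      ((p ≫ (f ⁻¹ᵁ U).ι) ≫ f) := by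
    have : (p ≫ (f ⁻¹ᵁ U).ι) ≫ f = q ≫ U.ι := by
      simp [q, morphismRestrict_ι]
    rw [this]; exact hbig
  have H := H.flip
  let l := H.lift (pullback.fst (iX ∣_ U) q ≫ (iX ⁻¹ᵁ U).ι)
    (pullback.snd (iX ∣_ U) q ≫ p ≫ (f ⁻¹ᵁ U).ι) (by
      rw [hbig'.w]; simp only [Category.assoc])
  have hl : IsPullback l (pullback.snd (iX ∣_ U) q) (fst) (p ≫ (f ⁻¹ᵁ U).ι) := by
    refine IsPullback.of_right ?_ (H.lift_snd _ _ _) H
    rw [H.lift_fst]; exact hbig'
  have hq := Groth.L18.isQuasiAffine_baseChange _ hY (p ≫ (f ⁻¹ᵁ U).ι)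
  haveI : (pullback (iX ∣_ U) q).IsQuasiAffine := by
    haveI : Scheme.IsQuasiAffine (⊤ : (pullback fst (p ≫ (f ⁻¹ᵁ U).ι)).Opens).toScheme :=
      hq.2 ⊤ (isAffineOpen_top _)
    haveI : CompactSpace ↥(⊤ : (pullback fst (p ≫ (f ⁻¹ᵁ U).ι)).Opens).toScheme := inferInstance
    haveI : (pullback (fst) (p ≫ (f ⁻¹ᵁ U).ι)).IsQuasiAffine :=
      (haveI : CompactSpace ↥(pullback (fst) (p ≫ (f ⁻¹ᵁ U).ι)) := (Scheme.topIso _).hom.homeomorph.compactSpace; Scheme.IsQuasiAffine.of_isImmersion (Scheme.topIso _).inv)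
    haveI : CompactSpace ↥(pullback (iX ∣_ U) q) := hl.isoPullback.hom.homeomorph.symm.compactSpace
    exact Scheme.IsQuasiAffine.of_isImmersion hl.isoPullback.hom
  exact isQuasiAffine_of_isPullback hsq


/-- A morphism from a quasi-affine scheme to an affine one is quasi-affine. -/
theorem isQuasiAffine_of_source (f : X ⟶ S) [IsAffine S] [X.IsQuasiAffine] : Mor2.IsQuasiAffine f := by
  haveI : QuasiCompact f := (HasAffineProperty.iff_of_isAffine (P := @QuasiCompact)).mpr inferInstance
  refine ⟨inferInstance, fun V hV => ?_⟩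
  haveI : (⊤ : X.Opens).toScheme.IsQuasiAffine :=
    haveI : CompactSpace ↥(⊤ : X.Opens).toScheme := isCompact_iff_compactSpace.mp isCompact_univ
    Scheme.IsQuasiAffine.of_isImmersion (⊤ : X.Opens).ι
  exact Groth.L20.isQuasiAffine_of_le le_top (f.isCompact_preimage hV.isCompact)

set_option backward.isDefEq.respectTransparency.types false in
theorem descend_ind {X' S' : Scheme.{u}} (f : X ⟶ S) (f' : X' ⟶ S') (g' : X' ⟶ X) (g : S' ⟶ S)
    [Flat g] [Surjective g] [QuasiCompact g] (hc : IsPullback g' f' f g)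
    (hf' : MoreMor.IsIndQuasiAffineHom f') : MoreMor.IsIndQuasiAffineHom f := by
  rw [Groth.L20.isIndQuasiAffineHom_iff]
  intro V hV U hle hU
  haveI : IsAffine V.toScheme := hV
  haveI : CompactSpace U.toScheme := isCompact_iff_compactSpace.mp hU
  have hcV : IsCompact (g ⁻¹ᵁ V : Set S') := QuasiCompact.isCompact_preimage _ V.2 hV.isCompact
  haveI : CompactSpace (g ⁻¹ᵁ V).toScheme := isCompact_iff_compactSpace.mp hcV
  let 𝒰 := (g ⁻¹ᵁ V).toScheme.affineCover.finiteSubcover
  let p : (∐ fun i => 𝒰.X i) ⟶ (g ⁻¹ᵁ V).toScheme := Sigma.desc fun i => 𝒰.f i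
  haveI : ∀ i, IsAffine (𝒰.X i) := fun i => by dsimp [𝒰]; infer_instance
  haveI : Surjective p := by
    refine ⟨fun y => ?_⟩
    obtain ⟨i, z, hz⟩ := 𝒰.exists_eq y
    exact ⟨Sigma.ι (fun i => 𝒰.X i) i z, by
      rw [← Scheme.Hom.comp_apply, Sigma.ι_desc]; exact hz⟩
  haveI : Flat p := IsZariskiLocalAtSource.sigmaDesc fun i => inferInstance
  let q := p ≫ (g ∣_ V)
  haveI : Surjective (g ∣_ V) :=
    MorphismProperty.of_isPullback (P := @Surjective) (isPullback_morphismRestrict g V).flip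
      inferInstance
  haveI : Surjective q := inferInstanceAs (Surjective (p ≫ (g ∣_ V)))
  haveI : Flat q := inferInstanceAs (Flat (p ≫ (g ∣_ V)))
  haveI : IsAffineHom q := isAffineHom_of_isAffine q
  let r := f.resLE V U hle
  let h := p ≫ (g ⁻¹ᵁ V).ι
  have hh : q ≫ V.ι = h ≫ g := by simp [q, h, morphismRestrict_ι]
  haveI : IsAffineHom (pullback.snd q r) := MorphismProperty.pullback_snd _ _ inferInstance
  haveI : CompactSpace ↥(pullback q r) := QuasiCompact.compactSpace_of_compactSpace (pullback.snd q r)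
  let m := pullback.map q r (h ≫ g) f (𝟙 _) U.ι V.ι (by rw [Category.id_comp, hh]) (f.resLE_comp_ι hle)
  haveI : (pullback q r).IsQuasiAffine := by
    have hsq := IsPullback.of_hasPullback (h ≫ g) f
    let l := hc.lift (pullback.snd (h ≫ g) f) (pullback.fst (h ≫ g) f ≫ h)
      (by rw [Category.assoc]; exact hsq.w.symm)
    have hl : IsPullback l (pullback.fst (h ≫ g) f) f' h := by
      refine IsPullback.of_right ?_ (hc.lift_snd _ _ _) hc
      rw [hc.lift_fst]; exact hsq.flip
    have hind := Groth.L20.isIndQuasiAffineHom_of_isPullback hl hf'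
    rw [Groth.L20.isIndQuasiAffineHom_iff] at hind
    haveI := hind ⊤ (isAffineOpen_top _) m.opensRange le_top (isCompact_range m.continuous)
    exact Scheme.IsQuasiAffine.of_isImmersion m.isoOpensRange.hom
  haveI : QuasiCompact r := (HasAffineProperty.iff_of_isAffine (P := @QuasiCompact)).mpr inferInstance
  haveI : QuasiCompact q := inferInstance
  have hr : Mor2.IsQuasiAffine r :=
    descend (IsPullback.of_hasPullback q r) ⟨⟨inferInstance, inferInstance⟩, inferInstance⟩
      (isQuasiAffine_of_source _)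
  haveI : (⊤ : U.toScheme.Opens).toScheme.IsQuasiAffine := hr.2 ⊤ (isAffineOpen_top _)
  exact Scheme.IsQuasiAffine.of_isImmersion ((Scheme.topIso U.toScheme).inv)

end Groth.L19.QADescent
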