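import Groth.Agent.L18.TildeFunctor
import Groth.Agent.L16.QcqsPush
import Groth.Prelude.Def_Omega2
import Mathlib.AlgebraicGeometry.Morphisms.ClosedImmersion
import Mathlib.RingTheory.Kaehler.Basic
import Mathlib.LinearAlgebra.TensorProduct.Quotient

/-!
# Conormal sheaves of affine closed immersions and `Ω` of affine morphisms
-/

set_option autoImplicit false
set_option linter.style.haveILetI false
set_option backward.isDefEq.respectTransparency.types false
set_option backward.isDefEq.respectTransparency false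

universe u

open CategoryTheory CategoryTheory.Limits AlgebraicGeometry TopologicalSpace Opposite TensorProduct

noncomputable section

namespace Groth.L19.Conormal

theorem isQCoh_structureModule (X : Scheme.{u}) : Coh.IsQCoh (Coh.structureModule X) := by
  refine Groth.L16.QcqsPush.isQCoh_of_sections _ fun x => ?_
  obtain ⟨_, ⟨V, hV, rfl⟩, hxV, -⟩ :=
    X.isBasis_affineOpens.exists_subset_of_mem_open (Set.mem_univ x) isOpen_univ
  refine ⟨V, hxV, hV, fun a => ?_⟩
  haveI := hV.isLocalization_basicOpen a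
  refine ⟨fun s => ?_, fun t ht => ?_⟩
  · obtain ⟨n, t, ht⟩ := IsLocalization.Away.surj a (show Γ(X, X.basicOpen a) from s)
    exact ⟨n, t, (ht.symm.trans (mul_comm _ _)).trans (congrArg (· * _) (map_pow _ a n).symm)⟩
  · obtain ⟨⟨_, n, rfl⟩, hn⟩ := (IsLocalization.map_eq_zero_iff (Submonoid.powers a)
      Γ(X, X.basicOpen a) (show Γ(X, V) from t)).1 ht
    exact ⟨n, hn⟩

/-- Pushforward along an isomorphism is an equivalence. -/
def pushEquiv {X Y : Scheme.{u}} (e : X ≅ Y) : X.Modules ≌ Y.Modules :=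
  CategoryTheory.Equivalence.mk (Scheme.Modules.pushforward e.hom) (Scheme.Modules.pushforward e.inv)
    ((Scheme.Modules.pushforwardId X).symm ≪≫
      Scheme.Modules.pushforwardCongr e.hom_inv_id.symm ≪≫
      (Scheme.Modules.pushforwardComp e.hom e.inv).symm)
    (Scheme.Modules.pushforwardComp e.inv e.hom ≪≫ Scheme.Modules.pushforwardCongr e.inv_hom_id ≪≫
      Scheme.Modules.pushforwardId Y)

/-- Pullback along an isomorphism is pushforward along its inverse. -/
def pullbackIsoPush {X Y : Scheme.{u}} (e : X ≅ Y) :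
    Scheme.Modules.pullback e.hom ≅ Scheme.Modules.pushforward e.inv :=
  (Scheme.Modules.pullbackPushforwardAdjunction e.hom).leftAdjointUniq (pushEquiv e).symm.toAdjunction

theorem idealMod_iso_tilde {T A : CommRingCat.{u}} (ψ : T ⟶ A) (hψ : Function.Surjective ψ.hom)
    {P : Scheme.{u}} (e : Spec T ≅ P) (i : Spec A ⟶ P) (hi : Spec.map ψ ≫ e.hom = i) :
    Nonempty ((Scheme.Modules.pullback e.hom).obj (ClSub.idealMod i.ker) ≅
      tilde (R := T) (ModuleCat.of T (RingHom.ker ψ.hom))) := by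
  haveI : IsClosedImmersion (Spec.map ψ) := IsClosedImmersion.spec_of_surjective ψ hψ
  haveI : IsClosedImmersion i := hi ▸ inferInstance
  haveI : IsAffine P := IsAffine.of_isIso e.inv
  let G : P.Modules ⥤ (Spec T).Modules := Scheme.Modules.pushforward e.inv
  haveI : G.IsEquivalence := (pushEquiv e.symm).isEquivalence_functor
  let ι := i.ker.subschemeι
  let w := G.map (ClSub.toSubscheme i.ker)
  haveI hO : (Coh.structureModule P).IsQuasicoherent := by
    exact isQCoh_structureModule P
  haveI : (G.obj (Coh.structureModule P)).IsQuasicoherent := by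
    haveI : Coh.IsQCoh (Coh.structureModule P) := hO
    exact Groth.L16.QcqsPush.isQCoh_push (Coh.structureModule P) e.inv
  haveI : (G.obj (ClSub.quotMod i.ker)).IsQuasicoherent := by
    haveI : Coh.IsQCoh (Coh.structureModule i.ker.subscheme) := isQCoh_structureModule _
    haveI : Coh.IsQCoh (ClSub.quotMod i.ker) := Groth.L16.QcqsPush.isQCoh_push _ _
    exact Groth.L16.QcqsPush.isQCoh_push (ClSub.quotMod i.ker) e.inv
  haveI : (kernel w).IsQuasicoherent := Groth.L18.TildeF.isQCoh_kernel w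
  let γ := moduleSpecΓFunctor (R := T)
  haveI : PreservesLimitsOfSize.{0, 0} γ := tilde.adjunction.rightAdjoint_preservesLimits
  let V := γ.obj (G.obj (Coh.structureModule P))
  let one : V := (show Γ(P, e.inv ⁻¹ᵁ ⊤) from 1)
  let θ : T →ₗ[T] V := LinearMap.toSpanSingleton T V one
  have hθ : ∀ t : T, (θ t : Γ(P, e.inv ⁻¹ᵁ ⊤)) =
      e.inv.appTop ((Scheme.ΓSpecIso T).inv t) := fun t => mul_one (e.inv.appTop ((Scheme.ΓSpecIso T).inv t))
  have hbij : Function.Bijective θ := by
    have : Function.Bijective ((Scheme.ΓSpecIso T).inv ≫ e.inv.appTop).hom :=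
      ConcreteCategory.bijective_of_isIso ((Scheme.ΓSpecIso T).inv ≫ e.inv.appTop)
    refine ⟨fun a b h => this.1 ((hθ a).symm.trans (h.trans (hθ b))), fun v => ?_⟩
    obtain ⟨t, ht⟩ := this.2 (show Γ(P, e.inv ⁻¹ᵁ ⊤) from v)
    exact ⟨t, (hθ t).trans ht⟩
  have hker : (LinearMap.ker (γ.map w).hom).comap θ = RingHom.ker ψ.hom := by
    ext t
    rw [Submodule.mem_comap, LinearMap.mem_ker, RingHom.mem_ker]
    have h1 : i.toImage ≫ ι = i := i.toImage_imageι
    have h2 : i ≫ e.inv = Spec.map ψ := by rw [← hi, Category.assoc, e.hom_inv_id, Category.comp_id]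
    have h3 : i.toImage.appTop (ι.appTop (e.inv.appTop ((Scheme.ΓSpecIso T).inv t))) =
        (Scheme.ΓSpecIso A).inv (ψ t) := by
      rw [← CommRingCat.comp_apply, ← CommRingCat.comp_apply, ← Scheme.Hom.comp_appTop,
        ← Scheme.Hom.comp_appTop, h1, h2, ← CommRingCat.comp_apply,
        ← CommRingCat.comp_apply, Scheme.ΓSpecIso_inv_naturality]
    change ι.appTop (θ t : Γ(P, e.inv ⁻¹ᵁ ⊤)) = 0 ↔ _
    rw [hθ t]
    constructor
    · intro h
      rw [h, map_zero] at h3
      exact (ConcreteCategory.bijective_of_isIso (Scheme.ΓSpecIso A).inv).1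
        (h3.symm.trans (map_zero _).symm)
    · intro h
      rw [h, map_zero] at h3
      exact (ConcreteCategory.bijective_of_isIso i.toImage.appTop).1 (h3.trans (map_zero _).symm)
  let lker : RingHom.ker ψ.hom ≃ₗ[T] LinearMap.ker (γ.map w).hom :=
    (LinearEquiv.ofBijective θ hbij).ofSubmodules _ _ (by
      rw [← hker]
      exact Submodule.map_comap_eq_of_surjective hbij.2 _)
  exact ⟨(pullbackIsoPush e).app _ ≪≫ PreservesKernel.iso G (ClSub.toSubscheme i.ker) ≪≫
    (Groth.L18.TildeF.counitIso (kernel w)).symm ≪≫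
    (tilde.functor T).mapIso (PreservesKernel.iso γ w ≪≫ ModuleCat.kernelIsoKer _ ≪≫
      lker.symm.toModuleIso)⟩

theorem conormal_iso_tilde {T A : Type u} [CommRing T] [CommRing A] [Algebra T A]
    (hψ : Function.Surjective (algebraMap T A)) {P : Scheme.{u}}
    (e : Spec (CommRingCat.of T) ≅ P) (i : Spec (CommRingCat.of A) ⟶ P)
    (hi : Spec.map (CommRingCat.ofHom (algebraMap T A)) ≫ e.hom = i) :
    Nonempty (Omega.conormal i ≅
      tilde (R := CommRingCat.of A) (ModuleCat.of A (A ⊗[T] RingHom.ker (algebraMap T A)))) := by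
  obtain ⟨a⟩ := idealMod_iso_tilde (CommRingCat.ofHom (algebraMap T A)) hψ e i hi
  obtain ⟨b⟩ := Groth.L18.TildeF.extendScalars_equiv (R := T) (S := A)
    (ModuleCat.of T (RingHom.ker (algebraMap T A)))
  exact ⟨(Scheme.Modules.pullbackCongr hi.symm).app _ ≪≫
    ((Scheme.Modules.pullbackComp _ _).app _).symm ≪≫
    (Scheme.Modules.pullback _).mapIso a ≪≫
    (Groth.L18.TildeF.pullbackTildeIso (CommRingCat.ofHom (algebraMap T A))).app _ ≪≫
    (tilde.functor (CommRingCat.of A)).mapIso b.toModuleIso⟩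

open Algebra.TensorProduct in
theorem tensor_ideal_equiv_kaehler (R A : Type u) [CommRing R] [CommRing A] [Algebra R A] :
    letI : Algebra (A ⊗[R] A) A := (lmul' R : A ⊗[R] A →ₐ[R] A).toRingHom.toAlgebra
    Nonempty (A ⊗[A ⊗[R] A] RingHom.ker (algebraMap (A ⊗[R] A) A) ≃ₗ[A] Ω[A⁄R]) := by
  letI : Algebra (A ⊗[R] A) A := (lmul' R : A ⊗[R] A →ₐ[R] A).toRingHom.toAlgebra
  haveI : IsScalarTower A (A ⊗[R] A) A := IsScalarTower.of_algebraMap_eq fun a => by
    rw [RingHom.algebraMap_toAlgebra]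
    exact ((Algebra.TensorProduct.lmul'_apply_tmul a 1).trans (mul_one a)).symm
  let I := KaehlerDifferential.ideal R A
  have hsurj : Function.Surjective (algebraMap (A ⊗[R] A) A) := fun a => ⟨a ⊗ₜ 1, by
    rw [RingHom.algebraMap_toAlgebra]
    exact ((Algebra.TensorProduct.lmul'_apply_tmul a 1).trans (mul_one a))⟩
  let q : ((A ⊗[R] A) ⧸ I) ≃ₗ[A ⊗[R] A] A :=
    (Ideal.quotientKerAlgEquivOfSurjective (f := Algebra.ofId (A ⊗[R] A) A) hsurj).toLinearEquiv
  let eT : A ⊗[A ⊗[R] A] RingHom.ker (algebraMap (A ⊗[R] A) A) ≃ₗ[A ⊗[R] A] Ω[A⁄R] :=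
    TensorProduct.congr q.symm (LinearEquiv.refl _ I) ≪≫ₗ TensorProduct.quotTensorEquivQuotSMul I I
  exact ⟨{ eT.toAddEquiv with
    map_smul' := fun a x => by
      show eT (a • x) = a • eT x
      rw [← algebraMap_smul (A ⊗[R] A) a x, eT.map_smul]
      exact algebraMap_smul (A ⊗[R] A) a (eT x) }⟩

theorem omega_iso_tilde (R A : Type u) [CommRing R] [CommRing A] [Algebra R A] :
    Nonempty (Omega.sheaf (Spec.map (CommRingCat.ofHom (algebraMap R A))) ≅
      tilde (R := CommRingCat.of A) (ModuleCat.of A (Ω[A⁄R]))) := by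
  letI : Algebra (A ⊗[R] A) A :=
    (Algebra.TensorProduct.lmul' R : A ⊗[R] A →ₐ[R] A).toRingHom.toAlgebra
  obtain ⟨c⟩ := conormal_iso_tilde (T := A ⊗[R] A) (A := A)
    (fun a => ⟨a ⊗ₜ 1, by rw [RingHom.algebraMap_toAlgebra]; simp⟩)
    (pullbackSpecIso R A A).symm (pullback.diagonal (Spec.map (CommRingCat.ofHom (algebraMap R A))))
    (by
      rw [Iso.symm_hom]
      apply pullback.hom_ext
      · rw [Category.assoc, pullbackSpecIso_inv_fst, pullback.diagonal_fst, ← Spec.map_comp,
          ← Spec.map_id]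
        congr 1
        ext a
        simp [RingHom.algebraMap_toAlgebra]
      · rw [Category.assoc, pullbackSpecIso_inv_snd, pullback.diagonal_snd, ← Spec.map_comp,
          ← Spec.map_id]
        congr 1
        ext a
        simp [RingHom.algebraMap_toAlgebra])
  obtain ⟨d⟩ := tensor_ideal_equiv_kaehler R A
  exact ⟨c ≪≫ (tilde.functor (CommRingCat.of A)).mapIso d.toModuleIso⟩

end Groth.L19.Conormal
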