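import Groth.Agent.L18.ValCrit2
import Groth.Agent.L18.DominatingDVR
import Mathlib.AlgebraicGeometry.ValuativeCriterion
import Mathlib.AlgebraicGeometry.Morphisms.FlatMono
import Mathlib.RingTheory.Adjoin.FGBaseChange

/-!
# Monomorphisms which reflect specializations after base change, and valuative lifting
-/

noncomputable section

universe u

open CategoryTheory CategoryTheory.Limits AlgebraicGeometry IsLocalRing

set_option backward.isDefEq.respectTransparency.types false
set_option backward.isDefEq.respectTransparency false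
set_option linter.style.haveILetI false

namespace Groth.L19

variable {X Y : Scheme.{u}}

theorem isIso_of_mono_to_field {Z : Scheme.{u}} {K : Type u} [Field K]
    (f : Z ⟶ Spec (CommRingCat.of K)) [Mono f] (z : Z) : IsIso f := by
  have : Subsingleton (Spec (CommRingCat.of K) : Scheme) :=
    inferInstanceAs (Subsingleton (PrimeSpectrum K))
  have : Subsingleton Z := f.injective.subsingleton
  have : Finite Z := inferInstance
  have : CompactSpace Z := Finite.compactSpace
  have : Surjective f := ⟨fun y => ⟨z, Subsingleton.elim _ _⟩⟩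
  exact Flat.isIso_of_surjective_of_mono f

/-- A field valued point through a point of the image of a monomorphism lifts. -/
theorem exists_lift_point (f : Y ⟶ X) [Mono f] {k : Type u} [Field k]
    (m : Spec (CommRingCat.of k) ⟶ X) (h : m (closedPoint k) ∈ Set.range f) :
    ∃ l : Spec (CommRingCat.of k) ⟶ Y, l ≫ f = m := by
  obtain ⟨y, hy⟩ := h
  obtain ⟨z, -, -⟩ := Scheme.Pullback.exists_preimage_pullback (f := f) (g := m) y (closedPoint k) hy
  have := isIso_of_mono_to_field (pullback.snd f m) z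
  exact ⟨inv (pullback.snd f m) ≫ pullback.fst f m,
    by rw [Category.assoc, pullback.condition, IsIso.inv_hom_id_assoc]⟩

theorem residueLift_iff (f : Y ⟶ X) [Mono f] {R : Type u} [CommRing R] [IsLocalRing R]
    (i₂ : Spec (CommRingCat.of R) ⟶ X) :
    (∃ l₀ : Spec (CommRingCat.of (ResidueField R)) ⟶ Y,
      l₀ ≫ f = Spec.map (CommRingCat.ofHom (residue R)) ≫ i₂) ↔
      i₂ (closedPoint R) ∈ Set.range f := by
  constructor
  · rintro ⟨l, hl⟩
    refine ⟨l (closedPoint _), ?_⟩
    rw [← Scheme.Hom.comp_apply, hl, Groth.L18.apply_closedPoint_of_isLocalHom (residue R) i₂]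
  · intro h
    refine exists_lift_point f _ ?_
    rwa [Groth.L18.apply_closedPoint_of_isLocalHom (residue R) i₂]

/-- If the base change of `f` to a valuation ring reflects specializations, then a valuative square
with a lift of the residue field lifts. -/
theorem hasLift_of_reflects (f : Y ⟶ X) (S : ValuativeCommSq f)
    (href : ∀ y₀ y₁ : ↥(pullback f S.i₂),
      (pullback.snd f S.i₂) y₁ ⤳ (pullback.snd f S.i₂) y₀ → y₁ ⤳ y₀)
    (hl₀ : ∃ l₀ : Spec (CommRingCat.of (ResidueField S.R)) ⟶ Y,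
      l₀ ≫ f = Spec.map (CommRingCat.ofHom (residue S.R)) ≫ S.i₂) :
    S.commSq.HasLift := by
  obtain ⟨l₀, hl₀⟩ := hl₀
  let R := S.R
  let K := S.K
  let k := ResidueField R
  let a : Spec (CommRingCat.of K) ⟶ pullback f S.i₂ := pullback.lift S.i₁ _ S.commSq.w
  let b : Spec (CommRingCat.of k) ⟶ pullback f S.i₂ := pullback.lift l₀ _ hl₀
  have hsp : a (closedPoint K) ⤳ b (closedPoint k) := by
    refine href _ _ ?_
    rw [← Scheme.Hom.comp_apply, ← Scheme.Hom.comp_apply, pullback.lift_snd, pullback.lift_snd]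
    have h : Spec.map (CommRingCat.ofHom (residue R)) (closedPoint k) = closedPoint R :=
      comap_closedPoint (residue R)
    rw [h]
    exact specializes_closedPoint _
  obtain ⟨_, ⟨W, hW, rfl⟩, hbW, -⟩ :=
    (pullback f S.i₂).isBasis_affineOpens.exists_subset_of_mem_open
      (Set.mem_univ (b (closedPoint k))) isOpen_univ
  replace hW : IsAffineOpen W := hW
  obtain ⟨γ, hγ⟩ := Groth.L18.exists_eq_SpecMap_fromSpec hW b
    (Groth.L18.range_subset_of_closedPoint_mem b hbW)
  obtain ⟨β, hβ⟩ := Groth.L18.exists_eq_SpecMap_fromSpec hW a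
    (Groth.L18.range_subset_of_closedPoint_mem a (hsp.mem_open W.2 hbW))
  obtain ⟨ν, hν⟩ := Spec.map_surjective (hW.fromSpec ≫ pullback.snd f S.i₂)
  have hνβ : ∀ r, β.hom (ν.hom r) = algebraMap R K r := by
    have h : a ≫ pullback.snd f S.i₂ = _ := pullback.lift_snd _ _ _
    rw [hβ, Category.assoc, ← hν, ← Spec.map_comp] at h
    exact fun r => congr($(Spec.map_injective h) r)
  have hνγ : ∀ r, γ.hom (ν.hom r) = residue R r := by
    have h : b ≫ pullback.snd f S.i₂ = _ := pullback.lift_snd _ _ _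
    rw [hγ, Category.assoc, ← hν, ← Spec.map_comp] at h
    exact fun r => congr($(Spec.map_injective h) r)
  have hker : ∀ w, β.hom w = 0 → γ.hom w = 0 := by
    rw [hγ, hβ, Scheme.Hom.comp_apply, Scheme.Hom.comp_apply,
      hW.fromSpec.isOpenEmbedding.isInducing.specializes_iff] at hsp
    have hle := (PrimeSpectrum.le_iff_specializes (PrimeSpectrum.comap β.hom (closedPoint K))
      (PrimeSpectrum.comap γ.hom (closedPoint k))).mpr hsp
    intro w hw
    have h : γ.hom w ∈ maximalIdeal k := hle (show β.hom w ∈ maximalIdeal K by rw [hw]; exact zero_mem _)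
    rwa [isField_iff_maximalIdeal_eq.mp (Field.toIsField k), Ideal.mem_bot] at h
  have hmem : ∀ w, β.hom w ∈ (algebraMap R K).range := by
    intro w
    rcases ValuationRing.isInteger_or_isInteger R (β.hom w : K) with ⟨r, hr⟩ | ⟨r, hr⟩
    · exact ⟨r, hr⟩
    · by_cases h0 : β.hom w = 0
      · exact h0 ▸ zero_mem _
      by_cases hu : IsUnit r
      · obtain ⟨r', hr'⟩ := hu.exists_right_inv
        refine ⟨r', ?_⟩
        have h := congrArg (algebraMap R K) hr'
        rw [map_mul, hr, map_one] at h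
        exact (eq_inv_of_mul_eq_one_right h).trans (inv_inv _)
      · have h1 : β.hom (w * ν.hom r - 1) = 0 := by
          rw [map_sub, map_mul, hνβ, hr, map_one, mul_inv_cancel₀ h0, sub_self]
        have h2 := hker _ h1
        rw [map_sub, map_mul, hνγ, (residue_eq_zero_iff r).mpr hu, map_one, mul_zero, zero_sub,
          neg_eq_zero] at h2
        exact absurd h2 one_ne_zero
  choose ψf hψ using hmem
  have hinj : Function.Injective (algebraMap R K) := IsFractionRing.injective R K
  let ψ : Γ(pullback f S.i₂, W) ⟶ CommRingCat.of R := CommRingCat.ofHom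
    { toFun := ψf
      map_one' := hinj (by rw [hψ, map_one, map_one])
      map_mul' := fun x y => hinj (by rw [hψ, map_mul, map_mul, hψ, hψ])
      map_zero' := hinj (by rw [hψ, map_zero, map_zero])
      map_add' := fun x y => hinj (by rw [hψ, map_add, map_add, hψ, hψ]) }
  refine ⟨⟨⟨Spec.map ψ ≫ hW.fromSpec ≫ pullback.fst f S.i₂, ?_, ?_⟩⟩⟩
  · have h : ψ ≫ CommRingCat.ofHom (algebraMap R K) = β := by ext w; exact hψ w
    rw [← Spec.map_comp_assoc, h, ← Category.assoc, ← hβ]
    exact pullback.lift_fst _ _ _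
  · have h : ν ≫ ψ = 𝟙 _ := by
      ext r
      exact hinj ((hψ _).trans (hνβ r))
    rw [Category.assoc, Category.assoc, pullback.condition, ← Category.assoc hW.fromSpec, ← hν,
      ← Spec.map_comp_assoc, h, Spec.map_id, Category.id_comp]

/-- The lifting of a suitable valuation ring shows that two points of a base change are in the
relation of specialization. -/
theorem specializes_of_valuation (f : Y ⟶ X) [Mono f] {X' : Scheme.{u}} (g : X' ⟶ X)
    (y₀ y₁ : ↥(pullback f g)) {K : Type u} [Field K] (W : ValuationSubring K)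
    (t : Spec (CommRingCat.of W) ⟶ X')
    (h₀ : t (closedPoint W) = (pullback.snd f g) y₀)
    (h₁ : (Spec.map (CommRingCat.ofHom W.subtype) ≫ t) (closedPoint K) = (pullback.snd f g) y₁)
    (hlift : ∀ (i₁ : Spec (CommRingCat.of K) ⟶ Y)
      (w : CommSq i₁ (Spec.map (CommRingCat.ofHom (algebraMap W K))) f (t ≫ g)),
      (t ≫ g) (closedPoint W) ∈ Set.range f → w.HasLift) :
    y₁ ⤳ y₀ := by
  obtain ⟨a, ha⟩ := exists_lift_point (pullback.snd f g)
    (Spec.map (CommRingCat.ofHom W.subtype) ≫ t) ⟨y₁, h₁.symm⟩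
  have w : CommSq (a ≫ pullback.fst f g) (Spec.map (CommRingCat.ofHom (algebraMap W K))) f (t ≫ g) := by
    constructor
    rw [Category.assoc, pullback.condition, reassoc_of% ha]
    rfl
  have hcl : (t ≫ g) (closedPoint W) ∈ Set.range f := by
    refine ⟨pullback.fst f g y₀, ?_⟩
    rw [Scheme.Hom.comp_apply, h₀, ← Scheme.Hom.comp_apply, pullback.condition,
      Scheme.Hom.comp_apply]
  have := hlift _ w hcl
  let L : Spec (CommRingCat.of W) ⟶ pullback f g := pullback.lift w.lift t w.fac_right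
  have hL₀ : L (closedPoint W) = y₀ := by
    apply (pullback.snd f g).injective
    rw [← Scheme.Hom.comp_apply, pullback.lift_snd, h₀]
  have hL₁ : L (Spec.map (CommRingCat.ofHom W.subtype) (closedPoint K)) = y₁ := by
    apply (pullback.snd f g).injective
    rw [← Scheme.Hom.comp_apply, pullback.lift_snd, ← h₁, Scheme.Hom.comp_apply]
  rw [← hL₀, ← hL₁]
  exact (specializes_closedPoint _).map L.continuous

/-- Lifting of valuative squares with lifts of residue fields gives reflection of specializations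
after every base change. -/
theorem reflects_of_lift (f : Y ⟶ X) [Mono f]
    (hlift : ∀ S : ValuativeCommSq f, S.i₂ (closedPoint S.R) ∈ Set.range f → S.commSq.HasLift)
    {X' : Scheme.{u}} (g : X' ⟶ X) (y₀ y₁ : ↥(pullback f g))
    (h : (pullback.snd f g) y₁ ⤳ (pullback.snd f g) y₀) : y₁ ⤳ y₀ := by
  obtain ⟨W, t, -, ht, -, ht₀⟩ :=
    Groth.L18.exists_valuation_through (pullback.snd f g) y₁ _ h
  refine specializes_of_valuation f g y₀ y₁ W t ht₀ ?_ fun i₁ w hc =>
    hlift { R := W, K := _, i₁ := i₁, i₂ := t ≫ g, commSq := w } hc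
  rw [ht, Scheme.Hom.comp_apply]
  exact congrArg _ (Scheme.fromSpecResidueField_apply _ _)

/-- Discrete valuation rings realise specializations in locally Noetherian schemes. -/
theorem exists_dvr_through {X' : Scheme.{u}} [IsLocallyNoetherian X'] {x₀ x₁ : X'} (h : x₁ ⤳ x₀)
    (hne : x₁ ≠ x₀) :
    ∃ (W : ValuationSubring (X'.residueField x₁)) (t : Spec (CommRingCat.of W) ⟶ X'),
      IsDiscreteValuationRing W ∧ t (closedPoint W) = x₀ ∧
        (Spec.map (CommRingCat.ofHom W.subtype) ≫ t) (closedPoint (X'.residueField x₁)) = x₁ := by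
  let ψ : X'.presheaf.stalk x₀ ⟶ X'.residueField x₁ :=
    X'.presheaf.stalkSpecializes h ≫ X'.residue x₁
  have hψ : Spec.map ψ ≫ X'.fromSpecStalk x₀ = X'.fromSpecResidueField x₁ := by
    rw [Scheme.fromSpecResidueField, Spec.map_comp, Category.assoc,
      Scheme.SpecMap_stalkSpecializes_fromSpecStalk h]
  let _ : Algebra (X'.presheaf.stalk x₀) (X'.residueField x₁) := ψ.hom.toAlgebra
  have hgen : Subfield.closure (Set.range (algebraMap (X'.presheaf.stalk x₀) (X'.residueField x₁)) ∪
      ∅) = ⊤ := by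
    obtain ⟨_, ⟨U, hU, rfl⟩, hx₀, -⟩ :=
      X'.isBasis_affineOpens.exists_subset_of_mem_open (Set.mem_univ x₀) isOpen_univ
    replace hU : IsAffineOpen U := hU
    have hx₁ : x₁ ∈ U := h.mem_open U.2 hx₀
    let _ := (X'.presheaf.algebra_section_stalk ⟨x₁, hx₁⟩)
    have hloc := hU.isLocalization_stalk ⟨x₁, hx₁⟩
    have himg : ∀ a : Γ(X', U), X'.residue x₁ (X'.presheaf.germ U x₁ hx₁ a) ∈
        Subfield.closure (Set.range (algebraMap (X'.presheaf.stalk x₀) (X'.residueField x₁)) ∪ ∅) := by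
      intro a
      refine Subfield.subset_closure (Or.inl ⟨X'.presheaf.germ U x₀ hx₀ a, ?_⟩)
      exact congrArg (X'.residue x₁).hom
        (congr($(X'.presheaf.germ_stalkSpecializes (U := U) hx₀ h) a))
    refine eq_top_iff.mpr fun z _ => ?_
    obtain ⟨s, rfl⟩ := residue_surjective z
    obtain ⟨⟨a, d⟩, he⟩ := IsLocalization.surj (hU.primeIdealOf ⟨x₁, hx₁⟩).asIdeal.primeCompl s
    have hd : IsUnit (X'.presheaf.germ U x₁ hx₁ (d : Γ(X', U))) :=
      IsLocalization.map_units _ d
    have h' := congrArg (X'.residue x₁).hom he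
    rw [map_mul] at h'
    have : (X'.residue x₁).hom s = (X'.residue x₁).hom (X'.presheaf.germ U x₁ hx₁ a) /
        (X'.residue x₁).hom (X'.presheaf.germ U x₁ hx₁ (d : Γ(X', U))) :=
      (eq_div_iff (hd.map (X'.residue x₁).hom).ne_zero).mpr h'
    exact this ▸ div_mem (himg a) (himg _)
  have hker : RingHom.ker (algebraMap (X'.presheaf.stalk x₀) (X'.residueField x₁)) ≠
      maximalIdeal _ := by
    intro hk
    refine hne ?_
    have h1 := congr($hψ (closedPoint (X'.residueField x₁)))
    rw [Scheme.Hom.comp_apply, Scheme.fromSpecResidueField_apply] at h1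
    rw [← h1]
    have h2 : Spec.map ψ (closedPoint (X'.residueField x₁)) = closedPoint (X'.presheaf.stalk x₀) := by
      refine PrimeSpectrum.ext ?_
      show (maximalIdeal (X'.residueField x₁)).comap ψ.hom = maximalIdeal _
      rw [isField_iff_maximalIdeal_eq.mp (Field.toIsField (X'.residueField x₁)), ← RingHom.ker_eq_comap_bot]
      exact hk
    rw [h2, Scheme.fromSpecStalk_closedPoint]
  obtain ⟨W, hW, hmem, hval⟩ :=
    Groth.L18.exists_isDiscreteValuationRing_dominating Set.finite_empty hgen hker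
  let φ : X'.presheaf.stalk x₀ →+* W := ψ.hom.codRestrict W.toSubring hmem
  have hloc : IsLocalHom φ := by
    refine ⟨fun a ha => ?_⟩
    by_contra hna
    have h1 := hval a hna
    rw [← W.valuation_lt_one_iff ⟨_, hmem a⟩] at h1
    exact h1 ha
  refine ⟨W, Spec.map (CommRingCat.ofHom φ) ≫ X'.fromSpecStalk x₀, hW, ?_, ?_⟩
  · rw [Groth.L18.apply_closedPoint_of_isLocalHom]
    exact X'.fromSpecStalk_closedPoint
  · rw [← Spec.map_comp_assoc, show CommRingCat.ofHom φ ≫ CommRingCat.ofHom W.subtype = ψ from rfl,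
      hψ]
    exact Scheme.fromSpecResidueField_apply _ _

/-- Over a base change which is locally Noetherian, discrete valuation rings suffice. -/
theorem reflects_of_dvrLift (f : Y ⟶ X) [Mono f]
    (hlift : ∀ S : ValuativeCommSq f, IsDiscreteValuationRing S.R →
      S.i₂ (closedPoint S.R) ∈ Set.range f → S.commSq.HasLift)
    {X' : Scheme.{u}} [IsLocallyNoetherian X'] (g : X' ⟶ X) (y₀ y₁ : ↥(pullback f g))
    (h : (pullback.snd f g) y₁ ⤳ (pullback.snd f g) y₀) : y₁ ⤳ y₀ := by
  by_cases hne : (pullback.snd f g) y₁ = (pullback.snd f g) y₀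
  · rw [(pullback.snd f g).injective hne]
  obtain ⟨W, t, hW, h₀, h₁⟩ := exists_dvr_through h hne
  exact specializes_of_valuation f g y₀ y₁ W t h₀ h₁ fun i₁ w hc =>
    hlift { R := W, K := _, i₁ := i₁, i₂ := t ≫ g, commSq := w } hW hc

open TensorProduct in
/-- Base changes locally of finite type suffice to test reflection of specializations. -/
theorem reflects_of_locallyOfFiniteType (f : Y ⟶ X)
    (h : ∀ (X' : Scheme.{u}) (g : X' ⟶ X) [LocallyOfFiniteType g] (y₀ y₁ : ↥(pullback f g)),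
      (pullback.snd f g) y₁ ⤳ (pullback.snd f g) y₀ → y₁ ⤳ y₀)
    {X' : Scheme.{u}} (g : X' ⟶ X) (y₀ y₁ : ↥(pullback f g))
    (hy : (pullback.snd f g) y₁ ⤳ (pullback.snd f g) y₀) : y₁ ⤳ y₀ := by
  set q := pullback.fst f g
  set p := pullback.snd f g
  have hfg : ∀ z, f (q z) = g (p z) := fun z => by
    rw [← Scheme.Hom.comp_apply, pullback.condition, Scheme.Hom.comp_apply]
  have hq : q y₁ ⤳ q y₀ := by
    let m : pullback f g ⟶ pullback f (𝟙 X) := pullback.lift q (q ≫ f) (by simp)
    have := h X (𝟙 X) (m y₀) (m y₁) (by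
      rw [← Scheme.Hom.comp_apply, ← Scheme.Hom.comp_apply, pullback.lift_snd, Scheme.Hom.comp_apply,
        Scheme.Hom.comp_apply, hfg, hfg]
      exact hy.map g.continuous)
    have h2 := this.map (pullback.fst f (𝟙 X)).continuous
    rwa [← Scheme.Hom.comp_apply, ← Scheme.Hom.comp_apply, pullback.lift_fst] at h2
  obtain ⟨_, ⟨U, hU, rfl⟩, hxU, -⟩ :=
    X.isBasis_affineOpens.exists_subset_of_mem_open (Set.mem_univ (f (q y₀))) isOpen_univ
  replace hU : IsAffineOpen U := hU
  obtain ⟨_, ⟨V, hV, rfl⟩, hyV, hVU⟩ :=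
    Y.isBasis_affineOpens.exists_subset_of_mem_open (show q y₀ ∈ (f ⁻¹ᵁ U : Set Y) from hxU)
      (f ⁻¹ᵁ U).2
  replace hV : IsAffineOpen V := hV
  obtain ⟨_, ⟨W, hW, rfl⟩, hxW, hWU⟩ :=
    X'.isBasis_affineOpens.exists_subset_of_mem_open
      (show p y₀ ∈ (g ⁻¹ᵁ U : Set X') from by
        show g (p y₀) ∈ U
        rw [← hfg]; exact hxU) (g ⁻¹ᵁ U).2
  replace hW : IsAffineOpen W := hW
  let _ : Algebra Γ(X, U) Γ(Y, V) := (f.appLE U V hVU).hom.toAlgebra
  let _ : Algebra Γ(X, U) Γ(X', W) := (g.appLE U W hWU).hom.toAlgebra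
  have hφ : Spec.map (CommRingCat.ofHom (algebraMap Γ(X, U) Γ(Y, V))) ≫ hU.fromSpec =
      hV.fromSpec ≫ f := hU.SpecMap_appLE_fromSpec f hV hVU
  have hψ : Spec.map (CommRingCat.ofHom (algebraMap Γ(X, U) Γ(X', W))) ≫ hU.fromSpec =
      hW.fromSpec ≫ g := hU.SpecMap_appLE_fromSpec g hW hWU
  let M : Spec (CommRingCat.of (Γ(Y, V) ⊗[Γ(X, U)] Γ(X', W))) ⟶ pullback f g :=
    (pullbackSpecIso Γ(X, U) Γ(Y, V) Γ(X', W)).inv ≫
      pullback.map _ _ f g hV.fromSpec hW.fromSpec hU.fromSpec hφ hψ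
  have hMr : ∀ z : ↥(pullback f g), q z ∈ V → p z ∈ W → z ∈ Set.range M := by
    intro z h1 h2
    have : z ∈ Set.range (pullback.map _ _ f g hV.fromSpec hW.fromSpec hU.fromSpec hφ hψ) := by
      rw [Scheme.Pullback.range_map]
      exact ⟨hV.range_fromSpec.ge h1, hW.range_fromSpec.ge h2⟩
    obtain ⟨w, rfl⟩ := this
    refine ⟨(pullbackSpecIso _ _ _).hom w, ?_⟩
    rw [Scheme.Hom.comp_apply, ← Scheme.Hom.comp_apply (pullbackSpecIso _ _ _).hom, Iso.hom_inv_id]
    rfl
  have hMs : M ≫ p = Spec.map (CommRingCat.ofHom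
      (Algebra.TensorProduct.includeRight (R := Γ(X, U)) (A := Γ(Y, V))).toRingHom) ≫ hW.fromSpec := by
    rw [Category.assoc, pullback.lift_snd, ← Category.assoc, pullbackSpecIso_inv_snd]; rfl
  obtain ⟨P₀, rfl⟩ := hMr y₀ hyV hxW
  obtain ⟨P₁, rfl⟩ := hMr y₁ (hq.mem_open V.2 hyV) (hy.mem_open W.2 hxW)
  refine Specializes.map ?_ M.continuous
  rw [← Scheme.Hom.comp_apply, ← Scheme.Hom.comp_apply, hMs, Scheme.Hom.comp_apply,
    Scheme.Hom.comp_apply, hW.fromSpec.isOpenEmbedding.isInducing.specializes_iff] at hy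
  refine (PrimeSpectrum.le_iff_specializes P₁ P₀).mp fun t ht => ?_
  obtain ⟨C, hC, ⟨t', ht'⟩⟩ := exists_fg_and_mem_baseChange t
  have : Algebra.FiniteType Γ(X, U) C := C.fg_iff_finiteType.mp hC
  let g' : Spec (CommRingCat.of C) ⟶ X :=
    Spec.map (CommRingCat.ofHom (algebraMap Γ(X, U) C)) ≫ hU.fromSpec
  have : LocallyOfFiniteType (Spec.map (CommRingCat.ofHom (algebraMap Γ(X, U) C))) :=
    (HasRingHomProperty.Spec_iff (P := @LocallyOfFiniteType)).mpr
      (RingHom.finiteType_algebraMap.mpr this)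
  have hg' : Spec.map (CommRingCat.ofHom (algebraMap Γ(X, U) C)) ≫ hU.fromSpec = 𝟙 _ ≫ g' :=
    (Category.id_comp _).symm
  let M' : Spec (CommRingCat.of (Γ(Y, V) ⊗[Γ(X, U)] C)) ⟶ pullback f g' :=
    (pullbackSpecIso Γ(X, U) Γ(Y, V) C).inv ≫
      pullback.map _ _ f g' hV.fromSpec (𝟙 _) hU.fromSpec hφ hg'
  have hM's : M' ≫ pullback.snd f g' = Spec.map (CommRingCat.ofHom
      (Algebra.TensorProduct.includeRight (R := Γ(X, U)) (A := Γ(Y, V)) (B := C)).toRingHom) := by
    rw [Category.assoc, pullback.lift_snd, Category.comp_id, pullbackSpecIso_inv_snd]; rfl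
  let μ : Γ(Y, V) ⊗[Γ(X, U)] C →+* Γ(Y, V) ⊗[Γ(X, U)] Γ(X', W) :=
    (Algebra.TensorProduct.map (AlgHom.id Γ(Y, V) Γ(Y, V)) C.val).toRingHom
  have key := h _ g' (M' (PrimeSpectrum.comap μ P₀)) (M' (PrimeSpectrum.comap μ P₁)) (by
    rw [← Scheme.Hom.comp_apply, ← Scheme.Hom.comp_apply, hM's]
    have hy' := (PrimeSpectrum.le_iff_specializes _ _).mpr hy
    refine (PrimeSpectrum.le_iff_specializes _ _).mp fun c hc => ?_
    exact hy' (show (c : Γ(X', W)) ∈ _ from hc))
  rw [M'.isOpenEmbedding.isInducing.specializes_iff] at key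
  have key' := (PrimeSpectrum.le_iff_specializes _ _).mpr key
  rw [← ht'] at ht ⊢
  exact key' ht

end Groth.L19
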