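import Groth.Agent.L20.ModPullback
import Groth.Agent.L20.ModStalk
import Groth.Agent.L16.CohSupport
import Mathlib.RingTheory.LocalRing.Module
import Mathlib.RingTheory.Flat.FaithfullyFlat.Basic
import Mathlib.RingTheory.LocalRing.ResidueField.Basic

/-!
# The support of a pullback of a module of finite type
-/

universe u

open CategoryTheory CategoryTheory.Limits AlgebraicGeometry TopologicalSpace TensorProduct IsLocalRing

namespace Groth.L19.SupportPullback

set_option backward.isDefEq.respectTransparency.types false
set_option backward.isDefEq.respectTransparency false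
set_option linter.style.haveILetI false

/-- Extension of scalars along a local homomorphism does not kill finite modules. -/
theorem subsingleton_tensorProduct_iff {A B M : Type u} [CommRing A] [IsLocalRing A] [CommRing B]
    [IsLocalRing B] [Algebra A B] [IsLocalHom (algebraMap A B)] [AddCommGroup M] [Module A M]
    [Module.Finite A M] : Subsingleton (B ⊗[A] M) ↔ Subsingleton M := by
  refine ⟨fun h => ?_, fun h => inferInstance⟩
  have h1 : Subsingleton (ResidueField B ⊗[A] M) :=
    (AlgebraTensorModule.cancelBaseChange A B (ResidueField B) (ResidueField B) M).symm.toEquiv.subsingleton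
  have h2 : Subsingleton (ResidueField B ⊗[ResidueField A] (ResidueField A ⊗[A] M)) :=
    (AlgebraTensorModule.cancelBaseChange A (ResidueField A) (ResidueField B) (ResidueField B) M
      ).toEquiv.subsingleton
  exact IsLocalRing.subsingleton_tensorProduct.mp
    ((Module.FaithfullyFlat.subsingleton_tensorProduct_iff_right (ResidueField A) (ResidueField B)).mp h2)

variable {X Y : Scheme.{u}}

/-- The stalks of a module of finite type are finite. -/
theorem finite_stalk (M : X.Modules) (hM : Coh.IsCoh M) (x : X) :
    Module.Finite (X.presheaf.stalk x) (M.presheaf.stalk x) := by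
  haveI : Coh.IsQCoh M := hM.1
  obtain ⟨_, ⟨V, hV, rfl⟩, hxV, -⟩ :=
    X.isBasis_affineOpens.exists_subset_of_mem_open (Set.mem_univ x) isOpen_univ
  replace hV : IsAffineOpen V := hV
  haveI hfin : Module.Finite Γ(X, V) Γ(M, V) := Groth.L20.ModStalk.finite_sections M hM hV
  letI := Groth.L20.ModStalk.stalkModule M hxV
  letI := X.presheaf.algebra_section_stalk ⟨x, hxV⟩
  haveI := hV.isLocalization_stalk ⟨x, hxV⟩
  haveI : IsScalarTower Γ(X, V) (X.presheaf.stalk x) (M.presheaf.stalk x) :=
    IsScalarTower.of_algebraMap_smul fun _ _ => rfl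
  haveI := Groth.L20.ModStalk.isLocalizedModule_germ M hV hxV
  exact Module.Finite.of_isLocalizedModule (Rₚ := X.presheaf.stalk x)
    (hV.primeIdealOf ⟨x, hxV⟩).asIdeal.primeCompl (Groth.L20.ModStalk.germₗ M hxV)

theorem support_pullback (f : Y ⟶ X) (F : X.Modules) [Coh.IsQCoh F] (hF : CohB1.IsFT F) :
    CohB1.support ((Scheme.Modules.pullback f).obj F) = f ⁻¹' CohB1.support F := by
  ext y
  letI : Algebra (X.presheaf.stalk (f y)) (Y.presheaf.stalk y) := (f.stalkMap y).hom.toAlgebra
  haveI : IsLocalHom (algebraMap (X.presheaf.stalk (f y)) (Y.presheaf.stalk y)) :=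
    inferInstanceAs (IsLocalHom (f.stalkMap y).hom)
  haveI := finite_stalk F ⟨inferInstance, hF⟩ (f y)
  let e : ((Scheme.Modules.pullback f).obj F).presheaf.stalk y ≃ₗ[Y.presheaf.stalk y]
      Y.presheaf.stalk y ⊗[X.presheaf.stalk (f y)] F.presheaf.stalk (f y) :=
    ((Groth.L00.PullStalk.stalkIso f y).app F).toLinearEquiv
  exact (e.toEquiv.subsingleton_congr.trans subsingleton_tensorProduct_iff).not

end Groth.L19.SupportPullback
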