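import Groth.Agent.L00.LocalData
import Mathlib.RingTheory.Finiteness.Defs
import Mathlib.Algebra.Module.FinitePresentation

/-!
# Finite presentation may be tested on affine charts
-/

set_option autoImplicit false
set_option linter.style.haveILetI false
set_option backward.isDefEq.respectTransparency.types false
set_option backward.isDefEq.respectTransparency false

universe u

open CategoryTheory AlgebraicGeometry CategoryTheory.Limits

namespace Groth.L19

variable {X : Scheme.{u}}

theorem exists_finite_presentation_tilde {R : CommRingCat.{u}} (N : ModuleCat.{u} R)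
    [Module.FinitePresentation R N] : ∃ P : (tilde N).Presentation, P.IsFinite := by
  classical
  obtain ⟨s, hs, hk⟩ := Module.FinitePresentation.out (R := R) (M := N)
  obtain ⟨t, ht⟩ := hk
  let t' : Set ((s : Set N) →₀ R) := (t : Set ((s : Set N) →₀ R))
  refine ⟨presentationTilde N (s : Set N) hs t' ht, ?_, ?_⟩
  · exact ⟨inferInstanceAs (Finite (s : Set N))⟩
  · exact ⟨inferInstanceAs (Finite t')⟩

/-- Finite presentation may be tested on affine charts. -/
theorem isFP_of_tilde_charts (M : X.Modules)
    (h : ∀ x : X, ∃ (R : CommRingCat.{u}) (j : Spec R ⟶ X) (_ : IsOpenImmersion j) (N : ModuleCat.{u} R),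
      x ∈ j.opensRange ∧ Module.FinitePresentation R N ∧ Nonempty (M.restrict j ≅ tilde N)) :
    CohB1.IsFP M := by
  have key : ∀ x : X, ∃ (U : X.Opens) (P : (M.restrict U.ι).Presentation), x ∈ U ∧ P.IsFinite := by
    intro x
    obtain ⟨R, j, hj, N, hx, hN, ⟨e⟩⟩ := h x
    obtain ⟨P₀, hP₀⟩ := exists_finite_presentation_tilde N
    let P : (M.restrict j).Presentation := SheafOfModules.Presentation.ofIsIso.{u, u, u} e.inv P₀
    haveI : P.IsFinite := inferInstanceAs ((SheafOfModules.Presentation.ofIsIso.{u, u, u} e.inv P₀).IsFinite)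
    haveI : (Scheme.Modules.presentationRestrict j.isoOpensRange.inv P).IsFinite :=
      ⟨⟨inferInstanceAs (Finite P.generators.I)⟩, ⟨inferInstanceAs (Finite P.relations.I)⟩⟩
    exact ⟨j.opensRange, SheafOfModules.Presentation.ofIsIso.{u, u, u}
      ((Scheme.Modules.restrictFunctorComp j.isoOpensRange.inv j).symm.app M ≪≫
        (Scheme.Modules.restrictFunctorCongr (j.isoOpensRange_inv_comp)).app M).hom
      (Scheme.Modules.presentationRestrict j.isoOpensRange.inv P), hx, inferInstance⟩
  choose U P hU hP using key
  let q : SheafOfModules.QuasicoherentData.{u} (R := X.ringCatSheaf) M :=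
    SheafOfModules.QuasicoherentData.mk.{u, u, u, u} (R := X.ringCatSheaf) (M := M) (↥X) U
      (Groth.L00.Local.coversTop_of_forall_exists U fun x => ⟨x, hU x⟩) fun x =>
        SheafOfModules.Presentation.ofIsIso.{u, u, u} (Groth.L00.Local.overIso M (U x)).hom
          ((P x).map (Scheme.Modules.overEquiv (U x)).inverse (Groth.L00.Local.overInverseUnit (U x)))
  have hq : ∀ x : ↥X, (q.presentation x).IsFinite := fun x => by
    haveI := hP x
    haveI : ((P x).map (Scheme.Modules.overEquiv (U x)).inverse
        (Groth.L00.Local.overInverseUnit (U x))).IsFinite :=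
      ⟨⟨inferInstanceAs (Finite (P x).generators.I)⟩, ⟨inferInstanceAs (Finite (P x).relations.I)⟩⟩
    exact inferInstanceAs ((SheafOfModules.Presentation.ofIsIso.{u, u, u} _ _).IsFinite)
  exact SheafOfModules.IsFinitePresentation.mk (R := X.ringCatSheaf) (M := M)
    ⟨q, SheafOfModules.QuasicoherentData.IsFinitePresentation.mk.{u, u, u, u} (R := X.ringCatSheaf) (M := M) (q := q) hq⟩

end Groth.L19
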