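import Mathlib.AlgebraicGeometry.Morphisms.Separated
import Mathlib.AlgebraicGeometry.Morphisms.UniversallyClosed
import Mathlib.AlgebraicGeometry.Morphisms.Immersion
import Mathlib.AlgebraicGeometry.Morphisms.Finite
import Mathlib.AlgebraicGeometry.PullbackCarrier

universe u

open CategoryTheory CategoryTheory.Limits AlgebraicGeometry

namespace Groth.L19

theorem isSeparated_of_surjective_universallyClosed {S X Y : Scheme.{u}} (π : X ⟶ Y) (q : Y ⟶ S)
    [Surjective π] [UniversallyClosed π] [IsSeparated (π ≫ q)] : IsSeparated q := by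
  let P := pullback.map (π ≫ q) (π ≫ q) q q π π (𝟙 S) (Category.comp_id _) (Category.comp_id _)
  have hP : UniversallyClosed P :=
    MorphismProperty.pullbackMap (P := @UniversallyClosed) ‹UniversallyClosed π› ‹UniversallyClosed π› rfl rfl
  have hsq : π ≫ pullback.diagonal q = pullback.diagonal (π ≫ q) ≫ P := by
    apply pullback.hom_ext <;> simp [P, pullback.lift_fst, pullback.lift_snd]
  refine ⟨IsClosedImmersion.of_isPreimmersion (pullback.diagonal q) ?_⟩
  have e : Set.range (π ≫ pullback.diagonal q).base = Set.range (pullback.diagonal q).base := by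
    rw [Scheme.Hom.comp_base, CategoryTheory.hom_comp]
    exact π.surjective.range_comp _
  rw [← e, hsq, Scheme.Hom.comp_base, CategoryTheory.hom_comp, Set.range_comp]
  exact P.isClosedMap _ (pullback.diagonal (π ≫ q)).isClosedEmbedding.isClosed_range

theorem quasiSeparatedSpace_of_surjective_quasiCompact {X Y : Scheme.{u}} (f : X ⟶ Y)
    [Surjective f] [QuasiCompact f] [QuasiSeparatedSpace X] : QuasiSeparatedSpace Y := by
  refine ⟨fun U V hUo hUc hVo hVc => ?_⟩
  have := QuasiSeparatedSpace.inter_isCompact (f ⁻¹' U) (f ⁻¹' V)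
    (hUo.preimage f.continuous) (QuasiCompact.isCompact_preimage (f := f) _ hUo hUc)
    (hVo.preimage f.continuous) (QuasiCompact.isCompact_preimage (f := f) _ hVo hVc)
  have := this.image f.continuous
  rwa [← Set.preimage_inter, Set.image_preimage_eq _ f.surjective] at this

end Groth.L19
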