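import Groth.Agent.L18.GenLocus

/-!
# Modules with a tensor inverse are invertible
-/

set_option autoImplicit false
set_option linter.style.haveILetI false
set_option backward.isDefEq.respectTransparency false
universe u

open CategoryTheory MonoidalCategory AlgebraicGeometry TopologicalSpace Opposite TensorProduct

noncomputable section

namespace Groth.L19.InvOfTensor

open Groth.L18.Frame (rs ro rs_rs rs_self rs_smul ro_ro ro_self ro_mul IsFrame)
open Groth.L18.GenLoc (tens tens_rs tens_smul_left tens_smul_right)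
open Groth.L00.Tensor (pre)

variable {X : Scheme.{u}} {L N : X.Modules} (e : CohB1.tensorMod L N ≅ Coh.structureModule X)

theorem ro_one {U U' : X.Opens} (h : U' ≤ U) : ro h (1 : Γ(X, U)) = 1 := map_one (X.presheaf.map (homOfLE h).op).hom

/-- The pairing. -/
def pair {U : X.Opens} (m : Γ(L, U)) (n : Γ(N, U)) : Γ(X, U) := e.hom.app U (tens L N U m n)

theorem pair_rs {U U' : X.Opens} (h : U' ≤ U) (m : Γ(L, U)) (n : Γ(N, U)) :
    pair e (rs L h m) (rs N h n) = ro h (pair e m n) := by
  rw [pair, ← tens_rs]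
  exact congr($(e.hom.mapPresheaf.naturality (homOfLE h).op) (tens L N U m n))

theorem pair_smul_left {U : X.Opens} (r : Γ(X, U)) (m : Γ(L, U)) (n : Γ(N, U)) :
    pair e (r • m) n = r * pair e m n := by
  rw [pair, tens_smul_left]
  exact e.hom.app_smul r _

theorem pair_smul_right {U : X.Opens} (r : Γ(X, U)) (m : Γ(L, U)) (n : Γ(N, U)) :
    pair e m (r • n) = r * pair e m n := by
  rw [pair, tens_smul_right]
  exact e.hom.app_smul r _

theorem pair_add_left {U : X.Opens} (m m' : Γ(L, U)) (n : Γ(N, U)) :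
    pair e (m + m') n = pair e m n + pair e m' n := by
  rw [pair, show tens L N U (m + m') n = tens L N U m n + tens L N U m' n from
    Groth.L00.Tensor.ev_add₁ (Groth.L00.Tensor.unit (pre L ⊗ pre N)) (op U) m m' n]
  exact map_add _ _ _

theorem pair_add_right {U : X.Opens} (m : Γ(L, U)) (n n' : Γ(N, U)) :
    pair e m (n + n') = pair e m n + pair e m n' := by
  rw [pair, show tens L N U m (n + n') = tens L N U m n + tens L N U m n' from
    Groth.L00.Tensor.ev_add₂ (Groth.L00.Tensor.unit (pre L ⊗ pre N)) (op U) m n n']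
  exact map_add _ _ _

theorem exists_unit_pair (x : X) : ∃ (V : X.Opens) (l : Γ(L, V)) (n : Γ(N, V)), x ∈ V ∧ pair e l n = 1 := by
  let P := pre L ⊗ pre N
  let η := Groth.L00.Tensor.unit P
  have hW := ((Opens.grothendieckTopology X).W_iff_isLocallyBijective _).1 (Groth.L00.Tensor.Wp_unit P)
  haveI := hW.2
  obtain ⟨S, hS, hS'⟩ := Groth.L00.Tensor.exists_local (J := Opens.grothendieckTopology X) η (U := op ⊤)
    (e.inv.app ⊤ (1 : Γ(X, ⊤)))
  obtain ⟨V₀, i, hi, hxV₀⟩ := hS x trivial
  obtain ⟨q, hq⟩ := hS' i hi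
  have hq1 : (show Γ(X, V₀) from e.hom.app V₀ (η.app (op V₀) q)) = 1 := by
    refine (congrArg (e.hom.app V₀) hq).trans ?_
    refine (congr($(e.hom.mapPresheaf.naturality i.op) (e.inv.app ⊤ (1 : Γ(X, ⊤))))).trans ?_
    exact (congrArg (fun z => (Coh.structureModule X).presheaf.map i.op z)
      (congr($(e.inv_hom_id).app ⊤ (1 : Γ(X, ⊤))))).trans (map_one (X.presheaf.map i.op).hom)
  have key : ∀ z : P.obj (op V₀), IsUnit (X.presheaf.germ V₀ x hxV₀ (e.hom.app V₀ (η.app (op V₀) z))) →
      ∃ (l : Γ(L, V₀)) (n : Γ(N, V₀)), IsUnit (X.presheaf.germ V₀ x hxV₀ (pair e l n)) := by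
    intro z
    induction z using TensorProduct.induction_on with
    | zero =>
      intro h
      refine absurd h ?_
      rw [show e.hom.app V₀ (η.app (op V₀) 0) = (0 : Γ(X, V₀)) from
        (congrArg (e.hom.app V₀) (map_zero (η.app (op V₀)).hom)).trans (map_zero _), map_zero]
      exact not_isUnit_zero
    | tmul m n => exact fun h => ⟨m, n, h⟩
    | add a b ha hb =>
      intro h
      have h' : IsUnit (X.presheaf.germ V₀ x hxV₀ (e.hom.app V₀ (η.app (op V₀) a)) +
          X.presheaf.germ V₀ x hxV₀ (e.hom.app V₀ (η.app (op V₀) b))) := by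
        convert h using 1
        refine Eq.symm ((congrArg (fun z => X.presheaf.germ V₀ x hxV₀ (e.hom.app V₀ z))
          (map_add (η.app (op V₀)).hom a b)).trans ?_)
        exact (congrArg (X.presheaf.germ V₀ x hxV₀) (map_add (e.hom.app V₀).hom _ _)).trans
          (map_add (X.presheaf.germ V₀ x hxV₀).hom _ _)
      exact (IsLocalRing.isUnit_or_isUnit_of_isUnit_add h').elim ha hb
  obtain ⟨l, n, hln⟩ := key q (((congrArg (X.presheaf.germ V₀ x hxV₀) hq1).trans (map_one (X.presheaf.germ V₀ x hxV₀).hom)).symm ▸ isUnit_one)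
  let a := pair e l n
  have hB := X.basicOpen_le a
  have hu : IsUnit (ro hB a) := RingedSpace.isUnit_res_basicOpen X.toRingedSpace a
  refine ⟨X.basicOpen a, rs L hB l, (↑hu.unit⁻¹ : Γ(X, X.basicOpen a)) • rs N hB n,
    (X.mem_basicOpen a x hxV₀).mpr hln, ?_⟩
  rw [pair_smul_right, pair_rs, IsUnit.val_inv_mul]

theorem tens_eq_zero_imp {V : X.Opens} {l : Γ(L, V)} {n : Γ(N, V)} (h1 : pair e l n = 1) {W : X.Opens}
    (hW : W ≤ V) (m : Γ(L, W)) (h : tens L N W m (rs N hW n) = 0) : m = 0 := by
  let P := pre L ⊗ pre N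
  let η := Groth.L00.Tensor.unit P
  have hWp := ((Opens.grothendieckTopology X).W_iff_isLocallyBijective _).1 (Groth.L00.Tensor.Wp_unit P)
  haveI := hWp.1
  let OL : TopCat.Sheaf Ab.{u} X.toTopCat := ⟨L.presheaf, L.isSheaf⟩
  obtain ⟨S, hS, hS'⟩ := Groth.L00.Tensor.local_eq (J := Opens.grothendieckTopology X) η (U := op W)
    ((show (pre L).obj (op W) from m) ⊗ₜ[X.sheaf.obj.obj (op W)] (show (pre N).obj (op W) from rs N hW n)) 0
    (h.trans (map_zero (η.app (op W)).hom).symm)
  choose V' i hi hxV' using fun x : W => hS x.1 x.2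
  refine OL.eq_of_locally_eq' V' W (fun x => i x) (fun x hx => Opens.mem_iSup.mpr ⟨⟨x, hx⟩, hxV' ⟨x, hx⟩⟩)
    m 0 fun x => ?_
  let R := X.sheaf.obj.obj (op (V' x))
  let l' : Γ(L, V' x) := rs L ((i x).le.trans hW) l
  let φ : TensorProduct R ((pre L).obj (op (V' x))) ((pre N).obj (op (V' x))) →ₗ[R] (pre L).obj (op (V' x)) :=
    TensorProduct.lift (LinearMap.mk₂ R
      (fun a b => (show R from pair e l' (show Γ(N, V' x) from b)) • a)
      (fun a a' b => smul_add _ a a') (fun r a b => smul_comm _ r a)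
      (fun a b b' => by
        show (show R from pair e l' ((show Γ(N, V' x) from b) + (show Γ(N, V' x) from b'))) • a = _
        rw [pair_add_right]
        exact add_smul _ _ a)
      (fun r a b => by
        show (show R from pair e l' ((show Γ(X, V' x) from r) • (show Γ(N, V' x) from b))) • a = _
        rw [pair_smul_right]
        exact mul_smul _ _ a))
  have h2 := congrArg φ (hS' (i x) (hi x))
  have h3 : φ ((show (pre L).obj (op (V' x)) from rs L (i x).le m) ⊗ₜ[R]
      (show (pre N).obj (op (V' x)) from rs N (i x).le (rs N hW n))) = φ 0 :=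
    h2.trans (congrArg φ (map_zero _))
  show rs L (i x).le m = rs L (i x).le 0
  refine Eq.trans ?_ (h3.trans ((map_zero φ).trans (map_zero (L.presheaf.map (homOfLE (i x).le).op).hom).symm))
  show _ = (show R from pair e l' (rs N (i x).le (rs N hW n))) • (show (pre L).obj (op (V' x)) from rs L (i x).le m)
  rw [rs_rs, pair_rs, h1, ro_one]
  exact (one_smul R (show (pre L).obj (op (V' x)) from rs L (i x).le m)).symm

theorem isFrame_of_pair {V : X.Opens} {l : Γ(L, V)} {n : Γ(N, V)} (h1 : pair e l n = 1) : IsFrame L V l := by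
  intro W hW
  have hl : pair e (rs L hW l) (rs N hW n) = 1 := by rw [pair_rs, h1, ro_one]
  refine ⟨fun a b hab => ?_, fun m => ⟨pair e m (rs N hW n), ?_⟩⟩
  · have := congrArg (fun z => pair e z (rs N hW n)) hab
    simp only [pair_smul_left, hl, mul_one] at this
    exact this
  · set m' := m - pair e m (rs N hW n) • rs L hW l with hm'
    have h0 : pair e m' (rs N hW n) = 0 := by
      have := pair_add_left e m' (pair e m (rs N hW n) • rs L hW l) (rs N hW n)
      rw [hm', sub_add_cancel, pair_smul_left, hl, mul_one] at this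
      exact left_eq_add.mp (this.trans (add_comm _ _))
    have ht : tens L N W m' (rs N hW n) = 0 := by
      refine (ConcreteCategory.bijective_of_isIso (e.hom.app W)).1 ?_
      exact h0.trans (map_zero (e.hom.app W).hom).symm
    exact (sub_eq_zero.1 (tens_eq_zero_imp e h1 hW m' ht)).symm

theorem isInvertible (e : CohB1.tensorMod L N ≅ Coh.structureModule X) : PicF.IsInvertible L :=
  Groth.L18.GenLoc.isInvertible_of_frames fun x => by
    obtain ⟨V, l, n, hx, h1⟩ := exists_unit_pair e x
    exact ⟨V, l, hx, isFrame_of_pair e h1⟩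

end Groth.L19.InvOfTensor
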