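import Groth.Agent.L19.GenericIso
import Groth.Agent.L23.SchemeGen
import Mathlib.AlgebraicGeometry.FunctionField
import Mathlib.RingTheory.Algebraic.Integral
import Mathlib.Topology.JacobsonSpace

/-!
Finiteness over a neighbourhood of a generic point.
-/

set_option autoImplicit false
set_option backward.isDefEq.respectTransparency.types false
set_option backward.isDefEq.respectTransparency false
set_option linter.style.haveILetI false
universe u

open CategoryTheory Limits AlgebraicGeometry TopologicalSpace

namespace Groth.L19.GenericFinite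

variable {X Y : Scheme.{u}} (f : X ⟶ Y) [LocallyOfFiniteType f]

instance jacobsonSpace_fiber (y : Y) : JacobsonSpace (f.fiber y) :=
  LocallyOfFiniteType.jacobsonSpace (pullback.snd f (Y.fromSpecResidueField y))

instance isLocallyNoetherian_fiber (y : Y) : IsLocallyNoetherian (f.fiber y) :=
  LocallyOfFiniteType.isLocallyNoetherian (pullback.snd f (Y.fromSpecResidueField y))

/-- A quasi-finite point is closed in its fibre. -/
theorem eq_of_specializes_of_quasiFiniteAt {ξ x : X} (hq : f.QuasiFiniteAt ξ) (h : ξ ⤳ x)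
    (e : f ξ = f x) : ξ = x := by
  have hcl := hq.isClopen_singleton_asFiber.1
  let a : f.fiber (f ξ) := f.asFiber ξ
  let b : f.fiber (f ξ) := (f.fiberHomeo (f ξ)).symm ⟨x, e.symm⟩
  have hb : f.fiberι (f ξ) b = x := Scheme.Hom.fiberι_fiberHomeo_symm f (f ξ) ⟨x, e.symm⟩
  have hab : a ⤳ b := by
    rw [← (f.fiberι (f ξ)).isEmbedding.isInducing.specializes_iff, hb, f.fiberι_asFiber]
    exact h
  have : b = a := by simpa [a] using hab.mem_closed hcl (Set.mem_singleton _)
  rw [← hb, this, f.fiberι_asFiber]

/-- A point of a finite fibre is quasi-finite. -/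
theorem quasiFiniteAt_of_finite_fibre (x : X) (hfin : (f ⁻¹' {f x}).Finite) :
    f.QuasiFiniteAt x := by
  rw [Scheme.Hom.quasiFiniteAt_iff_isOpen_singleton_asFiber]
  haveI : Finite (f ⁻¹' {f x}) := hfin.to_subtype
  haveI : Finite (f.fiber (f x)) := Finite.of_equiv _ (f.fiberHomeo (f x)).toEquiv.symm
  exact isOpen_discrete _

/-- A fibre without specializations consists of quasi-finite points. -/
theorem quasiFiniteAt_of_forall_specializes (x : X)
    (h : ∀ a b : X, f a = f x → f b = f x → a ⤳ b → a = b) : f.QuasiFiniteAt x := by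
  rw [Scheme.Hom.quasiFiniteAt_iff_isOpen_singleton_asFiber]
  have hspec : ∀ a b : f.fiber (f x), a ⤳ b → a = b := by
    intro a b hab
    apply (f.fiberι (f x)).isEmbedding.injective
    have hmem : ∀ c, f (f.fiberι (f x) c) = f x := fun c => by
      have : f.fiberι (f x) c ∈ Set.range (f.fiberι (f x)) := ⟨c, rfl⟩
      rwa [f.range_fiberι] at this
    exact h _ _ (hmem a) (hmem b) (hab.map (f.fiberι (f x)).continuous)
  obtain ⟨_, ⟨U, hU, rfl⟩, hxU, -⟩ := (f.fiber (f x)).isBasis_affineOpens.exists_subset_of_mem_open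
    (Set.mem_univ (f.asFiber x)) isOpen_univ
  change (f.fiber (f x)).Opens at U
  haveI : IsAffine U := hU
  haveI : IsLocallyNoetherian U.toScheme := isLocallyNoetherian_of_isOpenImmersion U.ι
  haveI : IsNoetherian U.toScheme := {}
  haveI : JacobsonSpace U.toScheme := JacobsonSpace.of_isOpenEmbedding U.ι.isOpenEmbedding
  haveI : Finite U.toScheme := by
    have hgen : ∀ z : U.toScheme, z ∈ genericPoints U.toScheme := fun z => by
      obtain ⟨ξ, hξ, hs⟩ := Groth.L19.GenericIso.exists_generic_specializes z
      have h1 : U.ι ξ = U.ι z := hspec _ _ (hs.map U.ι.continuous)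
      have h2 : ξ = z := U.ι.isEmbedding.injective h1
      exact h2 ▸ hξ
    have := genericPoints.finite (α := U.toScheme)
      (NoetherianSpace.finite_irreducibleComponents)
    exact Set.finite_univ_iff.mp (this.subset fun z _ => hgen z)
  have h1 : IsOpen ({⟨f.asFiber x, hxU⟩} : Set U.toScheme) := isOpen_discrete _
  have h2 := U.ι.isOpenEmbedding.isOpenMap _ h1
  rwa [Set.image_singleton] at h2

/-- A morphism all whose points are quasi-finite is locally quasi-finite. -/
theorem locallyQuasiFinite_of_forall (h : ∀ x, f.QuasiFiniteAt x) : LocallyQuasiFinite f := by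
  rw [locallyQuasiFinite_iff_isDiscrete_preimage_singleton]
  intro y
  rw [isDiscrete_iff_discreteTopology, discreteTopology_iff_forall_isOpen]
  intro S
  rw [← Set.biUnion_of_singleton S]
  refine isOpen_biUnion fun z _ => ?_
  obtain ⟨z, rfl⟩ := z
  have h1 := (Scheme.Hom.quasiFiniteAt_iff_isOpen_singleton_asFiber.mp (h z))
  rw [← (f.fiberHomeo (f z)).isOpen_image, Set.image_singleton] at h1
  simpa [Scheme.Hom.asFiber] using h1

/-- Finite over a neighbourhood of a generic point with finite fibre inside an affine open. -/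
theorem exists_affine_nhd_isFinite [QuasiCompact f] {η : Y} (hmin : ∀ y : Y, y ⤳ η → y = η)
    (hfin : (f ⁻¹' {η}).Finite) (A : X.Opens) (hA : IsAffineOpen A) (hfA : f ⁻¹' {η} ⊆ A) :
    ∃ V : Y.Opens, IsAffineOpen V ∧ η ∈ V ∧ IsFinite (f ∣_ V) := by
  obtain ⟨V, hηV, hV⟩ := Groth.L19.GenericIso.exists_nhd_avoid f (η := η)
    (Z := ((A ⊓ f.quasiFiniteLocus : X.Opens) : Set X)ᶜ) (A ⊓ f.quasiFiniteLocus).isOpen.isClosed_compl
    fun z hz hs => by
      have he : f z = η := hmin _ hs
      exact hz ⟨hfA he, quasiFiniteAt_of_finite_fibre f z (he ▸ hfin)⟩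
  have hle : f ⁻¹ᵁ V ≤ A ⊓ f.quasiFiniteLocus := fun z hz => by
    by_contra h
    exact hV z h hz
  haveI : LocallyQuasiFinite (f ∣_ V) := by
    refine locallyQuasiFinite_of_forall _ fun z => ?_
    have h1 : f.QuasiFiniteAt z.1 := (hle z.2).2
    rw [← Scheme.Hom.quasiFiniteAt_comp_iff (g := V.ι), morphismRestrict_ι,
      Scheme.Hom.quasiFiniteAt_comp_iff_of_isOpenImmersion]
    exact h1
  haveI : IsSeparated (f ∣_ V) := by
    haveI : IsAffine A := hA
    haveI : IsSeparated ((f ∣_ V) ≫ terminal.from V.toScheme) := by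
      rw [show (f ∣_ V) ≫ terminal.from _ = X.homOfLE (hle.trans inf_le_left) ≫ terminal.from _ from
        terminalIsTerminal.hom_ext _ _]
      infer_instance
    exact IsSeparated.of_comp _ (terminal.from V.toScheme)
  obtain ⟨O, hηO, hO⟩ := Groth.L23.Gen.exists_finite_nhd (f ∣_ V) (η := ⟨η, hηV⟩) fun y hy =>
    Subtype.ext (hmin _ (hy.map V.ι.continuous))
  obtain ⟨_, ⟨W, hW, rfl⟩, hηW, hWO⟩ := Y.isBasis_affineOpens.exists_subset_of_mem_open
    (show η ∈ V.ι ''ᵁ O from ⟨⟨η, hηV⟩, hηO, rfl⟩) (V.ι ''ᵁ O).isOpen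
  refine ⟨W, hW, hηW, ?_⟩
  have h2 : IsFinite (f ∣_ (V.ι ''ᵁ O)) :=
    (MorphismProperty.arrow_mk_iso_iff @IsFinite (morphismRestrictRestrict f V O)).mp hO
  have h3 := IsZariskiLocalAtTarget.restrict (P := @IsFinite) h2 ((V.ι ''ᵁ O).ι ⁻¹ᵁ W)
  refine (MorphismProperty.arrow_mk_iso_iff @IsFinite (morphismRestrictRestrict f _ _ ≪≫
    eqToIso (by rw [Scheme.Hom.image_preimage_eq_opensRange_inf, Scheme.Opens.opensRange_ι,
      inf_eq_right.mpr (show W ≤ V.ι ''ᵁ O from hWO)]))).mp h3

omit [LocallyOfFiniteType f] in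
/-- For integral schemes, a point over the generic point is generic if the extension is algebraic. -/
theorem eq_genericPoint_of_finite [IsIntegral X] [IsIntegral Y]
    (hξ : f (genericPoint X) = genericPoint Y)
    (hA : letI := (f.residueFieldMap (genericPoint X)).hom.toAlgebra
      Module.Finite (Y.residueField (f (genericPoint X))) (X.residueField (genericPoint X)))
    {x : X} (hx : f x = genericPoint Y) : x = genericPoint X := by
  letI := (f.residueFieldMap (genericPoint X)).hom.toAlgebra
  haveI : Module.Finite (Y.residueField (f (genericPoint X))) (X.residueField (genericPoint X)) := hA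
  obtain ⟨_, ⟨V, hV, rfl⟩, hxV, -⟩ := Y.isBasis_affineOpens.exists_subset_of_mem_open
    (Set.mem_univ (f x)) isOpen_univ
  obtain ⟨_, ⟨U, hU, rfl⟩, hxU, hUV : U ≤ f ⁻¹ᵁ V⟩ :=
    X.isBasis_affineOpens.exists_subset_of_mem_open hxV (f ⁻¹ᵁ V).2
  replace hU : IsAffineOpen U := hU
  replace hV : IsAffineOpen V := hV
  haveI : Nonempty U := ⟨⟨x, hxU⟩⟩
  haveI : Nonempty V := ⟨⟨f x, hxV⟩⟩
  have hη : genericPoint X ∈ U :=
    ((genericPoint_spec X).mem_open_set_iff U.isOpen).mpr ⟨x, trivial, hxU⟩
  have hηV : f (genericPoint X) ∈ V := hUV hη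
  let ev := Y.evaluation V (f (genericPoint X)) hηV
  letI := ev.hom.toAlgebra
  letI : Algebra Γ(Y, V) (X.residueField (genericPoint X)) :=
    (ev ≫ f.residueFieldMap (genericPoint X)).hom.toAlgebra
  haveI : IsScalarTower Γ(Y, V) (Y.residueField (f (genericPoint X)))
      (X.residueField (genericPoint X)) := IsScalarTower.of_algebraMap_eq' rfl
  have hbij : Function.Bijective (Y.residue (f (genericPoint X))) := by
    have key : ∀ z : Y, z = genericPoint Y → Function.Bijective (Y.residue z) := by
      rintro z rfl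
      refine ⟨(injective_iff_map_eq_zero (Y.residue (genericPoint Y)).hom).2 fun a ha => ?_,
        Y.residue_surjective _⟩
      by_contra h0
      have hu : IsUnit (show Y.functionField from a) := isUnit_iff_ne_zero.2 h0
      exact not_isUnit_zero (ha ▸ (RingHom.isUnit_map (Y.residue (genericPoint Y)).hom hu))
    exact key _ hξ
  haveI : IsFractionRing Γ(Y, V) (Y.residueField (f (genericPoint X))) := by
    letI : Algebra Γ(Y, V) (Y.presheaf.stalk (f (genericPoint X))) :=
      (Y.presheaf.germ V _ hηV).hom.toAlgebra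
    haveI : IsFractionRing Γ(Y, V) (Y.presheaf.stalk (f (genericPoint X))) := by
      have key : ∀ y : Y, y = genericPoint Y → ∀ hy : y ∈ V,
          @IsFractionRing Γ(Y, V) _ (Y.presheaf.stalk y) _ (Y.presheaf.germ V y hy).hom.toAlgebra := by
        rintro y rfl hy
        exact functionField_isFractionRing_of_isAffineOpen Y V hV
      exact key _ hξ hηV
    let e : Y.presheaf.stalk (f (genericPoint X)) ≃ₐ[Γ(Y, V)] Y.residueField (f (genericPoint X)) :=
      AlgEquiv.ofBijective
        { toRingHom := (Y.residue (f (genericPoint X))).hom, commutes' := fun a => rfl } hbij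
    exact IsLocalization.isLocalization_of_algEquiv _ e
  let ψ : Γ(X, U) →+* X.residueField (genericPoint X) := (X.evaluation U _ hη).hom
  have hψ : Function.Injective ψ := by
    intro a b hab
    apply germ_injective_of_isIntegral X (genericPoint X) hη
    have hinj : Function.Injective (X.residue (genericPoint X)) := by
      refine (injective_iff_map_eq_zero (X.residue (genericPoint X)).hom).2 fun a ha => ?_
      by_contra h0
      have hu : IsUnit (show X.functionField from a) := isUnit_iff_ne_zero.2 h0
      exact not_isUnit_zero (ha ▸ (RingHom.isUnit_map (X.residue (genericPoint X)).hom hu))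
    exact hinj hab
  have hcomm : ∀ a : Γ(Y, V), ψ (f.appLE V U hUV a) =
      algebraMap Γ(Y, V) (X.residueField (genericPoint X)) a := by
    intro a
    show (f.appLE V U hUV ≫ X.evaluation U _ hη) a = (ev ≫ f.residueFieldMap (genericPoint X)) a
    refine ConcreteCategory.congr_hom ?_ a
    rw [show ev ≫ f.residueFieldMap (genericPoint X) = _ from
      Scheme.evaluation_naturality f (genericPoint X) hηV, Scheme.Hom.appLE, Category.assoc,
      ← X.germ_residue, ← X.germ_residue, TopCat.Presheaf.germ_res_assoc]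
  have h0 : (hU.primeIdealOf ⟨x, hxU⟩).asIdeal = ⊥ := by
    rw [eq_bot_iff]
    intro b hb
    by_contra hb0
    have hb0' : ψ b ≠ 0 := fun h => hb0 (hψ (h.trans (map_zero ψ).symm))
    letI : Algebra Γ(Y, V) Γ(X, U) := (f.appLE V U hUV).hom.toAlgebra
    have halg : IsAlgebraic Γ(Y, V) b := by
      have h1 : IsAlgebraic Γ(Y, V) (ψ b) :=
        (IsFractionRing.isAlgebraic_iff Γ(Y, V) (Y.residueField (f (genericPoint X)))
          (X.residueField (genericPoint X))).mpr (IsAlgebraic.of_finite _ _)
      let ψ' : Γ(X, U) →ₐ[Γ(Y, V)] X.residueField (genericPoint X) :=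
        { toRingHom := ψ, commutes' := hcomm }
      exact (isAlgebraic_algHom_iff ψ' hψ).mp h1
    obtain ⟨r, hr, hdvd⟩ := halg.exists_nonzero_dvd (mem_nonZeroDivisors_of_ne_zero hb0)
    have hrq : f.appLE V U hUV r ∈ (hU.primeIdealOf ⟨x, hxU⟩).asIdeal :=
      Ideal.mem_of_dvd _ hdvd hb
    have hrp : r ∈ (hV.primeIdealOf ⟨f x, hxV⟩).asIdeal := by
      rw [← IsAffineOpen.comap_primeIdealOf_appLE V hV U hU hUV hxU]
      exact hrq
    have hp0 : (hV.primeIdealOf ⟨f x, hxV⟩).asIdeal = ⊥ := by
      have key : ∀ z : Y, z = genericPoint Y → ∀ hz : z ∈ V,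
          (hV.primeIdealOf ⟨z, hz⟩).asIdeal = ⊥ := by
        rintro z rfl hz
        have h2 := hV.primeIdealOf_genericPoint
        exact congrArg PrimeSpectrum.asIdeal (h2.trans (genericPoint_eq_bot_of_affine _))
      exact key _ hx hxV
    rw [hp0] at hrp
    exact hr hrp
  have h1 : (hU.primeIdealOf ⟨x, hxU⟩).asIdeal = (hU.primeIdealOf ⟨genericPoint X, hη⟩).asIdeal :=
    h0.trans (congrArg PrimeSpectrum.asIdeal
      ((hU.primeIdealOf_genericPoint).trans (genericPoint_eq_bot_of_affine _))).symm
  have h2 := congrArg hU.fromSpec (PrimeSpectrum.ext h1)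
  rwa [hU.fromSpec_primeIdealOf, hU.fromSpec_primeIdealOf] at h2

omit [LocallyOfFiniteType f] in
/-- For integral schemes, quasi-finiteness at the generic point gives a finite extension. -/
theorem finite_residueField_of_quasiFiniteAt [IsIntegral X] [IsIntegral Y]
    (hξ : f (genericPoint X) = genericPoint Y) (hq : f.QuasiFiniteAt (genericPoint X)) :
    letI := (f.residueFieldMap (genericPoint X)).hom.toAlgebra
    Module.Finite (Y.residueField (f (genericPoint X))) (X.residueField (genericPoint X)) := by
  letI := (f.stalkMap (genericPoint X)).hom.toAlgebra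
  haveI : IsArtinianRing (Y.presheaf.stalk (f (genericPoint X))) := by
    have key : ∀ z : Y, z = genericPoint Y → IsArtinianRing (Y.presheaf.stalk z) := by
      rintro z rfl
      exact inferInstanceAs (IsArtinianRing Y.functionField)
    exact key _ hξ
  haveI : Algebra.QuasiFinite (Y.presheaf.stalk (f (genericPoint X)))
      (X.presheaf.stalk (genericPoint X)) := hq
  haveI : Module.Finite (Y.presheaf.stalk (f (genericPoint X)))
      (X.presheaf.stalk (genericPoint X)) := Module.Finite.of_quasiFinite
  letI := (f.residueFieldMap (genericPoint X)).hom.toAlgebra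
  letI := (Y.residue (f (genericPoint X))).hom.toAlgebra
  letI : Algebra (Y.presheaf.stalk (f (genericPoint X))) (X.residueField (genericPoint X)) :=
    (f.stalkMap (genericPoint X) ≫ X.residue (genericPoint X)).hom.toAlgebra
  haveI : IsScalarTower (Y.presheaf.stalk (f (genericPoint X)))
      (Y.residueField (f (genericPoint X))) (X.residueField (genericPoint X)) :=
    IsScalarTower.of_algebraMap_eq fun a =>
      (ConcreteCategory.congr_hom (Scheme.residue_residueFieldMap f (genericPoint X)) a).symm
  let π : X.presheaf.stalk (genericPoint X) →ₐ[Y.presheaf.stalk (f (genericPoint X))]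
      X.residueField (genericPoint X) :=
    { toRingHom := (X.residue (genericPoint X)).hom, commutes' := fun a => rfl }
  haveI : Module.Finite (Y.presheaf.stalk (f (genericPoint X))) (X.residueField (genericPoint X)) :=
    Module.Finite.of_surjective π.toLinearMap (X.residue_surjective _)
  exact Module.Finite.of_restrictScalars_finite (Y.presheaf.stalk (f (genericPoint X))) _ _

end Groth.L19.GenericFinite
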