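import Groth.Agent.L05.Point.BaseChange

/-!
# The smooth locus: fibres and base change
-/

set_option autoImplicit false
set_option linter.style.haveILetI false
set_option backward.isDefEq.respectTransparency.types false
universe u

open CategoryTheory CategoryTheory.Limits AlgebraicGeometry

namespace Groth.L19.SmoothLocus

open Groth.L05.Point

variable {X S : Scheme.{u}} (f : X ⟶ S) [LocallyOfFinitePresentation f]

theorem mem_iff_nhd (x : X) : x ∈ f.smoothLocus ↔ Nhd @Smooth f x := by
  constructor
  · intro hx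
    refine ⟨f.smoothLocus, hx, ?_⟩
    rw [← Scheme.Hom.smoothLocus_eq_top_iff, ← Scheme.Hom.preimage_smoothLocus_eq]
    exact Scheme.Opens.ι_preimage_self _
  · rintro ⟨U, hxU, hU⟩
    have h : (⟨x, hxU⟩ : U.toScheme) ∈ (U.ι ≫ f).smoothLocus := by
      rw [Scheme.Hom.smoothLocus_eq_top]; trivial
    rwa [← Scheme.Hom.preimage_smoothLocus_eq] at h

theorem fiber_smooth_of_nhd (s : S) {w : f.fiber s} (h : Nhd @Smooth f (f.fiberι s w)) :
    Nhd @Smooth (f.fiberToSpecResidueField s) w :=
  nhd_of_isPullback (IsPullback.of_hasPullback f (S.fromSpecResidueField s)) w h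

theorem nhd_of_fiber (s : S) {w : f.fiber s} (hflat : (f.stalkMap (f.fiberι s w)).hom.Flat)
    (h : Nhd @Smooth (f.fiberToSpecResidueField s) w) : Nhd @Smooth f (f.fiberι s w) := by
  obtain ⟨x, hx⟩ : ∃ x, x = f.fiberι s w := ⟨_, rfl⟩
  have e : f x = s := by
    have : f.fiberι s w ∈ Set.range (f.fiberι s) := ⟨w, rfl⟩
    rw [Scheme.Hom.range_fiberι] at this
    rw [hx]; exact this
  subst e
  have hw : w = f.asFiber x :=
    (f.fiberι _).isEmbedding.injective (hx.symm.trans (f.fiberι_asFiber x).symm)
  rw [← hx] at hflat ⊢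
  exact nhd_smooth_of_fiber f x hflat (hw ▸ h)

theorem baseChange_iff {X' S' : Scheme.{u}} {g : S' ⟶ S} {f' : X' ⟶ S'} {g' : X' ⟶ X}
    (h : IsPullback g' f' f g) [LocallyOfFinitePresentation f'] (hflat : Flat f ∨ Flat g) (z : X') :
    Nhd @Smooth f' z ↔ Nhd @Smooth f (g' z) := by
  refine ⟨fun hz => ?_, nhd_of_isPullback h z⟩
  rcases hflat with hf | hg
  swap
  · exact nhd_smooth_of_isPullback h hz
  let s' := f' z
  let s := g s'
  let r : Spec (S'.residueField s') ⟶ Spec (S.residueField s) := Spec.map (g.residueFieldMap s')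
  have hr : r ≫ S.fromSpecResidueField s = S'.fromSpecResidueField s' ≫ g :=
    Scheme.Hom.SpecMap_residueFieldMap_fromSpecResidueField g s'
  have B := IsPullback.of_hasPullback f (S.fromSpecResidueField s)
  have A' := (IsPullback.of_hasPullback f' (S'.fromSpecResidueField s')).paste_horiz h
  let q : f'.fiber s' ⟶ f.fiber s :=
    B.lift (f'.fiberι s' ≫ g') (f'.fiberToSpecResidueField s' ≫ r)
      (by rw [Category.assoc, Category.assoc, hr]; exact A'.w)
  have hq : IsPullback q (f'.fiberToSpecResidueField s') (f.fiberToSpecResidueField s) r := by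
    refine IsPullback.of_right ?_ (B.lift_snd _ _ _) B
    erw [B.lift_fst]
    rw [hr]
    exact A'
  haveI : LocallyOfFinitePresentation (f.fiberToSpecResidueField s) :=
    MorphismProperty.pullback_snd _ _ inferInstance
  haveI : Flat r := inferInstance
  have h1 : f'.fiberι s' (f'.asFiber z) = z := f'.fiberι_asFiber z
  have h2 := nhd_smooth_of_isPullback hq
    (fiber_smooth_of_nhd f' s' (w := f'.asFiber z) (h1.symm ▸ hz))
  have h3 : f.fiberι s (q (f'.asFiber z)) = g' z := by
    rw [← Scheme.Hom.comp_apply]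
    erw [B.lift_fst]
    rw [Scheme.Hom.comp_apply, h1]
  rw [← h3]
  exact nhd_of_fiber f s (Flat.stalkMap f _) h2

end Groth.L19.SmoothLocus
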