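import Mathlib.AlgebraicGeometry.Morphisms.Immersion
import Mathlib.AlgebraicGeometry.Morphisms.ClosedImmersion

/-!
A morphism from a reduced scheme with image inside the image of an immersion factors through it.
-/

noncomputable section

namespace Groth.L19

open CategoryTheory AlgebraicGeometry Limits

universe u

theorem exists_lift_of_isImmersion {X Y T : Scheme.{u}} (f : Y ⟶ X) [IsImmersion f] [IsReduced T]
    (g : T ⟶ X) (h : Set.range g ⊆ Set.range f) : ∃ l : T ⟶ Y, l ≫ f = g := by
  have h' : Set.range g ⊆ Set.range f.coborderRange.ι := by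
    rw [Scheme.Opens.range_ι]
    exact h.trans subset_coborder
  set g' := IsOpenImmersion.lift f.coborderRange.ι g h'
  have : Surjective (pullback.snd f.liftCoborder g') := ⟨fun t => by
    obtain ⟨y, hy⟩ := h ⟨t, rfl⟩
    have e : f.liftCoborder y = g' t := f.coborderRange.ι.isOpenEmbedding.injective (by
      rw [← Scheme.Hom.comp_apply, ← Scheme.Hom.comp_apply, f.liftCoborder_ι,
        IsOpenImmersion.lift_fac, hy])
    obtain ⟨w, -, hw⟩ := Scheme.Pullback.exists_preimage_pullback y t e
    exact ⟨w, hw⟩⟩
  have : IsIso (pullback.snd f.liftCoborder g') := isIso_of_isClosedImmersion_of_surjective _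
  refine ⟨inv (pullback.snd f.liftCoborder g') ≫ pullback.fst f.liftCoborder g', ?_⟩
  refine (congrArg _ f.liftCoborder_ι.symm).trans ?_
  rw [Category.assoc, ← Category.assoc (pullback.fst _ _), pullback.condition, Category.assoc,
    IsIso.inv_hom_id_assoc, IsOpenImmersion.lift_fac]

end Groth.L19
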