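import Groth.Agent.L18.TildeFunctor
import Groth.Agent.L00.LocalData
import Groth.Agent.L16.CohKernel
import Mathlib.AlgebraicGeometry.Morphisms.Flat
import Mathlib.RingTheory.Flat.FaithfullyFlat.Basic

/-!
# Charts for pullbacks of quasi-coherent modules; descent of finite type
-/

set_option autoImplicit false
set_option linter.style.haveILetI false
set_option backward.isDefEq.respectTransparency.types false
set_option backward.isDefEq.respectTransparency false

universe u

open CategoryTheory CategoryTheory.Limits AlgebraicGeometry TensorProduct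

noncomputable section

namespace Groth.L19.PullChart

variable {X' X : Scheme.{u}}

/-- On compatible affine charts the pullback is `tilde` of the base change. -/
theorem nonempty_chart_pullback (f : X' ⟶ X) (M : X.Modules) {R S : CommRingCat.{u}} (φ : R ⟶ S)
    (j : Spec R ⟶ X) [IsOpenImmersion j] (k : Spec S ⟶ X') [IsOpenImmersion k]
    (w : k ≫ f = Spec.map φ ≫ j) (N : ModuleCat.{u} R) (e : M.restrict j ≅ tilde N) :
    Nonempty (((Scheme.Modules.pullback f).obj M).restrict k ≅
      tilde ((ModuleCat.extendScalars φ.hom).obj N)) :=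
  ⟨(Scheme.Modules.restrictFunctorIsoPullback k).app _ ≪≫ (Scheme.Modules.pullbackComp k f).app M ≪≫
    (Scheme.Modules.pullbackCongr w).app M ≪≫ ((Scheme.Modules.pullbackComp (Spec.map φ) j).app M).symm ≪≫
    (Scheme.Modules.pullback (Spec.map φ)).mapIso
      (((Scheme.Modules.restrictFunctorIsoPullback j).app M).symm ≪≫ e) ≪≫
    (Groth.L18.TildeF.pullbackTildeIso φ).app N⟩

/-- Finite generation descends along a jointly surjective finite family of flat algebras. -/
theorem finite_of_jointlySurjective {R : Type u} [CommRing R] {ι : Type u} [Finite ι] (B : ι → Type u)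
    [∀ i, CommRing (B i)] [∀ i, Algebra R (B i)] [∀ i, Module.Flat R (B i)]
    (hsurj : ∀ p : PrimeSpectrum R, ∃ i q, PrimeSpectrum.comap (algebraMap R (B i)) q = p)
    (N : Type u) [AddCommGroup N] [Module R N] [∀ i, Module.Finite (B i) (B i ⊗[R] N)] :
    Module.Finite R N := by
  classical
  have hgen : ∀ i, ∃ s : Finset N, Submodule.span (B i) ((fun n => (1 : B i) ⊗ₜ[R] n) '' (s : Set N)) = ⊤ := by
    intro i
    obtain ⟨t, ht⟩ := Module.Finite.fg_top (R := B i) (M := B i ⊗[R] N)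
    have hS : ∀ z : B i ⊗[R] N, ∃ s : Finset N,
        z ∈ Submodule.span (B i) ((fun n => (1 : B i) ⊗ₜ[R] n) '' (s : Set N)) := by
      intro z
      induction z using TensorProduct.induction_on with
      | zero => exact ⟨∅, zero_mem _⟩
      | tmul b n =>
        refine ⟨{n}, ?_⟩
        rw [show b ⊗ₜ[R] n = b • ((1 : B i) ⊗ₜ[R] n) from by rw [smul_tmul', smul_eq_mul, mul_one]]
        exact Submodule.smul_mem _ _ (Submodule.subset_span ⟨n, by simp, rfl⟩)
      | add a b ha hb =>
        obtain ⟨s, hs⟩ := ha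
        obtain ⟨s', hs'⟩ := hb
        exact ⟨s ∪ s', add_mem
          (Submodule.span_mono (Set.image_mono (by simp)) hs)
          (Submodule.span_mono (Set.image_mono (by simp)) hs')⟩
    choose S hS using hS
    refine ⟨t.biUnion S, eq_top_iff.mpr ?_⟩
    rw [← ht, Submodule.span_le]
    intro z hz
    exact Submodule.span_mono (Set.image_mono (by
      intro n hn; exact Finset.mem_biUnion.mpr ⟨z, hz, hn⟩)) (hS z)
  choose s hs using hgen
  have := Fintype.ofFinite ι
  refine ⟨⟨Finset.univ.biUnion s, ?_⟩⟩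
  by_contra hne
  set P := Submodule.span R ((Finset.univ.biUnion s : Finset N) : Set N) with hP
  obtain ⟨n, -, hn⟩ := SetLike.exists_of_lt (lt_top_iff_ne_top.mpr hne)
  let g : R →ₗ[R] N ⧸ P := LinearMap.toSpanSingleton R _ (P.mkQ n)
  have hg0 : LinearMap.ker g ≠ ⊤ := fun h => hn (by
    have h1 : (1 : R) ∈ LinearMap.ker g := h ▸ Submodule.mem_top
    simpa [g] using h1)
  obtain ⟨m, hm, hIm⟩ := Ideal.exists_le_maximal _ hg0
  obtain ⟨i, q, hq⟩ := hsurj ⟨m, hm.isPrime⟩
  have hzero : ∀ z : B i ⊗[R] (N ⧸ P), z = 0 := by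
    intro z
    obtain ⟨w, rfl⟩ := LinearMap.lTensor_surjective (B i) P.mkQ_surjective z
    have hw : w ∈ Submodule.span (B i) ((fun n => (1 : B i) ⊗ₜ[R] n) '' (s i : Set N)) :=
      (hs i).symm ▸ Submodule.mem_top
    induction hw using Submodule.span_induction with
    | mem x hx =>
      obtain ⟨n', hn', rfl⟩ := hx
      rw [LinearMap.lTensor_tmul, show P.mkQ n' = 0 from (Submodule.Quotient.mk_eq_zero _).mpr
        (Submodule.subset_span (Finset.mem_biUnion.mpr ⟨i, Finset.mem_univ _, hn'⟩)), tmul_zero]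
    | zero => exact map_zero _
    | add x y _ _ hx hy => rw [map_add, hx, hy, add_zero]
    | smul b x _ hx =>
      have h1 : P.mkQ.lTensor (B i) (b • x) = b • P.mkQ.lTensor (B i) x :=
        (TensorProduct.AlgebraTensorModule.lTensor (B i) (B i) P.mkQ).map_smul b x
      rw [h1, hx, smul_zero]
  let gq : (R ⧸ LinearMap.ker g) →ₗ[R] N ⧸ P := (LinearMap.ker g).liftQ g le_rfl
  have hgq : Function.Injective gq := by
    rw [← LinearMap.ker_eq_bot]
    exact Submodule.ker_liftQ_eq_bot _ _ le_rfl le_rfl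
  have hsub : Subsingleton (B i ⊗[R] (R ⧸ LinearMap.ker g)) :=
    ⟨fun a b => Module.Flat.lTensor_preserves_injective_linearMap (M := B i) gq hgq
      ((hzero _).trans (hzero _).symm)⟩
  have htop : (LinearMap.ker g) • (⊤ : Submodule R (B i)) = ⊤ :=
    Submodule.Quotient.subsingleton_iff.mp
      (TensorProduct.tensorQuotEquivQuotSMul (B i) (LinearMap.ker g)).symm.toEquiv.subsingleton
  have h1 : (1 : B i) ∈ (LinearMap.ker g) • (⊤ : Submodule R (B i)) := htop.ge Submodule.mem_top
  refine q.2.ne_top ((Ideal.eq_top_iff_one _).mpr ?_)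
  refine Submodule.smul_induction_on h1 (fun a ha b _ => ?_) fun a b => add_mem
  rw [Algebra.smul_def]
  exact q.asIdeal.mul_mem_right _ ((congrArg PrimeSpectrum.asIdeal hq).ge (hIm ha) :)

/-- Finite type of a quasi-coherent module descends along quasi-compact faithfully flat morphisms. -/
theorem isCoh_of_pullback (f : X' ⟶ X) [Flat f] [Surjective f] [QuasiCompact f] (M : X.Modules)
    [Coh.IsQCoh M] (h : Coh.IsCoh ((Scheme.Modules.pullback f).obj M)) : Coh.IsCoh M := by
  haveI : Coh.IsQCoh ((Scheme.Modules.pullback f).obj M) := h.1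
  refine Groth.L16.CohKernel.isCoh_of_tilde_charts M fun x => ?_
  obtain ⟨_, ⟨U, hU, rfl⟩, hxU, -⟩ :=
    X.isBasis_affineOpens.exists_subset_of_mem_open (Set.mem_univ x) isOpen_univ
  replace hU : IsAffineOpen U := hU
  obtain ⟨N, ⟨e⟩⟩ := Groth.L00.Local.exists_tilde_iso_restrict hU.fromSpec M
  refine ⟨_, hU.fromSpec, inferInstance, N, ?_, ?_, ⟨e⟩⟩
  · rw [hU.opensRange_fromSpec]; exact hxU
  obtain ⟨T, hT, hcov⟩ := isCompact_iff_finite_and_eq_biUnion_affineOpens.mp
    (f.isCompact_preimage hU.isCompact)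
  have hle : ∀ W ∈ T, (W.1 : X'.Opens) ≤ f ⁻¹ᵁ U := fun W hW =>
    (le_iSup₂ (f := fun (W : X'.affineOpens) (_ : W ∈ T) => (W : X'.Opens)) W hW).trans hcov.ge
  haveI : Finite T := hT.to_subtype
  letI : ∀ W : T, Algebra Γ(X, U) Γ(X', W.1.1) := fun W => (f.appLE U W.1.1 (hle W.1 W.2)).hom.toAlgebra
  haveI : ∀ W : T, Module.Flat Γ(X, U) Γ(X', W.1.1) := fun W =>
    HasRingHomProperty.appLE (P := @Flat) f ‹Flat f› ⟨U, hU⟩ W.1 (hle W.1 W.2)
  haveI : ∀ W : T, Module.Finite Γ(X', W.1.1) (Γ(X', W.1.1) ⊗[Γ(X, U)] N) := fun W => by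
    obtain ⟨e'⟩ := nonempty_chart_pullback f M (f.appLE U W.1.1 (hle W.1 W.2)) hU.fromSpec
      W.1.2.fromSpec (hU.SpecMap_appLE_fromSpec f W.1.2 (hle W.1 W.2)).symm N e
    haveI := Groth.L16.CohKernel.finite_of_tilde_iso _ h.2 W.1.2.fromSpec _ e'
    obtain ⟨e''⟩ := Groth.L18.TildeF.extendScalars_equiv (S := Γ(X', W.1.1)) N
    exact Module.Finite.equiv e''
  refine finite_of_jointlySurjective (fun W : T => Γ(X', W.1.1)) (fun p => ?_) N
  obtain ⟨x', hx'⟩ := f.surjective (hU.fromSpec p)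
  have hx'U : x' ∈ f ⁻¹ᵁ U := by
    show f x' ∈ U
    rw [hx']; exact hU.range_fromSpec.le ⟨p, rfl⟩
  obtain ⟨W, hW'⟩ := TopologicalSpace.Opens.mem_iSup.mp (hcov.le hx'U)
  obtain ⟨hW, hxW⟩ := TopologicalSpace.Opens.mem_iSup.mp hW'
  refine ⟨⟨W, hW⟩, W.2.primeIdealOf ⟨x', hxW⟩, hU.fromSpec.isOpenEmbedding.injective ?_⟩
  have h1 := congr($(hU.SpecMap_appLE_fromSpec f W.2 (hle W hW)) (W.2.primeIdealOf ⟨x', hxW⟩))
  rw [Scheme.Hom.comp_apply, Scheme.Hom.comp_apply] at h1
  erw [W.2.fromSpec_primeIdealOf] at h1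
  exact h1.trans hx'

end Groth.L19.PullChart
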