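import Groth.Agent.L19.PerfectHom
import Groth.Agent.L10.DRing.RegularGap
import Groth.Agent.L07.GeomReducedDescent
import Groth.Agent.L29.K.KoszulRes
import Groth.Agent.L04.Koszul.Vanish
import Groth.Prelude.Def_LCI2
import Mathlib.RingTheory.RegularLocalRing.Polynomial

/-!
# Classes of perfect ring maps: flat of finite presentation, finite type over regular, complete intersections
-/

set_option autoImplicit false
set_option linter.style.haveILetI false
set_option backward.isDefEq.respectTransparency false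
universe u

open CategoryTheory CategoryTheory.Limits CategoryTheory.Pretriangulated TensorProduct

attribute [local instance] HasDerivedCategory.standard

namespace Groth.L19.PerfectHom

open Groth.L10.DR

variable {A B : Type u} [CommRing A] [CommRing B] [Algebra A B]

theorem isPseudoCoherentHom_of_finiteType [IsNoetherianRing A] [Algebra.FiniteType A B] :
    MoreMor.IsPseudoCoherentHom A B := by
  obtain ⟨n, φ, hφ⟩ := Algebra.FiniteType.iff_quotient_mvPolynomial''.mp (inferInstance : Algebra.FiniteType A B)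
  refine ⟨n, φ, hφ, ?_⟩
  letI := φ.toRingHom.toAlgebra
  haveI : Module.Finite (MvPolynomial (Fin n) A) B :=
    RingHom.Finite.of_surjective φ.toRingHom hφ
  exact pcModule'_noetherian B

theorem isPerfectHom_of_finiteType_of_regular [IsRegularRing A] [Algebra.FiniteType A B] :
    MoreMor.IsPerfectHom A B := by
  obtain ⟨n, φ, hφ⟩ := Algebra.FiniteType.iff_quotient_mvPolynomial''.mp (inferInstance : Algebra.FiniteType A B)
  refine isPerfectHom_iff.2 ⟨n, φ, hφ, ?_⟩
  letI := φ.toRingHom.toAlgebra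
  haveI : Module.Finite (MvPolynomial (Fin n) A) B :=
    RingHom.Finite.of_surjective φ.toRingHom hφ
  exact perfectModule_of_regular B

theorem isPerfectHom_of_flat [Module.Flat A B] [Algebra.FinitePresentation A B] : MoreMor.IsPerfectHom A B := by
  refine ⟨?_, 0, hasTorDimLE_zero_iff.2 inferInstance⟩
  obtain ⟨A₁, hA₁, B₁, _, _, _, _, ⟨e⟩⟩ := Groth.L07.FlatGeomReduced.exists_flat_model A B
  haveI := hA₁
  obtain ⟨n, ψ, hψ⟩ := Algebra.FiniteType.iff_quotient_mvPolynomial''.mp (inferInstance : Algebra.FiniteType A₁ B₁)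
  let φ : MvPolynomial (Fin n) A →ₐ[A] B := MvPolynomial.aeval fun i => e (1 ⊗ₜ ψ (MvPolynomial.X i))
  let ι : MvPolynomial (Fin n) A₁ →ₐ[A₁] MvPolynomial (Fin n) A :=
    MvPolynomial.mapAlgHom (Algebra.ofId A₁ A)
  have hι : ∀ p, φ (ι p) = e (1 ⊗ₜ ψ p) := fun p => by
    have : (φ.restrictScalars A₁).comp ι =
        ((e.restrictScalars A₁).toAlgHom.comp Algebra.TensorProduct.includeRight).comp ψ :=
      MvPolynomial.algHom_ext fun i => by simp [φ, ι]
    exact DFunLike.congr_fun this p
  have hφ : Function.Surjective φ := fun y => by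
    obtain ⟨z, rfl⟩ := e.surjective y
    induction z using TensorProduct.induction_on with
    | zero => exact ⟨0, by simp⟩
    | add u v hu hv =>
      obtain ⟨p, hp⟩ := hu
      obtain ⟨q, hq⟩ := hv
      exact ⟨p + q, by rw [map_add, map_add, hp, hq]⟩
    | tmul a c =>
      obtain ⟨p, rfl⟩ := hψ c
      refine ⟨a • ι p, ?_⟩
      rw [map_smul, hι, ← map_smul, smul_tmul', smul_eq_mul, mul_one]
  refine ⟨n, φ, hφ, Groth.L02.PC.pc'_of_forall fun m =>
    Groth.L02.PC.pc_mono (show -((-m).toNat : ℤ) ≤ m by omega) ?_⟩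
  letI := φ.toRingHom.toAlgebra
  haveI : IsScalarTower A (MvPolynomial (Fin n) A) B :=
    IsScalarTower.of_algebraMap_eq fun a => (φ.commutes a).symm
  letI := MvPolynomial.algebraMvPolynomial (R := A₁) (S := A) (σ := Fin n)
  letI := ψ.toRingHom.toAlgebra
  haveI : IsScalarTower A₁ (MvPolynomial (Fin n) A₁) B₁ :=
    IsScalarTower.of_algebraMap_eq fun a => (ψ.commutes a).symm
  haveI : Module.Finite (MvPolynomial (Fin n) A₁) B₁ :=
    RingHom.Finite.of_surjective ψ.toRingHom hψ
  haveI : Module.Free A₁ (MvPolynomial (Fin n) A₁) :=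
    Module.Free.of_basis (MvPolynomial.basisMonomials (Fin n) A₁)
  haveI : Module.Flat A₁ (MvPolynomial (Fin n) A₁) := Module.Flat.of_free
  have hpc := pc_baseChange (R := A₁) (C := A) (P := MvPolynomial (Fin n) A₁) (P' := MvPolynomial (Fin n) A)
    (-m).toNat B₁
  letI : Module (MvPolynomial (Fin n) A₁) B := Module.compHom B (algebraMap (MvPolynomial (Fin n) A₁) (MvPolynomial (Fin n) A))
  haveI : IsScalarTower (MvPolynomial (Fin n) A₁) (MvPolynomial (Fin n) A) B :=
    IsScalarTower.of_algebraMap_smul fun _ _ => rfl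
  have hmap : ∀ p, algebraMap (MvPolynomial (Fin n) A₁) (MvPolynomial (Fin n) A) p = ι p := fun p => rfl
  let g₀ : B₁ →ₗ[MvPolynomial (Fin n) A₁] B :=
    { toFun := fun c => e (1 ⊗ₜ c)
      map_add' := fun u v => by rw [tmul_add, map_add]
      map_smul' := fun p c => by
        show e (1 ⊗ₜ (ψ p * c)) = φ (algebraMap (MvPolynomial (Fin n) A₁) (MvPolynomial (Fin n) A) p) * e (1 ⊗ₜ c)
        rw [hmap, hι, ← map_mul, Algebra.TensorProduct.tmul_mul_tmul, one_mul] }
  let g := g₀.liftBaseChange (MvPolynomial (Fin n) A)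
  have hg : ∀ z, g ((Algebra.IsPushout.cancelBaseChange A₁ A (MvPolynomial (Fin n) A₁) (MvPolynomial (Fin n) A) B₁).symm z)
      = e z := fun z => by
    induction z using TensorProduct.induction_on with
    | zero => simp
    | add u v hu hv => simp only [map_add, hu, hv]
    | tmul a c =>
      simp only [Algebra.IsPushout.cancelBaseChange_symm_tmul, g, LinearMap.liftBaseChange_tmul]
      show φ (algebraMap A (MvPolynomial (Fin n) A) a) * e (1 ⊗ₜ c) = e (a ⊗ₜ c)
      rw [φ.commutes, ← Algebra.smul_def, ← map_smul, smul_tmul', smul_eq_mul, mul_one]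
  have hgb : Function.Bijective g :=
    (Function.Bijective.of_comp_iff _ (Algebra.IsPushout.cancelBaseChange A₁ A (MvPolynomial (Fin n) A₁)
      (MvPolynomial (Fin n) A) B₁).symm.bijective).mp
      (by rw [show g ∘ _ = e from funext hg]; exact e.bijective)
  exact Groth.L02.PC.pc_of_iso (inDIso (LinearEquiv.ofBijective g hgb)) hpc

/-- The Koszul complex is perfect. -/
theorem perfect_koszul {S : Type u} [CommRing S] :
    ∀ l : List S, DRing.IsPerfect S (DRing.toD (Koszul.koszul S l)) := by
  intro l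
  induction l with
  | nil => exact (Groth.L29.KoszulRes.exists_iso ([] : List S) (RingTheory.Sequence.IsWeaklyRegular.nil S S)).1
  | cons f l ih => exact Groth.L29.Perfect.third _ (Groth.L02.PC.mappingCone_distinguished (f • 𝟙 (Koszul.koszul S l))) ih ih

theorem perfect_quotient_of_koszulRegular {S : Type u} [CommRing S] (l : List S)
    (hl : LCI.IsKoszulRegularSeq S l) : DRing.IsPerfectModule S (S ⧸ Ideal.ofList l) := by
  let K := Koszul.koszul S l
  have hz : ∀ i : ℤ, i ≠ 0 → IsZero ((DerivedCategory.homologyFunctor (ModuleCat.{u} S) i).obj (DRing.toD K)) :=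
    fun i hi => (Groth.L02.PC.isZero_HH_Q_iff K i).2 (hl i hi)
  haveI : (DRing.toD K).IsGE 0 := (DerivedCategory.isGE_iff _ 0).2 fun i hi => hz i (by omega)
  haveI : (DRing.toD K).IsLE 0 := (DerivedCategory.isLE_iff _ 0).2 fun i hi => hz i (by omega)
  obtain ⟨Y, ⟨eY⟩⟩ := DerivedCategory.exists_iso_singleFunctor_obj_of_isGE_of_isLE (DRing.toD K) 0
  let e0 : Y ≅ ModuleCat.of S (S ⧸ Ideal.ofList l) :=
    ((DerivedCategory.singleFunctorCompHomologyFunctorIso (ModuleCat.{u} S) 0).app Y).symm ≪≫
      (DerivedCategory.homologyFunctor (ModuleCat.{u} S) 0).mapIso eY.symm ≪≫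
      (DerivedCategory.homologyFunctorFactors (ModuleCat.{u} S) 0).app K ≪≫
      (HomologicalComplex.homologyFunctor _ _ 0).mapIso (eqToIso (Groth.L04.Koszul.koszul_eq l)) ≪≫
      (Groth.L04.Koszul.topEquiv (ModuleCat.of S S) l).symm.toModuleIso ≪≫
      (Submodule.quotEquivOfEq (Ideal.ofList l • (⊤ : Submodule S S)) (Ideal.ofList l)
        (by rw [smul_eq_mul, Ideal.mul_top])).toModuleIso
  exact Groth.L29.Perfect.of_iso (eY ≪≫ (DerivedCategory.singleFunctor (ModuleCat.{u} S) 0).mapIso e0)
    (perfect_koszul l)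

theorem perfect_quotient_of_koszulRegularIdeal {S : Type u} [CommRing S] (I : Ideal S)
    (hI : LCI.IsKoszulRegularIdeal I) : DRing.IsPerfectModule S (S ⧸ I) := by
  classical
  have hloc : ∀ 𝔭 : PrimeSpectrum S, ∃ g : S, g ∉ 𝔭.asIdeal ∧
      DRing.IsPerfectModule (Localization.Away g) (Localization.Away g ⊗[S] (S ⧸ I)) := by
    intro 𝔭
    by_cases hle : I ≤ 𝔭.asIdeal
    · obtain ⟨g, hg, l, hl, hmap⟩ := hI 𝔭 hle
      refine ⟨g, hg, ?_⟩
      let f : Localization.Away g ⊗[S] (S ⧸ I) ≃ₐ[Localization.Away g] (Localization.Away g ⧸ Ideal.ofList l) :=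
        (Algebra.TensorProduct.quotIdealMapEquivTensorQuot (Localization.Away g) I).symm.trans
          (Ideal.quotientEquivAlgOfEq _ hmap)
      exact Groth.L29.Perfect.of_iso (inDIso f.toLinearEquiv).symm (perfect_quotient_of_koszulRegular l hl)
    · obtain ⟨g, hgI, hg⟩ := SetLike.not_le_iff_exists.mp hle
      refine ⟨g, hg, ?_⟩
      haveI : Subsingleton (Localization.Away g ⊗[S] (S ⧸ I)) := by
        refine subsingleton_of_forall_eq 0 fun z => ?_
        have h1 : ∀ z : Localization.Away g ⊗[S] (S ⧸ I), g • z = 0 := fun z => by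
          induction z using TensorProduct.induction_on with
          | zero => simp
          | add u v hu hv => rw [smul_add, hu, hv, add_zero]
          | tmul a q =>
            obtain ⟨q, rfl⟩ := Ideal.Quotient.mk_surjective q
            rw [← tmul_smul]
            show a ⊗ₜ[S] (Ideal.Quotient.mk I (g * q)) = 0
            rw [Ideal.Quotient.eq_zero_iff_mem.mpr (I.mul_mem_right q hgI), tmul_zero]
        have hu : IsUnit (algebraMap S (Localization.Away g) g) :=
          IsLocalization.Away.algebraMap_isUnit g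
        have h2 := h1 z
        rw [← algebraMap_smul (Localization.Away g) g z] at h2
        exact hu.smul_eq_zero.mp h2
      exact perfect_of_isZero ((DerivedCategory.singleFunctor _ 0).map_isZero
        (ModuleCat.isZero_of_subsingleton _))
  choose g hg hperf using hloc
  have hspan : Ideal.span (Set.range g) = ⊤ := by
    by_contra h
    obtain ⟨m, hm, hle⟩ := Ideal.exists_le_maximal _ h
    exact hg ⟨m, hm.isPrime⟩ (hle (Ideal.subset_span ⟨_, rfl⟩))
  obtain ⟨t, ht, hts⟩ : ∃ t : Finset S, (t : Set S) ⊆ Set.range g ∧ Ideal.span (t : Set S) = ⊤ := by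
    obtain ⟨t, ht, h1⟩ := Submodule.mem_span_finite_of_mem_span
      ((Ideal.eq_top_iff_one _).mp hspan)
    exact ⟨t, ht, (Ideal.eq_top_iff_one _).mpr h1⟩
  let f : Fin t.card → S := fun i => (t.equivFin.symm i : S)
  have hf : Ideal.span (Set.range f) = ⊤ := by
    rw [← hts]
    congr 1
    ext y
    exact ⟨fun ⟨i, hi⟩ => hi ▸ (t.equivFin.symm i).2, fun hy => ⟨t.equivFin ⟨y, hy⟩, by simp [f]⟩⟩
  let K := (CochainComplex.singleFunctor (ModuleCat.{u} S) 0).obj (ModuleCat.of S (S ⧸ I))
  refine Groth.L29.Perfect.of_iso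
    ((DerivedCategory.singleFunctorIsoCompQ (ModuleCat.{u} S) 0).app (ModuleCat.of S (S ⧸ I))).symm
    (Groth.L10.FlatDescent.perfect_descent (Groth.L10.FlatDescent.faithful_away f hf) K fun i => ?_)
  obtain ⟨e⟩ := Groth.L10.FlatDescent.exists_single_iso (R := S) (S := Localization.Away (f i)) (S ⧸ I)
  obtain ⟨𝔭, h𝔭⟩ := ht (t.equivFin.symm i).2
  refine Groth.L29.Perfect.of_iso e.symm ?_
  rw [show f i = g 𝔭 from h𝔭.symm]
  exact hperf 𝔭

theorem isPerfectHom_of_isLCI (h : LCI.IsLCI A B) : MoreMor.IsPerfectHom A B := by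
  obtain ⟨-, n, φ, hφ, hI⟩ := h
  refine isPerfectHom_iff.2 ⟨n, φ, hφ, ?_⟩
  letI := φ.toRingHom.toAlgebra
  let e : (MvPolynomial (Fin n) A ⧸ RingHom.ker φ.toRingHom) ≃ₐ[MvPolynomial (Fin n) A] B :=
    Ideal.quotientKerAlgEquivOfSurjective (f := Algebra.ofId (MvPolynomial (Fin n) A) B) hφ
  exact Groth.L29.Perfect.of_iso (inDIso e.toLinearEquiv) (perfect_quotient_of_koszulRegularIdeal _ hI)

end Groth.L19.PerfectHom
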