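import Mathlib.AlgebraicGeometry.Sites.Fpqc
import Mathlib.AlgebraicGeometry.Morphisms.Descent
import Mathlib.AlgebraicGeometry.Morphisms.Flat
import Mathlib.AlgebraicGeometry.Cover.QuasiCompact

/-!
# fpqc covering families

Tools to reduce statements about fpqc covering families to a single flat, surjective,
quasi-compact morphism over each affine open of the base.
-/

universe u

open CategoryTheory CategoryTheory.Limits AlgebraicGeometry MorphismProperty

namespace Groth.L19

section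

variable {S : Scheme.{u}} {ι : Type*} {X : ι → Scheme.{u}} {f : ∀ i, X i ⟶ S}

theorem fpqc_mem_iff :
    Presieve.ofArrows X f ∈ Scheme.fpqcPrecoverage S ↔
      Presieve.ofArrows X f ∈ Scheme.qcPrecoverage S ∧
      Presieve.ofArrows X f ∈ Scheme.precoverage @Flat S :=
  Iff.rfl

theorem flat_of_mem_fpqc (hf : Presieve.ofArrows X f ∈ Scheme.fpqcPrecoverage S) (i : ι) :
    Flat (f i) :=
  ((Scheme.ofArrows_mem_precoverage_iff _).mp (fpqc_mem_iff.mp hf).2).2 i

theorem exists_mem_range_of_mem_fpqc (hf : Presieve.ofArrows X f ∈ Scheme.fpqcPrecoverage S)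
    (s : S) : ∃ i x, f i x = s := by
  obtain ⟨i, hi⟩ := ((Scheme.ofArrows_mem_precoverage_iff _).mp (fpqc_mem_iff.mp hf).2).1 s
  exact ⟨i, hi⟩

/-- Over an affine open `U`, an fpqc family has a finite refinement by affine opens whose images
cover `U` exactly. -/
theorem exists_affineOpens_of_mem_fpqc (hf : Presieve.ofArrows X f ∈ Scheme.fpqcPrecoverage S)
    {U : S.Opens} (hU : IsAffineOpen U) :
    ∃ (n : ℕ) (a : Fin n → ι) (V : ∀ k, (X (a k)).Opens),
      (∀ k, IsAffineOpen (V k)) ∧ ⋃ k, f (a k) '' (V k : Set _) = (U : Set S) := by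
  haveI : QuasiCompactCover (PreZeroHypercover.mk ι X f) :=
    (Scheme.presieve₀_mem_qcPrecoverage_iff (E := PreZeroHypercover.mk ι X f)).mp
      (fpqc_mem_iff.mp hf).1
  exact QuasiCompactCover.exists_isAffineOpen_of_isCompact (PreZeroHypercover.mk ι X f) hU.isCompact

/-- Over an affine open `U`, an fpqc family induces a flat, surjective, quasi-compact morphism
`d : ∐ V k ⟶ U` from a finite disjoint union of affine opens of the members. -/
theorem exists_desc_of_mem_fpqc (hf : Presieve.ofArrows X f ∈ Scheme.fpqcPrecoverage S)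
    {U : S.Opens} (hU : IsAffineOpen U) :
    ∃ (n : ℕ) (a : Fin n → ι) (V : ∀ k, (X (a k)).Opens)
      (d : (∐ fun k => (V k : Scheme.{u})) ⟶ U),
      (∀ k, IsAffineOpen (V k)) ∧ Surjective d ∧ Flat d ∧ QuasiCompact d ∧
      ∀ k, Sigma.ι (fun k => (V k : Scheme.{u})) k ≫ d ≫ U.ι = (V k).ι ≫ f (a k) := by
  obtain ⟨n, a, V, hV, heq⟩ := exists_affineOpens_of_mem_fpqc hf hU
  have hsub : ∀ k, Set.range ((V k).ι ≫ f (a k)) ⊆ Set.range U.ι := fun k => by
    rintro _ ⟨x, rfl⟩
    rw [Scheme.Opens.range_ι, ← heq]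
    exact Set.mem_iUnion.mpr ⟨k, ⟨_, x.2, rfl⟩⟩
  let l : ∀ k, (V k : Scheme.{u}) ⟶ U :=
    fun k => IsOpenImmersion.lift U.ι ((V k).ι ≫ f (a k)) (hsub k)
  have hl : ∀ k, l k ≫ U.ι = (V k).ι ≫ f (a k) := fun k => IsOpenImmersion.lift_fac _ _ _
  refine ⟨n, a, V, Sigma.desc l, hV, ?_, ?_, ?_, fun k => by rw [Sigma.ι_desc_assoc]; exact hl k⟩
  · refine ⟨fun s => ?_⟩
    have hs : U.ι s ∈ (U : Set S) := s.2
    rw [← heq] at hs
    obtain ⟨k, x, hx, hxs⟩ := Set.mem_iUnion.mp hs
    refine ⟨Sigma.ι (fun k => (V k : Scheme.{u})) k ⟨x, hx⟩, U.ι.isOpenEmbedding.injective ?_⟩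
    rw [← Scheme.Hom.comp_apply, ← Scheme.Hom.comp_apply, Sigma.ι_desc_assoc, hl]
    exact hxs
  · have : ∀ k, Flat (l k) := fun k => by
      have := flat_of_mem_fpqc hf (a k)
      have h : Flat (l k ≫ U.ι) := by rw [hl]; infer_instance
      exact IsZariskiLocalAtTarget.of_isPullback (P := @Flat) (iY := U.ι)
        (IsPullback.of_horiz_isIso_mono (fst := 𝟙 _) ⟨by simp⟩).flip.flip h
    exact IsZariskiLocalAtSource.sigmaDesc (P := @Flat) this
  · haveI : ∀ k, IsAffine (V k : Scheme.{u}) := fun k => hV k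
    haveI : IsAffine (U : Scheme.{u}) := hU
    infer_instance

end

/-- If `P` holds for the base change of `f` along `g`, it holds for the base change along any
open immersion followed by `g`. -/
theorem pullback_snd_openImmersion (P : MorphismProperty Scheme.{u}) [IsZariskiLocalAtTarget P]
    {X Y Z W : Scheme.{u}} (f : X ⟶ Y) (g : Z ⟶ Y) (j : W ⟶ Z) [IsOpenImmersion j] {h : W ⟶ Y}
    (e : j ≫ g = h) (hP : P (pullback.snd f g)) : P (pullback.snd f h) := by
  subst e
  refine IsZariskiLocalAtTarget.of_isPullback (P := P)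
    (iY := j) (iX := pullback.lift (pullback.fst f (j ≫ g)) (pullback.snd f (j ≫ g) ≫ j)
      (by rw [Category.assoc]; exact pullback.condition)) ?_ hP
  refine IsPullback.of_right ?_ (pullback.lift_snd _ _ _) (IsPullback.of_hasPullback f g)
  rw [pullback.lift_fst]
  exact IsPullback.of_hasPullback f (j ≫ g)

theorem of_fpqc (P : MorphismProperty Scheme.{u}) [IsZariskiLocalAtTarget P]
    (hP : P.DescendsAlong (@Surjective ⊓ @Flat ⊓ @QuasiCompact : MorphismProperty Scheme.{u}))
    {X Y : Scheme.{u}} (f : X ⟶ Y) {ι : Type*} {Z : ι → Scheme.{u}} {g : ∀ i, Z i ⟶ Y}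
    (hg : Presieve.ofArrows Z g ∈ Scheme.fpqcPrecoverage Y)
    (h : ∀ i, P (pullback.snd f (g i))) : P f := by
  refine IsZariskiLocalAtTarget.of_iSup_eq_top (P := P) (fun U : Y.affineOpens => U.1)
    (AlgebraicGeometry.iSup_affineOpens_eq_top Y) fun U => ?_
  obtain ⟨n, a, V, d, hV, hs, hfl, hq, hd⟩ := exists_desc_of_mem_fpqc hg U.2
  have hD : P (pullback.snd f (d ≫ U.1.ι)) := by
    refine (IsZariskiLocalAtTarget.iff_of_openCover (P := P)
      (sigmaOpenCover (fun k => (V k : Scheme.{u})))).mpr fun k => ?_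
    have key : P (pullback.snd f (Sigma.ι (fun k => (V k : Scheme.{u})) k ≫ d ≫ U.1.ι)) :=
      pullback_snd_openImmersion P f (g (a k)) (V k).ι (hd k).symm (h (a k))
    change P (pullback.snd (pullback.snd f (d ≫ U.1.ι)) (Sigma.ι (fun k => (V k : Scheme.{u})) k))
    rw [← pullbackLeftPullbackSndIso_hom_snd f (d ≫ U.1.ι), P.cancel_left_of_respectsIso]
    exact key
  let t : pullback f (d ≫ U.1.ι) ⟶ (f ⁻¹ᵁ U.1 : Scheme.{u}) :=
    (isPullback_morphismRestrict f U.1).flip.lift (pullback.fst _ _)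
      (pullback.snd _ _ ≫ d) (by rw [Category.assoc]; exact pullback.condition)
  have sq : IsPullback (pullback.snd f (d ≫ U.1.ι)) t d (f ∣_ U.1) := by
    exact (IsPullback.of_right' (IsPullback.of_hasPullback f (d ≫ U.1.ι))
      (isPullback_morphismRestrict f U.1).flip).flip
  exact hP.of_isPullback sq ⟨⟨hs, hfl⟩, hq⟩ hD

end Groth.L19
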