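import Groth.Agent.L18.AmpleLocal
import Groth.Agent.L18.AmplePull
import Mathlib.AlgebraicGeometry.QuasiAffine
import Mathlib.AlgebraicGeometry.Morphisms.UniversallyClosed

/-!
On a universally closed scheme over an affine base with an ample invertible module, the non-vanishing
locus of a section is affine.
-/

set_option autoImplicit false
set_option backward.isDefEq.respectTransparency.types false
set_option backward.isDefEq.respectTransparency false
set_option linter.style.haveILetI false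
universe u

open CategoryTheory Limits AlgebraicGeometry TopologicalSpace Opposite

noncomputable section

namespace Groth.L19.AmpleAffine

open Groth.L18.Frame (rs ro rs_rs rs_self rs_smul ro_ro ro_self ro_mul IsFrame)
open Groth.L18 Groth.L18.GenLoc Groth.L18.Ample

variable {X : Scheme.{u}}

theorem isFrame_one (U : X.Opens) : IsFrame (Coh.structureModule X) U (1 : Γ(X, U)) := by
  intro V h
  have : ∀ a : Γ(X, V), a • rs (Coh.structureModule X) h (1 : Γ(X, U)) = a := fun a => by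
    show a * X.presheaf.map (homOfLE h).op (1 : Γ(X, U)) = a
    rw [map_one, mul_one]
  exact ⟨fun a b hab => by rw [← this a, ← this b]; exact hab, fun b => ⟨b, this b⟩⟩

/-- powers of a section -/
def pw (L : X.Modules) {U : X.Opens} (m : Γ(L, U)) : ∀ n : ℕ, Γ(CohB1.tensorPow L n, U)
  | 0 => (1 : Γ(X, U))
  | n + 1 => tens (CohB1.tensorPow L n) L U (pw L m n) m

theorem isFrame_pw {L : X.Modules} {U : X.Opens} {m : Γ(L, U)} (hm : IsFrame L U m) :
    ∀ n, IsFrame (CohB1.tensorPow L n) U (pw L m n)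
  | 0 => isFrame_one U
  | n + 1 => isFrame_tens (isFrame_pw hm n) hm

theorem pw_rs (L : X.Modules) {U V : X.Opens} (h : V ≤ U) (m : Γ(L, U)) :
    ∀ n, rs (CohB1.tensorPow L n) h (pw L m n) = pw L (rs L h m) n
  | 0 => map_one (X.presheaf.map (homOfLE h).op).hom
  | n + 1 => (tens_rs h _ _).trans (congrArg (tens _ L V · (rs L h m)) (pw_rs L h m n))

/-- The quotient functions of two sections on their loci. -/
theorem exists_function {L : X.Modules} (s : Coh.structureModule X ⟶ L) {n : ℕ}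
    (t : Coh.structureModule X ⟶ CohB1.tensorPow L n) :
    ∃ (a : Γ(X, CohB1.genLocus L s)) (b : Γ(X, CohB1.genLocus _ t)),
      CohB1.genLocus L s ⊓ CohB1.genLocus _ t = X.basicOpen a ∧
      ∀ (W : X.Opens) (h₁ : W ≤ CohB1.genLocus L s) (h₂ : W ≤ CohB1.genLocus _ t),
        ro h₁ a * ro h₂ b = 1 := by
  let σ := pw L (secOf s) n
  have hσ : IsFrame _ (CohB1.genLocus L s) (rs (CohB1.tensorPow L n) le_top σ) := by
    rw [pw_rs]; exact isFrame_pw (isFrame_genLocus s) n
  have hτ := isFrame_genLocus t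
  obtain ⟨a, ha⟩ := hσ.exists_coeff le_rfl (rs _ le_top (secOf t))
  rw [rs_self] at ha
  obtain ⟨b, hb⟩ := hτ.exists_coeff le_rfl (rs _ le_top σ)
  rw [rs_self] at hb
  refine ⟨a, b, ?_, fun W h₁ h₂ => hσ.inj h₁ ?_⟩
  · rw [inf_comm]
    exact genLocus_inf_eq t hσ ha
  · have e1 : ro h₁ a • rs _ h₁ (rs _ le_top σ) = rs (CohB1.tensorPow L n) le_top (secOf t) := by
      rw [← rs_smul, ha, rs_rs]
    have e2 : ro h₂ b • rs _ h₂ (rs _ le_top (secOf t)) = rs (CohB1.tensorPow L n) le_top σ := by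
      rw [← rs_smul, hb, rs_rs]
    rw [one_smul, mul_comm, mul_smul, e1]
    rw [rs_rs] at e2 ⊢
    exact e2

/-- Transport of a product identity to an open subscheme. -/
theorem exists_chart_data (U O : X.Opens) (a : Γ(X, U)) (b : Γ(X, O))
    (hab : U ⊓ O = X.basicOpen a)
    (hmul : ∀ (W : X.Opens) (h₁ : W ≤ U) (h₂ : W ≤ O), ro h₁ a * ro h₂ b = 1) :
    ∃ a' : Γ(U.toScheme, ⊤), U.toScheme.basicOpen a' = U.ι ⁻¹ᵁ O ∧
      U.toScheme.presheaf.map (homOfLE le_top).op a' * U.ι.app O b = 1 := by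
  have E : (⊤ : U.toScheme.Opens) ≤ U.ι ⁻¹ᵁ U := (Scheme.Opens.ι_preimage_self U).ge
  refine ⟨U.ι.appLE U ⊤ E a, ?_, ?_⟩
  · rw [Scheme.Hom.appLE, CommRingCat.comp_apply, Scheme.basicOpen_res, ← Scheme.preimage_basicOpen,
      ← hab, Scheme.Hom.preimage_inf, top_inf_eq, Scheme.Opens.ι_preimage_self, top_inf_eq]
  · have hle : U.ι ⁻¹ᵁ O ≤ U.ι ⁻¹ᵁ (U ⊓ O) := by
      rw [Scheme.Hom.preimage_inf, Scheme.Opens.ι_preimage_self, top_inf_eq]
    have h3 := congrArg (U.ι.appLE (U ⊓ O) (U.ι ⁻¹ᵁ O) hle) (hmul (U ⊓ O) inf_le_left inf_le_right)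
    rw [map_one, map_mul] at h3
    refine Eq.trans (congrArg₂ (· * ·) ?_ ?_) h3
    · show (U.ι.appLE U ⊤ E ≫ U.toScheme.presheaf.map _) a = (X.presheaf.map _ ≫ U.ι.appLE _ _ hle) a
      rw [Scheme.Hom.appLE_map, Scheme.Hom.map_appLE]
    · show U.ι.app O b = (X.presheaf.map _ ≫ U.ι.appLE _ _ hle) b
      rw [Scheme.Hom.map_appLE, Scheme.Hom.app_eq_appLE]

set_option maxHeartbeats 1000000 in
/-- The criterion: a scheme with such charts over a universally closed one is affine. -/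
theorem isAffine_of_chart_data {G T : Scheme.{u}} [IsAffine T] (ι : G ⟶ X) (g : X ⟶ T)
    [UniversallyClosed g] [CompactSpace G] [G.IsSeparated]
    (hcov : ∀ x : X, ∃ (O : X.Opens) (a : Γ(G, ⊤)) (b : Γ(X, O)), x ∈ O ∧
      IsAffineOpen (G.basicOpen a) ∧ G.basicOpen a = ι ⁻¹ᵁ O ∧
      G.presheaf.map (homOfLE le_top).op a * ι.app O b = 1) : IsAffine G := by
  choose O a b hxO haff hO hmul using hcov
  haveI : G.IsQuasiAffine := Scheme.IsQuasiAffine.of_forall_exists_mem_basicOpen _ fun z =>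
    ⟨a (ι z), haff _, by rw [hO]; exact hxO (ι z)⟩
  have hD : ∀ x, ∀ p ∈ PrimeSpectrum.basicOpen (a x), p ∈ Set.range G.toSpecΓ := by
    intro x p hp
    letI : Algebra Γ(G, ⊤) Γ(G, G.basicOpen (a x)) :=
      (G.presheaf.map (homOfLE le_top).op).hom.toAlgebra
    haveI : IsLocalization.Away (a x) Γ(G, G.basicOpen (a x)) :=
      isLocalization_basicOpen_of_qcqs isCompact_univ isQuasiSeparated_univ (a x)
    have hr : p ∈ Set.range (PrimeSpectrum.comap (algebraMap Γ(G, ⊤) Γ(G, G.basicOpen (a x)))) := by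
      rw [PrimeSpectrum.localization_away_comap_range Γ(G, G.basicOpen (a x)) (a x)]
      exact hp
    obtain ⟨q, hq⟩ := hr
    obtain ⟨v, hv⟩ : ∃ v, (haff x).isoSpec.hom v = q := ⟨(haff x).isoSpec.inv q, by
      rw [← Scheme.Hom.comp_apply, Iso.inv_hom_id]; rfl⟩
    refine ⟨(G.basicOpen (a x)).ι v, ?_⟩
    rw [← Scheme.Hom.comp_apply, ← Scheme.Opens.toSpecΓ_SpecMap_presheaf_map_top, Scheme.Hom.comp_apply,
      ← hq, ← hv, IsAffineOpen.isoSpec_hom]
    rfl
  suffices hsurj : Surjective G.toSpecΓ by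
    haveI : IsIso G.toSpecΓ :=
      (isIso_iff_isOpenImmersion_and_surjective _).mpr ⟨inferInstance, hsurj⟩
    exact IsAffine.of_isIso G.toSpecΓ
  refine ⟨fun p => ?_⟩
  by_contra hp
  let τ : Spec Γ(G, ⊤) ⟶ T := Spec.map (ι ≫ g).appTop ≫ T.isoSpec.inv
  have hτ : G.toSpecΓ ≫ τ = ι ≫ g := by
    rw [← Scheme.toSpecΓ_naturality_assoc, ← Scheme.isoSpec_hom, Iso.hom_inv_id, Category.comp_id]
  let j : G ⟶ pullback g τ := pullback.lift ι G.toSpecΓ hτ.symm
  have hj₁ : j ≫ pullback.fst g τ = ι := pullback.lift_fst ..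
  have hj₂ : j ≫ pullback.snd g τ = G.toSpecΓ := pullback.lift_snd ..
  obtain ⟨z, hz, hzp⟩ : p ∈ pullback.snd g τ '' closure (Set.range j) := by
    have h1 := (pullback.snd g τ).isClosedMap _ (isClosed_closure (s := Set.range j))
    have h2 : Set.range G.toSpecΓ ⊆ pullback.snd g τ '' closure (Set.range j) := by
      rintro _ ⟨v, rfl⟩
      exact ⟨j v, subset_closure ⟨v, rfl⟩, congr($hj₂ v)⟩
    exact h1.closure_subset_iff.mpr h2 (G.toSpecΓ.denseRange p)
  let x := pullback.fst g τ z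
  let Ω : (pullback g τ).Opens := pullback.fst g τ ⁻¹ᵁ O x
  let A : Γ(pullback g τ, Ω) := (pullback g τ).presheaf.map (homOfLE le_top).op
    ((pullback.snd g τ).appTop ((Scheme.ΓSpecIso Γ(G, ⊤)).inv (a x)))
  let B : Γ(pullback g τ, Ω) := (pullback.fst g τ).app (O x) (b x)
  have hA : z ∉ (pullback g τ).basicOpen A := by
    rw [Scheme.basicOpen_res]
    intro h
    have h1 := h.2
    rw [← Scheme.preimage_basicOpen_top] at h1
    have h2 : p ∈ (Spec Γ(G, ⊤)).basicOpen ((Scheme.ΓSpecIso Γ(G, ⊤)).inv (a x)) := hzp ▸ h1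
    rw [basicOpen_eq_of_affine'] at h2
    rw [Iso.inv_hom_id_apply] at h2
    exact hp (hD x p h2)
  have hone : z ∉ (pullback g τ).basicOpen (A * B - 1) := by
    intro h
    obtain ⟨_, hv, v, rfl⟩ := mem_closure_iff.mp hz _ ((pullback g τ).basicOpen (A * B - 1)).isOpen h
    have h1 : v ∈ j ⁻¹ᵁ (pullback g τ).basicOpen (A * B - 1) := hv
    rw [Scheme.preimage_basicOpen, map_sub, map_mul, map_one] at h1
    have e : j ⁻¹ᵁ Ω = ι ⁻¹ᵁ O x := by rw [← Scheme.Hom.comp_preimage, hj₁]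
    have h4 : j.app Ω A * j.app Ω B = 1 := by
      have h5 := congrArg (G.presheaf.map (eqToHom e).op) (hmul x)
      rw [map_one, map_mul] at h5
      refine Eq.trans (congrArg₂ (· * ·) ?_ ?_) h5
      · simp only [A, ← CommRingCat.comp_apply, Scheme.Hom.app_eq_appLE, Scheme.Hom.map_appLE,
          Category.assoc, ← Functor.map_comp]
        have h6 : (Scheme.ΓSpecIso Γ(G, ⊤)).inv ≫ G.toSpecΓ.appTop = 𝟙 _ := by
          rw [Scheme.toSpecΓ_appTop, Iso.inv_hom_id]
        have h7 : (pullback.snd g τ).appLE ⊤ (pullback.snd g τ ⁻¹ᵁ ⊤) le_rfl ≫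
            j.appLE (pullback.snd g τ ⁻¹ᵁ ⊤) (j ⁻¹ᵁ Ω) le_top =
            G.toSpecΓ.appTop ≫ G.presheaf.map (homOfLE le_top).op := by
          rw [Scheme.Hom.appLE_comp_appLE, Scheme.Hom.appTop, Scheme.Hom.app_eq_appLE,
            Scheme.Hom.appLE_map]
          simp only [hj₂]
        refine (ConcreteCategory.congr_hom (congrArg (_ ≫ ·) h7) _).trans ?_
        rw [reassoc_of% h6]
        rfl
      · have h8 : (pullback.fst g τ).appLE (O x) Ω le_rfl ≫ j.appLE Ω (j ⁻¹ᵁ Ω) le_rfl =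
            ι.appLE (O x) (j ⁻¹ᵁ Ω) e.le := by
          rw [Scheme.Hom.appLE_comp_appLE]
          simp only [hj₁]
        simp only [B, Scheme.Hom.app_eq_appLE, ← CommRingCat.comp_apply, Scheme.Hom.appLE_map]
        exact ConcreteCategory.congr_hom h8 (b x)
    rw [h4, sub_self, Scheme.basicOpen_zero] at h1
    exact h1
  rw [← Scheme.evaluation_ne_zero_iff_mem_basicOpen _ z (hxO x), not_not] at hA hone
  rw [map_sub, map_mul, hA, zero_mul, map_one, zero_sub, neg_eq_zero] at hone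
  exact one_ne_zero hone

/-- The non-vanishing locus on a universally closed scheme over an affine base is affine. -/
theorem isAffineOpen_genLocus {T : Scheme.{u}} [IsAffine T] (g : X ⟶ T) [UniversallyClosed g]
    {L : X.Modules} (hL : CohB1.IsAmple L) (s : Coh.structureModule X ⟶ L) :
    IsAffineOpen (CohB1.genLocus L s) := by
  haveI : CompactSpace X := hL.2.1
  haveI := isSeparated_of_isAmple hL
  haveI := isAffineHom_genLocus_ι hL.1 s
  haveI : CompactSpace (CohB1.genLocus L s).toScheme :=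
    QuasiCompact.compactSpace_of_compactSpace (CohB1.genLocus L s).ι
  haveI : (CohB1.genLocus L s).toScheme.IsSeparated := ⟨by
    rw [show terminal.from _ = (CohB1.genLocus L s).ι ≫ terminal.from X from
      terminalIsTerminal.hom_ext _ _]
    infer_instance⟩
  refine isAffine_of_chart_data (CohB1.genLocus L s).ι g fun x => ?_
  obtain ⟨n, t, hxt, htaff⟩ := hL.2.2 x
  obtain ⟨a, b, hab, hmul⟩ := exists_function s t
  obtain ⟨a', ha', hm⟩ := exists_chart_data _ _ a b hab hmul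
  exact ⟨_, a', b, hxt, ha' ▸ htaff.preimage (CohB1.genLocus L s).ι, ha', hm⟩

end Groth.L19.AmpleAffine
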