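import Groth.Agent.S9687
import Groth.Agent.L19.Topology
import Groth.Agent.L07.DimToolkit
import Mathlib.AlgebraicGeometry.Fiber
import Mathlib.AlgebraicGeometry.FunctionField

/-!
# Dimension of a scheme locally of finite type over a locally Noetherian scheme
-/

set_option autoImplicit false
set_option backward.isDefEq.respectTransparency.types false
set_option backward.isDefEq.respectTransparency false
set_option linter.style.haveILetI false
universe u

open CategoryTheory CategoryTheory.Limits AlgebraicGeometry TopologicalSpace Topology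

namespace Groth.L19.DimTrdeg

variable {X Y : Scheme.{u}}

/-- A bound on all local rings bounds the dimension. -/
theorem dim_le_of_stalks {c : WithBot ℕ∞} (h : ∀ x : X, ringKrullDim (X.presheaf.stalk x) ≤ c) :
    topologicalKrullDim X ≤ c := by
  rw [Groth.L19.topologicalKrullDim_eq_krullDim]
  let _ := specializationOrder X
  rw [← Order.krullDim_orderDual]
  refine iSup_le fun p => ?_
  let ofD : Xᵒᵈ → X := OrderDual.ofDual
  have hsp : ∀ i, ofD (p i) ⤳ ofD p.last := fun i => LTSeries.monotone p (Fin.le_last i)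
  have hP : ∀ i, ∃ P : PrimeSpectrum (X.presheaf.stalk (ofD p.last)),
      X.fromSpecStalk (ofD p.last) P = ofD (p i) :=
    fun i => Groth.L07.DimToolkit.exists_prime _ _ (hsp i)
  choose P hP using hP
  have hmono : StrictMono P := fun i j hij => by
    refine lt_of_le_of_ne ?_ ?_
    · rw [PrimeSpectrum.le_iff_specializes,
        ← (X.fromSpecStalk (ofD p.last)).isEmbedding.isInducing.specializes_iff, hP, hP]
      exact LTSeries.monotone p hij.le
    · intro he
      have h1 : ofD (p i) = ofD (p j) := by rw [← hP i, ← hP j, he]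
      exact (p.strictMono hij).ne (congrArg OrderDual.toDual h1)
  exact (Order.LTSeries.length_le_krullDim (LTSeries.mk p.length P hmono)).trans (h _)

theorem add_le_of_forall {a b : WithBot ℕ∞} (n : ℕ) (ha : a ≠ ⊥)
    (h : ∀ m : ℕ, (m : WithBot ℕ∞) ≤ a → ((m + n : ℕ) : WithBot ℕ∞) ≤ b) : a + n ≤ b := by
  obtain ⟨a, rfl⟩ := WithBot.ne_bot_iff_exists.1 ha
  cases a with
  | top =>
    have hb : b ≠ ⊥ := by
      intro hb
      have h0 := h 0 (WithBot.coe_le_coe.2 le_top)
      rw [hb, le_bot_iff] at h0
      exact WithBot.coe_ne_bot (a := ((0 + n : ℕ) : ℕ∞)) (by exact_mod_cast h0)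
    obtain ⟨b', rfl⟩ := WithBot.ne_bot_iff_exists.1 hb
    have : b' = ⊤ := ENat.eq_top_iff_forall_ge.2 fun m => by
      have := h m (WithBot.coe_le_coe.2 le_top)
      exact le_trans (by simp) (WithBot.coe_le_coe.1 (this : ((↑(m + n) : ℕ∞) : WithBot ℕ∞) ≤ _))
    subst this
    exact le_of_eq (by rfl)
  | coe m =>
    have := h m le_rfl
    exact_mod_cast this

section lift

variable (f : X ⟶ Y)

/-- Chains of specializations of `Y` lift along a closed map, starting at any point over the head. -/
theorem exists_lift_series (hc : IsClosedMap f.base) :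
    letI := specializationOrder X
    letI := specializationOrder Y
    ∀ (p : LTSeries Yᵒᵈ) (a : Xᵒᵈ), f (OrderDual.ofDual a) = OrderDual.ofDual p.head →
      ∃ q : LTSeries Xᵒᵈ, q.head = a ∧ q.length = p.length ∧
        f (OrderDual.ofDual q.last) = OrderDual.ofDual p.last := by
  letI := specializationOrder X
  letI := specializationOrder Y
  intro p
  induction p using RelSeries.inductionOn' with
  | singleton b =>
    intro a ha
    exact ⟨RelSeries.singleton _ a, rfl, rfl, ha⟩
  | snoc p b hp ih =>
    intro a ha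
    obtain ⟨q, hq0, hq1, hq2⟩ := ih a (by simpa using ha)
    have hb : f (OrderDual.ofDual q.last) ⤳ OrderDual.ofDual b := by rw [hq2]; exact le_of_lt (α := Yᵒᵈ) hp
    obtain ⟨a', ha', hfa'⟩ := hc.specializingMap hb
    refine ⟨RelSeries.snoc q (OrderDual.toDual a') (lt_of_le_of_ne (show q.last ≤ OrderDual.toDual a' from ha') ?_), by simp [hq0], by simp [hq1],
      by simpa using hfa'⟩
    intro he
    exact (ne_of_lt (α := Yᵒᵈ) hp) (OrderDual.ofDual.injective (by
      rw [← hfa', ← hq2, he]; rfl))

end lift

theorem fdim_add_le [IrreducibleSpace X] [IrreducibleSpace Y] (f : X ⟶ Y) [LocallyOfFiniteType f]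
    (hc : IsClosedMap f.base) (hgen : f (genericPoint X) = genericPoint Y) (n : ℕ)
    (hn : Groth.L22.Cyc.rtrdeg f (genericPoint X) = n) :
    topologicalKrullDim Y + n ≤ topologicalKrullDim X := by
  obtain ⟨n', hfd, hr⟩ := Groth.L07.DimToolkit.exists_fdim_rtrdeg f (genericPoint X)
  obtain rfl : n' = n := by exact_mod_cast hr.symm.trans hn
  -- the generic fibre
  set η : Y := genericPoint Y with hη
  have hfib : topologicalKrullDim ↥(f.fiber η) = (n' : WithBot ℕ∞) := by
    rw [← hfd, (f.fiberHomeo η).isHomeomorph.topologicalKrullDim_eq]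
    unfold Groth.L07.Equidim.fdim
    rw [genericPoint_closure, Set.univ_inter, show f.base (genericPoint X) = η from hgen]
  refine add_le_of_forall n' ?_ fun m hm => ?_
  · exact fun h => by simpa [h] using Groth.L06.Dim.nonneg (X := (Y : Type u))
  rw [Groth.L19.topologicalKrullDim_eq_krullDim] at hm hfib ⊢
  letI := specializationOrder ↥(f.fiber η)
  letI := specializationOrder X
  letI := specializationOrder Y
  obtain ⟨l, hl⟩ := Order.le_krullDim_iff.1 hfib.ge
  rw [← Order.krullDim_orderDual] at hm ⊢
  obtain ⟨p, hp⟩ := Order.le_krullDim_iff.1 hm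
  -- the fibre series, pushed to `X`
  let ι' : (f.fiber η)ᵒᵈ → Xᵒᵈ := fun z => OrderDual.toDual (f.fiberι η (OrderDual.ofDual z))
  have hι : StrictMono ι' := fun a b hab => by
    refine lt_of_le_of_ne ((show OrderDual.ofDual a ⤳ OrderDual.ofDual b from hab.le).map
      (f.fiberι η).continuous) fun he => hab.ne ?_
    exact OrderDual.ofDual.injective ((f.fiberι η).isEmbedding.injective (congrArg OrderDual.ofDual he))
  obtain ⟨s, hs1, hs2⟩ : ∃ s : LTSeries Xᵒᵈ, s.length = n' ∧ f (OrderDual.ofDual s.last) = η := by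
    refine ⟨LTSeries.mk l.length (fun i => ι' (OrderDual.toDual (l i.rev)))
      (fun i j hij => hι (l.strictMono (Fin.rev_lt_rev.2 hij))), hl, ?_⟩
    exact Groth.L07.Equidim.apply_fiberι f η _
  -- extend `p` so that it starts at `η`
  obtain ⟨p', hp', hph⟩ : ∃ p' : LTSeries Yᵒᵈ, m ≤ p'.length ∧ p'.head = OrderDual.toDual η := by
    by_cases h : p.head = OrderDual.toDual η
    · exact ⟨p, hp.ge, h⟩
    · refine ⟨RelSeries.cons p (OrderDual.toDual η) (lt_of_le_of_ne ?_ (Ne.symm h)), ?_, by simp⟩
      · exact genericPoint_specializes _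
      · simp [hp]
  obtain ⟨q, hq0, hq1, -⟩ := exists_lift_series f hc p' s.last (by rw [hs2, hph]; rfl)
  refine le_trans ?_ (Order.LTSeries.length_le_krullDim (RelSeries.smash s q hq0.symm))
  have : m + n' ≤ (RelSeries.smash s q hq0.symm).length := by simp [hs1, hq1]; omega
  exact_mod_cast this

end Groth.L19.DimTrdeg
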