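import Mathlib.AlgebraicGeometry.FunctionField
import Mathlib.AlgebraicGeometry.Normalization
import Mathlib.RingTheory.IntegralClosure.IntegrallyClosed
import Mathlib.RingTheory.Localization.FractionRing
import Groth.Prelude.Def_Pi1

/-!
# Sections and relative normalizations of integral normal schemes
-/

set_option autoImplicit false
set_option backward.isDefEq.respectTransparency.types false
set_option backward.isDefEq.respectTransparency false
set_option linter.style.haveILetI false
universe u

open CategoryTheory CategoryTheory.Limits AlgebraicGeometry TopologicalSpace Opposite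

namespace Groth.L19.NormalSec

variable {X : Scheme.{u}} [IsIntegral X]

/-- An element of the function field integral over sections over `W` is a section over `W`. -/
theorem exists_section_of_isIntegral (hN : ∀ x : X, IsIntegrallyClosed (X.presheaf.stalk x))
    (W : X.Opens) (hξ : genericPoint X ∈ W) {A : Type u} [CommRing A] (φ : A →+* Γ(X, W))
    (z : X.functionField)
    (hz : ((X.presheaf.germ W (genericPoint X) hξ).hom.comp φ).IsIntegralElem z) :
    ∃ t : Γ(X, W), X.presheaf.germ W (genericPoint X) hξ t = z := by
  have key : ∀ x : W, ∃ (N : X.Opens) (_ : x.1 ∈ N) (hg : genericPoint X ∈ N) (_ : N ≤ W)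
      (s : Γ(X, N)), X.presheaf.germ N (genericPoint X) hg s = z := by
    intro x
    haveI := hN x.1
    have h1 : ((X.presheaf.germ W (genericPoint X) hξ).hom.comp φ) =
        (algebraMap (X.presheaf.stalk x.1) X.functionField).comp
          ((X.presheaf.germ W x.1 x.2).hom.comp φ) := by
      ext a
      exact (TopCat.Presheaf.germ_stalkSpecializes_apply X.presheaf x.2
        ((genericPoint_spec X).specializes trivial) (φ a)).symm
    have h2 : IsIntegral (X.presheaf.stalk x.1) z := by
      obtain ⟨p, hp, hp'⟩ := hz
      refine ⟨p.map ((X.presheaf.germ W x.1 x.2).hom.comp φ), hp.map _, ?_⟩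
      rw [Polynomial.eval₂_map, ← h1]
      exact hp'
    obtain ⟨s₀, hs₀⟩ := IsIntegrallyClosed.isIntegral_iff.mp h2
    obtain ⟨N, hxN, s, rfl⟩ := X.presheaf.exists_germ_eq s₀
    have hg : genericPoint X ∈ N ⊓ W :=
      ((genericPoint_spec X).specializes trivial).mem_open (N ⊓ W).2 ⟨hxN, x.2⟩
    refine ⟨N ⊓ W, ⟨hxN, x.2⟩, hg, inf_le_right, X.presheaf.map (homOfLE inf_le_left).op s, ?_⟩
    rw [TopCat.Presheaf.germ_res_apply, ← hs₀]
    exact (TopCat.Presheaf.germ_stalkSpecializes_apply X.presheaf hxN
      ((genericPoint_spec X).specializes trivial) s).symm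
  choose N hxN hgN hNW s hs using key
  have hcompat : TopCat.Presheaf.IsCompatible X.presheaf N s := fun i j => by
    apply germ_injective_of_isIntegral X (genericPoint X) (show genericPoint X ∈ N i ⊓ N j from ⟨hgN i, hgN j⟩)
    rw [TopCat.Presheaf.germ_res_apply, TopCat.Presheaf.germ_res_apply, hs, hs]
  obtain ⟨t, ht, -⟩ := TopCat.Sheaf.existsUnique_gluing' X.sheaf N W (fun i => homOfLE (hNW i))
    (fun x hx => Opens.mem_iSup.mpr ⟨⟨x, hx⟩, hxN ⟨x, hx⟩⟩) s hcompat
  refine ⟨t, ?_⟩
  rw [← hs ⟨genericPoint X, hξ⟩, ← ht ⟨genericPoint X, hξ⟩]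
  exact (TopCat.Presheaf.germ_res_apply X.presheaf _ _ _ t).symm

/-- A ring closed under integral elements in a field containing it is integrally closed. -/
theorem isIntegrallyClosed_of_injective {C K : Type u} [CommRing C] [IsDomain C] [Field K] (j : C →+* K)
    (hj : Function.Injective j) (h : ∀ z : K, j.IsIntegralElem z → z ∈ j.range) :
    IsIntegrallyClosed C := by
  letI := j.toAlgebra
  haveI : FaithfulSMul C K := (faithfulSMul_iff_algebraMap_injective C K).mpr hj
  rw [isIntegrallyClosed_iff (FractionRing C)]
  intro q hq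
  let m : FractionRing C →ₐ[C] K := IsFractionRing.liftAlgHom (g := Algebra.ofId C K) hj
  obtain ⟨c, hc⟩ := h (m q) (hq.map m)
  exact ⟨c, m.toRingHom.injective ((m.commutes c).trans hc)⟩

/-- Integral over an integral extension. -/
theorem isIntegralElem_comp {A C K : Type u} [CommRing A] [CommRing C] [CommRing K] {φ : A →+* C}
    {j : C →+* K} (hφ : φ.IsIntegral) {z : K} (hz : j.IsIntegralElem z) :
    (j.comp φ).IsIntegralElem z := by
  letI := φ.toAlgebra
  letI := j.toAlgebra
  letI := (j.comp φ).toAlgebra
  haveI : IsScalarTower A C K := IsScalarTower.of_algebraMap_eq' rfl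
  haveI : Algebra.IsIntegral A C := ⟨hφ⟩
  exact isIntegral_trans (R := A) (A := C) z hz

theorem isIntegrallyClosed_sections (hN : ∀ x : X, IsIntegrallyClosed (X.presheaf.stalk x))
    (W : X.Opens) [Nonempty W] : IsIntegrallyClosed Γ(X, W) := by
  have hξ : genericPoint X ∈ W :=
    ((genericPoint_spec X).mem_open_set_iff W.isOpen).mpr (by simpa using ‹Nonempty W›)
  exact isIntegrallyClosed_of_injective (X.presheaf.germ W (genericPoint X) hξ).hom
    (germ_injective_of_isIntegral X _ hξ)
    fun z hz => exists_section_of_isIntegral hN W hξ (RingHom.id _) z (by simpa using hz)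

variable {Y : Scheme.{u}} (f : X ⟶ Y) [QuasiCompact f] [QuasiSeparated f]

omit [IsIntegral X] in
theorem mem_preimage_toNormalization {U : Y.Opens} {x : X} (h : f x ∈ U) :
    f.toNormalization x ∈ f.fromNormalization ⁻¹ᵁ U := by
  show f.fromNormalization (f.toNormalization x) ∈ U
  rw [← Scheme.Hom.comp_apply, f.toNormalization_fromNormalization]
  exact h

/-- Sections of the normalization over an affine open, inside the function field of the source. -/
noncomputable def valuesHom (U : Y.Opens) (hη : f (genericPoint X) ∈ U) :
    Γ(f.normalization, f.fromNormalization ⁻¹ᵁ U) ⟶ X.functionField :=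
  f.toNormalization.app (f.fromNormalization ⁻¹ᵁ U) ≫
    X.presheaf.germ (f.toNormalization ⁻¹ᵁ f.fromNormalization ⁻¹ᵁ U) (genericPoint X)
      (mem_preimage_toNormalization f hη)

theorem app_valuesHom (U : Y.Opens) (hη : f (genericPoint X) ∈ U) :
    f.fromNormalization.app U ≫ valuesHom f U hη =
      f.app U ≫ X.presheaf.germ (f ⁻¹ᵁ U) (genericPoint X) hη := by
  rw [valuesHom, ← Category.assoc, ← Scheme.Hom.comp_app,
    Scheme.Hom.congr_app f.toNormalization_fromNormalization U, Category.assoc,
    ]
  exact congrArg (f.app U ≫ ·) (TopCat.Presheaf.germ_res' X.presheaf _ _ _)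

theorem mem_range_valuesHom_iff (hN : ∀ x : X, IsIntegrallyClosed (X.presheaf.stalk x))
    {U : Y.Opens} (hU : IsAffineOpen U) (hη : f (genericPoint X) ∈ U) (z : X.functionField) :
    z ∈ (valuesHom f U hη).hom.range ↔
      (f.app U ≫ X.presheaf.germ (f ⁻¹ᵁ U) (genericPoint X) hη).hom.IsIntegralElem z := by
  letI := (f.app U).hom.toAlgebra
  constructor
  · rintro ⟨b, rfl⟩
    rw [← app_valuesHom]
    obtain ⟨p, hp, hp'⟩ := (f.fromNormalization.isIntegral_app U hU) b
    refine ⟨p, hp, ?_⟩
    rw [CommRingCat.hom_comp, ← Polynomial.hom_eval₂, hp', map_zero]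
  · intro hz
    obtain ⟨t, rfl⟩ := exists_section_of_isIntegral hN (f ⁻¹ᵁ U) hη (f.app U).hom z hz
    have ht : IsIntegral Γ(Y, U) t := by
      obtain ⟨p, hp, hp'⟩ := hz
      refine ⟨p, hp, germ_injective_of_isIntegral X (genericPoint X) hη ?_⟩
      rw [map_zero, Polynomial.hom_eval₂]
      exact hp'
    obtain ⟨b, hb⟩ : ∃ b, (f.normalizationObjIso hU).hom b =
        (⟨t, ht⟩ : integralClosure Γ(Y, U) Γ(X, f ⁻¹ᵁ U)) :=
      ⟨_, Iso.inv_hom_id_apply (f.normalizationObjIso hU) _⟩
    refine ⟨b, ?_⟩
    show (valuesHom f U hη) b = _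
    have h1 : f.toNormalization.app (f.fromNormalization ⁻¹ᵁ U) b =
        X.presheaf.map (eqToHom (by simp [← Scheme.Hom.comp_preimage])).op t := by
      have := ConcreteCategory.congr_hom (f.toNormalization_app_preimage ⟨U, hU⟩) b
      refine this.trans ?_
      simp only [CommRingCat.comp_apply]
      rw [hb]
      rfl
    rw [valuesHom, CommRingCat.comp_apply, h1, TopCat.Presheaf.germ_res_apply]

theorem valuesHom_injective [IsIntegral f.normalization] (U : Y.Opens) (hη : f (genericPoint X) ∈ U) :
    Function.Injective (valuesHom f U hη) := by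
  intro a b h
  apply germ_injective_of_isIntegral f.normalization (f.toNormalization (genericPoint X))
    (mem_preimage_toNormalization f hη)
  have hgen : f.toNormalization (genericPoint X) = genericPoint f.normalization :=
    ((genericPoint_spec X).image f.toNormalization.continuous).eq (by
      rw [Set.image_univ, f.toNormalization.denseRange.closure_range]; exact genericPoint_spec _)
  have hF : IsField (f.normalization.presheaf.stalk (f.toNormalization (genericPoint X))) := by
    rw [hgen]; exact Field.toIsField f.normalization.functionField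
  letI := hF.toField
  apply (f.toNormalization.stalkMap (genericPoint X)).hom.injective
  rw [← CommRingCat.comp_apply, ← CommRingCat.comp_apply, Scheme.Hom.germ_stalkMap]
  exact h

theorem toNormalization_genericPoint :
    f.toNormalization (genericPoint X) = genericPoint f.normalization :=
  ((genericPoint_spec X).image f.toNormalization.continuous).eq (by
    rw [Set.image_univ, f.toNormalization.denseRange.closure_range]; exact genericPoint_spec _)

/-- The relative normalization in an integral normal scheme is normal. -/
theorem isNormalScheme_normalization (hN : ∀ x : X, IsIntegrallyClosed (X.presheaf.stalk x)) :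
    Pi1.IsNormalScheme f.normalization := by
  intro x'
  obtain ⟨U, hU, hxU, -⟩ := exists_isAffineOpen_mem_and_subset (x := f.fromNormalization x')
    (U := (⊤ : Y.Opens)) trivial
  have hη : f (genericPoint X) ∈ U := by
    refine Specializes.mem_open ?_ U.2 hxU
    have h1 : f.fromNormalization (f.toNormalization (genericPoint X)) = f (genericPoint X) :=
      congr($(f.toNormalization_fromNormalization) (genericPoint X))
    rw [← h1, toNormalization_genericPoint]
    exact (genericPoint_specializes x').map f.fromNormalization.continuous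
  haveI : Nonempty ↥(f.fromNormalization ⁻¹ᵁ U) := ⟨⟨x', hxU⟩⟩
  haveI : Nonempty ↥(f.fromNormalization ⁻¹ᵁ U).toScheme := ⟨⟨x', hxU⟩⟩
  haveI : IsDomain Γ(f.normalization, f.fromNormalization ⁻¹ᵁ U) := IsIntegral.component_integral _
  haveI : IsIntegrallyClosed Γ(f.normalization, f.fromNormalization ⁻¹ᵁ U) := by
    refine isIntegrallyClosed_of_injective (valuesHom f U hη).hom (valuesHom_injective f U hη)
      fun z hz => ?_
    rw [mem_range_valuesHom_iff f hN hU hη, ← app_valuesHom]
    exact isIntegralElem_comp (f.fromNormalization.isIntegral_app U hU) hz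
  letI := f.normalization.presheaf.algebra_section_stalk
    (⟨x', hxU⟩ : ↥(f.fromNormalization ⁻¹ᵁ U))
  haveI := (hU.preimage f.fromNormalization).isLocalization_stalk ⟨x', hxU⟩
  exact ⟨inferInstance, isIntegrallyClosed_of_isLocalization (f.normalization.presheaf.stalk x')
    ((hU.preimage f.fromNormalization).primeIdealOf ⟨x', hxU⟩).asIdeal.primeCompl
    (Ideal.primeCompl_le_nonZeroDivisors _)⟩

/-- A finite extension of function fields makes the map to the normalization birational. -/
theorem isIso_stalkMap_toNormalization (hN : ∀ x : X, IsIntegrallyClosed (X.presheaf.stalk x))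
    (hfin : (f.stalkMap (genericPoint X)).hom.Finite) :
    IsIso (f.toNormalization.stalkMap (genericPoint X)) := by
  have hF : IsField (f.normalization.presheaf.stalk (f.toNormalization (genericPoint X))) := by
    rw [toNormalization_genericPoint]; exact Field.toIsField f.normalization.functionField
  letI := hF.toField
  refine (ConcreteCategory.isIso_iff_bijective _).mpr
    ⟨(f.toNormalization.stalkMap (genericPoint X)).hom.injective, fun z => ?_⟩
  obtain ⟨U, hU, hη, -⟩ := exists_isAffineOpen_mem_and_subset (x := f (genericPoint X))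
    (U := (⊤ : Y.Opens)) trivial
  letI := Y.presheaf.algebra_section_stalk (⟨f (genericPoint X), hη⟩ : ↥U)
  haveI := hU.isLocalization_stalk ⟨f (genericPoint X), hη⟩
  letI : Algebra (Y.presheaf.stalk (f (genericPoint X))) X.functionField :=
    (f.stalkMap (genericPoint X)).hom.toAlgebra
  letI : Algebra Γ(Y, U) X.functionField :=
    (f.app U ≫ X.presheaf.germ (f ⁻¹ᵁ U) (genericPoint X) hη).hom.toAlgebra
  haveI : IsScalarTower Γ(Y, U) (Y.presheaf.stalk (f (genericPoint X))) X.functionField :=
    IsScalarTower.of_algebraMap_eq fun a =>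
      (Scheme.Hom.germ_stalkMap_apply f U (genericPoint X) hη a).symm
  haveI : Module.Finite (Y.presheaf.stalk (f (genericPoint X))) X.functionField := hfin
  obtain ⟨m, hm⟩ := IsIntegral.exists_multiple_integral_of_isLocalization
    (hU.primeIdealOf ⟨f (genericPoint X), hη⟩).asIdeal.primeCompl z
    (Algebra.IsIntegral.isIntegral (R := Y.presheaf.stalk (f (genericPoint X))) z)
  have hint : (f.app U ≫ X.presheaf.germ (f ⁻¹ᵁ U) (genericPoint X) hη).hom.IsIntegralElem
      (algebraMap Γ(Y, U) X.functionField m.1 * z) := by
    rw [← Algebra.smul_def]; exact hm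
  rw [← mem_range_valuesHom_iff f hN hU hη] at hint
  obtain ⟨b, hb⟩ := hint
  have hm0 : algebraMap Γ(Y, U) X.functionField m.1 ≠ 0 := by
    rw [IsScalarTower.algebraMap_apply Γ(Y, U) (Y.presheaf.stalk (f (genericPoint X))) X.functionField]
    exact ((IsLocalization.map_units (Y.presheaf.stalk (f (genericPoint X))) m).map _).ne_zero
  let γ := f.normalization.presheaf.germ (f.fromNormalization ⁻¹ᵁ U)
    (f.toNormalization (genericPoint X)) (mem_preimage_toNormalization f hη)
  have hγ : ∀ c, f.toNormalization.stalkMap (genericPoint X) (γ c) = valuesHom f U hη c := fun c =>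
    Scheme.Hom.germ_stalkMap_apply _ _ _ (mem_preimage_toNormalization f hη) c
  refine ⟨γ b / γ (f.fromNormalization.app U m.1), ?_⟩
  have hden : valuesHom f U hη (f.fromNormalization.app U m.1) =
      algebraMap Γ(Y, U) X.functionField m.1 :=
    ConcreteCategory.congr_hom (app_valuesHom f U hη) m.1
  show (f.toNormalization.stalkMap (genericPoint X)).hom _ = z
  rw [map_div₀ (f.toNormalization.stalkMap (genericPoint X)).hom]
  erw [hγ, hγ, hden, hb]
  exact mul_div_cancel_left₀ z hm0

end Groth.L19.NormalSec
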