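import Groth.Agent.L06.NormalTensorFlat
import Groth.Agent.L06.FormalFibres
import Groth.Agent.L03.GeomRegular
import Mathlib.RingTheory.Smooth.NoetherianDescent

/-!
# Smooth homomorphisms are normal; normality is smooth-local
-/

set_option autoImplicit false
set_option linter.style.haveILetI false
universe u

open TensorProduct

namespace Groth.L19.SmoothNormal

theorem isNormalHom_of_smooth (A B : Type u) [CommRing A] [CommRing B] [Algebra A B] [Algebra.Smooth A B] :
    EGA4.IsNormalHom A B :=
  ⟨inferInstance, fun p _ K _ _ _ => by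
    haveI : Algebra.Smooth p.ResidueField (p.Fiber B) := inferInstance
    haveI : Algebra.Smooth K (K ⊗[p.ResidueField] p.Fiber B) := inferInstance
    haveI := Groth.L03.GeomRegular.isRegularRing_of_smooth K (K ⊗[p.ResidueField] p.Fiber B)
    exact Groth.L06.FormalFibres.isNormalRing_of_isRegularRing _⟩

/-- A smooth algebra over a normal ring is normal. -/
theorem isNormalRing_of_smooth (A B : Type u) [CommRing A] [CommRing B] [Algebra A B] [Algebra.Smooth A B]
    (hA : EGA4.IsNormalRing A) : EGA4.IsNormalRing B := by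
  obtain ⟨A₀, B₀, _, _, hfg, hsm, ⟨e⟩⟩ := Algebra.Smooth.exists_subalgebra_fg (R := ℤ) (A := A) (B := B)
  haveI : Algebra.FiniteType ℤ A₀ := (Subalgebra.fg_iff_finiteType A₀).mp hfg
  haveI : IsNoetherianRing A₀ := Algebra.FiniteType.isNoetherianRing ℤ A₀
  haveI : Algebra.Smooth A₀ B₀ := hsm
  haveI : IsNoetherianRing B₀ := Algebra.FiniteType.isNoetherianRing A₀ B₀
  exact Groth.L06.NormalAscent.isNormalRing_of_ringEquiv
    ((Algebra.TensorProduct.comm A₀ B₀ A).toRingEquiv.trans e.symm.toRingEquiv)
    (Groth.L06.NormalTensor.isNormalRing_tensor (isNormalHom_of_smooth A₀ B₀) A hA)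

end Groth.L19.SmoothNormal
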