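import Groth.Agent.L18.AmpleComp
import Groth.Agent.L18.AmpleOps
import Groth.Agent.L18.AmpleLocal

/-!
Pullbacks of sections which are isomorphisms after pullback.
-/

universe u

open CategoryTheory AlgebraicGeometry TopologicalSpace

namespace Groth.L19.YBlowUp

set_option backward.isDefEq.respectTransparency.types false
set_option backward.isDefEq.respectTransparency false

open Groth.L18.Frame (rs rs_rs rs_self IsFrame)
open Groth.L18.GenLoc

variable {X Z : Scheme.{u}} {L : X.Modules}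

theorem genLocus_eq_top_iff (s : Coh.structureModule X ⟶ L) : CohB1.genLocus L s = ⊤ ↔ IsIso s := by
  constructor
  · intro h
    have hf := isFrame_genLocus s
    refine Scheme.Modules.Hom.isIso_iff_isIso_app.2 fun V => (ConcreteCategory.isIso_iff_bijective _).2 ?_
    have h' := hf V (h ▸ le_top)
    have e : (fun a : Γ(X, V) => a • rs L (h ▸ le_top : V ≤ CohB1.genLocus L s)
        (rs L le_top (secOf s))) = fun a : Γ(X, V) => s.app V a := by
      funext a
      rw [app_eq, rs_rs]
    rw [e] at h'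
    exact h'
  · intro h
    have : IsIso ((Scheme.Modules.restrictFunctor (⊤ : X.Opens).ι).map s) := inferInstance
    exact le_antisymm le_top (le_sSup (a := (⊤ : X.Opens)) this)

theorem isIso_pullback_map_iff (u : Z ⟶ X) (hL : PicF.IsInvertible L) (s : Coh.structureModule X ⟶ L) :
    IsIso ((Scheme.Modules.pullback u).map s) ↔ u ⁻¹ᵁ CohB1.genLocus L s = ⊤ := by
  let e : Coh.structureModule Z ≅ (Scheme.Modules.pullback u).obj (Coh.structureModule X) :=
    (Groth.L29.LocFree.pullbackUnitIso u).symm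
  rw [← Groth.L18.Ample.genLocus_iso_pullback u hL s e, genLocus_eq_top_iff, isIso_comp_left_iff]

theorem exists_powSec (hL : PicF.IsInvertible L) (s : Coh.structureModule X ⟶ L) : ∀ n : ℕ,
    ∃ t : Coh.structureModule X ⟶ CohB1.tensorPow L n, CohB1.genLocus L s ≤ CohB1.genLocus _ t
  | 0 => ⟨𝟙 _, le_top.trans ((genLocus_eq_top_iff (𝟙 (Coh.structureModule X))).2 inferInstance).ge⟩
  | n + 1 => by
    obtain ⟨t, ht⟩ := exists_powSec hL s n
    refine ⟨tensHom t s, ?_⟩
    show CohB1.genLocus L s ≤ CohB1.genLocus (CohB1.tensorMod (CohB1.tensorPow L n) L) _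
    rw [genLocus_tensHom (Groth.L18.Ample.isInvertible_tensorPow hL n) hL]
    exact le_inf ht le_rfl

theorem isInvertible_of_isRelAmple {f : X ⟶ Z} {M : X.Modules} (hM : RelAmple.IsRelAmple f M) :
    PicF.IsInvertible M := by
  refine isInvertible_of_frames fun x => ?_
  obtain ⟨_, ⟨V', hV', rfl⟩, hxV', -⟩ := Z.isBasis_affineOpens.exists_subset_of_mem_open
    (Set.mem_univ (f x)) isOpen_univ
  obtain ⟨U, e, hxU, he⟩ := Groth.L18.Frame.exists_frame (hM.2 ⟨V', hV'⟩).1 ⟨x, hxV'⟩
  exact ⟨(f ⁻¹ᵁ V').ι ''ᵁ U, e, ⟨⟨x, hxV'⟩, hxU, rfl⟩,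
    (Groth.L18.Ample.isFrame_restrict_iff M (f ⁻¹ᵁ V') U e).mp he⟩

end Groth.L19.YBlowUp
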