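import Groth.Agent.L22.CurveDeg.Maps
import Groth.Agent.L18.AmplePull
import Groth.Agent.L18.KerReduced
import Groth.Agent.L19.YBlowUp
import Mathlib.AlgebraicGeometry.IdealSheaf.IrreducibleComponent

/-!
# Sections of invertible modules of nonpositive degree on reduced connected curves
-/

set_option autoImplicit false
set_option linter.style.haveILetI false
set_option linter.unusedSectionVars false
set_option backward.isDefEq.respectTransparency false

universe u

open CategoryTheory CategoryTheory.Limits AlgebraicGeometry TopologicalSpace Opposite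

noncomputable section

namespace Groth.L19.CurveSec

open Groth.L18.Frame (rs rs_self IsFrame)
open Groth.L18.GenLoc Groth.L18.Ample

variable {X : Scheme.{u}}

/-- A component of a Noetherian scheme with its reduced structure is integral. -/
theorem isIntegral_component [IsNoetherian X] (C : Set X) (hC : C ∈ irreducibleComponents (X : Type u)) :
    Set.range (X.irreducibleComponentIdeal C hC).radical.subschemeι = C ∧
      IsIntegral (X.irreducibleComponentIdeal C hC).radical.subscheme := by
  let J := (X.irreducibleComponentIdeal C hC).radical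
  have hr : Set.range J.subschemeι = C := by
    rw [Scheme.IdealSheafData.range_subschemeι, Scheme.IdealSheafData.support_radical]; rfl
  refine ⟨hr, ?_⟩
  haveI : IsReduced J.subscheme := by
    show IsReduced (X.irreducibleComponentIdeal C hC).radical.subscheme
    rw [← Scheme.IdealSheafData.vanishingIdeal_support]
    exact Groth.L18.isReduced_vanishingIdeal_subscheme _
  obtain ⟨x, hx⟩ := hC.1.nonempty
  haveI : Nonempty J.subscheme := by
    obtain ⟨y, -⟩ := hr.ge hx
    exact ⟨y⟩
  haveI : IrreducibleSpace J.subscheme := by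
    haveI : PreirreducibleSpace J.subscheme := ⟨by
      rw [isPreirreducible_iff_isClosed_union_isClosed]
      intro A B hA hB hAB
      have hcl := J.subschemeι.isClosedEmbedding
      have h := (isPreirreducible_iff_isClosed_union_isClosed.1 hC.1.isPreirreducible) _ _
        (hcl.isClosedMap _ hA) (hcl.isClosedMap _ hB)
        (by rw [← Set.image_union, ← hr]; rintro _ ⟨y, rfl⟩; exact ⟨y, hAB trivial, rfl⟩)
      rcases h with h | h
      · refine Or.inl fun y _ => ?_
        obtain ⟨y', hy', e⟩ := h (hr.le ⟨y, rfl⟩)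
        exact hcl.injective e ▸ hy'
      · refine Or.inr fun y _ => ?_
        obtain ⟨y', hy', e⟩ := h (hr.le ⟨y, rfl⟩)
        exact hcl.injective e ▸ hy'⟩
    exact { toNonempty := inferInstance }
  exact isIntegral_of_irreducibleSpace_of_isReduced _

/-- A section with empty locus of an invertible module on a reduced scheme vanishes. -/
theorem eq_zero_of_genLocus_eq_bot [IsReduced X] {L : X.Modules} (hL : PicF.IsInvertible L)
    (s : Coh.structureModule X ⟶ L) (h : CohB1.genLocus L s = ⊥) : s = 0 := by
  refine Scheme.Modules.hom_ext _ _ fun V => ?_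
  ext (r : Γ(X, V))
  suffices hz : rs L (le_top : V ≤ ⊤) (secOf s) = 0 by
    show s.app V r = 0
    rw [app_eq, hz, smul_zero]
  refine eq_zero_of_genLocus_eq_bot.sec_eq_zero L _ fun x hx => ?_
  obtain ⟨W, e, hxW, he⟩ := Groth.L18.Frame.exists_frame hL x
  refine ⟨V ⊓ W, inf_le_left, ⟨hx, hxW⟩, ?_⟩
  obtain ⟨a, ha⟩ := (he.mono (inf_le_right : V ⊓ W ≤ W)).exists_coeff le_rfl (rs L le_top (secOf s))
  rw [rs_self] at ha
  have hb := genLocus_inf_eq s (he.mono (inf_le_right : V ⊓ W ≤ W)) ha
  rw [h, bot_inf_eq] at hb
  rw [Groth.L18.Frame.rs_rs, ← ha, (basicOpen_eq_bot_iff a).1 hb.symm, zero_smul]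
where
  sec_eq_zero (L : X.Modules) {V : X.Opens} (t : Γ(L, V))
      (ht : ∀ x ∈ V, ∃ (W : X.Opens) (e : W ≤ V), x ∈ W ∧ rs L e t = 0) : t = 0 := by
    choose W e hxW hW using ht
    refine TopCat.Sheaf.eq_of_locally_eq' ⟨L.presheaf, L.isSheaf⟩ (fun p : V => W p.1 p.2) V
      (fun p => homOfLE (e p.1 p.2)) (fun x hx => Opens.mem_iSup.2 ⟨⟨x, hx⟩, hxW x hx⟩) t 0 fun p => ?_
    rw [map_zero]
    exact hW p.1 p.2

variable (k : Type u) [Field k]

/-- On an integral proper curve a nonzero section of nonpositive degree vanishes nowhere. -/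
theorem genLocus_eq_top {C : Scheme.{u}} [C.Over (Spec (CommRingCat.of k))]
    [IsProper (C ↘ Spec (CommRingCat.of k))] [IsIntegral C] (hd : topologicalKrullDim C ≤ 1) {L : C.Modules}
    (hL : PicF.IsInvertible L) (hdeg : Curv2.deg k C L 1 ≤ 0) {s : Coh.structureModule C ⟶ L} (hs : s ≠ 0) :
    CohB1.genLocus L s = ⊤ := by
  have h := Groth.L22.CurveDeg.deg_add k hd (Groth.L18.Ample.isInvertible_structureModule C) hL hs
  rw [Groth.L22.CurveDeg.deg_structure, zero_add] at h
  exact (Groth.L19.YBlowUp.genLocus_eq_top_iff s).2 (h.2 (by omega))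

/-- A section of an invertible module of nonpositive degree on every component of a connected reduced
proper curve is zero or vanishes nowhere. -/
theorem eq_zero_or_isIso [X.Over (Spec (CommRingCat.of k))] [IsProper (X ↘ (Spec (CommRingCat.of k)))]
    [IsReduced X] [ConnectedSpace X] [IsNoetherian X]
    (hdim : ∀ (C : Set X), C ∈ irreducibleComponents (X : Type u) → topologicalKrullDim C = 1)
    {L : X.Modules} (hL : PicF.IsInvertible L)
    (hdeg : ∀ (C : Set X) (hC : C ∈ irreducibleComponents (X : Type u)),
      @Curv2.deg k _ (X.irreducibleComponentIdeal C hC).radical.subscheme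
        ⟨(X.irreducibleComponentIdeal C hC).radical.subschemeι ≫ (X ↘ (Spec (CommRingCat.of k)))⟩
        ((Scheme.Modules.pullback (X.irreducibleComponentIdeal C hC).radical.subschemeι).obj L) 1 ≤ 0)
    (s : Coh.structureModule X ⟶ L) : s = 0 ∨ IsIso s := by
  rcases eq_or_ne (CohB1.genLocus L s) ⊥ with hG | hG
  · exact Or.inl (eq_zero_of_genLocus_eq_bot hL s hG)
  refine Or.inr ((Groth.L19.YBlowUp.genLocus_eq_top_iff s).1 ?_)
  have key : ∀ C (hC : C ∈ irreducibleComponents (X : Type u)),
      ((CohB1.genLocus L s : Set X) ∩ C).Nonempty → C ⊆ (CohB1.genLocus L s : Set X) := by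
    rintro C hC ⟨x, hxG, hxC⟩
    obtain ⟨hr, hint⟩ := isIntegral_component C hC
    let i := (X.irreducibleComponentIdeal C hC).radical.subschemeι
    haveI := hint
    letI : (X.irreducibleComponentIdeal C hC).radical.subscheme.Over (Spec (CommRingCat.of k)) :=
      ⟨i ≫ (X ↘ (Spec (CommRingCat.of k)))⟩
    haveI : IsProper ((X.irreducibleComponentIdeal C hC).radical.subscheme ↘ Spec (CommRingCat.of k)) :=
      inferInstanceAs (IsProper (i ≫ (X ↘ (Spec (CommRingCat.of k)))))
    have hd : topologicalKrullDim (X.irreducibleComponentIdeal C hC).radical.subscheme ≤ 1 := by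
      have h1 := i.isClosedEmbedding.isEmbedding.toHomeomorph.isHomeomorph.topologicalKrullDim_eq
      rw [h1, hr]
      exact (hdim C hC).le
    obtain ⟨c, rfl⟩ : x ∈ Set.range i := hr.ge hxC
    have hne : pullHom i s ≠ 0 := by
      intro h0
      have h1 : c ∈ i ⁻¹ᵁ CohB1.genLocus L s := hxG
      rw [← genLocus_pullHom i hL s, h0] at h1
      exact eq_zero_or_isIso.notMem_genLocus_zero ((Groth.L18.Ample.isInvertible_pullback i hL)) c h1
    have htop := genLocus_eq_top k hd (Groth.L18.Ample.isInvertible_pullback i hL) (hdeg C hC) hne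
    rw [genLocus_pullHom i hL s] at htop
    intro y hy
    obtain ⟨d, rfl⟩ : y ∈ Set.range i := hr.ge hy
    exact htop.ge (Set.mem_univ d)
  have hclosed : IsClosed (CohB1.genLocus L s : Set X) := by
    have he : (CohB1.genLocus L s : Set X) =
        ⋃ C : {C // C ∈ irreducibleComponents (X : Type u) ∧ ((CohB1.genLocus L s : Set X) ∩ C).Nonempty}, C.1 := by
      refine Set.Subset.antisymm (fun x hx => ?_) (Set.iUnion_subset fun C => key C.1 C.2.1 C.2.2)
      exact Set.mem_iUnion.2 ⟨⟨irreducibleComponent x, irreducibleComponent_mem_irreducibleComponents x,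
        x, hx, mem_irreducibleComponent⟩, mem_irreducibleComponent⟩
    haveI : Finite {C // C ∈ irreducibleComponents (X : Type u) ∧ ((CohB1.genLocus L s : Set X) ∩ C).Nonempty} :=
      ((TopologicalSpace.NoetherianSpace.finite_irreducibleComponents (α := X)).subset fun C hC => hC.1).to_subtype
    rw [he]
    exact isClosed_iUnion_of_finite fun C => isClosed_of_mem_irreducibleComponents C.1 C.2.1
  rcases isClopen_iff.1 ⟨hclosed, (CohB1.genLocus L s).2⟩ with h | h
  · exact absurd (Opens.ext h) hG
  · exact Opens.ext h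
where
  notMem_genLocus_zero {C : Scheme.{u}} {M : C.Modules} (hM : PicF.IsInvertible M) (c : C) :
      c ∉ CohB1.genLocus M (0 : Coh.structureModule C ⟶ M) := fun h => by
    obtain ⟨W, e, hW, he⟩ := Groth.L18.Frame.exists_frame hM c
    have h1 := genLocus_inf_eq (0 : Coh.structureModule C ⟶ M) he (a := 0) (by
      rw [zero_smul]
      exact (map_zero _).symm)
    rw [Scheme.basicOpen_zero] at h1
    exact h1.le ⟨h, hW⟩

end Groth.L19.CurveSec
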