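import Groth.Agent.L19.ConormalBasis
import Groth.Agent.L19.OmegaSh.ConormalMaps
import Groth.Agent.L07.RegImmBC
import Groth.Agent.L21.Mod.Stalks

/-!
# Conormal sheaves and base change
-/

set_option autoImplicit false
set_option linter.style.haveILetI false
set_option backward.isDefEq.respectTransparency.types false
set_option backward.isDefEq.respectTransparency false

universe u

open CategoryTheory CategoryTheory.Limits AlgebraicGeometry TopologicalSpace Opposite
open scoped TensorProduct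

noncomputable section

namespace Groth.L19.ConormalBC

open Groth.L18.Frame (rs ro rs_rs rs_smul rs_self)
open _root_.OmegaSh (idealSect conormalSect pullSect IsConormalMap)
open Groth.L19.OmegaSh (idl idealSect_injective idealSect_smul idealSect_rs exists_idealSect app_idealSect
  conormalSect_smul conormalSect_rs exists_conormalMap_val conormalMap_value cVal)
open Groth.L16.AffineBC (pullRes)

variable {Z X Z' X' : Scheme.{u}} {i : Z ⟶ X} {i' : Z' ⟶ X'} {g : X ⟶ X'} {gZ : Z ⟶ Z'}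

theorem app_rs' {M N : X.Modules} (φ : M ⟶ N) {W W' : X.Opens} (h : W' ≤ W) (s : Γ(M, W)) :
    φ.app W' (rs M h s) = rs N h (φ.app W s) :=
  congr($(φ.mapPresheaf.naturality (homOfLE h).op) s)


/-- The ideal of a base change on affine opens. -/
theorem ker_eq_map (hsq : IsPullback i gZ g i') (U' : X'.affineOpens) (hV' : IsAffineOpen (i' ⁻¹ᵁ U'.1))
    (hsurj : Function.Surjective (i'.app U'.1))
    (U : X.affineOpens) (hle : U.1 ≤ g ⁻¹ᵁ U'.1) :
    RingHom.ker (i.app U.1).hom = (RingHom.ker (i'.app U'.1).hom).map (g.appLE U'.1 U.1 hle).hom := by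
  have hUY : i ⁻¹ᵁ U.1 = gZ ⁻¹ᵁ (i' ⁻¹ᵁ U'.1) ⊓ i ⁻¹ᵁ U.1 := by
    rw [eq_comm, inf_eq_right]
    intro y hy
    show i' (gZ y) ∈ U'.1
    rw [show i' (gZ y) = g (i y) from congrArg (fun m : Z ⟶ X' => m y) hsq.w.symm]
    exact hle hy
  have hσ : Function.Surjective (i'.appLE U'.1 (i' ⁻¹ᵁ U'.1) le_rfl).hom := by
    rw [← Scheme.Hom.app_eq_appLE]
    exact hsurj
  have hpush := (isIso_pushoutSection_iff hsq.flip hle (le_rfl : i' ⁻¹ᵁ U'.1 ≤ i' ⁻¹ᵁ U'.1) hUY).mp
    (isIso_pushoutSection_of_isAffineOpen hsq.flip hle le_rfl hUY U'.2 U.2 hV')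
  have hk := Groth.L07.RegImmBC.ker_of_isPushout hpush hσ
  simp only [← Scheme.Hom.app_eq_appLE] at hk
  exact hk

set_option maxHeartbeats 1600000 in
/-- The base change map of conormal sheaves on an affine open. -/
theorem app_surjective_and_injective [QuasiCompact i] [QuasiCompact i'] (hsq : IsPullback i gZ g i')
    {φ : (Scheme.Modules.pullback gZ).obj (Omega.conormal i') ⟶ Omega.conormal i}
    (hφ : IsConormalMap i i' g gZ φ) (U' : X'.affineOpens) (hV' : IsAffineOpen (i' ⁻¹ᵁ U'.1))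
    (hsurj : Function.Surjective (i'.app U'.1))
    (U : X.affineOpens) (hle : U.1 ≤ g ⁻¹ᵁ U'.1) (V : Z.affineOpens) (hV : V.1 ≤ i ⁻¹ᵁ U.1) :
    Function.Surjective (φ.app V.1) ∧ (Flat g → Function.Injective (φ.app V.1)) := by
  classical
  have e : V.1 ≤ gZ ⁻¹ᵁ (i' ⁻¹ᵁ U'.1) :=
    (hV.trans (i.preimage_mono hle)).trans (Groth.L19.OmegaSh.preimage_comm hsq.w.symm U'.1).ge
  let T' := Γ(X', U'.1)
  let T := Γ(X, U.1)
  let A' := Γ(Z', i' ⁻¹ᵁ U'.1)
  let A := Γ(Z, V.1)
  let M' := ClSub.idealMod i'.ker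
  let M := ClSub.idealMod i.ker
  haveI : Coh.IsQCoh M' := Groth.L19.ConormalBasis.isQCoh_idealMod _
  haveI : Coh.IsQCoh M := Groth.L19.ConormalBasis.isQCoh_idealMod _
  haveI : Coh.IsQCoh (Omega.conormal i') := Groth.L16.AffineBC.isQCoh_pullback i' M'
  letI a1 : Algebra T' A' := (i'.appLE U'.1 (i' ⁻¹ᵁ U'.1) le_rfl).hom.toAlgebra
  letI a2 : Algebra A' A := (gZ.appLE (i' ⁻¹ᵁ U'.1) V.1 e).hom.toAlgebra
  letI a3 : Algebra T A := (i.appLE U.1 V.1 hV).hom.toAlgebra
  letI a4 : Algebra T' T := (g.appLE U'.1 U.1 hle).hom.toAlgebra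
  letI a5 : Algebra T' A := ((algebraMap T A).comp (algebraMap T' T)).toAlgebra
  haveI : IsScalarTower T' T A := IsScalarTower.of_algebraMap_eq fun _ => rfl
  haveI : IsScalarTower T' A' A := IsScalarTower.of_algebraMap_eq fun r => by
    show (g.appLE U'.1 U.1 hle ≫ i.appLE U.1 V.1 hV) r =
      (i'.appLE U'.1 (i' ⁻¹ᵁ U'.1) le_rfl ≫ gZ.appLE (i' ⁻¹ᵁ U'.1) V.1 e) r
    rw [Scheme.Hom.appLE_comp_appLE, Scheme.Hom.appLE_comp_appLE]
    exact congr($(_root_.OmegaSh.appLE_congr_hom hsq.w _ _) r)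
  let C' := Omega.conormal i'
  let S := (Scheme.Modules.pullback gZ).obj C'
  letI := Module.compHom Γ(C', i' ⁻¹ᵁ U'.1) (i'.appLE U'.1 (i' ⁻¹ᵁ U'.1) le_rfl).hom
  haveI : IsScalarTower T' A' Γ(C', i' ⁻¹ᵁ U'.1) := IsScalarTower.of_algebraMap_smul fun _ _ => rfl
  letI := Module.compHom Γ(S, V.1) (gZ.appLE (i' ⁻¹ᵁ U'.1) V.1 e).hom
  haveI : IsScalarTower A' A Γ(S, V.1) := IsScalarTower.of_algebraMap_smul fun _ _ => rfl
  letI : Module T' Γ(S, V.1) := Module.compHom _ (algebraMap T' A)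
  haveI : IsScalarTower T' A Γ(S, V.1) := IsScalarTower.of_algebraMap_smul fun _ _ => rfl
  haveI : IsScalarTower T' A' Γ(S, V.1) := IsScalarTower.of_algebraMap_smul fun r m => by
    show algebraMap A' A (algebraMap T' A' r) • m = algebraMap T' A r • m
    rw [← IsScalarTower.algebraMap_apply T' A' A]
  letI := Module.compHom Γ(Omega.conormal i, V.1) (i.appLE U.1 V.1 hV).hom
  haveI : IsScalarTower T A Γ(Omega.conormal i, V.1) := IsScalarTower.of_algebraMap_smul fun _ _ => rfl
  letI : Module T' Γ(Omega.conormal i, V.1) := Module.compHom _ (algebraMap T' A)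
  haveI : IsScalarTower T' A Γ(Omega.conormal i, V.1) := IsScalarTower.of_algebraMap_smul fun _ _ => rfl
  haveI : IsScalarTower T' T Γ(Omega.conormal i, V.1) := IsScalarTower.of_algebraMap_smul fun r m => rfl
  letI : Module T' Γ(M, U.1) := Module.compHom _ (algebraMap T' T)
  haveI : IsScalarTower T' T Γ(M, U.1) := IsScalarTower.of_algebraMap_smul fun _ _ => rfl
  let P₁ : Γ(M', U'.1) →ₗ[T'] Γ(C', i' ⁻¹ᵁ U'.1) := pullRes i' M' (le_rfl : i' ⁻¹ᵁ U'.1 ≤ i' ⁻¹ᵁ U'.1)
  let P₂ : Γ(C', i' ⁻¹ᵁ U'.1) →ₗ[A'] Γ(S, V.1) := pullRes gZ C' e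
  let P : Γ(M, U.1) →ₗ[T] Γ(Omega.conormal i, V.1) := pullRes i M hV
  have hP₁ : IsBaseChange A' P₁ := Groth.L16.AffineBC.isBaseChange_pull i' M' U'.2 hV' le_rfl
  have hP₂ : IsBaseChange A P₂ := Groth.L16.AffineBC.isBaseChange_pull gZ C' hV' V.2 e
  have hP : IsBaseChange A P := Groth.L16.AffineBC.isBaseChange_pull i M U.2 V.2 hV
  let Q : Γ(M', U'.1) →ₗ[T'] Γ(S, V.1) := (P₂.restrictScalars T').comp P₁
  have hQ : IsBaseChange A Q := hP₁.comp hP₂
  have hker := ker_eq_map hsq U' hV' hsurj U hle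
  have hex : ∀ s' : Γ(M', U'.1), ∃ s : Γ(M, U.1),
      idealSect i.ker U.1 s = g.appLE U'.1 U.1 hle (idealSect i'.ker U'.1 s') := fun s' => by
    refine exists_idealSect i U.1 _ (RingHom.mem_ker.1 ?_)
    rw [hker]
    exact Ideal.mem_map_of_mem _ (RingHom.mem_ker.2 (app_idealSect i' U'.1 s'))
  choose b hb using hex
  let β : Γ(M', U'.1) →ₗ[T'] Γ(M, U.1) :=
    { toFun := b
      map_add' := fun s t => idealSect_injective (i := i) U.1 (by
        rw [map_add, hb, hb, hb, map_add, map_add])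
      map_smul' := fun r s => idealSect_injective (i := i) U.1 (by
        rw [hb, idealSect_smul, map_mul, ← hb]
        exact (idealSect_smul (i := i) U.1 _ _).symm) }
  have hsw : gZ ≫ i' = i ≫ g := hsq.w.symm
  have hcomm : ∀ s', φ.app V.1 (Q s') = P (β s') := fun s' => by
    show φ.app V.1 (rs S e (pullSect gZ C' (i' ⁻¹ᵁ U'.1) (rs C' le_rfl (conormalSect i' U'.1 s')))) =
      rs (Omega.conormal i) hV (conormalSect i U.1 (b s'))
    rw [rs_self, app_rs', conormalMap_value hsw hφ U'.1 s', cVal]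
    refine (rs_rs _ _ _ _).trans ?_
    have hbs : b s' = rs (idl i) hle (exists_conormalMap_val hsw U'.1 s').choose := idealSect_injective (i := i) U.1 (by
      rw [idealSect_rs, (exists_conormalMap_val hsw U'.1 s').choose_spec, hb]
      rfl)
    rw [hbs, conormalSect_rs, rs_rs]
  let L : T ⊗[T'] Γ(M', U'.1) →ₗ[T] Γ(M, U.1) := β.liftBaseChange T
  have hL : ∀ (t : T) s', L (t ⊗ₜ s') = t • b s' := fun t s' => by simp [L, β]
  have hLsurj : Function.Surjective L := by
    intro s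
    have hs : idealSect i.ker U.1 s ∈ (RingHom.ker (i'.app U'.1).hom).map (g.appLE U'.1 U.1 hle).hom := by
      rw [← hker]
      exact app_idealSect i U.1 s
    suffices key : ∀ x ∈ (RingHom.ker (i'.app U'.1).hom).map (g.appLE U'.1 U.1 hle).hom,
        ∃ w, idealSect i.ker U.1 (L w) = x by
      obtain ⟨w, hw⟩ := key _ hs
      exact ⟨w, idealSect_injective (i := i) U.1 hw⟩
    intro x hx
    induction hx using Submodule.span_induction with
    | mem x hx =>
      obtain ⟨y, hy, rfl⟩ := hx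
      obtain ⟨s', hs'⟩ := exists_idealSect i' U'.1 y (RingHom.mem_ker.1 hy)
      exact ⟨1 ⊗ₜ s', by rw [hL, one_smul, hb, hs']⟩
    | zero => exact ⟨0, by rw [map_zero, map_zero]⟩
    | add x y _ _ hx hy =>
      obtain ⟨w, rfl⟩ := hx
      obtain ⟨w', rfl⟩ := hy
      exact ⟨w + w', by rw [map_add, map_add]⟩
    | smul r x _ hx =>
      obtain ⟨w, rfl⟩ := hx
      exact ⟨r • w, by rw [map_smul, idealSect_smul]; rfl⟩
  have hlin : ∀ (a : A) (x : Γ(S, V.1)), φ.app V.1 (a • x) = a • φ.app V.1 x :=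
    fun a x => Scheme.Modules.Hom.app_smul φ a x
  refine ⟨fun y => ?_, fun hflat => ?_⟩
  · induction y using hP.inductionOn with
    | zero => exact ⟨0, map_zero _⟩
    | tmul s =>
      obtain ⟨w, rfl⟩ := hLsurj s
      induction w using TensorProduct.induction_on with
      | zero => exact ⟨0, by rw [map_zero, map_zero, map_zero]⟩
      | tmul t s' =>
        refine ⟨algebraMap T A t • Q s', ?_⟩
        rw [hlin, hcomm, hL, map_smul, algebraMap_smul]
        rfl
      | add w w' hw hw' =>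
        obtain ⟨x, hx⟩ := hw
        obtain ⟨x', hx'⟩ := hw'
        exact ⟨x + x', by rw [map_add, hx, hx', map_add, map_add]⟩
    | smul r y hy =>
      obtain ⟨x, rfl⟩ := hy
      exact ⟨r • x, hlin r x⟩
    | add y y' hy hy' =>
      obtain ⟨x, rfl⟩ := hy
      obtain ⟨x', rfl⟩ := hy'
      exact ⟨x + x', map_add _ _ _⟩
  haveI : Module.Flat T' T := g.flat_appLE U'.2 U.2 hle
  let κ : Γ(M', U'.1) →ₗ[T'] T' :=
    { toFun := idealSect i'.ker U'.1
      map_add' := map_add _
      map_smul' := fun r s => idealSect_smul (i := i') U'.1 r s }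
  have hLinj : Function.Injective L := by
    have h1 : ∀ w, idealSect i.ker U.1 (L w) = TensorProduct.rid T' T (LinearMap.lTensor T κ w) := fun w => by
      induction w using TensorProduct.induction_on with
      | zero => simp
      | tmul t s' =>
        rw [hL, idealSect_smul, hb, LinearMap.lTensor_tmul, TensorProduct.rid_tmul, Algebra.smul_def, mul_comm]
        rfl
      | add w w' hw hw' => simp only [map_add, hw, hw']
    intro w w' h
    refine Module.Flat.lTensor_preserves_injective_linearMap κ (idealSect_injective (i := i') U'.1) ?_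
    refine (TensorProduct.rid T' T).injective ?_
    rw [← h1, ← h1, h]
  have hβ : IsBaseChange T β := IsBaseChange.of_equiv (LinearEquiv.ofBijective L ⟨hLinj, hLsurj⟩) fun x => by
    rw [LinearEquiv.ofBijective_apply, hL, one_smul]
    rfl
  have hR : IsBaseChange A ((P.restrictScalars T').comp β) := hβ.comp hP
  let φₗ : Γ(S, V.1) →ₗ[A] Γ(Omega.conormal i, V.1) :=
    { toFun := φ.app V.1, map_add' := map_add _, map_smul' := hlin }
  have h2 : φₗ = (hQ.equiv.symm.trans hR.equiv).toLinearMap := hQ.algHom_ext _ _ fun x => by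
    show φ.app V.1 (Q x) = hR.equiv (hQ.equiv.symm (Q x))
    rw [hcomm, IsBaseChange.equiv_symm_apply, IsBaseChange.equiv_tmul, one_smul]
    rfl
  intro x y h
  exact (hQ.equiv.symm.trans hR.equiv).injective
    ((LinearMap.congr_fun h2 x).symm.trans (h.trans (LinearMap.congr_fun h2 y)))

/-- Surjectivity and injectivity on stalks from those on arbitrarily small opens. -/
theorem stalk_surjective_and_injective {M N : X.Modules} (φ : M ⟶ N) (x : X) (P : X.Opens → Prop)
    (hP : ∀ O : X.Opens, x ∈ O → ∃ W, P W ∧ x ∈ W ∧ W ≤ O) :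
    ((∀ W, P W → Function.Surjective (φ.app W)) → Function.Surjective ((Groth.L21.Mod.stalkF X x).map φ)) ∧
      ((∀ W, P W → Function.Injective (φ.app W)) → Function.Injective ((Groth.L21.Mod.stalkF X x).map φ)) := by
  refine ⟨fun h p => ?_, fun h => ?_⟩
  · obtain ⟨O, hO, m, rfl⟩ := TopCat.Presheaf.exists_germ_eq N.presheaf p
    obtain ⟨W, hW, hxW, hWO⟩ := hP O hO
    obtain ⟨m', hm'⟩ := h W hW (rs N hWO m)
    refine ⟨M.presheaf.germ W x hxW m', ?_⟩
    rw [Groth.L21.Mod.stalkF_map_germ, hm']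
    exact Groth.L20.ModStalk.germ_rs (M := N) hWO hxW m
  · refine (injective_iff_map_eq_zero _).2 fun p hp => ?_
    obtain ⟨O, hO, m, rfl⟩ := TopCat.Presheaf.exists_germ_eq M.presheaf p
    rw [Groth.L21.Mod.stalkF_map_germ] at hp
    obtain ⟨W₀, hxW₀, i1, i2, h0⟩ := N.presheaf.germ_eq x hO hO (φ.app O m) 0 (hp.trans (map_zero _).symm)
    obtain ⟨W, hW, hxW, hWW⟩ := hP W₀ hxW₀
    have h1 : φ.app W (rs M (hWW.trans i1.le) m) = φ.app W 0 := by
      rw [app_rs', map_zero, ← rs_rs N i1.le hWW,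
        show rs N i1.le (φ.app O m) = 0 from h0.trans (map_zero _)]
      exact map_zero _
    refine (Groth.L20.ModStalk.germ_rs (M := M) (hWW.trans i1.le) hxW m).symm.trans ?_
    rw [h W hW h1]
    exact map_zero _

end Groth.L19.ConormalBC
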