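import Groth.Prelude.Def_CInt
import Mathlib.AlgebraicGeometry.Noetherian
import Mathlib.AlgebraicGeometry.Morphisms.Flat
import Mathlib.RingTheory.Flat.Basic
import Mathlib.RingTheory.Ideal.AssociatedPrime.Localization

/-!
Schematically dense opens on locally Noetherian schemes: affine criterion, flat preimages.
-/

universe u

open CategoryTheory CategoryTheory.Limits AlgebraicGeometry TopologicalSpace TensorProduct

namespace Groth.Agent.L19.SchDense

theorem flat_killed {A B : Type u} [CommRing A] [CommRing B] [Algebra A B] [Module.Flat A B]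
    {ι : Type u} [Fintype ι] (c : ι → A) (h : ∀ a : A, (∀ i, c i * a = 0) → a = 0)
    (b : B) (hb : ∀ i, algebraMap A B (c i) * b = 0) : b = 0 := by
  classical
  have hinj : Function.Injective (LinearMap.pi fun i => LinearMap.mulLeft A (c i) : A →ₗ[A] ι → A) := by
    rw [injective_iff_map_eq_zero]
    intro a ha
    exact h a fun i => congr_fun ha i
  have h2 := Module.Flat.lTensor_preserves_injective_linearMap (M := B) _ hinj
  have h3 : (b ⊗ₜ[A] (1 : A)) = 0 := by
    apply h2
    rw [map_zero, LinearMap.lTensor_tmul]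
    apply (TensorProduct.piScalarRight A A B ι).injective
    rw [map_zero]
    funext i
    rw [TensorProduct.piScalarRight_apply, TensorProduct.piScalarRightHom_tmul]
    simpa [Algebra.smul_def] using hb i
  simpa using congrArg (TensorProduct.rid A B) h3

variable {X : Scheme.{u}}

/-- If sections agree with zero on `U ∩ V` and `V ∩ A'` is covered by finitely many basic opens. -/
theorem exists_cover (V : X.Opens) {A' : X.Opens} (hA : IsAffineOpen A') [IsLocallyNoetherian X] :
    ∃ t : Finset Γ(X, A'), A' ⊓ V = ⨆ g : t, X.basicOpen (g : Γ(X, A')) := by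
  classical
  haveI : IsNoetherianRing Γ(X, A') := IsLocallyNoetherian.component_noetherian ⟨A', hA⟩
  haveI : NoetherianSpace (A' : Set X) := noetherianSpace_of_isAffineOpen A' hA
  have hc : IsCompact ((A' ⊓ V : X.Opens) : Set X) := by
    have h1 : IsCompact ((Subtype.val : ↥(A' : Set X) → X) ⁻¹' (V : Set X)) :=
      NoetherianSpace.isCompact _
    have h2 := h1.image continuous_subtype_val
    rwa [Set.image_preimage_eq_inter_range, Subtype.range_coe, Set.inter_comm] at h2
  have hcov : ((A' ⊓ V : X.Opens) : Set X) ⊆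
      ⋃ g : {g : Γ(X, A') // X.basicOpen g ≤ A' ⊓ V}, (X.basicOpen g.1 : Set X) := by
    intro x hx
    obtain ⟨g, hg, hxg⟩ := hA.exists_basicOpen_le (V := A' ⊓ V) ⟨x, hx⟩ hx.1
    exact Set.mem_iUnion.2 ⟨⟨g, hg⟩, hxg⟩
  obtain ⟨t, ht⟩ := hc.elim_finite_subcover (fun g : {g : Γ(X, A') // X.basicOpen g ≤ A' ⊓ V} => (X.basicOpen g.1 : Set X)) (fun g => (X.basicOpen g.1).isOpen) hcov
  refine ⟨t.image Subtype.val, le_antisymm (fun x hx => ?_) (iSup_le ?_)⟩
  · obtain ⟨g, hg, hxg⟩ := Set.mem_iUnion₂.1 (ht hx)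
    exact Opens.mem_iSup.2 ⟨⟨g.1, Finset.mem_image_of_mem _ hg⟩, hxg⟩
  · rintro ⟨g, hg⟩
    obtain ⟨g', -, rfl⟩ := Finset.mem_image.1 hg
    exact g'.2

/-- A section killed on a schematically dense open, covered by basic opens. -/
theorem eq_zero_of_killed {V : X.Opens} (hV : CInt.IsSchematicallyDense V) {A' : X.Opens}
    (t : Finset Γ(X, A')) (hA : IsAffineOpen A')
    (ht : A' ⊓ V = ⨆ g : t, X.basicOpen (g : Γ(X, A'))) (n : ℕ) (a : Γ(X, A'))
    (ha : ∀ g : t, (g : Γ(X, A')) ^ n * a = 0) : a = 0 := by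
  apply hV A'
  rw [map_zero]
  refine TopCat.Sheaf.eq_of_locally_eq' X.sheaf (fun g : t => X.basicOpen (g : Γ(X, A'))) (A' ⊓ V)
    (fun g => homOfLE (ht ▸ le_iSup (fun g : t => X.basicOpen (g : Γ(X, A'))) g)) ht.le _ _ fun g => ?_
  change X.presheaf.map _ (X.presheaf.map _ a) = X.presheaf.map _ 0
  rw [map_zero, ← ConcreteCategory.comp_apply, ← Functor.map_comp]
  haveI := hA.isLocalization_basicOpen (g : Γ(X, A'))
  refine (IsLocalization.map_eq_zero_iff (Submonoid.powers (g : Γ(X, A'))) Γ(X, X.basicOpen (g : Γ(X, A'))) a).2 ?_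
  exact ⟨⟨(g : Γ(X, A')) ^ n, n, rfl⟩, ha g⟩

theorem isSchematicallyDense_preimage {X' : Scheme.{u}} (f : X' ⟶ X) [Flat f]
    [IsLocallyNoetherian X] (V : X.Opens) (hV : CInt.IsSchematicallyDense V) :
    CInt.IsSchematicallyDense (f ⁻¹ᵁ V) := by
  intro W
  rw [injective_iff_map_eq_zero]
  intro s hs
  refine X'.sheaf.eq_of_locally_eq' (fun B : {B : X'.affineOpens // B.1 ≤ W ∧
      ∃ A' : X.affineOpens, B.1 ≤ f ⁻¹ᵁ A'.1} => B.1.1) W
    (fun B => homOfLE B.2.1) (fun x hx => ?_) _ _ fun B => ?_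
  · obtain ⟨A', hA', hxA, -⟩ := exists_isAffineOpen_mem_and_subset (x := f x) (U := ⊤) trivial
    obtain ⟨B', hB', hxB, hB⟩ := exists_isAffineOpen_mem_and_subset (x := x) (U := W ⊓ f ⁻¹ᵁ A')
      ⟨hx, hxA⟩
    exact Opens.mem_iSup.2 ⟨⟨⟨B', hB'⟩, fun y hy => (hB hy).1, ⟨A', hA'⟩, fun y hy => (hB hy).2⟩, hxB⟩
  obtain ⟨⟨B', hB'⟩, hBW, ⟨A', hA⟩, hBA⟩ := B
  change X'.presheaf.map _ s = X'.presheaf.map _ 0
  rw [map_zero]
  set b := X'.presheaf.map (homOfLE hBW).op s with hb
  obtain ⟨t, ht⟩ := exists_cover V hA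
  letI := (f.appLE A' B' hBA).hom.toAlgebra
  haveI : Module.Flat Γ(X, A') Γ(X', B') := f.flat_appLE hA hB' hBA
  have hloc : ∀ g : t, ∃ n : ℕ, algebraMap Γ(X, A') Γ(X', B') (g : Γ(X, A')) ^ n * b = 0 := by
    intro g
    set g' := algebraMap Γ(X, A') Γ(X', B') (g : Γ(X, A')) with hg'
    haveI := hB'.isLocalization_basicOpen g'
    have hle : X'.basicOpen g' ≤ f ⁻¹ᵁ V := by
      rw [hg', RingHom.algebraMap_toAlgebra, Scheme.basicOpen_appLE]
      refine inf_le_right.trans (f.preimage_mono ?_)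
      exact ((le_iSup (fun g : t => X.basicOpen (g : Γ(X, A'))) g).trans ht.ge).trans inf_le_right
    have h0 : algebraMap Γ(X', B') Γ(X', X'.basicOpen g') b = 0 := by
      have := congrArg (X'.presheaf.map (homOfLE (show X'.basicOpen g' ≤ W ⊓ f ⁻¹ᵁ V from
        le_inf ((X'.basicOpen_le g').trans hBW) hle)).op) hs
      rw [map_zero, ← ConcreteCategory.comp_apply, ← Functor.map_comp] at this
      change X'.presheaf.map _ (X'.presheaf.map _ s) = 0
      rw [← ConcreteCategory.comp_apply, ← Functor.map_comp]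
      exact this
    obtain ⟨⟨_, n, rfl⟩, hn⟩ :=
      (IsLocalization.map_eq_zero_iff (Submonoid.powers g') Γ(X', X'.basicOpen g') b).1 h0
    exact ⟨n, hn⟩
  choose n hn using hloc
  classical
  let N := Finset.univ.sup n
  refine flat_killed (fun g : t => (g : Γ(X, A')) ^ N)
    (fun a ha => eq_zero_of_killed hV t hA ht N a ha) b fun g => ?_
  obtain ⟨k, hk⟩ := Nat.exists_eq_add_of_le (Finset.le_sup (f := n) (Finset.mem_univ g))
  rw [map_pow, show N = k + n g by omega, pow_add, mul_assoc, hn g, mul_zero]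

theorem isAssociatedPrime_stalk_iff [IsLocallyNoetherian X] {A' : X.Opens} (hA : IsAffineOpen A')
    (x : X) (hx : x ∈ A') :
    IsAssociatedPrime (IsLocalRing.maximalIdeal (X.presheaf.stalk x)) (X.presheaf.stalk x) ↔
      IsAssociatedPrime (hA.primeIdealOf ⟨x, hx⟩).asIdeal Γ(X, A') := by
  haveI : IsNoetherianRing Γ(X, A') := IsLocallyNoetherian.component_noetherian ⟨A', hA⟩
  letI : Algebra Γ(X, A') (X.presheaf.stalk x) := (X.presheaf.germ A' x hx).hom.toAlgebra
  haveI : IsLocalization.AtPrime (X.presheaf.stalk x) (hA.primeIdealOf ⟨x, hx⟩).asIdeal :=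
    hA.isLocalization_stalk ⟨x, hx⟩
  set S := (hA.primeIdealOf ⟨x, hx⟩).asIdeal.primeCompl
  haveI : IsLocalizedModule S (Algebra.linearMap Γ(X, A') (X.presheaf.stalk x)) :=
    isLocalizedModule_iff_isLocalization.mpr inferInstance
  have hc : (IsLocalRing.maximalIdeal (X.presheaf.stalk x)).comap
      (algebraMap Γ(X, A') (X.presheaf.stalk x)) = (hA.primeIdealOf ⟨x, hx⟩).asIdeal :=
    IsLocalization.AtPrime.comap_maximalIdeal _ _
  constructor
  · intro h
    rw [← hc]
    exact Module.associatedPrimes.comap_mem_associatedPrimes_of_mem_associatedPrimes_of_isLocalizedModule_of_fg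
      S (Algebra.linearMap Γ(X, A') (X.presheaf.stalk x)) _ h (IsNoetherian.noetherian _)
  · intro h
    rw [← hc] at h
    exact Module.associatedPrimes.mem_associatedPrimes_of_comap_mem_associatedPrimes_of_isLocalizedModule
      S (Algebra.linearMap Γ(X, A') (X.presheaf.stalk x)) _ h

theorem isSchematicallyDense_iff [IsLocallyNoetherian X] (U : X.Opens) :
    CInt.IsSchematicallyDense U ↔ ∀ x : ↥X,
      IsAssociatedPrime (IsLocalRing.maximalIdeal ↑(X.presheaf.stalk x)) ↑(X.presheaf.stalk x) → x ∈ U := by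
  constructor
  · intro hU x hx
    obtain ⟨A', hA, hxA, -⟩ := exists_isAffineOpen_mem_and_subset (x := x) (U := ⊤) trivial
    haveI : IsNoetherianRing Γ(X, A') := IsLocallyNoetherian.component_noetherian ⟨A', hA⟩
    obtain ⟨hp, a, ha⟩ := isAssociatedPrime_iff.1 ((isAssociatedPrime_stalk_iff hA x hxA).1 hx)
    obtain ⟨t, ht⟩ := exists_cover U hA
    by_contra hxU
    have hg : ∀ g : t, (g : Γ(X, A')) ∈ (hA.primeIdealOf ⟨x, hxA⟩).asIdeal := fun g => by
      by_contra hg
      refine hxU (((le_iSup (fun g : t => X.basicOpen (g : Γ(X, A'))) g).trans ht.ge).trans inf_le_right ?_)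
      show x ∈ X.basicOpen (g : Γ(X, A'))
      suffices hA.fromSpec (hA.primeIdealOf ⟨x, hxA⟩) ∈ X.basicOpen (g : Γ(X, A')) by
        rwa [hA.fromSpec_primeIdealOf] at this
      have : hA.primeIdealOf ⟨x, hxA⟩ ∈ PrimeSpectrum.basicOpen (g : Γ(X, A')) := hg
      rw [← hA.fromSpec_preimage_basicOpen] at this
      exact this
    have h0 : a = 0 := eq_zero_of_killed hU t hA ht 1 a fun g => by
      have := hg g
      rw [ha, Submodule.mem_colon_singleton, Submodule.mem_bot, smul_eq_mul] at this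
      rwa [pow_one]
    apply hp.ne_top
    rw [ha, h0, Ideal.eq_top_iff_one]
    simp [Submodule.mem_colon_singleton]
  · intro h W
    rw [injective_iff_map_eq_zero]
    intro s hs
    refine X.sheaf.eq_of_locally_eq' (fun B : {B : X.affineOpens // B.1 ≤ W} => B.1.1) W
      (fun B => homOfLE B.2) (fun x hx => ?_) _ _ fun B => ?_
    · obtain ⟨B', hB', hxB, hB⟩ := exists_isAffineOpen_mem_and_subset (x := x) (U := W) hx
      exact Opens.mem_iSup.2 ⟨⟨⟨B', hB'⟩, hB⟩, hxB⟩
    obtain ⟨⟨A', hA⟩, hAW⟩ := B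
    change X.presheaf.map _ s = X.presheaf.map _ 0
    rw [map_zero]
    set a := X.presheaf.map (homOfLE hAW).op s with ha_def
    haveI : IsNoetherianRing Γ(X, A') := IsLocallyNoetherian.component_noetherian ⟨A', hA⟩
    by_contra hne
    obtain ⟨q, hq, hle⟩ := exists_le_isAssociatedPrime_of_isNoetherianRing Γ(X, A') a hne
    let x : X := hA.fromSpec ⟨q, hq.isPrime⟩
    have hxA : x ∈ A' := by
      rw [← SetLike.mem_coe, ← hA.range_fromSpec]
      exact ⟨_, rfl⟩
    have hpx : hA.primeIdealOf ⟨x, hxA⟩ = ⟨q, hq.isPrime⟩ :=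
      hA.fromSpec.isOpenEmbedding.injective (hA.fromSpec_primeIdealOf ⟨x, hxA⟩)
    have hxU : x ∈ U := h x ((isAssociatedPrime_stalk_iff hA x hxA).2 (by rw [hpx]; exact hq))
    obtain ⟨g, hg, hxg⟩ := hA.exists_basicOpen_le (V := A' ⊓ U) ⟨x, hxA, hxU⟩ hxA
    haveI := hA.isLocalization_basicOpen g
    have h0 : algebraMap Γ(X, A') Γ(X, X.basicOpen g) a = 0 := by
      have := congrArg (X.presheaf.map (homOfLE (show X.basicOpen g ≤ W ⊓ U from
        le_inf ((X.basicOpen_le g).trans hAW) (hg.trans inf_le_right))).op) hs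
      rw [map_zero, ← ConcreteCategory.comp_apply, ← Functor.map_comp] at this
      change X.presheaf.map _ (X.presheaf.map _ s) = 0
      rw [← ConcreteCategory.comp_apply, ← Functor.map_comp]
      exact this
    obtain ⟨⟨_, n, rfl⟩, hn⟩ :=
      (IsLocalization.map_eq_zero_iff (Submonoid.powers g) Γ(X, X.basicOpen g) a).1 h0
    have hgq : g ^ n ∈ q := hle (by
      rw [Submodule.mem_colon_singleton, Submodule.mem_bot, smul_eq_mul]; exact hn)
    have : (⟨q, hq.isPrime⟩ : PrimeSpectrum Γ(X, A')) ∈ PrimeSpectrum.basicOpen g := by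
      rw [← hA.fromSpec_preimage_basicOpen]
      exact hxg
    exact this (hq.isPrime.mem_of_pow_mem n hgq)

end Groth.Agent.L19.SchDense
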