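import Mathlib.AlgebraicGeometry.SpreadingOut
import Mathlib.AlgebraicGeometry.Morphisms.FinitePresentation
import Groth.Agent.L02.CAlg.EssFP

/-!
# Spreading out morphisms from `Spec` of a stalk into a scheme locally of finite presentation

No hypothesis on the source is needed.
-/

set_option autoImplicit false
set_option linter.style.haveILetI false
set_option backward.isDefEq.respectTransparency.types false
set_option backward.isDefEq.respectTransparency false

universe u

open CategoryTheory AlgebraicGeometry TopologicalSpace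

namespace Groth.L19.SpreadLfp

variable {X Y S : Scheme.{u}}

/-- A morphism of rings from a finitely presented algebra into a stalk lifts to an affine
neighbourhood. -/
theorem exists_lift {x : X} {W : X.Opens} (hW : IsAffineOpen W) (hxW : x ∈ W)
    {R A : CommRingCat.{u}} (φ : A ⟶ X.presheaf.stalk x) (φRA : R ⟶ A) (φRX : R ⟶ Γ(X, W))
    (hfp : RingHom.FinitePresentation φRA.hom)
    (e : φRA ≫ φ = φRX ≫ X.presheaf.germ W x hxW) :
    ∃ (W' : X.Opens) (hxW' : x ∈ W') (φ' : A ⟶ Γ(X, W')) (i : W' ≤ W), IsAffineOpen W' ∧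
      φ = φ' ≫ X.presheaf.germ W' x hxW' ∧ φRX ≫ X.presheaf.map i.hom.op = φRA ≫ φ' := by
  letI : Algebra Γ(X, W) (X.presheaf.stalk x) :=
    TopCat.Presheaf.algebra_section_stalk X.presheaf ⟨x, hxW⟩
  haveI := hW.isLocalization_stalk ⟨x, hxW⟩
  letI : Algebra R A := φRA.hom.toAlgebra
  haveI : Algebra.FinitePresentation R A := hfp
  letI : Algebra R Γ(X, W) := φRX.hom.toAlgebra
  letI : Algebra R (X.presheaf.stalk x) := (φRX ≫ X.presheaf.germ W x hxW).hom.toAlgebra
  haveI : IsScalarTower R Γ(X, W) (X.presheaf.stalk x) := IsScalarTower.of_algebraMap_eq' rfl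
  let χ : A →ₐ[R] X.presheaf.stalk x :=
    { φ.hom with commutes' := DFunLike.congr_fun (congr_arg CommRingCat.Hom.hom e) }
  obtain ⟨f, hf, ρ, hρ⟩ := Groth.L02.EssFP.exists_algHom_away
    (hW.primeIdealOf ⟨x, hxW⟩).asIdeal.primeCompl (X.presheaf.stalk x) χ
  have hxW' : x ∈ X.basicOpen f := by
    rw [Scheme.mem_basicOpen _ _ x hxW]
    exact IsLocalization.map_units (X.presheaf.stalk x)
      (⟨f, hf⟩ : (hW.primeIdealOf ⟨x, hxW⟩).asIdeal.primeCompl)
  have hu : IsUnit ((X.presheaf.map (X.basicOpen_le f).hom.op).hom f) :=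
    RingedSpace.isUnit_res_basicOpen _ f
  let ι : Localization.Away f →+* Γ(X, X.basicOpen f) := IsLocalization.Away.lift f hu
  have hι : ∀ c, ι (algebraMap Γ(X, W) _ c) = (X.presheaf.map (X.basicOpen_le f).hom.op).hom c :=
    fun c => IsLocalization.Away.lift_eq f hu c
  refine ⟨X.basicOpen f, hxW', CommRingCat.ofHom (ι.comp ρ.toRingHom), X.basicOpen_le f,
    hW.basicOpen f, ?_, ?_⟩
  · ext a
    refine (hρ a).symm.trans ?_
    change _ = (X.presheaf.germ (X.basicOpen f) x hxW').hom (ι (ρ a))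
    generalize ρ a = z
    let g : Localization.Away f →+* X.presheaf.stalk x :=
      (IsLocalization.liftAlgHom (M := Submonoid.powers f)
        (f := Algebra.ofId Γ(X, W) (X.presheaf.stalk x))
        (fun y => IsLocalization.map_units (X.presheaf.stalk x)
          (⟨(y : Γ(X, W)), Submonoid.powers_le.mpr hf y.2⟩ :
            (hW.primeIdealOf ⟨x, hxW⟩).asIdeal.primeCompl))).toRingHom
    change g z = ((X.presheaf.germ (X.basicOpen f) x hxW').hom.comp ι) z
    refine DFunLike.congr_fun ?_ z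
    refine IsLocalization.ringHom_ext (Submonoid.powers f) ?_
    ext c
    simp only [RingHom.comp_apply]
    rw [hι]
    refine (IsLocalization.lift_eq _ c).trans ?_
    exact (X.presheaf.germ_res_apply _ _ _ _).symm
  · ext r
    change (X.presheaf.map _).hom (φRX r) = ι (ρ (algebraMap R A r))
    rw [ρ.commutes, IsScalarTower.algebraMap_apply R Γ(X, W) (Localization.Away f), hι]
    rfl

variable (sX : X ⟶ S) (sY : Y ⟶ S)

theorem spread_out [LocallyOfFinitePresentation sY] {x : X} {y : Y}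
    (e : sX x = sY y) (φ : Y.presheaf.stalk y ⟶ X.presheaf.stalk x)
    (h : sY.stalkMap y ≫ φ =
      S.presheaf.stalkSpecializes (Inseparable.of_eq e).specializes ≫ sX.stalkMap x) :
    ∃ (U : X.Opens) (hxU : x ∈ U) (f : U.toScheme ⟶ Y),
      Spec.map φ ≫ Y.fromSpecStalk y = U.fromSpecStalkOfMem x hxU ≫ f ∧
      f ≫ sY = U.ι ≫ sX := by
  obtain ⟨_, ⟨U, hU, rfl⟩, hxU, -⟩ :=
    S.isBasis_affineOpens.exists_subset_of_mem_open (Set.mem_univ (sX x)) isOpen_univ
  have hyU : sY y ∈ U := e ▸ hxU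
  obtain ⟨_, ⟨V : Y.Opens, hV, rfl⟩, hyV, iVU⟩ :=
    Y.isBasis_affineOpens.exists_subset_of_mem_open hyU (sY ⁻¹ᵁ U).2
  obtain ⟨_, ⟨W₀ : X.Opens, hW₀, rfl⟩, hxW₀, iW₀U⟩ :=
    X.isBasis_affineOpens.exists_subset_of_mem_open hxU (sX ⁻¹ᵁ U).2
  have : sY.appLE U V iVU ≫ Y.presheaf.germ V y hyV ≫ φ =
      sX.appLE U W₀ iW₀U ≫ X.presheaf.germ W₀ x hxW₀ := by
    simp only [Scheme.Hom.appLE, Category.assoc, Y.presheaf.germ_res_assoc, X.presheaf.germ_res]
    rw [← Scheme.Hom.germ_stalkMap_assoc, h]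
    simp
  obtain ⟨W, hxW, φ', i, hW, h₁, h₂⟩ :=
    exists_lift hW₀ hxW₀ (Y.presheaf.germ _ y hyV ≫ φ) (sY.appLE U V iVU) (sX.appLE U W₀ iW₀U)
    (sY.finitePresentation_appLE hU hV _) this
  rw [Scheme.Hom.appLE_map] at h₂
  refine ⟨W, hxW, W.toSpecΓ ≫ Spec.map φ' ≫ hV.fromSpec, ?_, ?_⟩
  · rw [W.fromSpecStalkOfMem_toSpecΓ_assoc x hxW, ← Spec.map_comp_assoc, ← h₁,
      Spec.map_comp, Category.assoc, ← IsAffineOpen.fromSpecStalk,
      IsAffineOpen.fromSpecStalk_eq_fromSpecStalk]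
  · simp only [Category.assoc]
    rw [← IsAffineOpen.SpecMap_appLE_fromSpec sY hU hV iVU, ← Spec.map_comp_assoc, ← h₂,
      ← hW.isoSpec_hom, IsAffineOpen.SpecMap_appLE_fromSpec sX hU hW,
      ← Iso.eq_inv_comp, IsAffineOpen.isoSpec_inv_ι_assoc]

/-- Morphisms out of `Spec 𝒪_{X,x}` into a scheme locally of finite presentation spread out. -/
theorem spread_out' [LocallyOfFinitePresentation sY] {x : X}
    (φ : Spec (X.presheaf.stalk x) ⟶ Y)
    (h : φ ≫ sY = X.fromSpecStalk x ≫ sX) :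
    ∃ (U : X.Opens) (hxU : x ∈ U) (f : U.toScheme ⟶ Y),
      φ = U.fromSpecStalkOfMem x hxU ≫ f ∧ f ≫ sY = U.ι ≫ sX := by
  have := spread_out sX sY ?_ (Scheme.stalkClosedPointTo φ) ?_
  · simpa only [Scheme.Spec_stalkClosedPointTo_fromSpecStalk] using this
  · rw [← Scheme.Hom.comp_apply, h, Scheme.Hom.comp_apply, Scheme.fromSpecStalk_closedPoint]
  · apply Spec.map_injective
    rw [← cancel_mono (S.fromSpecStalk _)]
    simpa only [Spec.map_comp, Category.assoc, Scheme.SpecMap_stalkMap_fromSpecStalk,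
      Scheme.Spec_stalkClosedPointTo_fromSpecStalk_assoc,
      Scheme.SpecMap_stalkSpecializes_fromSpecStalk]

end Groth.L19.SpreadLfp
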