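import Groth.Agent.L07.SyntRel
import Groth.Agent.S2463
import Mathlib.RingTheory.Kaehler.Polynomial
import Mathlib.LinearAlgebra.Matrix.NonsingularInverse
import Mathlib.LinearAlgebra.Matrix.Rank
import Mathlib.RingTheory.Smooth.Locus

/-!
# The Jacobian criterion for relative global complete intersections
-/

set_option autoImplicit false
set_option linter.style.haveILetI false
set_option maxSynthPendingDepth 3

universe u

open TensorProduct KaehlerDifferential MvPolynomial

namespace Groth.L19.RelGCISmooth

/-- A `c × n` matrix with independent rows has an invertible maximal minor. -/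
theorem exists_minor {K : Type*} [Field K] {n c : ℕ} (J : Fin c → Fin n → K) :
    LinearIndependent K J ↔ ∃ I : Fin c ↪ Fin n, (Matrix.of fun j i => J j (I i)).det ≠ 0 := by
  classical
  constructor
  · intro h
    have hspan : Submodule.span K (Set.range fun i => fun j => J j i) = (⊤ : Submodule K (Fin c → K)) := by
      apply Submodule.eq_top_of_finrank_eq
      have h1 := h.rank_matrix (M := Matrix.of J)
      rw [Matrix.rank_eq_finrank_span_cols] at h1
      rw [Module.finrank_fin_fun]
      exact h1.trans (Fintype.card_fin c)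
    obtain ⟨ι, a, ha, hsp, hli⟩ := exists_linearIndependent' K (fun i => fun j => J j i)
    haveI : Fintype ι := Fintype.ofInjective a ha
    have hcard : Fintype.card ι = c := by
      have := finrank_span_eq_card hli
      rw [hsp, hspan, finrank_top, Module.finrank_fin_fun] at this
      exact this.symm
    let e : Fin c ≃ ι := (Fintype.equivFinOfCardEq hcard).symm
    refine ⟨⟨a ∘ e, ha.comp e.injective⟩, ?_⟩
    rw [← isUnit_iff_ne_zero, ← Matrix.isUnit_iff_isUnit_det, ← Matrix.linearIndependent_cols_iff_isUnit]
    exact hli.comp e e.injective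
  · rintro ⟨I, hI⟩
    rw [← isUnit_iff_ne_zero, ← Matrix.isUnit_iff_isUnit_det,
      ← Matrix.linearIndependent_rows_iff_isUnit] at hI
    exact LinearIndependent.of_comp (LinearMap.funLeft K K I) hI

variable {R : Type u} [CommRing R] {n c : ℕ}

local notation "Po" => MvPolynomial (Fin n) R

theorem injective_iff (F : Fin c → Po) (hF : Synt.IsRelGCI R n c F)
    (q : Ideal (Synt.RelGCIRing R n c F)) [q.IsPrime] :
    Function.Injective ((kerCotangentToTensor R Po (Synt.RelGCIRing R n c F)).lTensor q.ResidueField) ↔
      LinearIndependent q.ResidueField (fun j i => algebraMap Po q.ResidueField (pderiv i (F j))) := by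
  classical
  let C := Synt.RelGCIRing R n c F
  let κ := q.ResidueField
  let I := RingHom.ker (algebraMap Po C)
  have hI : I = Ideal.span (Set.range F) := Ideal.Quotient.mkₐ_ker R _
  have hFI : ∀ j, F j ∈ I := fun j => hI ▸ Ideal.subset_span ⟨j, rfl⟩
  have hκ : ∀ (k : κ) (b : Po) (M : Type u) [AddCommGroup M] [Module Po M] (m : M),
      k ⊗ₜ[Po] (b • m) = (algebraMap Po κ b * k) ⊗ₜ[Po] m := fun k b M _ _ m => by
    rw [TensorProduct.tmul_smul, TensorProduct.smul_tmul', Algebra.smul_def]
  let g : Fin c → κ ⊗[Po] I.Cotangent := fun j => 1 ⊗ₜ I.toCotangent ⟨F j, hFI j⟩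
  let σ : (Fin c → κ) →ₗ[κ] κ ⊗[Po] I.Cotangent := Fintype.linearCombination κ g
  -- surjectivity
  let π : (Fin c → Po) →ₗ[Po] I.Cotangent :=
    Fintype.linearCombination Po fun j => I.toCotangent ⟨F j, hFI j⟩
  have hπv : ∀ v : Fin c → Po, π v = I.toCotangent (∑ j, v j • (⟨F j, hFI j⟩ : I)) := fun v => by
    rw [map_sum]
    simp only [map_smul]
    exact Fintype.linearCombination_apply Po _ v
  have hπ : Function.Surjective π := by
    intro z
    obtain ⟨⟨y, hy⟩, rfl⟩ := I.toCotangent_surjective z
    have hy' : y ∈ Ideal.span (Set.range F) := hI ▸ hy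
    rw [Ideal.span, Submodule.mem_span_range_iff_exists_fun] at hy'
    obtain ⟨v, hv⟩ := hy'
    refine ⟨v, (hπv v).trans (congrArg I.toCotangent (Subtype.ext ?_))⟩
    simpa using hv
  have hσ : Function.Surjective σ := by
    intro z
    induction z using TensorProduct.induction_on with
    | zero => exact ⟨0, map_zero _⟩
    | add a b ha hb =>
      obtain ⟨x, rfl⟩ := ha
      obtain ⟨y, rfl⟩ := hb
      exact ⟨x + y, map_add _ _ _⟩
    | tmul k z =>
      obtain ⟨v, rfl⟩ := hπ z
      refine ⟨fun j => algebraMap Po κ (v j) * k, ?_⟩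
      rw [Fintype.linearCombination_apply, Fintype.linearCombination_apply, TensorProduct.tmul_sum]
      refine Finset.sum_congr rfl fun j _ => ?_
      rw [hκ, TensorProduct.smul_tmul', smul_eq_mul, mul_one]
  -- freeness of the conormal module
  let toκ : (Fin c → Po) →ₗ[Po] (Fin c → κ) :=
    LinearMap.pi fun j => (Algebra.linearMap Po κ).comp (LinearMap.proj j)
  have hker : LinearMap.ker π ≤ LinearMap.ker toκ := by
    intro v hv
    rw [LinearMap.mem_ker, hπv, Ideal.toCotangent_eq_zero] at hv
    refine LinearMap.mem_ker.2 (funext fun j => ?_)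
    have : v j ∈ Ideal.span (Set.range F) :=
      Groth.L07.SyntRel.mem_span_of_sum_mem_sq hF v (by rw [← hI]; simpa using hv) j
    show algebraMap Po κ (v j) = 0
    rw [IsScalarTower.algebraMap_apply Po C κ,
      show algebraMap Po C (v j) = 0 from Ideal.Quotient.eq_zero_iff_mem.2 this, map_zero]
  let coord : I.Cotangent →ₗ[Po] (Fin c → κ) :=
    (LinearMap.ker π).liftQ toκ hker ∘ₗ (LinearMap.quotKerEquivOfSurjective π hπ).symm.toLinearMap
  have hcoord : ∀ j, coord (I.toCotangent ⟨F j, hFI j⟩) = Pi.single j 1 := fun j => by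
    have h1 : π (Pi.single j 1) = I.toCotangent ⟨F j, hFI j⟩ := by simp [π]
    rw [← h1]
    simp only [coord, LinearMap.coe_comp, LinearEquiv.coe_coe, Function.comp_apply]
    rw [show π (Pi.single j 1) = LinearMap.quotKerEquivOfSurjective π hπ
      (Submodule.Quotient.mk (Pi.single j 1)) from (LinearMap.quotKerEquivOfSurjective_apply_mk π hπ _).symm]
    rw [LinearEquiv.symm_apply_apply, Submodule.liftQ_apply]
    ext i
    simp [toκ, Pi.single_apply, apply_ite (algebraMap Po κ)]
  have hσi : Function.Injective σ := by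
    refine Function.LeftInverse.injective (g := coord.liftBaseChange κ) fun x => ?_
    have h : coord.liftBaseChange κ ∘ₗ σ = LinearMap.id := by
      refine (Pi.basisFun κ (Fin c)).ext fun j => ?_
      simp only [Pi.basisFun_apply, LinearMap.comp_apply, LinearMap.id_apply]
      rw [show σ (Pi.single j 1) = g j by simp [σ], LinearMap.liftBaseChange_tmul, one_smul, hcoord]
    exact LinearMap.congr_fun h x
  -- coordinates on the differentials
  let b := mvPolynomialBasis R (Fin n)
  let q₀ : Ω[Po⁄R] →ₗ[Po] (Fin n → κ) :=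
    LinearMap.pi fun i => (Algebra.linearMap Po κ).comp ((Finsupp.lapply i).comp b.repr.toLinearMap)
  have hC : Function.Surjective (algebraMap Po C) := Ideal.Quotient.mk_surjective
  haveI : IsScalarTower Po C κ := inferInstanceAs (IsScalarTower Po (Synt.RelGCIRing R n c F) q.ResidueField)
  haveI : IsScalarTower Po C (Fin n → κ) := inferInstance
  let ψ : κ ⊗[Po] (C ⊗[Po] Ω[Po⁄R]) →ₗ[κ] (Fin n → κ) :=
    ((q₀.liftBaseChange C).restrictScalars Po).liftBaseChange κ
  let ρ : (Fin n → κ) →ₗ[κ] κ ⊗[Po] (C ⊗[Po] Ω[Po⁄R]) :=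
    Fintype.linearCombination κ fun i => (1 : κ) ⊗ₜ ((1 : C) ⊗ₜ b i)
  have hψi : Function.Injective ψ := by
    refine Function.LeftInverse.injective (g := ρ) fun x => ?_
    induction x using TensorProduct.induction_on with
    | zero => simp
    | add a b ha hb => rw [map_add, map_add, ha, hb]
    | tmul k y =>
      induction y using TensorProduct.induction_on with
      | zero => simp
      | add a b ha hb => rw [TensorProduct.tmul_add, map_add, map_add, ha, hb]
      | tmul a w =>
        obtain ⟨p, rfl⟩ := hC a
        have hy : (algebraMap Po C p) ⊗ₜ[Po] w = p • ((1 : C) ⊗ₜ[Po] w) := by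
          rw [TensorProduct.smul_tmul', ← Algebra.algebraMap_eq_smul_one]
        have hw : ∀ k : κ, ρ (ψ (k ⊗ₜ ((1 : C) ⊗ₜ w))) = k ⊗ₜ ((1 : C) ⊗ₜ w) := by
          intro k
          have hq : ψ (k ⊗ₜ ((1 : C) ⊗ₜ w)) = k • fun i => algebraMap Po κ (b.repr w i) := by
            simp only [ψ, LinearMap.liftBaseChange_tmul, LinearMap.restrictScalars_apply, one_smul]
            rfl
          rw [hq, map_smul, Fintype.linearCombination_apply]
          conv_rhs => rw [← b.sum_repr w, TensorProduct.tmul_sum, TensorProduct.tmul_sum]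
          rw [Finset.smul_sum]
          refine Finset.sum_congr rfl fun i _ => ?_
          rw [TensorProduct.tmul_smul (b.repr w i), hκ]
          simp only [TensorProduct.smul_tmul', smul_eq_mul, mul_one]
          rw [mul_comm]
        rw [hy, hκ, hw]
  -- the composite
  let d := (kerCotangentToTensor R Po C).baseChange κ
  have hd : ∀ j, ψ (d (σ (Pi.single j 1))) = fun i => algebraMap Po κ (pderiv i (F j)) := fun j => by
    rw [show σ (Pi.single j 1) = g j by simp [σ], LinearMap.baseChange_tmul,
      kerCotangentToTensor_toCotangent]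
    simp only [ψ, LinearMap.liftBaseChange_tmul, LinearMap.restrictScalars_apply, one_smul]
    funext i
    show algebraMap Po κ (b.repr (D R Po (F j)) i) = _
    rw [mvPolynomialBasis_repr_apply]
  have hcomp : ψ ∘ₗ d ∘ₗ σ = Fintype.linearCombination κ fun j i => algebraMap Po κ (pderiv i (F j)) := by
    refine (Pi.basisFun κ (Fin c)).ext fun j => ?_
    simp only [Pi.basisFun_apply, LinearMap.comp_apply]
    rw [hd]
    simp
  rw [linearIndependent_iff_injective_fintypeLinearCombination, ← hcomp]
  show Function.Injective d ↔ Function.Injective (ψ ∘ d ∘ σ)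
  exact ⟨fun h => hψi.comp (h.comp hσi),
    fun h => Function.Injective.of_comp_right (Function.Injective.of_comp h) hσ⟩

theorem isSmoothAt_iff (F : Fin c → Po) (hF : Synt.IsRelGCI R n c F)
    (q : Ideal (Synt.RelGCIRing R n c F)) [q.IsPrime] :
    Algebra.IsSmoothAt R q ↔ ∃ I : Fin c ↪ Fin n,
      Ideal.Quotient.mk (Ideal.span (Set.range F))
        (Matrix.det (Matrix.of fun j i => pderiv (I i) (F j))) ∉ q := by
  haveI : Module.Finite Po (RingHom.ker (algebraMap Po (Synt.RelGCIRing R n c F))).Cotangent :=
    haveI : Module.Finite Po (RingHom.ker (algebraMap Po (Synt.RelGCIRing R n c F))) :=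
      .of_fg ((Ideal.Quotient.mkₐ_ker R (Ideal.span (Set.range F))).symm ▸
        Submodule.fg_span (Set.finite_range F))
    .of_surjective _ (Ideal.toCotangent_surjective _)
  refine ((Groth.Agent.S2463.result (A := R) (B := Po) (C := Synt.RelGCIRing R n c F)
    Ideal.Quotient.mk_surjective q).out 0 1).trans ?_
  rw [injective_iff F hF q, exists_minor]
  refine exists_congr fun I => ?_
  have h := (RingHom.map_det (algebraMap Po q.ResidueField)
    (Matrix.of fun j i => pderiv (I i) (F j)))
  rw [show (Matrix.of fun j i => algebraMap Po q.ResidueField (pderiv (I i) (F j))) =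
    (algebraMap Po q.ResidueField).mapMatrix (Matrix.of fun j i => pderiv (I i) (F j)) from rfl, ← h]
  rw [ne_eq, IsScalarTower.algebraMap_apply Po (Synt.RelGCIRing R n c F) q.ResidueField,
    Ideal.algebraMap_residueField_eq_zero]
  rfl

end Groth.L19.RelGCISmooth
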