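import Groth.Agent.L19.NormalDesc
import Groth.Agent.L22.Norm.Affine
import Groth.Prelude.Def_Pi1

/-!
# Universal property of the normalization of an integral scheme
-/

set_option autoImplicit false
set_option backward.isDefEq.respectTransparency.types false
set_option backward.isDefEq.respectTransparency false
set_option linter.style.haveILetI false
universe u

open CategoryTheory CategoryTheory.Limits AlgebraicGeometry TopologicalSpace

namespace Groth.L19.NormalFactor

variable (X : Scheme.{u}) [IsIntegral X] [QuasiCompact (X.fromSpecStalk (genericPoint ↥X))]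
  [QuasiSeparated (X.fromSpecStalk (genericPoint ↥X))] {Z : Scheme.{u}} (g : Z ⟶ X)
  (hZ : Pi1.IsNormalScheme Z) (hmax : ∀ z : Z, (∀ z' : Z, z' ⤳ z → z' = z) → g z = genericPoint X)

include hZ hmax

/-- The affine case. -/
theorem existsUnique_affine {R : CommRingCat.{u}} (j : Spec R ⟶ Z) [IsOpenImmersion j]
    {U : X.Opens} (hU : IsAffineOpen U) (hne : (U : Set X).Nonempty) (hr : ∀ t, g (j t) ∈ U) :
    ∃! h : Spec R ⟶ Curv2.normalization X, h ≫ Curv2.normalizationι X = j ≫ g := by
  haveI : Nonempty U := hne.to_subtype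
  haveI : Nonempty U.toScheme := hne.to_subtype
  obtain ⟨κ, hκ⟩ := Groth.L22.Norm.exists_isIntegralClosure X hU hne
  have hV : IsAffineOpen ((Curv2.normalizationι X) ⁻¹ᵁ U) := by
    haveI : IsAffineHom (Curv2.normalizationι X) :=
      inferInstanceAs (IsAffineHom (X.fromSpecStalk (genericPoint X)).fromNormalization)
    exact hU.preimage (Curv2.normalizationι X)
  letI : Algebra Γ(X, U) Γ(Curv2.normalization X, (Curv2.normalizationι X) ⁻¹ᵁ U) := ((Curv2.normalizationι X).app U).hom.toAlgebra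
  letI := κ.toAlgebra
  obtain ⟨htower, hclos⟩ := hκ
  haveI := htower
  haveI := hclos
  haveI : IsFractionRing Γ(X, U) X.functionField := functionField_isFractionRing_of_isAffineOpen X U hU
  haveI : IsDomain Γ(X, U) := IsIntegral.component_integral U
  -- the morphism to `U` as a ring map
  have hsub : Set.range (j ≫ g) ⊆ Set.range hU.fromSpec := by
    rw [hU.range_fromSpec]; rintro _ ⟨t, rfl⟩; exact hr t
  obtain ⟨φ, hφ⟩ : ∃ φ : Γ(X, U) ⟶ R, Spec.map φ ≫ hU.fromSpec = j ≫ g :=
    ⟨Spec.preimage (IsOpenImmersion.lift hU.fromSpec _ hsub),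
      by rw [Spec.map_preimage, IsOpenImmersion.lift_fac]⟩
  have hC : ∀ m : Ideal R, ∀ (_ : m.IsMaximal),
      IsDomain (Localization.AtPrime m) ∧ IsIntegrallyClosed (Localization.AtPrime m) := by
    intro m hm
    let p : Spec R := ⟨m, hm.isPrime⟩
    obtain ⟨h1, h2⟩ := hZ (j p)
    haveI := h1
    haveI := h2
    let e₁ := (asIso (j.stalkMap p)).commRingCatIsoToRingEquiv
    haveI : IsDomain ((Spec R).presheaf.stalk p) := e₁.toMulEquiv.isDomain_iff.mp h1
    haveI : IsIntegrallyClosed ((Spec R).presheaf.stalk p) := IsIntegrallyClosed.of_equiv e₁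
    letI : Algebra R ((Spec R).presheaf.stalk p) :=
      (inferInstance : Algebra R ((Spec.structureSheaf R).presheaf.stalk p))
    haveI : IsLocalization.AtPrime ((Spec R).presheaf.stalk p) m :=
      StructureSheaf.IsLocalization.to_stalk (R := R) p
    let e₂ : (Spec R).presheaf.stalk p ≃ₐ[R] Localization.AtPrime m :=
      IsLocalization.algEquiv m.primeCompl _ _
    exact ⟨e₂.toRingEquiv.toMulEquiv.isDomain_iff.mp inferInstance,
      IsIntegrallyClosed.of_equiv e₂.toRingEquiv⟩
  have hmin : ∀ P ∈ minimalPrimes R, P.comap φ.hom = ⊥ := by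
    intro P hP
    let p : Spec R := ⟨P, hP.1.1⟩
    have hm : ∀ z' : Z, z' ⤳ j p → z' = j p := fun z' hz' => by
      obtain ⟨q, rfl⟩ : z' ∈ Set.range j := hz'.mem_open j.isOpenEmbedding.isOpen_range ⟨p, rfl⟩
      have h1 : q.asIdeal ≤ P :=
        (PrimeSpectrum.le_iff_specializes (R := R) q p).mpr (j.isOpenEmbedding.isInducing.specializes_iff.mp hz')
      exact congrArg j (PrimeSpectrum.ext (le_antisymm h1 (hP.2 ⟨q.isPrime, bot_le⟩ h1)))
    have h2 : hU.fromSpec (Spec.map φ p) = genericPoint X := by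
      rw [← Scheme.Hom.comp_apply, hφ, Scheme.Hom.comp_apply]
      exact hmax _ hm
    rw [← genericPoint_eq_of_isOpenImmersion hU.fromSpec, genericPoint_eq_bot_of_affine] at h2
    exact congrArg PrimeSpectrum.asIdeal (hU.fromSpec.isOpenEmbedding.injective h2)
  obtain ⟨θ, hθ, huniq⟩ := Groth.L19.NormalDesc.existsUnique_desc φ.hom hC hmin X.functionField
    (B := Γ(Curv2.normalization X, (Curv2.normalizationι X) ⁻¹ᵁ U))
  have hsq := hU.SpecMap_appLE_fromSpec (Curv2.normalizationι X) hV le_rfl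
  rw [← Scheme.Hom.app_eq_appLE] at hsq
  refine ⟨Spec.map (CommRingCat.ofHom θ) ≫ hV.fromSpec, ?_, fun h' hh' => ?_⟩
  · dsimp only
    rw [Category.assoc, ← hsq, ← Spec.map_comp_assoc, ← hφ]
    congr 2
    exact CommRingCat.hom_ext hθ
  · have hsub' : Set.range h' ⊆ Set.range hV.fromSpec := by
      rw [hV.range_fromSpec]
      rintro _ ⟨t, rfl⟩
      show (Curv2.normalizationι X) (h' t) ∈ U
      rw [← Scheme.Hom.comp_apply, hh', Scheme.Hom.comp_apply]
      exact hr t
    obtain ⟨θ', rfl⟩ : ∃ θ', h' = Spec.map θ' ≫ hV.fromSpec :=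
      ⟨Spec.preimage (IsOpenImmersion.lift hV.fromSpec _ hsub'),
        by rw [Spec.map_preimage, IsOpenImmersion.lift_fac]⟩
    have h3 : (Curv2.normalizationι X).app U ≫ θ' = φ := by
      apply Spec.map_injective
      rw [← cancel_mono hU.fromSpec, Spec.map_comp, Category.assoc, hsq, ← Category.assoc, hh', hφ]
    congr 2
    exact CommRingCat.hom_ext (huniq θ'.hom (congrArg CommRingCat.Hom.hom h3))

theorem hom_ext {T : Scheme.{u}} (j : T ⟶ Z) [IsOpenImmersion j]
    (h h' : T ⟶ Curv2.normalization X) (e : h ≫ Curv2.normalizationι X = j ≫ g)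
    (e' : h' ≫ Curv2.normalizationι X = j ≫ g) : h = h' := by
  have key : ∀ t : T, ∃ (R : CommRingCat.{u}) (q : Spec R ⟶ T), IsOpenImmersion q ∧
      t ∈ Set.range q ∧ q ≫ h = q ≫ h' := by
    intro t
    obtain ⟨U, hU, htU, -⟩ := exists_isAffineOpen_mem_and_subset (x := g (j t)) (U := (⊤ : X.Opens)) trivial
    obtain ⟨W, hW, htW, hWU⟩ := exists_isAffineOpen_mem_and_subset (x := t) (U := (j ≫ g) ⁻¹ᵁ U) htU
    refine ⟨Γ(T, W), hW.fromSpec, inferInstance, hW.range_fromSpec.ge htW, ?_⟩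
    refine (existsUnique_affine X g hZ hmax (hW.fromSpec ≫ j) hU ⟨_, htU⟩ fun s => ?_).unique ?_ ?_
    · rw [Scheme.Hom.comp_apply]
      exact hWU (hW.range_fromSpec.le ⟨s, rfl⟩)
    · rw [Category.assoc, Category.assoc, e]
    · rw [Category.assoc, Category.assoc, e']
  choose R q hq ht hqe using key
  haveI := hq
  let 𝒰 : T.OpenCover :=
    { I₀ := T
      X := fun t => Spec (R t)
      f := q
      mem₀ := by
        rw [Scheme.presieve₀_mem_precoverage_iff]
        exact ⟨fun t => ⟨t, ht t⟩, hq⟩ }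
  exact 𝒰.hom_ext _ _ hqe

theorem existsUnique_factor :
    ∃! h : Z ⟶ Curv2.normalization X, h ≫ Curv2.normalizationι X = g := by
  have key : ∀ z : Z, ∃ (W : Z.Opens) (hW : IsAffineOpen W) (_ : z ∈ W)
      (h : Spec Γ(Z, W) ⟶ Curv2.normalization X), h ≫ Curv2.normalizationι X = hW.fromSpec ≫ g := by
    intro z
    obtain ⟨U, hU, hzU, -⟩ := exists_isAffineOpen_mem_and_subset (x := g z) (U := (⊤ : X.Opens)) trivial
    obtain ⟨W, hW, hzW, hWU⟩ := exists_isAffineOpen_mem_and_subset (x := z) (U := g ⁻¹ᵁ U) hzU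
    obtain ⟨h, hh, -⟩ := existsUnique_affine X g hZ hmax hW.fromSpec hU ⟨_, hzU⟩
      fun s => hWU (hW.range_fromSpec.le ⟨s, rfl⟩)
    exact ⟨W, hW, hzW, h, hh⟩
  choose W hW hzW h hh using key
  let 𝒰 : Z.OpenCover :=
    { I₀ := Z
      X := fun z => Spec Γ(Z, W z)
      f := fun z => (hW z).fromSpec
      mem₀ := by
        rw [Scheme.presieve₀_mem_precoverage_iff]
        exact ⟨fun z => ⟨z, (hW z).range_fromSpec.ge (hzW z)⟩, fun z => inferInstance⟩ }
  haveI : ∀ z, IsOpenImmersion (𝒰.f z) := fun z => (inferInstance : IsOpenImmersion (hW z).fromSpec)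
  refine ⟨𝒰.glueMorphisms h fun x y =>
      hom_ext X g hZ hmax (pullback.fst (𝒰.f x) (𝒰.f y) ≫ 𝒰.f x) _ _ ?_ ?_, ?_, ?_⟩
  · rw [Category.assoc, hh, Category.assoc]
  · rw [Category.assoc, hh, pullback.condition, Category.assoc]
  · exact 𝒰.hom_ext _ _ fun z => by rw [Scheme.Cover.ι_glueMorphisms_assoc]; exact hh z
  · intro h' e'
    refine hom_ext X g hZ hmax (𝟙 Z) h' _ (by rw [Category.id_comp]; exact e') ?_
    rw [Category.id_comp]
    exact 𝒰.hom_ext _ _ fun z => by rw [Scheme.Cover.ι_glueMorphisms_assoc]; exact hh z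

end Groth.L19.NormalFactor
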