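import Groth.Agent.L19.PolyPow
import Groth.Agent.L07.SyntLCI
import Groth.Agent.S2680
import Mathlib.RingTheory.KrullDimension.Polynomial
import Mathlib.RingTheory.Ideal.KrullsHeightTheorem
import Mathlib.RingTheory.QuasiFinite.Basic
import Mathlib.RingTheory.Nakayama

/-!
# A finite syntomic algebra over a local ring has a square presentation
-/

set_option autoImplicit false
set_option linter.style.haveILetI false
set_option maxSynthPendingDepth 3
universe u

open TensorProduct PrimeSpectrum
open Groth.L07.CILocus Groth.L07.SyntNhd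

namespace Groth.L19.SquarePres

theorem height_maximal {k : Type u} [Field k] {n : ℕ} (Q : Ideal (MvPolynomial (Fin n) k)) [Q.IsMaximal] :
    Q.height = n := by
  obtain ⟨d, -, hd, hloc⟩ := Groth.Agent.S2680.result k (MvPolynomial (Fin n) k)
  have h1 := hloc Q
  rw [IsLocalization.AtPrime.ringKrullDim_eq_height Q (Localization.AtPrime Q), ← hd,
    MvPolynomial.ringKrullDim_of_isNoetherianRing, ringKrullDim_eq_zero_of_field, zero_add] at h1
  exact WithBot.coe_inj.mp (h1.trans (by simp))

variable {R : Type u} [CommRing R] {n : ℕ}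

local notation "Po" => MvPolynomial (Fin n) R

/-- At a point with finite fibre a complete intersection needs as many equations as variables. -/
theorem exists_square_generators (I : Ideal Po) (hI : I.FG) [Module.Finite R (Po ⧸ I)]
    (P : PrimeSpectrum (Po ⧸ I)) [Module.Flat R (Localization.AtPrime P.asIdeal)] (h : CIAt R P) :
    ∃ f : Fin n → MvPolynomial (Fin n) R, (∀ i, f i ∈ I) ∧
      ∃ g ∉ P.asIdeal.comap (Ideal.Quotient.mk I), ∀ y ∈ I, g * y ∈ Ideal.span (Set.range f) := by
  obtain ⟨c, f, hfI, hreg, hgen⟩ := exists_generators I P h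
  obtain ⟨g, hg, hgI⟩ := Groth.L07.SyntAlg.exists_mul_mem I hI P f hfI hgen
  set p := comap (algebraMap R (Po ⧸ I)) P with hp
  set Q := polPrime I P
  let J : Ideal (Pol I P) := Ideal.span (Set.range (θ p ∘ f))
  -- primes of the fibre ideal are maximal
  have hmax : ∀ q : Ideal (Pol I P), q.IsPrime → I.map (θ p) ≤ q → q.IsMaximal := by
    intro q hq hle
    haveI := hq
    rw [← ker_φ I p] at hle
    have hs : Function.Surjective (φ I p).toRingHom := φ_surjective I p
    haveI := Ideal.map_isPrime_of_surjective hs hle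
    haveI : Module.Finite p.asIdeal.ResidueField (p.asIdeal.Fiber (Po ⧸ I)) := inferInstance
    haveI : (q.map (φ I p).toRingHom).IsMaximal := by
      refine Ideal.isMaximal_of_isIntegral_of_isMaximal_comap (R := p.asIdeal.ResidueField) _ ?_
      rw [(Ideal.eq_bot_or_top ((q.map (φ I p).toRingHom).comap
        (algebraMap p.asIdeal.ResidueField (p.asIdeal.Fiber (Po ⧸ I))))).resolve_right
          (Ideal.comap_ne_top _ (Ideal.IsPrime.ne_top inferInstance))]
      exact Ideal.bot_isMaximal
    have h2 := Ideal.comap_isMaximal_of_surjective (φ I p).toRingHom hs (K := q.map (φ I p).toRingHom)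
    rwa [Ideal.comap_map_of_surjective _ hs, ← RingHom.ker_eq_comap_bot, sup_eq_left.mpr hle] at h2
  haveI hQmax : Q.IsMaximal := hmax Q inferInstance (map_le_polPrime I P)
  have hJQ : J ≤ Q := Ideal.span_le.mpr (by
    rintro _ ⟨i, rfl⟩
    exact map_le_polPrime I P (Ideal.mem_map_of_mem _ (hfI i)))
  have hmin : Q ∈ J.minimalPrimes := by
    refine ⟨⟨inferInstance, hJQ⟩, fun q hq hqQ => ?_⟩
    haveI := hq.1
    refine (hmax q hq.1 ?_).eq_of_le (Ideal.IsPrime.ne_top inferInstance) hqQ |>.ge
    intro y hy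
    have h1 : algebraMap (Pol I P) (Localization.AtPrime Q) y ∈
        J.map (algebraMap (Pol I P) (Localization.AtPrime Q)) := hgen ▸ Ideal.mem_map_of_mem _ hy
    obtain ⟨s, hs, hsy⟩ :=
      (IsLocalization.algebraMap_mem_map_algebraMap_iff Q.primeCompl _ _ _).mp h1
    exact (hq.1.mem_or_mem (hq.2 hsy)).resolve_left fun h' => hs (hqQ h')
  have hc : c = n := by
    have h1 : (c : ℕ∞) ≤ Q.height :=
      Groth.L07.CIField.height_ge_of_regular (θ p ∘ f) Q hreg Q hJQ le_rfl
    have h2 : Q.height ≤ (Set.range (θ p ∘ f)).ncard := by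
      exact Ideal.height_le_card_of_mem_minimalPrimes_span (Set.finite_range _) hmin
    have h3 : (Set.range (θ p ∘ f)).ncard ≤ c := by
      rw [← Set.image_univ]
      exact (Set.ncard_image_le Set.finite_univ).trans (by simp)
    rw [height_maximal] at h1 h2
    have h4 : c ≤ n := by exact_mod_cast h1
    have h5 : n ≤ (Set.range (θ p ∘ f)).ncard := by exact_mod_cast h2
    omega
  subst hc
  exact ⟨f, hfI, g, hg, hgI⟩

/-- Square presentation of a finite syntomic algebra over a local ring. -/
theorem exists_square {A B : Type u} [CommRing A] [IsLocalRing A] [CommRing B] [Algebra A B]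
    [Module.Finite A B] (hB : Synt.IsSyntomic A B) :
    ∃ (n : ℕ) (F : Fin n → MvPolynomial (Fin n) A), Nonempty (B ≃ₐ[A] Synt.RelGCIRing A n n F) := by
  classical
  haveI := hB.2.1
  obtain ⟨n, π, hπ⟩ := Algebra.FiniteType.iff_quotient_mvPolynomial''.mp (inferInstance : Algebra.FiniteType A B)
  let P₀ := MvPolynomial (Fin n) A
  let I : Ideal P₀ := RingHom.ker π.toRingHom
  have hIfg : I.FG := Algebra.FinitePresentation.ker_fG_of_surjective π hπ
  let e : (P₀ ⧸ I) ≃ₐ[A] B := Ideal.quotientKerAlgEquivOfSurjective hπ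
  haveI : Module.Finite A (P₀ ⧸ I) := Module.Finite.equiv e.symm.toLinearEquiv
  haveI : Algebra.FinitePresentation A (P₀ ⧸ I) := Algebra.FinitePresentation.equiv e.symm
  obtain ⟨hflat, hCI⟩ := Groth.L07.SyntAlg.isSyntomic_iff.mp
    (Groth.L07.SyntAlg.isSyntomic_of_algEquiv e.symm hB)
  haveI := hflat
  -- the finitely many closed points
  let M := {P : PrimeSpectrum (P₀ ⧸ I) | P.asIdeal.IsMaximal}
  have hMfin : M.Finite := by
    refine Set.Finite.subset (Algebra.QuasiFinite.finite_comap_preimage_singleton (R := A) (S := P₀ ⧸ I)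
      ⟨IsLocalRing.maximalIdeal A, inferInstance⟩) fun P (hP : P.asIdeal.IsMaximal) => ?_
    refine PrimeSpectrum.ext ?_
    haveI := hP
    exact (IsLocalRing.isMaximal_iff A).mp (Ideal.isMaximal_comap_of_isIntegral_of_isMaximal (R := A) P.asIdeal)
  haveI : Fintype M := hMfin.fintype
  let Q : M → Ideal P₀ := fun P => P.1.asIdeal.comap (Ideal.Quotient.mk I)
  have hQmax : ∀ P, (Q P).IsMaximal := fun P =>
    haveI : P.1.asIdeal.IsMaximal := P.2
    Ideal.comap_isMaximal_of_surjective _ Ideal.Quotient.mk_surjective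
  have hQI : ∀ P, I ≤ Q P := fun P y hy => by
    show Ideal.Quotient.mk I y ∈ P.1.asIdeal
    rw [Ideal.Quotient.eq_zero_iff_mem.mpr hy]
    exact zero_mem _
  have hQinj : Function.Injective Q := fun P P' h => Subtype.ext (PrimeSpectrum.ext
    (Ideal.comap_injective_of_surjective _ Ideal.Quotient.mk_surjective h))
  have hloc : ∀ P : M, ∃ f : Fin n → P₀, (∀ i, f i ∈ I) ∧
      ∃ g ∉ Q P, ∀ y ∈ I, g * y ∈ Ideal.span (Set.range f) := fun P => by
    haveI : Module.Flat A (Localization.AtPrime P.1.asIdeal) := Module.Flat.trans A (P₀ ⧸ I) _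
    exact exists_square_generators I hIfg P.1 (hCI P.1)
  choose f hfI g hg hgI using hloc
  -- separate the closed points
  have hsep : ∀ P : M, ∃ u ∉ Q P, ∀ P' : M, P' ≠ P → u ∈ Q P' := fun P => by
    haveI := (hQmax P).isPrime
    have hd : ∀ P' : M, ∃ u, P' ≠ P → u ∈ Q P' ∧ u ∉ Q P := fun P' => by
      by_cases hne : P' = P
      · exact ⟨0, fun h => absurd hne h⟩
      · obtain ⟨u, hu, hu'⟩ := SetLike.not_le_iff_exists.mp fun hle =>
          hne (hQinj ((hQmax P').eq_of_le (hQmax P).ne_top hle))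
        exact ⟨u, fun _ => ⟨hu, hu'⟩⟩
    choose u hu using hd
    refine ⟨∏ P' ∈ Finset.univ.erase P, u P', fun hm => ?_, fun P' hP' => ?_⟩
    · obtain ⟨P', hP', hm'⟩ := Ideal.IsPrime.prod_mem_iff.mp hm
      exact (hu P' (Finset.ne_of_mem_erase hP')).2 hm'
    · exact Ideal.prod_mem _ (Finset.mem_erase.mpr ⟨hP', Finset.mem_univ _⟩) (hu P' hP').1
  choose u huP huP' using hsep
  let G : Fin n → P₀ := fun i => ∑ P : M, u P * f P i
  have hGI : Ideal.span (Set.range G) ≤ I :=
    Ideal.span_le.mpr (by rintro _ ⟨i, rfl⟩; exact Ideal.sum_mem _ fun P _ => I.mul_mem_left _ (hfI P i))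
  -- they generate near each closed point
  have hgen : ∀ P : M, ∃ s ∉ Q P, ∀ y ∈ I, s * y ∈ Ideal.span (Set.range G) := fun P => by
    haveI := (hQmax P).isPrime
    let S := Localization.AtPrime (Q P)
    refine Groth.L07.RegSeq.exists_mul_mem_of_map_le hIfg (Q P) S ?_
    refine Submodule.le_of_le_smul_of_le_jacobson_bot (I := IsLocalRing.maximalIdeal S) (hIfg.map _)
      (IsLocalRing.maximalIdeal_le_jacobson _) (Ideal.map_le_iff_le_comap.mpr fun y hy => ?_)
    rw [Ideal.mem_comap]
    set T : Ideal S := (Ideal.span (Set.range G)).map (algebraMap P₀ S) ⊔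
      IsLocalRing.maximalIdeal S • I.map (algebraMap P₀ S)
    have hf : ∀ i, algebraMap P₀ S (f P i) ∈ T := fun i => by
      have hu : IsUnit (algebraMap P₀ S (u P)) := IsLocalization.map_units S (⟨_, huP P⟩ : (Q P).primeCompl)
      obtain ⟨v, hv⟩ := hu.exists_left_inv
      have h1 : algebraMap P₀ S (u P * f P i) ∈ T := by
        have h2 : u P * f P i = G i - ∑ P' ∈ Finset.univ.erase P, u P' * f P' i := by
          rw [eq_sub_iff_add_eq', Finset.sum_erase_add _ _ (Finset.mem_univ P)]
        rw [h2, map_sub]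
        have hG : G i ∈ Ideal.span (Set.range G) := Ideal.subset_span ⟨i, rfl⟩
        refine sub_mem (Submodule.mem_sup_left (Ideal.mem_map_of_mem _ hG))
          ?_
        rw [map_sum]
        refine Ideal.sum_mem T fun P' hP' => Submodule.mem_sup_right ?_
        rw [map_mul]
        refine Submodule.smul_mem_smul ?_ (Ideal.mem_map_of_mem _ (hfI P' i))
        rw [← Localization.AtPrime.map_eq_maximalIdeal]
        exact Ideal.mem_map_of_mem _ (huP' P' P (Finset.ne_of_mem_erase hP').symm)
      have h3 := T.smul_mem v h1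
      rwa [smul_eq_mul, map_mul, ← mul_assoc, hv, one_mul] at h3
    have hle : (Ideal.span (Set.range (f P))).map (algebraMap P₀ S) ≤ T := by
      rw [Ideal.map_span, Ideal.span_le]
      rintro _ ⟨_, ⟨i, rfl⟩, rfl⟩
      exact hf i
    have hu : IsUnit (algebraMap P₀ S (g P)) := IsLocalization.map_units S (⟨_, hg P⟩ : (Q P).primeCompl)
    obtain ⟨v, hv⟩ := hu.exists_left_inv
    have h3 := hle (Ideal.mul_mem_left _ v (Ideal.mem_map_of_mem (algebraMap P₀ S) (hgI P y hy)))
    rwa [map_mul, ← mul_assoc, hv, one_mul] at h3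
  -- globalise
  obtain ⟨h, hh1, hh⟩ : ∃ h, 1 - h ∈ I ∧ ∀ y ∈ I, h * y ∈ Ideal.span (Set.range G) := by
    let K : Ideal P₀ :=
      { carrier := {h | ∀ y ∈ I, h * y ∈ Ideal.span (Set.range G)}
        add_mem' := fun ha hb y hy => by rw [add_mul]; exact add_mem (ha y hy) (hb y hy)
        zero_mem' := fun y _ => by rw [zero_mul]; exact zero_mem _
        smul_mem' := fun c a ha y hy => by rw [smul_eq_mul, mul_assoc]; exact Ideal.mul_mem_left _ c (ha y hy) }
    by_cases htop : K ⊔ I = ⊤
    · obtain ⟨a, ha, b, hb, hab⟩ := Submodule.mem_sup.mp ((Ideal.eq_top_iff_one _).mp htop)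
      exact ⟨a, by rw [← hab, add_sub_cancel_left]; exact hb, ha⟩
    · obtain ⟨Mx, hMx, hle⟩ := Ideal.exists_le_maximal _ htop
      have hk : RingHom.ker (Ideal.Quotient.mk I) ≤ Mx := by rw [Ideal.mk_ker]; exact le_sup_right.trans hle
      haveI := Ideal.map_isPrime_of_surjective Ideal.Quotient.mk_surjective hk (H := hMx.isPrime)
      have hback : (Mx.map (Ideal.Quotient.mk I)).comap (Ideal.Quotient.mk I) = Mx := by
        rw [Ideal.comap_map_of_surjective _ Ideal.Quotient.mk_surjective, ← RingHom.ker_eq_comap_bot,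
          sup_eq_left.mpr hk]
      have hmax' : (Mx.map (Ideal.Quotient.mk I)).IsMaximal :=
        (Ideal.map_eq_top_or_isMaximal_of_surjective _ Ideal.Quotient.mk_surjective hMx).resolve_left
          (Ideal.IsPrime.ne_top inferInstance)
      let P : M := ⟨⟨Mx.map (Ideal.Quotient.mk I), inferInstance⟩, hmax'⟩
      obtain ⟨s, hs, hsI⟩ := hgen P
      exact absurd (hback.symm.le (le_sup_left.trans hle (show s ∈ K from hsI))) hs
  -- the presentation
  let P₁ := MvPolynomial (Fin (n + 1)) A
  let incl : P₀ →ₐ[A] P₁ := MvPolynomial.rename Fin.castSucc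
  let F : Fin (n + 1) → P₁ :=
    Fin.snoc (α := fun _ => P₁) (fun i => incl (G i)) (MvPolynomial.X (Fin.last n) * incl h - 1)
  let J := Ideal.span (Set.range F)
  let ψ : P₁ →ₐ[A] P₀ := MvPolynomial.aeval (Fin.snoc (α := fun _ => P₀) MvPolynomial.X 1)
  have hψ : ∀ y, ψ (incl y) = y := fun y => by
    show (ψ.comp incl) y = AlgHom.id A P₀ y
    congr 1
    exact MvPolynomial.algHom_ext fun i => by simp [ψ, incl, P₀, P₁]
  have hπh : π h = 1 := by
    have h1 : π (1 - h) = 0 := hh1
    rw [map_sub, map_one, sub_eq_zero] at h1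
    exact h1.symm
  let π' : P₁ →ₐ[A] B := π.comp ψ
  have hπ' : Function.Surjective π' := fun b => by
    obtain ⟨y, rfl⟩ := hπ b
    exact ⟨incl y, by simp [π', hψ]⟩
  have hFG : ∀ i, incl (G i) ∈ J := fun i => Ideal.subset_span ⟨i.castSucc, by simp [F]⟩
  have hy1 : MvPolynomial.X (Fin.last n) * incl h - 1 ∈ J := Ideal.subset_span ⟨Fin.last n, by simp [F]⟩
  have hIJ : ∀ y ∈ I, incl y ∈ J := fun y hy => by
    have h1 : incl (h * y) ∈ J := by
      have h2 : (Ideal.span (Set.range G)).map incl ≤ J := by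
        rw [Ideal.map_span, Ideal.span_le]
        rintro _ ⟨_, ⟨i, rfl⟩, rfl⟩
        exact hFG i
      exact h2 (Ideal.mem_map_of_mem _ (hh y hy))
    have h2 : incl y = MvPolynomial.X (Fin.last n) * incl (h * y) -
        (MvPolynomial.X (Fin.last n) * incl h - 1) * incl y := by
      rw [map_mul]; ring
    rw [h2]
    exact sub_mem (J.mul_mem_left _ h1) (J.mul_mem_right _ hy1)
  have hy : MvPolynomial.X (Fin.last n) - 1 ∈ J := by
    have h2 : MvPolynomial.X (Fin.last n) - 1 =
        MvPolynomial.X (Fin.last n) * incl (1 - h) + (MvPolynomial.X (Fin.last n) * incl h - 1) := by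
      rw [map_sub, map_one]; ring
    rw [h2]
    exact add_mem (J.mul_mem_left _ (hIJ _ hh1)) hy1
  have hker : RingHom.ker π'.toRingHom = J := by
    refine le_antisymm (fun y hy' => ?_) (Ideal.span_le.mpr ?_)
    · have hmk : (Ideal.Quotient.mkₐ A J).comp (incl.comp ψ) = Ideal.Quotient.mkₐ A J := by
        refine MvPolynomial.algHom_ext fun j => ?_
        induction j using Fin.lastCases with
        | last =>
          simp only [AlgHom.comp_apply, Ideal.Quotient.mkₐ_eq_mk, ψ, MvPolynomial.aeval_X, Fin.snoc_last, map_one]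
          exact (Ideal.Quotient.eq.mpr (by simpa using hy)).symm.trans rfl
        | cast i => simp [ψ, incl, P₀, P₁]
      have h1 : Ideal.Quotient.mk J (incl (ψ y)) = Ideal.Quotient.mk J y := congr($hmk y)
      rw [← Ideal.Quotient.eq_zero_iff_mem, ← h1, Ideal.Quotient.eq_zero_iff_mem]
      exact hIJ _ hy'
    · rintro _ ⟨j, rfl⟩
      show π (ψ (F j)) = 0
      induction j using Fin.lastCases with
      | last =>
        have hX : ψ (MvPolynomial.X (Fin.last n)) = 1 := by simp [ψ, P₀, P₁]
        simp only [F, Fin.snoc_last, map_sub, map_mul, map_one, hψ, hX, hπh, one_mul, sub_self]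
      | cast i =>
        simp only [F, Fin.snoc_castSucc, hψ]
        exact (hGI (Ideal.subset_span ⟨i, rfl⟩) : G i ∈ I)
  exact ⟨n + 1, F, ⟨(Ideal.quotientKerAlgEquivOfSurjective hπ').symm.trans
    (Ideal.quotientEquivAlgOfEq A hker)⟩⟩

end Groth.L19.SquarePres
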