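import Groth.Agent.L06.FibreComp
import Groth.Agent.L06.FormalFibres
import Groth.Agent.L04.CMLoc
import Groth.Agent.L07.SyntScheme
import Groth.Agent.L24.Alg.NoethDescent
import Groth.Agent.S9142
import Mathlib.AlgebraicGeometry.Noetherian
import Mathlib.AlgebraicGeometry.Limits

/-!
# (S_k) and Cohen-Macaulay are local for syntomic covers
-/

set_option autoImplicit false
set_option linter.style.haveILetI false
set_option backward.isDefEq.respectTransparency.types false
set_option backward.isDefEq.respectTransparency false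

universe u

open CategoryTheory CategoryTheory.Limits AlgebraicGeometry IsLocalRing

namespace Groth.L19.SkLocal

theorem hasSk_localization {R : Type u} [CommRing R] [IsNoetherianRing R] {k : ℕ}
    (h : LocCoh.HasSk k R R) (p : Ideal R) [p.IsPrime] :
    LocCoh.HasSk k (Localization.AtPrime p) (Localization.AtPrime p) := by
  rw [Groth.L06.FlatFibre.hasSk_self_iff] at h ⊢
  intro P _
  haveI : (P.comap (algebraMap R (Localization.AtPrime p))).IsPrime := Ideal.IsPrime.comap _
  haveI : IsLocalization.AtPrime (Localization.AtPrime P) (P.comap (algebraMap R (Localization.AtPrime p))) :=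
    IsLocalization.isLocalization_isLocalization_atPrime_isLocalization p.primeCompl (Localization.AtPrime P) P
  let e := (IsLocalization.algEquiv (P.comap (algebraMap R (Localization.AtPrime p))).primeCompl
      (Localization.AtPrime (P.comap (algebraMap R (Localization.AtPrime p)))) (Localization.AtPrime P)).toRingEquiv
  rw [← ringKrullDim_eq_of_ringEquiv e, Groth.L06.FlatFibre.depth_eq_of_ringEquiv e]
  exact h _

theorem min_le_depth_of_local {R : Type u} [CommRing R] [IsLocalRing R] [IsNoetherianRing R] {k : ℕ}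
    (h : LocCoh.HasSk k R R) :
    min (k : WithBot ℕ∞) (ringKrullDim R) ≤ ((LocCoh.depth R R : ℕ∞) : WithBot ℕ∞) := by
  let e := (IsLocalization.atUnits R (maximalIdeal R).primeCompl
    (S := Localization.AtPrime (maximalIdeal R))
    (fun a ha => (IsUnit.mem_submonoid_iff a).2 (by simpa using ha))).toRingEquiv
  have := (Groth.L06.FlatFibre.hasSk_self_iff k).1 h (maximalIdeal R)
  rwa [← ringKrullDim_eq_of_ringEquiv e, Groth.L06.FlatFibre.depth_eq_of_ringEquiv e] at this

theorem hasSk_iff_localizations {R : Type u} [CommRing R] [IsNoetherianRing R] (k : ℕ) :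
    LocCoh.HasSk k R R ↔
      ∀ (p : Ideal R) [p.IsPrime], LocCoh.HasSk k (Localization.AtPrime p) (Localization.AtPrime p) :=
  ⟨fun h p _ => hasSk_localization h p,
    fun h => (Groth.L06.FlatFibre.hasSk_self_iff k).2 fun p _ => min_le_depth_of_local (h p)⟩

theorem cm_local_iff {R : Type u} [CommRing R] [IsLocalRing R] [IsNoetherianRing R] :
    LocCoh.IsCohenMacaulayLocalRing R ↔ ∀ n, LocCoh.HasSk n R R := by
  constructor
  · intro h
    exact Groth.L06.FormalFibres.cm_iff_forall_hasSk.1 (Groth.L04.isCohenMacaulayRing_of_local R)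
  · intro h
    refine { supportDim_eq_depth := le_antisymm ?_ Groth.L04.depth_le_supportDim }
    rw [Module.supportDim_self_eq_ringKrullDim]
    obtain ⟨n, hn⟩ : ∃ n : ℕ, ringKrullDim R ≤ n := by
      have hlt := ringKrullDim_lt_top (R := R)
      generalize ringKrullDim R = d at hlt
      induction d using WithBot.recBotCoe with
      | bot => exact ⟨0, bot_le⟩
      | coe d =>
        induction d using ENat.recTopCoe with
        | top => exact absurd hlt (lt_irrefl _)
        | coe n => exact ⟨n, le_rfl⟩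
    have := min_le_depth_of_local (h n)
    rwa [min_eq_right hn] at this

theorem hasSk_stalk_iff {X : Scheme.{u}} [IsLocallyNoetherian X] {U : X.Opens} (hU : IsAffineOpen U)
    (k : ℕ) {x : X} (hx : x ∈ U) :
    LocCoh.HasSk k (X.presheaf.stalk x) (X.presheaf.stalk x) ↔
      LocCoh.HasSk k (Localization.AtPrime (hU.primeIdealOf ⟨x, hx⟩).asIdeal)
        (Localization.AtPrime (hU.primeIdealOf ⟨x, hx⟩).asIdeal) := by
  haveI : IsNoetherianRing Γ(X, U) := IsLocallyNoetherian.component_noetherian ⟨U, hU⟩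
  letI : Algebra Γ(X, U) (X.presheaf.stalk x) :=
    TopCat.Presheaf.algebra_section_stalk X.presheaf ⟨x, hx⟩
  haveI := hU.isLocalization_stalk ⟨x, hx⟩
  let p := (hU.primeIdealOf ⟨x, hx⟩).asIdeal
  haveI : IsNoetherianRing (Localization.AtPrime p) :=
    IsLocalization.isNoetherianRing p.primeCompl _ inferInstance
  haveI : IsNoetherianRing (X.presheaf.stalk x) :=
    IsLocalization.isNoetherianRing p.primeCompl _ inferInstance
  let e := (IsLocalization.algEquiv p.primeCompl (X.presheaf.stalk x) (Localization.AtPrime p)).toRingEquiv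
  exact ⟨Groth.L06.FibreComp.hasSk_of_ringEquiv e k, Groth.L06.FibreComp.hasSk_of_ringEquiv e.symm k⟩

theorem hasSk_sections {X : Scheme.{u}} [IsLocallyNoetherian X] {U : X.Opens} (hU : IsAffineOpen U)
    (k : ℕ) (h : ∀ x ∈ U, LocCoh.HasSk k (X.presheaf.stalk x) (X.presheaf.stalk x)) :
    LocCoh.HasSk k Γ(X, U) Γ(X, U) := by
  haveI : IsNoetherianRing Γ(X, U) := IsLocallyNoetherian.component_noetherian ⟨U, hU⟩
  refine (hasSk_iff_localizations k).2 fun p _ => ?_
  have hx : hU.fromSpec ⟨p, inferInstance⟩ ∈ U := hU.range_fromSpec.le ⟨_, rfl⟩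
  have heq : (hU.primeIdealOf ⟨_, hx⟩).asIdeal = p :=
    congrArg PrimeSpectrum.asIdeal (hU.fromSpec.isOpenEmbedding.injective (hU.fromSpec_primeIdealOf ⟨_, hx⟩))
  have key : ∀ q : PrimeSpectrum Γ(X, U), q.asIdeal = p →
      LocCoh.HasSk k (Localization.AtPrime q.asIdeal) (Localization.AtPrime q.asIdeal) →
      LocCoh.HasSk k (Localization.AtPrime p) (Localization.AtPrime p) := by
    rintro ⟨q, hq⟩ rfl hh
    exact hh
  exact key _ heq ((hasSk_stalk_iff hU k hx).1 (h _ hx))

variable {X S : Scheme.{u}} (f : X ⟶ S)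

theorem hasSk_up (hf : Synt.IsSyntomicMor f) [IsLocallyNoetherian S] [IsLocallyNoetherian X] (k : ℕ)
    (hS : ∀ s : S, LocCoh.HasSk k (S.presheaf.stalk s) (S.presheaf.stalk s)) (x : X) :
    LocCoh.HasSk k (X.presheaf.stalk x) (X.presheaf.stalk x) := by
  obtain ⟨U, V, e, hx, hsyn⟩ := hf x
  letI := (f.appLE V.1 U.1 e).hom.toAlgebra
  haveI : Module.Flat Γ(S, V.1) Γ(X, U.1) := hsyn.1
  haveI : IsNoetherianRing Γ(S, V.1) := IsLocallyNoetherian.component_noetherian V
  haveI : IsNoetherianRing Γ(X, U.1) := IsLocallyNoetherian.component_noetherian U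
  refine (hasSk_stalk_iff U.2 k hx).2 (hasSk_localization ?_ _)
  refine Groth.L06.FlatFibre.hasSk_of_flat k (hasSk_sections V.2 k fun s _ => hS s) fun p _ => ?_
  have hl := hsyn.2.2 ⟨p, inferInstance⟩
  haveI : Algebra.FiniteType p.ResidueField (p.Fiber Γ(X, U.1)) := hl.1
  haveI : IsNoetherianRing (p.Fiber Γ(X, U.1)) :=
    Algebra.FiniteType.isNoetherianRing p.ResidueField _
  exact Groth.L06.FormalFibres.cm_iff_forall_hasSk.1
    (Groth.Agent.S9142.result p.ResidueField _ hl) k

theorem hasSk_down (hf : Synt.IsSyntomicMor f) [IsLocallyNoetherian S] [IsLocallyNoetherian X] (k : ℕ)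
    (x : X) (hX : LocCoh.HasSk k (X.presheaf.stalk x) (X.presheaf.stalk x)) :
    LocCoh.HasSk k (S.presheaf.stalk (f x)) (S.presheaf.stalk (f x)) := by
  obtain ⟨U, V, e, hx, hsyn⟩ := hf x
  letI := (f.appLE V.1 U.1 e).hom.toAlgebra
  haveI : Module.Flat Γ(S, V.1) Γ(X, U.1) := hsyn.1
  haveI : IsNoetherianRing Γ(S, V.1) := IsLocallyNoetherian.component_noetherian V
  haveI : IsNoetherianRing Γ(X, U.1) := IsLocallyNoetherian.component_noetherian U
  let P := (U.2.primeIdealOf ⟨x, hx⟩).asIdeal
  let p := P.comap (algebraMap Γ(S, V.1) Γ(X, U.1))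
  have hpq : (V.2.primeIdealOf ⟨f x, e hx⟩).asIdeal = p :=
    (congrArg PrimeSpectrum.asIdeal (IsAffineOpen.comap_primeIdealOf_appLE V.1 V.2 U.1 U.2 e hx)).symm
  obtain ⟨i, hl, hfl, -⟩ := Groth.L06.FlatFibre.exists_local_fibre p P
  letI := i
  haveI := hl
  haveI := hfl
  haveI : Module.FaithfullyFlat (Localization.AtPrime p) (Localization.AtPrime P) :=
    Module.FaithfullyFlat.of_flat_of_isLocalHom
  haveI : IsNoetherianRing (Localization.AtPrime p) :=
    IsLocalization.isNoetherianRing p.primeCompl _ inferInstance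
  haveI : IsNoetherianRing (Localization.AtPrime P) :=
    IsLocalization.isNoetherianRing P.primeCompl _ inferInstance
  have h := Groth.L06.FlatFibre.hasSk_base_of_faithfullyFlat
    (R := Localization.AtPrime p) (S := Localization.AtPrime P) k ((hasSk_stalk_iff U.2 k hx).1 hX)
  have key : ∀ q : PrimeSpectrum Γ(S, V.1), q.asIdeal = p →
      LocCoh.HasSk k (Localization.AtPrime q.asIdeal) (Localization.AtPrime q.asIdeal) := by
    rintro ⟨q, hq⟩ (rfl : q = p)
    exact h
  exact (hasSk_stalk_iff V.2 k (e hx)).2 (key _ hpq)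

theorem flat_lfp (hf : Synt.IsSyntomicMor f) : Flat f ∧ LocallyOfFinitePresentation f :=
  ⟨((Groth.L07.SyntScheme.isSyntomicMor_iff f).1 hf).1, ((Groth.L07.SyntScheme.isSyntomicMor_iff f).1 hf).2.1⟩

theorem isLocallyNoetherian_up (hf : Synt.IsSyntomicMor f) [IsLocallyNoetherian S] : IsLocallyNoetherian X :=
  haveI := (flat_lfp f hf).2
  LocallyOfFiniteType.isLocallyNoetherian f

theorem isLocallyNoetherian_down {ι : Type u} {X : ι → Scheme.{u}} (f : ∀ i, X i ⟶ S)
    (hsurj : ∀ s : S, ∃ i, s ∈ Set.range (f i).base) (hsyn : ∀ i, Synt.IsSyntomicMor (f i))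
    [∀ i, IsLocallyNoetherian (X i)] : IsLocallyNoetherian S := by
  haveI : Flat (Sigma.desc f) := IsZariskiLocalAtSource.sigmaDesc fun i => (flat_lfp _ (hsyn i)).1
  haveI : LocallyOfFinitePresentation (Sigma.desc f) :=
    IsZariskiLocalAtSource.sigmaDesc fun i => (flat_lfp _ (hsyn i)).2
  haveI : Surjective (Sigma.desc f) := ⟨fun s => by
    obtain ⟨i, x, hx⟩ := hsurj s
    refine ⟨Sigma.ι X i x, ?_⟩
    rw [← Scheme.Hom.comp_apply, Sigma.ι_desc]
    exact hx⟩
  haveI : IsLocallyNoetherian (∐ X) :=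
    (isLocallyNoetherian_iff_openCover (sigmaOpenCover X)).2 fun i => inferInstanceAs (IsLocallyNoetherian (X i))
  exact Groth.L24.Alg.isLocallyNoetherian_of_fppf (Sigma.desc f)

end Groth.L19.SkLocal
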