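import Groth.Agent.L06.FormalFibres
import Groth.Agent.L06.FlatFibre
import Groth.Agent.L03.GeomRegular
import Mathlib.RingTheory.Ideal.KrullsHeightTheorem

/-!
# Condition (R_k) ascends along flat maps with regular fibres
-/

set_option autoImplicit false
set_option linter.style.haveILetI false

universe u

namespace Groth.L19.RkSmooth

open Groth.L06

theorem hasRk_of_flat {R S : Type u} [CommRing R] [CommRing S] [Algebra R S] [IsNoetherianRing S]
    [IsNoetherianRing R] [Module.Flat R S] (k : ℕ) (hR : LocCoh.HasRk k R)
    (hfib : ∀ (p : Ideal R) [p.IsPrime], IsRegularRing (p.Fiber S)) :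
    LocCoh.HasRk k S := by
  intro P _ hP
  obtain ⟨i, hl, hf, q, hq, ⟨e⟩⟩ := FlatFibre.exists_local_fibre (P.comap (algebraMap R S)) P (S := S)
  let _ := i
  have := hl
  have := hf
  have := hfib (P.comap (algebraMap R S))
  have : IsRegularLocalRing (EGA4.FibRing (Localization.AtPrime (P.comap (algebraMap R S))) (Localization.AtPrime P)) :=
    IsRegularLocalRing.of_ringEquiv (R := Localization.AtPrime q) e
  have : IsRegularLocalRing (Localization.AtPrime (P.comap (algebraMap R S))) := by
    refine hR _ (le_trans ?_ hP)
    have : P.LiesOver (P.comap (algebraMap R S)) := ⟨rfl⟩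
    rw [Ideal.height_eq_height_add_of_liesOver_of_hasGoingDown (P.comap (algebraMap R S)) P]
    exact le_self_add
  exact FormalFibres.regular_of_flat (Localization.AtPrime (P.comap (algebraMap R S))) (Localization.AtPrime P)

theorem hasRk_of_smooth (A B : Type u) [CommRing A] [CommRing B] [IsNoetherianRing A]
    [IsNoetherianRing B] [Algebra A B] [Algebra.Smooth A B] (k : ℕ) (h : LocCoh.HasRk k A) :
    LocCoh.HasRk k B := by
  refine hasRk_of_flat k h fun p _ => ?_
  haveI : Algebra.Smooth p.ResidueField (p.Fiber B) := inferInstance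
  exact Groth.L03.GeomRegular.isRegularRing_of_smooth p.ResidueField (p.Fiber B)

end Groth.L19.RkSmooth
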