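import Groth.Prelude.Def_AGF
import Groth.Agent.L25.DescHom
import Groth.Agent.L25.Translate
import Groth.Agent.L23.AffineMor
import Mathlib.AlgebraicGeometry.Morphisms.LocalFlatDescent

/-!
For subgroups `H ⊆ H' ⊆ G` with quotients, the square `G × H'/H ⟶ G/H` over `G ⟶ G/H'` is cartesian.
-/

universe u

open CategoryTheory CategoryTheory.Limits MonoidalCategory CartesianMonoidalCategory MonObj
open AlgebraicGeometry Groth.L27.Torsor

namespace Groth.L19.QuotientMap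

set_option backward.isDefEq.respectTransparency.types false
set_option linter.style.haveILetI false

variable {S : Scheme.{u}} {G H H' : Over S} [GrpObj G] [GrpObj H] [GrpObj H']

lemma comp_whisker_mul {W : Over S} (i : H ⟶ G) (n : W ⟶ G ⊗ H) :
    n ≫ (G ◁ i) ≫ μ[G] = (n ≫ fst G H) * (n ≫ snd G H ≫ i) := by
  rw [MonObj.mul_eq_mul G, ← Category.assoc, MonObj.comp_mul, Category.assoc, whiskerLeft_fst,
    Category.assoc, whiskerLeft_snd]

variable {X X' Y : Over S} {a : AlgGrp.Action G X} {o : 𝟙_ (Over S) ⟶ X}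

lemma orbit_apply {T : Over S} (g : T ⟶ G) :
    g ≫ a.orbitMap o = lift g (toUnit T ≫ o) ≫ a.act := by
  simp only [AlgGrp.Action.orbitMap, ← Category.assoc, comp_lift, Category.comp_id]
  rw [Category.assoc, ← Category.assoc g (toUnit G), toUnit_unique (g ≫ toUnit G) (toUnit T)]

lemma mul_orbit {T : Over S} (g h : T ⟶ G) :
    (g * h) ≫ a.orbitMap o = lift g (h ≫ a.orbitMap o) ≫ a.act := by
  rw [orbit_apply, orbit_apply, Groth.L25.Actions.mul_act]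

theorem exists_isPullback {i : H ⟶ G} {i' : H' ⟶ G} [IsMonHom i'] [Mono i'] {l : H ⟶ H'} (hl : l ≫ i' = i)
    (hsq : IsPullback (fst G H) ((G ◁ i) ≫ μ[G]) (a.orbitMap o) (a.orbitMap o))
    {a' : AlgGrp.Action G X'} {o' : 𝟙_ (Over S) ⟶ X'}
    (hsq' : IsPullback (fst G H') ((G ◁ i') ≫ μ[G]) (a'.orbitMap o') (a'.orbitMap o'))
    {ρ : H' ⟶ Y} (hsqY : IsPullback (fst H' H) ((H' ◁ l) ≫ μ[H']) ρ ρ)
    (hπ : Cov (a.orbitMap o)) (hρ : Cov ρ)
    (qbar : X ⟶ X') (hq : a.orbitMap o ≫ qbar = a'.orbitMap o') :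
    ∃ Φ : G ⊗ Y ⟶ X, IsPullback (fst G Y) Φ (a'.orbitMap o') qbar := by
  obtain ⟨ψ, hψ⟩ := descend hρ (i' ≫ a.orbitMap o) fun T b₁ b₂ e => by
    obtain ⟨n, h₁, h₂⟩ := hsqY.exists_lift b₁ b₂ e
    have hw := (lift (b₁ ≫ i') (n ≫ snd H' H)) ≫= hsq.w
    rw [← Category.assoc, lift_fst, ← Category.assoc, comp_whisker_mul, lift_fst, lift_snd_assoc, ← hl] at hw
    rw [← h₁, ← h₂, comp_whisker_mul, ← Category.assoc _ i', ← Category.assoc _ i', MonObj.mul_comp (g := i')]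
    rw [← h₁] at hw
    simp only [Category.assoc] at hw ⊢
    exact hw
  have hΦ : ∀ {W : Over S} (n : W ⟶ G ⊗ H'),
      n ≫ (G ◁ ρ) ≫ (G ◁ ψ) ≫ a.act = ((n ≫ fst G H') * (n ≫ snd G H' ≫ i')) ≫ a.orbitMap o := fun n => by
    rw [mul_orbit, ← MonoidalCategory.whiskerLeft_comp_assoc, hψ, ← Category.assoc]
    congr 1
    ext : 1 <;> simp
  refine ⟨(G ◁ ψ) ≫ a.act, ?_⟩
  have hcomm : fst G Y ≫ a'.orbitMap o' = ((G ◁ ψ) ≫ a.act) ≫ qbar := by
    apply cancel (Cov.whiskerLeft G hρ)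
    have h := hΦ (𝟙 (G ⊗ H'))
    simp only [Category.id_comp] at h
    rw [← Category.assoc, whiskerLeft_fst, ← Category.assoc, h, Category.assoc, hq, hsq'.w,
      ← Category.id_comp ((G ◁ i') ≫ μ[G]), comp_whisker_mul]
    simp only [Category.id_comp]
  have huniq : ∀ {W : Over S} (m₁ m₂ : W ⟶ G ⊗ Y), m₁ ≫ fst G Y = m₂ ≫ fst G Y →
      m₁ ≫ (G ◁ ψ) ≫ a.act = m₂ ≫ (G ◁ ψ) ≫ a.act → m₁ = m₂ := by
    intro W m₁ m₂ e₁ e₂
    have hc := Cov.whiskerLeft G hρ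
    have hc₁ := Cov.of_isPullback (IsPullback.of_hasPullback (G ◁ ρ) m₁) hc
    apply cancel hc₁
    have hc₂ := Cov.of_isPullback (IsPullback.of_hasPullback (G ◁ ρ) (pullback.snd (G ◁ ρ) m₁ ≫ m₂)) hc
    apply cancel hc₂
    set q₁ := pullback.snd (G ◁ ρ) m₁
    set q₂ := pullback.snd (G ◁ ρ) (q₁ ≫ m₂)
    set n₁ := q₂ ≫ pullback.fst (G ◁ ρ) m₁
    set n₂ := pullback.fst (G ◁ ρ) (q₁ ≫ m₂)
    have hn₁ : q₂ ≫ q₁ ≫ m₁ = n₁ ≫ (G ◁ ρ) := by
      rw [show q₁ ≫ m₁ = pullback.fst (G ◁ ρ) m₁ ≫ (G ◁ ρ) from pullback.condition.symm, Category.assoc]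
    have hn₂ : q₂ ≫ q₁ ≫ m₂ = n₂ ≫ (G ◁ ρ) := pullback.condition.symm
    have hg : n₂ ≫ fst G H' = n₁ ≫ fst G H' := by
      rw [← whiskerLeft_fst G ρ, ← Category.assoc, ← Category.assoc, ← hn₁, ← hn₂]
      simp only [Category.assoc, e₁]
    have hh : ((n₁ ≫ fst G H') * (n₁ ≫ snd G H' ≫ i')) ≫ a.orbitMap o =
        ((n₂ ≫ fst G H') * (n₂ ≫ snd G H' ≫ i')) ≫ a.orbitMap o := by
      rw [← hΦ, ← hΦ, ← Category.assoc n₁, ← Category.assoc n₂, ← hn₁, ← hn₂]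
      simp only [Category.assoc]
      rw [e₂]
    obtain ⟨t, ht₁, ht₂⟩ := hsq.exists_lift _ _ hh
    rw [comp_whisker_mul, ht₁, hg, _root_.mul_assoc, mul_left_cancel_iff, ← hl, ← Category.assoc (snd G H),
      ← Category.assoc t, ← Category.assoc n₁, ← Category.assoc n₂, ← MonObj.mul_comp, cancel_mono] at ht₂
    rw [hn₁, hn₂]
    refine CartesianMonoidalCategory.hom_ext _ _ ?_ ?_
    · simp only [Category.assoc, whiskerLeft_fst, hg]
    · simp only [Category.assoc, whiskerLeft_snd]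
      have hw := lift (n₁ ≫ snd G H') (t ≫ snd G H) ≫= hsqY.w
      rw [← Category.assoc, lift_fst, ← Category.assoc, comp_whisker_mul, lift_fst, lift_snd_assoc] at hw
      simp only [Category.assoc] at hw ht₂
      rw [hw, ht₂, Category.assoc]
  have key : ∀ s : PullbackCone (a'.orbitMap o') qbar,
      ∃ f : s.pt ⟶ G ⊗ Y, f ≫ fst G Y = s.fst ∧ f ≫ (G ◁ ψ) ≫ a.act = s.snd := by
    intro s
    have hc := Cov.of_isPullback (IsPullback.of_hasPullback (a.orbitMap o) s.snd) hπ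
    set q := pullback.snd (a.orbitMap o) s.snd
    set γ := pullback.fst (a.orbitMap o) s.snd
    have hγ : γ ≫ a.orbitMap o = q ≫ s.snd := pullback.condition
    obtain ⟨n, hn₁, hn₂⟩ := hsq'.exists_lift (q ≫ s.fst) γ (by
      rw [Category.assoc, s.condition, ← Category.assoc, ← hγ, Category.assoc, hq])
    rw [comp_whisker_mul] at hn₂
    have hd₁ : (n ≫ (G ◁ ρ)) ≫ fst G Y = q ≫ s.fst := by rw [Category.assoc, whiskerLeft_fst, hn₁]
    have hd₂ : (n ≫ (G ◁ ρ)) ≫ (G ◁ ψ) ≫ a.act = q ≫ s.snd := by rw [Category.assoc, hΦ, hn₂, hγ]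
    obtain ⟨f, hf⟩ := descend hc (n ≫ (G ◁ ρ)) fun T b₁ b₂ e => by
      refine huniq _ _ ?_ ?_
      · simp only [Category.assoc] at hd₁ ⊢
        rw [hd₁, ← Category.assoc, e, Category.assoc]
      · simp only [Category.assoc] at hd₂ ⊢
        rw [hd₂, ← Category.assoc, e, Category.assoc]
    exact ⟨f, cancel hc (by rw [← Category.assoc, hf, hd₁]), cancel hc (by rw [← Category.assoc, hf, hd₂])⟩
  exact IsPullback.of_isLimit' ⟨hcomm⟩ (PullbackCone.IsLimit.mk _ (fun s => (key s).choose)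
    (fun s => (key s).choose_spec.1) (fun s => (key s).choose_spec.2)
    fun s m h₁ h₂ => huniq _ _ (h₁.trans (key s).choose_spec.1.symm) (h₂.trans (key s).choose_spec.2.symm))

end Groth.L19.QuotientMap
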