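import Groth.Agent.L25.HomScheme.Weil
import Groth.Agent.L23.InfEtaleRing
import Mathlib.AlgebraicGeometry.Limits
import Mathlib.AlgebraicGeometry.Morphisms.Affine

/-!
# The scheme of open-closed subsets of a finite locally free scheme

For `H` finite locally free over `S` the functor `T ↦ {clopen subsets of H ×_S T}` is representable
by a scheme affine and étale over `S`: it is the Weil restriction of `S ⨿ S`.
-/

universe u

open CategoryTheory CategoryTheory.Limits MonoidalCategory CartesianMonoidalCategory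
open AlgebraicGeometry TopologicalSpace

namespace Groth.L19.ClopenScheme

set_option backward.isDefEq.respectTransparency.types false
set_option backward.isDefEq.respectTransparency false
set_option linter.style.haveILetI false

variable {S : Scheme.{u}}

theorem coe_comp {X Y Z : Scheme.{u}} (f : X ⟶ Y) (g : Y ⟶ Z) : ⇑(f ≫ g) = ⇑g ∘ ⇑f :=
  funext fun _ => Scheme.Hom.comp_apply _ _ _

/-- Two copies of `S`. -/
noncomputable abbrev two (S : Scheme.{u}) : Over S := Over.mk (coprod.desc (𝟙 S) (𝟙 S))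

/-- The open-closed subset attached to a morphism to two copies of `S`. -/
def clopenOf {T : Over S} (φ : T ⟶ two S) : Set T.left :=
  φ.left ⁻¹' Set.range (coprod.inl : S ⟶ S ⨿ S)

theorem isClopen_clopenOf {T : Over S} (φ : T ⟶ two S) : IsClopen (clopenOf φ) := by
  refine IsClopen.preimage ⟨?_, (coprod.inl : S ⟶ S ⨿ S).isOpenEmbedding.isOpen_range⟩
    φ.left.continuous
  rw [← isOpen_compl_iff, (isCompl_range_inl_inr S S).compl_eq]
  exact (coprod.inr : S ⟶ S ⨿ S).isOpenEmbedding.isOpen_range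

theorem clopenOf_comp {T T' : Over S} (f : T' ⟶ T) (φ : T ⟶ two S) :
    clopenOf (f ≫ φ) = f.left ⁻¹' clopenOf φ := rfl

/-- A morphism to two copies of `S` is a choice of an open-closed subset. -/
theorem clopenOf_bijective {T : Over S} {U : Set T.left} (hU : IsClopen U) :
    ∃! φ : T ⟶ two S, clopenOf φ = U := by
  let U₁ : T.left.Opens := ⟨U, hU.2⟩
  let U₂ : T.left.Opens := ⟨Uᶜ, hU.1.isOpen_compl⟩
  have hcompl : IsCompl U₁.ι.opensRange U₂.ι.opensRange := by
    rw [Scheme.Opens.opensRange_ι, Scheme.Opens.opensRange_ι]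
    constructor
    · rw [disjoint_iff]; ext x; simp [U₁, U₂]
    · rw [codisjoint_iff]; ext x; simp [U₁, U₂, em]
  obtain ⟨hc⟩ := nonempty_isColimit_binaryCofanMk_of_isCompl U₁.ι U₂.ι hcompl
  let φ₀ : T.left ⟶ S ⨿ S := hc.desc (BinaryCofan.mk (U₁.ι ≫ T.hom ≫ coprod.inl) (U₂.ι ≫ T.hom ≫ coprod.inr))
  have h1 : U₁.ι ≫ φ₀ = U₁.ι ≫ T.hom ≫ coprod.inl := hc.fac _ ⟨WalkingPair.left⟩
  have h2 : U₂.ι ≫ φ₀ = U₂.ι ≫ T.hom ≫ coprod.inr := hc.fac _ ⟨WalkingPair.right⟩
  have hw : φ₀ ≫ coprod.desc (𝟙 S) (𝟙 S) = T.hom := by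
    refine BinaryCofan.IsColimit.hom_ext hc ?_ ?_
    · show U₁.ι ≫ φ₀ ≫ _ = U₁.ι ≫ T.hom
      rw [reassoc_of% h1, coprod.inl_desc, Category.comp_id]
    · show U₂.ι ≫ φ₀ ≫ _ = U₂.ι ≫ T.hom
      rw [reassoc_of% h2, coprod.inr_desc, Category.comp_id]
  have key : ∀ x : T.left, φ₀ x ∈ Set.range (coprod.inl : S ⟶ S ⨿ S) ↔ x ∈ U := by
    intro x
    by_cases hx : x ∈ U
    · refine iff_of_true ⟨T.hom x, ?_⟩ hx
      have := congrArg (fun m : (U₁ : Scheme.{u}) ⟶ S ⨿ S => m ⟨x, hx⟩) h1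
      exact this.symm
    · refine iff_of_false (fun ⟨s, hs⟩ => ?_) hx
      have : φ₀ x = (coprod.inr : S ⟶ S ⨿ S) (T.hom x) :=
        congrArg (fun m : (U₂ : Scheme.{u}) ⟶ S ⨿ S => m ⟨x, hx⟩) h2
      exact inl_ne_inr S S s (T.hom x) (hs.trans this)
  refine ⟨Over.homMk φ₀ hw, Set.ext key, fun ψ hψ => ?_⟩
  have hw' : ψ.left ≫ coprod.desc (𝟙 S) (𝟙 S) = T.hom := Over.w ψ
  refine Over.OverMorphism.ext (BinaryCofan.IsColimit.hom_ext hc ?_ ?_)
  · show U₁.ι ≫ ψ.left = U₁.ι ≫ φ₀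
    have hr : Set.range (U₁.ι ≫ ψ.left) ⊆ Set.range (coprod.inl : S ⟶ S ⨿ S) := by
      rintro _ ⟨x, rfl⟩
      exact (Set.ext_iff.mp hψ x.1).mpr x.2
    have hl := IsOpenImmersion.lift_fac (coprod.inl : S ⟶ S ⨿ S) (U₁.ι ≫ ψ.left) hr
    have he : IsOpenImmersion.lift (coprod.inl : S ⟶ S ⨿ S) (U₁.ι ≫ ψ.left) hr = U₁.ι ≫ T.hom := by
      calc IsOpenImmersion.lift (coprod.inl : S ⟶ S ⨿ S) (U₁.ι ≫ ψ.left) hr
          = (IsOpenImmersion.lift (coprod.inl : S ⟶ S ⨿ S) (U₁.ι ≫ ψ.left) hr ≫ coprod.inl) ≫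
              coprod.desc (𝟙 S) (𝟙 S) := by rw [Category.assoc, coprod.inl_desc, Category.comp_id]
        _ = U₁.ι ≫ T.hom := by rw [hl, Category.assoc, hw']
    rw [h1, ← hl, he, Category.assoc]
  · show U₂.ι ≫ ψ.left = U₂.ι ≫ φ₀
    have hr : Set.range (U₂.ι ≫ ψ.left) ⊆ Set.range (coprod.inr : S ⟶ S ⨿ S) := by
      rintro _ ⟨x, rfl⟩
      rw [← (isCompl_range_inl_inr S S).compl_eq]
      exact fun h => x.2 ((Set.ext_iff.mp hψ x.1).mp h)
    have hl := IsOpenImmersion.lift_fac (coprod.inr : S ⟶ S ⨿ S) (U₂.ι ≫ ψ.left) hr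
    have he : IsOpenImmersion.lift (coprod.inr : S ⟶ S ⨿ S) (U₂.ι ≫ ψ.left) hr = U₂.ι ≫ T.hom := by
      calc IsOpenImmersion.lift (coprod.inr : S ⟶ S ⨿ S) (U₂.ι ≫ ψ.left) hr
          = (IsOpenImmersion.lift (coprod.inr : S ⟶ S ⨿ S) (U₂.ι ≫ ψ.left) hr ≫ coprod.inr) ≫
              coprod.desc (𝟙 S) (𝟙 S) := by rw [Category.assoc, coprod.inr_desc, Category.comp_id]
        _ = U₂.ι ≫ T.hom := by rw [hl, Category.assoc, hw']
    rw [h2, ← hl, he, Category.assoc]

theorem isPullback_whiskerLeft (H : Over S) {T T' : Over S} (f : T' ⟶ T) :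
    IsPullback (H ◁ f).left (snd H T').left (snd H T).left f.left := by
  have hbot : IsPullback (fst H T).left (snd H T).left H.hom T.hom := IsPullback.of_hasPullback _ _
  have hbig : IsPullback ((H ◁ f).left ≫ (fst H T).left) (snd H T').left H.hom (f.left ≫ T.hom) := by
    rw [← Over.comp_left, whiskerLeft_fst, Over.w f]
    exact IsPullback.of_hasPullback _ _
  exact IsPullback.of_right hbig (by rw [← Over.comp_left, ← Over.comp_left, whiskerLeft_snd]) hbot

/-- Base change along a surjective closed immersion does not change the clopen subsets. -/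
theorem existsUnique_clopen_of_surjective (H : Over S) {T T' : Over S} (f : T' ⟶ T)
    [IsClosedImmersion f.left] [Surjective f.left] {V : Set (H ⊗ T').left} (hV : IsClopen V) :
    ∃! U : Set (H ⊗ T).left, IsClopen U ∧ (H ◁ f).left ⁻¹' U = V := by
  haveI : IsClosedImmersion (H ◁ f).left :=
    MorphismProperty.of_isPullback (isPullback_whiskerLeft H f).flip inferInstance
  haveI : Surjective (H ◁ f).left :=
    MorphismProperty.of_isPullback (isPullback_whiskerLeft H f).flip inferInstance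
  let e := (H ◁ f).left.isClosedEmbedding.isEmbedding.toHomeomorphOfSurjective (H ◁ f).left.surjective
  refine ⟨e.symm ⁻¹' V, ⟨hV.preimage e.symm.continuous, ?_⟩, fun U hU => ?_⟩
  · ext x
    show e.symm (e x) ∈ V ↔ x ∈ V
    rw [e.symm_apply_apply]
  · rw [← hU.2]
    ext x
    show x ∈ U ↔ (H ◁ f).left (e.symm x) ∈ U
    rw [show (H ◁ f).left (e.symm x) = x from e.apply_symm_apply x]

/-- **The scheme of open-closed subsets**: affine and étale over `S`. -/
theorem exists_clopenScheme (H : Over S) [IsFinite H.hom] [Flat H.hom]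
    [LocallyOfFinitePresentation H.hom] :
    ∃ (A : Over S) (cl : ∀ T : Over S, (T ⟶ A) → Set (H ⊗ T).left),
      IsAffineHom A.hom ∧ Etale A.hom ∧
      (∀ (T T' : Over S) (f : T' ⟶ T) (a : T ⟶ A), cl T' (f ≫ a) = (H ◁ f).left ⁻¹' cl T a) ∧
      (∀ (T : Over S) (a : T ⟶ A), IsClopen (cl T a)) ∧
      (∀ (T : Over S) (U : Set (H ⊗ T).left), IsClopen U → ∃! a : T ⟶ A, cl T a = U) := by
  haveI : IsAffineHom (two S).hom := inferInstanceAs (IsAffineHom (coprod.desc (𝟙 S) (𝟙 S)))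
  have hlfp : LocallyOfFinitePresentation (two S).hom := by
    show LocallyOfFinitePresentation (coprod.desc (𝟙 S) (𝟙 S))
    rw [IsZariskiLocalAtSource.iff_of_openCover (P := @LocallyOfFinitePresentation)
      (coprodOpenCover.{u, 0} S S)]
    rintro (_ | _)
    · show LocallyOfFinitePresentation (coprod.inl ≫ coprod.desc (𝟙 S) (𝟙 S))
      rw [coprod.inl_desc]; infer_instance
    · show LocallyOfFinitePresentation (coprod.inr ≫ coprod.desc (𝟙 S) (𝟙 S))
      rw [coprod.inr_desc]; infer_instance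
  obtain ⟨A, υ, hrep, haff, -, hfp⟩ := Groth.L25.HomScheme.exists_weil H (two S)
  haveI := haff
  haveI := hfp hlfp
  let cl : ∀ T : Over S, (T ⟶ A) → Set (H ⊗ T).left := fun T a => clopenOf ((H ◁ a) ≫ υ)
  have hnat : ∀ (T T' : Over S) (f : T' ⟶ T) (a : T ⟶ A),
      cl T' (f ≫ a) = (H ◁ f).left ⁻¹' cl T a := fun T T' f a => by
    show clopenOf _ = _
    rw [MonoidalCategory.whiskerLeft_comp, Category.assoc]
    rfl
  have huniv : ∀ (T : Over S) (U : Set (H ⊗ T).left), IsClopen U → ∃! a : T ⟶ A, cl T a = U := by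
    intro T U hU
    obtain ⟨φ, hφ, hφu⟩ := clopenOf_bijective hU
    obtain ⟨a, ha, hau⟩ := hrep T φ
    refine ⟨a, ?_, fun b hb => hau b (hφu _ hb)⟩
    show clopenOf ((H ◁ a) ≫ υ) = U
    rw [show (H ◁ a) ≫ υ = φ from ha]
    exact hφ
  refine ⟨A, cl, haff, ?_, hnat, fun T a => isClopen_clopenOf _, huniv⟩
  refine Groth.L23.etale_of_lfp_of_formallyEtaleHom A.hom fun R _ I hI a b hab => ?_
  let q : Spec (CommRingCat.of (R ⧸ I)) ⟶ Spec (CommRingCat.of R) :=
    Spec.map (CommRingCat.ofHom (Ideal.Quotient.mk I))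
  let T : Over S := Over.mk b
  let T₀ : Over S := Over.mk (q ≫ b)
  let i : T₀ ⟶ T := Over.homMk q rfl
  let a₀ : T₀ ⟶ A := Over.homMk a hab.symm
  haveI : IsClosedImmersion i.left := IsClosedImmersion.spec_of_surjective _ Ideal.Quotient.mk_surjective
  haveI : Surjective i.left := ⟨fun x => by
    have hle : I ≤ x.asIdeal := fun r hr => x.isPrime.mem_of_pow_mem 2
      ((le_of_eq hI).trans bot_le (Ideal.pow_mem_pow hr 2))
    obtain ⟨y, hy⟩ : x ∈ Set.range (PrimeSpectrum.comap (Ideal.Quotient.mk I)) := by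
      rw [range_comap_of_surjective _ _ Ideal.Quotient.mk_surjective, Ideal.mk_ker]
      exact hle
    exact ⟨y, hy⟩⟩
  obtain ⟨U, ⟨hU, hUi⟩, hUu⟩ := existsUnique_clopen_of_surjective H i (isClopen_clopenOf ((H ◁ a₀) ≫ υ))
  obtain ⟨l, hl, hlu⟩ := huniv T U hU
  have hil : i ≫ l = a₀ := by
    obtain ⟨c, -, hcu⟩ := huniv T₀ (cl T₀ a₀) (isClopen_clopenOf _)
    have h3 : cl T₀ (i ≫ l) = cl T₀ a₀ := by rw [hnat, hl]; exact hUi
    rw [hcu (i ≫ l) h3, hcu a₀ rfl]
  refine ⟨l.left, ⟨congrArg (fun m => m.left) hil, Over.w l⟩, fun m hm => ?_⟩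
  let m' : T ⟶ A := Over.homMk m hm.2
  have h1 : i ≫ m' = a₀ := Over.OverMorphism.ext hm.1
  have h2 : cl T m' = U := hUu _ ⟨isClopen_clopenOf _, by rw [← hnat, h1]⟩
  exact congrArg (fun m : T ⟶ A => m.left) (hlu m' h2)

end Groth.L19.ClopenScheme
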