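import Groth.Agent.L19.LocFreeDescent
import Groth.Agent.L16.QcqsPush
import Groth.Agent.L19.ConormalAffine
import Groth.Agent.L18.LocFreeTilde
import Groth.Prelude.Def_Mor2
import Mathlib.RingTheory.Finiteness.ModuleFinitePresentation

/-!
# Finite locally free morphisms and their direct images
-/

set_option autoImplicit false
set_option linter.style.haveILetI false
set_option backward.isDefEq.respectTransparency.types false
set_option backward.isDefEq.respectTransparency false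

universe u

open CategoryTheory CategoryTheory.Limits AlgebraicGeometry TopologicalSpace Opposite

noncomputable section

namespace Groth.L19.FinLocPush

open Groth.L18.Frame (rs ro rs_rs ro_ro rs_smul ro_self rs_self)

variable {X S : Scheme.{u}} (f : X ⟶ S)

/-- The sections of the direct image of the structure sheaf are the functions. -/
theorem exists_chart [IsAffineHom f] {V : S.Opens} (hV : IsAffineOpen V) :
    letI := (f.app V).hom.toAlgebra
    ∃ (N : ModuleCat.{u} Γ(S, V)),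
      Nonempty (((Scheme.Modules.pushforward f).obj (Coh.structureModule X)).restrict hV.fromSpec ≅ tilde N) ∧
        Nonempty ((N : Type u) ≃ₗ[Γ(S, V)] Γ(X, f ⁻¹ᵁ V)) := by
  haveI : Coh.IsQCoh (Coh.structureModule X) := Groth.L19.Conormal.isQCoh_structureModule X
  haveI : Coh.IsQCoh ((Scheme.Modules.pushforward f).obj (Coh.structureModule X)) :=
    Groth.L16.QcqsPush.isQCoh_push _ f
  obtain ⟨N, ⟨e⟩⟩ := Groth.L00.Local.exists_tilde_iso_restrict hV.fromSpec
    ((Scheme.Modules.pushforward f).obj (Coh.structureModule X))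
  refine ⟨N, ⟨e⟩, ?_⟩
  letI := (f.app V).hom.toAlgebra
  let M := (Scheme.Modules.pushforward f).obj (Coh.structureModule X)
  let j := hV.fromSpec
  have hle : j ''ᵁ ⊤ ≤ V := ((Scheme.Hom.image_top_eq_opensRange j).trans hV.opensRange_fromSpec).le
  have hge : V ≤ j ''ᵁ ⊤ := ((Scheme.Hom.image_top_eq_opensRange j).trans hV.opensRange_fromSpec).ge
  have hW : ⊤ ≤ j ⁻¹ᵁ V := hV.fromSpec_preimage_self.ge
  have hγ : ∀ a : Γ(S, V), (j.appIso ⊤).inv ((Scheme.ΓSpecIso Γ(S, V)).inv a) = ro hle a := by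
    intro a
    have h1 : j.appLE V ⊤ hW = (Scheme.ΓSpecIso Γ(S, V)).inv := by
      rw [Scheme.Hom.appLE, hV.fromSpec_app_self, Category.assoc, ← Functor.map_comp]
      exact (congrArg ((Scheme.ΓSpecIso Γ(S, V)).inv ≫ ·) ((Spec Γ(S, V)).presheaf.map_id _)).trans
        (Category.comp_id _)
    rw [← h1]
    exact congr($(Scheme.Hom.appLE_appIso_inv j hW) a)
  have hsmulN : ∀ (a : Γ(S, V)) (m : N), (show Γ(tilde N, ⊤) from (tilde.toOpen N ⊤).hom (a • m)) =
      (Scheme.ΓSpecIso Γ(S, V)).inv a • (show Γ(tilde N, ⊤) from (tilde.toOpen N ⊤).hom m) := fun a m =>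
    ((tilde.toOpen N ⊤).hom.map_smul _ _).trans ((Scheme.Modules.smul_Spec_def a _).trans
      (congrArg (· • (show Γ(tilde N, ⊤) from (tilde.toOpen N ⊤).hom m)) (ro_self _ _)))
  let Φ : N → Γ(M, V) := fun m =>
    rs M hge (show Γ(M, j ''ᵁ ⊤) from e.inv.app ⊤ (show Γ(tilde N, ⊤) from tilde.toOpen N ⊤ m))
  have hadd : ∀ x y : N, Φ (x + y) = Φ x + Φ y := fun x y => by
    show rs M hge (e.inv.app ⊤ (show Γ(tilde N, ⊤) from (tilde.toOpen N ⊤).hom (x + y))) = _
    exact (congrArg (fun z => rs M hge (e.inv.app ⊤ z)) (map_add (tilde.toOpen N ⊤).hom x y)).trans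
      ((congrArg (rs M hge) (map_add (e.inv.app ⊤).hom _ _)).trans (map_add _ _ _))
  have hsmul : ∀ (a : Γ(S, V)) (m : N), Φ (a • m) = a • Φ m := fun a m => by
    show rs M hge (e.inv.app ⊤ (show Γ(tilde N, ⊤) from (tilde.toOpen N ⊤).hom (a • m))) = _
    rw [hsmulN, Scheme.Modules.Hom.app_smul]
    show rs M hge ((j.appIso ⊤).inv ((Scheme.ΓSpecIso Γ(S, V)).inv a) •
      (show Γ(M, j ''ᵁ ⊤) from e.inv.app ⊤ (show Γ(tilde N, ⊤) from tilde.toOpen N ⊤ m))) = _
    rw [hγ, rs_smul, ro_ro, ro_self]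
  have hbij : Function.Bijective Φ := by
    refine Function.Bijective.comp ⟨fun a b e => ?_, fun b => ⟨rs M hle b, (rs_rs M hle hge b).trans (rs_self M _ b)⟩⟩
      ((ConcreteCategory.bijective_of_isIso (e.inv.app ⊤)).comp
        (ConcreteCategory.bijective_of_isIso (tilde.isoTop N).hom))
    have := congrArg (rs M hle) e
    rwa [rs_rs, rs_rs, rs_self, rs_self] at this
  let L : (N : Type u) →ₗ[Γ(S, V)] Γ(X, f ⁻¹ᵁ V) :=
    { toFun := fun m => (Φ m : Γ(X, f ⁻¹ᵁ V))
      map_add' := hadd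
      map_smul' := fun a m => hsmul a m }
  exact ⟨LinearEquiv.ofBijective L hbij⟩

theorem isFinLocFree_push (h : Mor2.IsFinLocFree f) :
    IsAffineHom f ∧ FlatMod.IsFinLocFree ((Scheme.Modules.pushforward f).obj (Coh.structureModule X)) := by
  obtain ⟨h1, h2, h3⟩ := h
  refine ⟨inferInstance, Groth.L19.PullChart.isFinLocFree_of_projective_charts _ fun x => ?_⟩
  obtain ⟨_, ⟨V, hV, rfl⟩, hxV, -⟩ := S.isBasis_affineOpens.exists_subset_of_mem_open (Set.mem_univ x) isOpen_univ
  replace hV : IsAffineOpen V := hV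
  obtain ⟨N, ⟨e⟩, ⟨L⟩⟩ := exists_chart f hV
  letI := (f.app V).hom.toAlgebra
  haveI : Module.Finite Γ(S, V) Γ(X, f ⁻¹ᵁ V) := f.finite_app V hV
  have hfl : (f.app V).hom.Flat := by
    rw [Scheme.Hom.app_eq_appLE]
    exact h2.flat_appLE hV (hV.preimage f) le_rfl
  have hfp : (f.app V).hom.FinitePresentation := by
    rw [Scheme.Hom.app_eq_appLE]
    exact h3.finitePresentation_appLE hV (hV.preimage f) le_rfl
  haveI : Module.Flat Γ(S, V) Γ(X, f ⁻¹ᵁ V) := hfl
  haveI : Algebra.FinitePresentation Γ(S, V) Γ(X, f ⁻¹ᵁ V) := hfp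
  haveI := Module.FinitePresentation.of_finite_of_finitePresentation Γ(S, V) Γ(X, f ⁻¹ᵁ V)
  haveI : Module.FinitePresentation Γ(S, V) N := Module.FinitePresentation.of_equiv L.symm
  haveI : Module.Flat Γ(S, V) N := Module.Flat.of_linearEquiv L
  exact ⟨Γ(S, V), hV.fromSpec, inferInstance, N, hV.opensRange_fromSpec.ge hxV, inferInstance,
    Module.Flat.projective_of_finitePresentation, ⟨e⟩⟩

theorem isFinLocFree_of_push [IsAffineHom f]
    (h : FlatMod.IsFinLocFree ((Scheme.Modules.pushforward f).obj (Coh.structureModule X))) :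
    Mor2.IsFinLocFree f := by
  have key : ∀ (V : S.Opens) (hV : IsAffineOpen V),
      letI := (f.app V).hom.toAlgebra
      Module.Finite Γ(S, V) Γ(X, f ⁻¹ᵁ V) ∧ Module.FinitePresentation Γ(S, V) Γ(X, f ⁻¹ᵁ V) ∧
        Module.Flat Γ(S, V) Γ(X, f ⁻¹ᵁ V) := by
    intro V hV
    letI := (f.app V).hom.toAlgebra
    obtain ⟨N, ⟨e⟩, ⟨L⟩⟩ := exists_chart f hV
    have hloc : FlatMod.IsFinLocFree (tilde N) :=
      Groth.L29.LocFree.of_iso ((Scheme.Modules.restrictFunctorIsoPullback hV.fromSpec).symm.app _ ≪≫ e)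
        (Groth.L29.LocFree.pullback hV.fromSpec h)
    obtain ⟨hN1, hN2⟩ := (Groth.L18.LFP.isFinLocFree_tilde_iff N).1 hloc
    haveI := hN1
    haveI := hN2
    haveI : Module.FinitePresentation Γ(S, V) N := Module.finitePresentation_of_projective _ _
    haveI : Module.FinitePresentation Γ(S, V) Γ(X, f ⁻¹ᵁ V) := Module.FinitePresentation.of_equiv L
    exact ⟨inferInstance, inferInstance, Module.Flat.of_linearEquiv L.symm⟩
  have hfin : IsFinite f := ⟨fun V hV => (key V hV).1⟩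
  have hres : ∀ {U : S.Opens} (_ : IsAffineOpen U) {W : X.Opens} (_ : IsAffineOpen W) (e : W ≤ f ⁻¹ᵁ U),
      f.appLE U W e = f.app U ≫ (𝟙 X : X ⟶ X).appLE (f ⁻¹ᵁ U) W e := fun {U} _ {W} _ e => by
    rw [Scheme.Hom.app_eq_appLE, Scheme.Hom.appLE_comp_appLE]
    simp only [Category.id_comp]
  refine ⟨hfin, ⟨fun {U} hU {W} hW e => ?_⟩, ⟨fun {U} hU {W} hW e => ?_⟩⟩
  · rw [hres hU hW e, CommRingCat.hom_comp]
    exact RingHom.Flat.comp (show (f.app U).hom.Flat from (key U hU).2.2)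
      (Flat.flat_appLE (𝟙 X) (hU.preimage f) hW e)
  · rw [hres hU hW e, CommRingCat.hom_comp]
    refine RingHom.FinitePresentation.comp
      (LocallyOfFinitePresentation.finitePresentation_appLE (𝟙 X) (hU.preimage f) hW e) ?_
    letI := (f.app U).hom.toAlgebra
    haveI := (key U hU).2.1
    exact Algebra.FinitePresentation.of_finitePresentation Γ(S, U) Γ(X, f ⁻¹ᵁ U)

end Groth.L19.FinLocPush
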