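import Groth.Agent.L07.FibreDimSemi
import Groth.Agent.L22.SchemeDim
import Mathlib.AlgebraicGeometry.AffineTransitionLimit
import Mathlib.AlgebraicGeometry.Fiber
import Mathlib.AlgebraicGeometry.Morphisms.ClosedImmersion
import Mathlib.CategoryTheory.Limits.Connected
import Mathlib.CategoryTheory.Limits.Constructions.Over.Connected

/-!
# Fibre dimensions along systems of closed immersions
-/

universe u

open CategoryTheory CategoryTheory.Limits AlgebraicGeometry TopologicalSpace

noncomputable section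

namespace Groth.L19.FibreDimSystem

set_option linter.style.haveILetI false
set_option backward.isDefEq.respectTransparency.types false
set_option backward.isDefEq.respectTransparency false

variable {S : Scheme.{u}} {I : Type u} [SmallCategory I] [IsCofiltered I] (D : I ⥤ Over S)
  (c : Cone D) (hc : IsLimit c) (hD : ∀ (i j : I) (a : i ⟶ j), IsClosedImmersion (D.map a).left)
  (hft : ∀ i, LocallyOfFiniteType (D.obj i).hom ∧ QuasiCompact (D.obj i).hom)

include hc hD in
/-- The legs of the limit of a system of closed immersions are topological embeddings. -/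
theorem isEmbedding_π (i : I) : Topology.IsEmbedding (c.π.app i).left := by
  haveI : IsConnected I := IsCofiltered.isConnected _
  haveI : ∀ {i j : I} (a : i ⟶ j), IsAffineHom ((D ⋙ Over.forget S).map a) := fun {i j} a => by
    haveI := hD i j a
    exact inferInstanceAs (IsAffineHom (D.map a).left)
  let hl := isLimitOfPreserves (Over.forget S) hc
  refine Topology.IsInducing.isEmbedding (Topology.isInducing_iff_nhds.2 fun x => le_antisymm
    (c.π.app i).left.continuous.continuousAt.le_comap fun s hs => ?_)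
  obtain ⟨U, hUs, hUo, hxU⟩ := mem_nhds_iff.1 hs
  obtain ⟨_, ⟨_, ⟨k, V, -, rfl⟩, rfl⟩, hxV, hVU⟩ :=
    (isBasis_preimage_isAffineOpen (D ⋙ Over.forget S) _ hl).exists_subset_of_mem_open hxU hUo
  obtain ⟨l, a, b, -⟩ := IsCofilteredOrEmpty.cone_objs (C := I) k i
  haveI := hD l i b
  obtain ⟨W, hW, hWV⟩ := (D.map b).left.isEmbedding.isInducing.isOpen_iff.1
    (((D.map a).left ⁻¹ᵁ V).isOpen)
  have hcomp : ∀ (z : c.pt.left) {m : I} (q : l ⟶ m),
      (D.map q).left ((c.π.app l).left z) = (c.π.app m).left z := fun z m q => by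
    rw [← Scheme.Hom.comp_apply, ← Over.comp_left, c.w q]; rfl
  have key : ∀ z : c.pt.left, (c.π.app i).left z ∈ W ↔ (c.π.app k).left z ∈ V := fun z => by
    rw [← hcomp z a, ← hcomp z b]
    exact Set.ext_iff.1 hWV _
  exact Filter.mem_of_superset (Filter.preimage_mem_comap (hW.mem_nhds ((key x).2 hxV)))
    fun z hz => hUs (hVU ((key z).1 hz))

include hc hD hft in
/-- Some stage has no more points over a given point than the limit. -/
theorem exists_stage_fibre_subset (y : S) :
    ∃ i, ∀ x : (D.obj i).left, (D.obj i).hom x = y → x ∈ Set.range (c.π.app i).left := by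
  obtain ⟨i₀⟩ := IsCofiltered.nonempty (C := I)
  let f₀ := (D.obj i₀).hom
  haveI := (hft i₀).1
  haveI := (hft i₀).2
  haveI : LocallyOfFiniteType (f₀.fiberToSpecResidueField y) :=
    MorphismProperty.pullback_snd f₀ (S.fromSpecResidueField y) inferInstance
  haveI : IsLocallyNoetherian (f₀.fiber y) :=
    LocallyOfFiniteType.isLocallyNoetherian (f₀.fiberToSpecResidueField y)
  haveI : CompactSpace (f₀.fiber y) := by
    haveI : QuasiCompact (f₀.fiberToSpecResidueField y) :=
      MorphismProperty.pullback_snd f₀ (S.fromSpecResidueField y) inferInstance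
    exact QuasiCompact.compactSpace_of_compactSpace (f₀.fiberToSpecResidueField y)
  haveI : IsNoetherian (f₀.fiber y) := {}
  let C : (Σ k : I, k ⟶ i₀) → Closeds (f₀.fiber y) := fun a =>
    ⟨f₀.fiberι y ⁻¹' Set.range (D.map a.2).left,
      (haveI := hD _ _ a.2; (D.map a.2).left.isClosedEmbedding.isClosed_range).preimage (f₀.fiberι y).continuous⟩
  obtain ⟨Cm, ⟨⟨i, a⟩, rfl⟩, hmin⟩ := wellFounded_lt.has_min (Set.range C) ⟨_, ⟨i₀, 𝟙 _⟩, rfl⟩
  refine ⟨i, fun x hx => ?_⟩
  have hall : ∀ (k : I) (b : k ⟶ i), x ∈ Set.range (D.map b).left := by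
    intro k b
    have hle : C ⟨k, b ≫ a⟩ ≤ C ⟨i, a⟩ := by
      rintro w ⟨z, hz⟩
      exact ⟨(D.map b).left z, by rw [← hz, D.map_comp, Over.comp_left]; rfl⟩
    have heq : C ⟨k, b ≫ a⟩ = C ⟨i, a⟩ := hle.antisymm (by
      by_contra h
      exact hmin _ ⟨_, rfl⟩ (lt_of_le_not_ge hle h))
    have hy : (D.map a).left x ∈ Set.range (f₀.fiberι y) := by
      rw [f₀.range_fiberι]
      show f₀ ((D.map a).left x) = y
      rw [← Scheme.Hom.comp_apply, Over.w (D.map a)]
      exact hx
    obtain ⟨w, hw⟩ := hy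
    have : w ∈ C ⟨k, b ≫ a⟩ := heq ▸ (⟨x, hw.symm⟩ : w ∈ C ⟨i, a⟩)
    obtain ⟨z, hz⟩ := this
    haveI := hD _ _ a
    refine ⟨z, (D.map a).left.isClosedEmbedding.injective ?_⟩
    exact (show (D.map a).left ((D.map b).left z) = (D.map (b ≫ a)).left z by
      rw [D.map_comp, Over.comp_left]; rfl).trans (hz.trans hw)
  let κ := Spec ((D.obj i).left.residueField x)
  let e : κ ⟶ (D.obj i).left := (D.obj i).left.fromSpecResidueField x
  have hlift : ∀ b : Over i, ∃ u : κ ⟶ (D.obj b.left).left, u ≫ (D.map b.hom).left = e := by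
    intro b
    haveI := hD _ _ b.hom
    let q := pullback.snd (D.map b.hom).left e
    haveI : IsClosedImmersion q := MorphismProperty.pullback_snd _ _ inferInstance
    haveI : Surjective q := ⟨fun w => by
      obtain ⟨z, hz⟩ := hall _ b.hom
      obtain ⟨p, -, hp⟩ := Scheme.Pullback.exists_preimage_pullback z w
        (show (D.map b.hom).left z = e w by rw [hz]; exact (Scheme.fromSpecResidueField_apply x w).symm)
      exact ⟨p, hp⟩⟩
    haveI : IsIso q := isIso_of_isClosedImmersion_of_surjective q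
    exact ⟨inv q ≫ pullback.fst _ _, by rw [Category.assoc, pullback.condition, IsIso.inv_hom_id_assoc]⟩
  choose u hu using hlift
  have hw : ∀ b : Over i, u b ≫ (D.obj b.left).hom = e ≫ (D.obj i).hom := fun b => by
    rw [← hu b, Category.assoc, Over.w]
  let s : Cone (Over.forget i ⋙ D) :=
    { pt := Over.mk (e ≫ (D.obj i).hom)
      π :=
        { app := fun b => Over.homMk (u b) (hw b)
          naturality := fun b b' φ => by
            ext1
            show 𝟙 κ ≫ u b' = u b ≫ (D.map φ.left).left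
            haveI := hD _ _ b'.hom
            rw [← cancel_mono (D.map b'.hom).left, Category.id_comp, hu, Category.assoc, ← Over.comp_left,
              ← D.map_comp, Over.w φ, hu] } }
  let hc' := (Functor.Initial.isLimitWhiskerEquiv (Over.forget i) c).symm hc
  have h := congrArg CommaMorphism.left (hc'.fac s (Over.mk (𝟙 i)))
  obtain ⟨w⟩ : Nonempty κ := inferInstance
  refine ⟨(hc'.lift s).left w, ?_⟩
  have he : u (Over.mk (𝟙 i)) = e := by
    haveI := hD _ _ (𝟙 i)
    refine (cancel_mono (D.map (𝟙 i)).left).1 ((hu (Over.mk (𝟙 i))).trans ?_)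
    rw [D.map_id]
    exact (Category.comp_id e).symm
  refine Eq.trans (congrArg (fun m : κ ⟶ (D.obj i).left => m w) (h.trans he)) ?_
  exact Scheme.fromSpecResidueField_apply x w

/-- Along a monomorphism which is a topological embedding the local fibre dimension decreases. -/
theorem fibreDimAt_le_of_isEmbedding {X Y : Scheme.{u}} {f : X ⟶ S} {g : Y ⟶ S} (b : X ⟶ Y)
    (hb : Topology.IsEmbedding b) (hw : b ≫ g = f) (x : X) :
    FlatMor.fibreDimAt f x ≤ FlatMor.fibreDimAt g (b x) := by
  obtain ⟨U, hxU, hU⟩ := (Groth.L07.FibreDim.fibreDimAt_le_iff g (b x) _).1 le_rfl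
  refine (Groth.L07.FibreDim.fibreDimAt_le_iff f x _).2 ⟨b ⁻¹ᵁ U, hxU, le_trans ?_ hU⟩
  rw [← Groth.L22.SchemeDim.topologicalKrullDim_eq_of_isEmbedding
    (hb.comp Topology.IsEmbedding.subtypeVal) rfl]
  refine Groth.L22.SchemeDim.topologicalKrullDim_mono ?_
  rintro _ ⟨⟨z, hzU, hz⟩, rfl⟩
  refine ⟨hzU, ?_⟩
  show g (b z) = g (b x)
  rw [← Scheme.Hom.comp_apply, ← Scheme.Hom.comp_apply, hw]
  exact hz

include hc hD hft in
/-- If the limit has fibres of dimension `≤ d`, so has a stage. -/
theorem exists_stage_fibres_le [CompactSpace S] {d : ℕ}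
    (hd : ∀ y, topologicalKrullDim ↥(c.pt.hom.fiber y) ≤ d) :
    ∃ i, ∀ y, topologicalKrullDim ↥((D.obj i).hom.fiber y) ≤ d := by
  by_contra hne
  push Not at hne
  haveI : IsConnected I := IsCofiltered.isConnected _
  let hl := isLimitOfPreserves (Over.forget S) hc
  haveI : ∀ {i j : I} (a : i ⟶ j), IsAffineHom ((D ⋙ Over.forget S).map a) := fun {i j} a => by
    haveI := hD i j a
    exact inferInstanceAs (IsAffineHom (D.map a).left)
  let B : ∀ i : I, Set (D.obj i).left := fun i => {x | ¬ FlatMor.fibreDimAt (D.obj i).hom x ≤ d}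
  have hBc : ∀ i, IsClosed (B i) := fun i => by
    haveI := (hft i).1
    exact (Groth.L07.FibreDim.isOpen_fibreDimAt_le (D.obj i).hom d).isClosed_compl
  have hBcpt : ∀ i, IsCompact (B i) := fun i => by
    haveI := (hft i).2
    haveI : CompactSpace (D.obj i).left := QuasiCompact.compactSpace_of_compactSpace (D.obj i).hom
    exact (hBc i).isCompact
  have hBne : ∀ i, (B i).Nonempty := fun i => by
    obtain ⟨y, hy⟩ := hne i
    have h : ¬ topologicalKrullDim ↥((D.obj i).hom.fiber y) ≤ d := not_le.mpr hy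
    rw [Groth.L07.FibreDim.fiber_dim_le_iff] at h
    push Not at h
    obtain ⟨x, -, hx⟩ := h
    exact ⟨x, not_le.mpr hx⟩
  obtain ⟨z, hz⟩ := exists_mem_of_isClosed_of_nonempty (D ⋙ Over.forget S) _ hl B hBc hBne hBcpt
    (fun {i i'} a x hx hle => by
      haveI := hD i i' a
      exact hx ((fibreDimAt_le_of_isEmbedding (D.map a).left (D.map a).left.isEmbedding (Over.w (D.map a)) x).trans hle))
  let z' : c.pt.left := z
  let y := c.pt.hom z'
  obtain ⟨i, hi⟩ := exists_stage_fibre_subset D c hc hD hft y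
  have hemb := isEmbedding_π D c hc hD i
  refine hz i ((Groth.L07.FibreDim.fiber_dim_le_iff _ y _).1 ?_ ((c.π.app i).left z') ?_)
  · refine le_trans (le_of_eq ?_) (hd y)
    have hb : (c.π.app i).left ≫ (D.obj i).hom = c.pt.hom := Over.w (c.π.app i)
    have hrange : Set.range ((c.π.app i).left ∘ c.pt.hom.fiberι y) = (D.obj i).hom ⁻¹' {y} := by
      rw [Set.range_comp, c.pt.hom.range_fiberι]
      ext x
      refine ⟨?_, fun hx => ?_⟩
      · rintro ⟨w, hw, rfl⟩
        show (D.obj i).hom ((c.π.app i).left w) = y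
        rw [← Scheme.Hom.comp_apply]
        exact (congrArg (fun m : c.pt.left ⟶ S => m w) hb).trans hw
      · obtain ⟨w, hw⟩ := hi x hx
        refine ⟨w, ?_, hw⟩
        show c.pt.hom w = y
        rw [← hb]
        show (D.obj i).hom ((c.π.app i).left w) = y
        exact (congrArg (D.obj i).hom hw).trans hx
    rw [← Groth.L22.SchemeDim.topologicalKrullDim_eq_of_isEmbedding
        (hemb.comp (c.pt.hom.fiberι y).isEmbedding) hrange,
      Groth.L22.SchemeDim.topologicalKrullDim_eq_of_isEmbedding ((D.obj i).hom.fiberι y).isEmbedding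
        ((D.obj i).hom.range_fiberι y)]
  · show (D.obj i).hom ((c.π.app i).left z') = c.pt.hom z'
    rw [← Scheme.Hom.comp_apply]
    exact congrArg (fun m => m z') (Over.w (c.π.app i))

end Groth.L19.FibreDimSystem
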