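import Groth.Agent.L25.HomScheme.Family
import Mathlib.AlgebraicGeometry.Morphisms.Flat
import Mathlib.RingTheory.TensorProduct.Free
import Mathlib.LinearAlgebra.Basis.VectorSpace

/-!
Global functions of a product with an affine scheme over a field: only quasi-compactness is needed.
-/

universe u

open CategoryTheory CategoryTheory.Limits MonoidalCategory CartesianMonoidalCategory
open AlgebraicGeometry TopologicalSpace Opposite TensorProduct

namespace Groth.L19.GammaField

set_option backward.isDefEq.respectTransparency.types false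
set_option backward.isDefEq.respectTransparency false
set_option linter.style.haveILetI false

variable {S : Scheme.{u}}

/-- The algebra of sections over an open. -/
@[reducible]
noncomputable def secAlg (X : Over S) (W : X.left.Opens) : Algebra Γ(S, ⊤) Γ(X.left, W) :=
  (X.hom.appLE ⊤ W le_top).hom.toAlgebra

attribute [instance] secAlg

theorem algebraMap_eq (X : Over S) (W : X.left.Opens) :
    CommRingCat.ofHom (algebraMap Γ(S, ⊤) Γ(X.left, W)) = X.hom.appLE ⊤ W le_top := rfl

/-- Restriction as an algebra map. -/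
noncomputable def res (X : Over S) {V W : X.left.Opens} (h : V ≤ W) :
    Γ(X.left, W) →ₐ[Γ(S, ⊤)] Γ(X.left, V) :=
  { (X.left.presheaf.map (homOfLE h).op).hom with
    commutes' := fun r => congrArg (fun q => CommRingCat.Hom.hom q r)
      (X.hom.appLE_map (U := ⊤) (le_top : W ≤ X.hom ⁻¹ᵁ ⊤) (homOfLE h).op) }

variable (X T : Over S)

/-- The preimage of an open in the product. -/
noncomputable abbrev preim (W : X.left.Opens) : (X ⊗ T).left.Opens := (fst X T).left ⁻¹ᵁ W

/-- The canonical map. -/
noncomputable def gam (W : X.left.Opens) :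
    CommRingCat.of (Γ(X.left, W) ⊗[Γ(S, ⊤)] Γ(T.left, ⊤)) ⟶ Γ((X ⊗ T).left, preim X T W) :=
  (CommRingCat.isPushout_tensorProduct Γ(S, ⊤) Γ(X.left, W) Γ(T.left, ⊤)).desc
    ((fst X T).left.appLE W (preim X T W) le_rfl)
    ((snd X T).left.appLE ⊤ (preim X T W) le_top) (by
      rw [algebraMap_eq, algebraMap_eq, Scheme.Hom.appLE_comp_appLE, Scheme.Hom.appLE_comp_appLE]
      congr 1
      exact (Over.w (fst X T)).trans (Over.w (snd X T)).symm)

theorem gam_tmul (W : X.left.Opens) (b : Γ(X.left, W)) (c : Γ(T.left, ⊤)) :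
    gam X T W (b ⊗ₜ c) =
      (fst X T).left.appLE W (preim X T W) le_rfl b * (snd X T).left.appLE ⊤ (preim X T W) le_top c := by
  have h1 := congrArg (fun q => CommRingCat.Hom.hom q b)
    ((CommRingCat.isPushout_tensorProduct Γ(S, ⊤) Γ(X.left, W) Γ(T.left, ⊤)).inl_desc
      ((fst X T).left.appLE W (preim X T W) le_rfl) ((snd X T).left.appLE ⊤ (preim X T W) le_top) (by
      rw [algebraMap_eq, algebraMap_eq, Scheme.Hom.appLE_comp_appLE, Scheme.Hom.appLE_comp_appLE]
      congr 1
      exact (Over.w (fst X T)).trans (Over.w (snd X T)).symm))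
  have h2 := congrArg (fun q => CommRingCat.Hom.hom q c)
    ((CommRingCat.isPushout_tensorProduct Γ(S, ⊤) Γ(X.left, W) Γ(T.left, ⊤)).inr_desc
      ((fst X T).left.appLE W (preim X T W) le_rfl) ((snd X T).left.appLE ⊤ (preim X T W) le_top) (by
      rw [algebraMap_eq, algebraMap_eq, Scheme.Hom.appLE_comp_appLE, Scheme.Hom.appLE_comp_appLE]
      congr 1
      exact (Over.w (fst X T)).trans (Over.w (snd X T)).symm))
  change (gam X T W).hom (b ⊗ₜ 1) = _ at h1
  change (gam X T W).hom (1 ⊗ₜ c) = _ at h2
  rw [← h1, ← h2, ← map_mul, Algebra.TensorProduct.tmul_mul_tmul, mul_one, one_mul]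

theorem gam_res {V W : X.left.Opens} (h : V ≤ W) (z : Γ(X.left, W) ⊗[Γ(S, ⊤)] Γ(T.left, ⊤)) :
    gam X T V (Algebra.TensorProduct.map (res X h) (AlgHom.id _ _) z) =
      (X ⊗ T).left.presheaf.map (homOfLE ((fst X T).left.preimage_mono h)).op (gam X T W z) := by
  induction z using TensorProduct.induction_on with
  | zero => simp only [map_zero]
  | add x y hx hy => simp only [map_add, hx, hy]
  | tmul b c =>
    rw [Algebra.TensorProduct.map_tmul, gam_tmul, gam_tmul, map_mul]
    refine congrArg₂ (· * ·) ?_ ?_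
    · show (fst X T).left.appLE V (preim X T V) le_rfl (X.left.presheaf.map (homOfLE h).op b) = _
      rw [← CommRingCat.comp_apply, ← CommRingCat.comp_apply, Scheme.Hom.map_appLE, Scheme.Hom.appLE_map]
    · show _ = (X ⊗ T).left.presheaf.map _ _
      rw [← CommRingCat.comp_apply, Scheme.Hom.appLE_map]
      rfl

variable [IsAffine S] [IsAffine T.left]

theorem gam_bijective_of_isAffineOpen {W : X.left.Opens} (hW : IsAffineOpen W) :
    Function.Bijective (gam X T W) := by
  have H : IsPullback (fst X T).left (snd X T).left X.hom T.hom := IsPullback.of_hasPullback _ _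
  haveI := isIso_pushoutSection_of_isAffineOpen H (US := ⊤) (UT := ⊤) (UX := W) le_top le_top
    (UY := preim X T W) (by simp [preim]) (isAffineOpen_top S) (isAffineOpen_top T.left) hW
  have h := (isIso_pushoutSection_iff H (US := ⊤) (UT := ⊤) (UX := W) le_top le_top
    (UY := preim X T W) (by simp [preim])).1 this
  let e := (CommRingCat.isPushout_tensorProduct Γ(S, ⊤) Γ(X.left, W) Γ(T.left, ⊤)).isoIsPushout _ _ h
  have he : gam X T W = e.hom := by
    apply (CommRingCat.isPushout_tensorProduct Γ(S, ⊤) Γ(X.left, W) Γ(T.left, ⊤)).hom_ext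
    · simp [gam, e]
    · simp [gam, e]
  rw [he]
  exact ConcreteCategory.bijective_of_isIso e.hom

/-- Coefficients with respect to a basis of the second factor commute with restriction. -/
theorem repr_res {ι : Type u} (e : Module.Basis ι Γ(S, ⊤) Γ(T.left, ⊤)) {V W : X.left.Opens} (h : V ≤ W)
    (z : Γ(X.left, W) ⊗[Γ(S, ⊤)] Γ(T.left, ⊤)) (a : ι) :
    (Algebra.TensorProduct.basis Γ(X.left, V) e).repr
        (Algebra.TensorProduct.map (res X h) (AlgHom.id _ _) z) a =
      res X h ((Algebra.TensorProduct.basis Γ(X.left, W) e).repr z a) := by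
  induction z using TensorProduct.induction_on with
  | zero => simp
  | add x y hx hy => simp only [map_add, Finsupp.add_apply, hx, hy]
  | tmul b c =>
    simp [Algebra.TensorProduct.basis_repr_tmul, AlgHom.commutes]

/-- Global sections of a product with an affine scheme over a field. -/
theorem gam_bijective (hS : IsField Γ(S, ⊤)) [CompactSpace X.left] :
    Function.Bijective (gam X T ⊤) := by
  classical
  letI := hS.toField
  let e := Module.Basis.ofVectorSpace Γ(S, ⊤) Γ(T.left, ⊤)
  let bW := fun W : X.left.Opens => Algebra.TensorProduct.basis Γ(X.left, W) e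
  let mp := fun {V W : X.left.Opens} (h : V ≤ W) =>
    Algebra.TensorProduct.map (res X h) (AlgHom.id Γ(S, ⊤) Γ(T.left, ⊤))
  constructor
  · rw [injective_iff_map_eq_zero]
    intro z hz
    apply (bW ⊤).repr.injective
    rw [map_zero]
    ext a
    apply X.left.IsSheaf.section_ext
    intro x _
    obtain ⟨_, ⟨V, hV, rfl⟩, hxV, -⟩ :=
      X.left.isBasis_affineOpens.exists_subset_of_mem_open (Set.mem_univ x) isOpen_univ
    refine ⟨V, le_top, hxV, ?_⟩
    show res X (le_top : V ≤ ⊤) _ = res X (le_top : V ≤ ⊤) _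
    rw [← repr_res X T e]
    have h0 : mp (le_top : V ≤ ⊤) z = 0 := by
      apply (gam_bijective_of_isAffineOpen X T hV).1
      rw [gam_res, hz, map_zero, map_zero]
    simp [mp] at h0
    simp [h0]
  · intro s
    obtain ⟨t, ht, htop⟩ := isCompact_iff_finite_and_eq_biUnion_affineOpens.1
      (show IsCompact ((⊤ : X.left.Opens) : Set X.left) from isCompact_univ)
    haveI := ht.to_subtype
    haveI := Fintype.ofFinite t
    have hcov : ∀ x : X.left, ∃ W : t, x ∈ W.1.1 := fun x => by
      have hx : x ∈ (⊤ : X.left.Opens) := trivial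
      rw [htop] at hx
      obtain ⟨W, hW, hxW⟩ : ∃ W ∈ t, x ∈ W.1 := by simpa using hx
      exact ⟨⟨W, hW⟩, hxW⟩
    choose z hz using fun W : t => (gam_bijective_of_isAffineOpen X T W.1.2).2
      ((X ⊗ T).left.presheaf.map (homOfLE ((fst X T).left.preimage_mono (le_top : W.1.1 ≤ ⊤))).op s)
    have hcomp : ∀ a, TopCat.Presheaf.IsCompatible X.left.presheaf (fun W : t => W.1.1)
        (fun W => (bW W.1.1).repr (z W) a) := by
      intro a i j
      apply X.left.IsSheaf.section_ext
      intro x hx
      obtain ⟨_, ⟨V, hV, rfl⟩, hxV, hle⟩ :=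
        X.left.isBasis_affineOpens.exists_subset_of_mem_open hx (i.1.1 ⊓ j.1.1).2
      have hle' : V ≤ i.1.1 ⊓ j.1.1 := hle
      refine ⟨V, hle', hxV, ?_⟩
      show res X hle' (res X (inf_le_left : i.1.1 ⊓ j.1.1 ≤ i.1.1) _) =
        res X hle' (res X (inf_le_right : i.1.1 ⊓ j.1.1 ≤ j.1.1) _)
      have r1 : ∀ {W : X.left.Opens} (h₁ : V ≤ i.1.1 ⊓ j.1.1) (h₂ : i.1.1 ⊓ j.1.1 ≤ W) (b : Γ(X.left, W)),
          res X h₁ (res X h₂ b) = res X (h₁.trans h₂) b := fun h₁ h₂ b =>
        (CommRingCat.comp_apply _ _ b).symm.trans (by rw [← Functor.map_comp, ← op_comp]; rfl)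
      rw [r1, r1, ← repr_res X T e, ← repr_res X T e]
      have h0 : mp (hle'.trans inf_le_left) (z i) = mp (hle'.trans inf_le_right) (z j) := by
        apply (gam_bijective_of_isAffineOpen X T hV).1
        rw [gam_res, gam_res, hz, hz, ← CommRingCat.comp_apply, ← CommRingCat.comp_apply,
          ← Functor.map_comp, ← Functor.map_comp]
        rfl
      simp only [mp] at h0
      rw [h0]
    choose c hc hc' using fun a => X.left.sheaf.existsUnique_gluing' (fun W : t => W.1.1) ⊤
      (fun W => homOfLE le_top) (fun x _ => Opens.mem_iSup.2 (hcov x))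
      (fun W => (bW W.1.1).repr (z W) a) (hcomp a)
    let supp := Finset.univ.biUnion fun W : t => ((bW W.1.1).repr (z W)).support
    let w : Γ(X.left, ⊤) ⊗[Γ(S, ⊤)] Γ(T.left, ⊤) := ∑ a ∈ supp, c a ⊗ₜ e a
    have hw : ∀ W : t, mp (le_top : W.1.1 ≤ ⊤) w = z W := by
      intro W
      apply (bW W.1.1).repr.injective
      ext a
      simp only [mp, bW, repr_res X T e]
      have h1 : (Algebra.TensorProduct.basis Γ(X.left, ⊤) e).repr w a = if a ∈ supp then c a else 0 := by
        simp [w, map_sum, Finsupp.finset_sum_apply, Algebra.TensorProduct.basis_repr_tmul, Finsupp.single_apply]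
      rw [h1]
      split_ifs with ha
      · exact hc a W
      · rw [map_zero]
        simp only [supp, Finset.mem_biUnion, Finset.mem_univ, true_and, not_exists, Finsupp.mem_support_iff,
          not_not] at ha
        exact (ha W).symm
    refine ⟨w, ?_⟩
    refine (X ⊗ T).left.sheaf.eq_of_locally_eq' (fun W : t => preim X T W.1.1) _
      (fun W => homOfLE ((fst X T).left.preimage_mono le_top)) (fun x _ => Opens.mem_iSup.2 (hcov _)) _ _
      fun W => ?_
    exact ((gam_res X T (le_top : W.1.1 ≤ ⊤) w).symm.trans (congrArg (gam X T W.1.1) (hw W))).trans (hz W)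

end Groth.L19.GammaField
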