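import Groth.Agent.L19.GammaField
import Groth.Agent.L25.HomScheme.Sigma
import Groth.Agent.L13.WeilRes.Alg

/-!
Schemes of morphisms to an affine scheme over a field.
-/

universe u

open CategoryTheory CategoryTheory.Limits MonoidalCategory CartesianMonoidalCategory
open AlgebraicGeometry TopologicalSpace Opposite TensorProduct

namespace Groth.L19.HomAffine

set_option backward.isDefEq.respectTransparency.types false
set_option backward.isDefEq.respectTransparency false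
set_option linter.style.haveILetI false

open Groth.L19.GammaField
open Groth.L25.HomScheme
open Groth.L13.WeilRes (W univ homEquiv)

variable {S : Scheme.{u}} [IsAffine S]

theorem appTop_toSpecΓ_comp {U V : Scheme.{u}} [IsAffine V] (φ : Γ(V, ⊤) ⟶ Γ(U, ⊤)) :
    (U.toSpecΓ ≫ Spec.map φ ≫ V.isoSpec.inv).appTop = φ := by
  have h : (V.isoSpec.inv).appTop = (Scheme.ΓSpecIso Γ(V, ⊤)).inv := by
    rw [← cancel_epi (Scheme.ΓSpecIso Γ(V, ⊤)).hom, Iso.hom_inv_id, ← Scheme.toSpecΓ_appTop,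
      ← Scheme.Hom.comp_appTop, Scheme.isoSpec_inv_toSpecΓ, Scheme.Hom.id_appTop]
  rw [Scheme.Hom.comp_appTop, Scheme.Hom.comp_appTop, h, Scheme.toSpecΓ_appTop, Category.assoc,
    Scheme.ΓSpecIso_naturality, Iso.inv_hom_id_assoc]

theorem appLE_top {U V : Scheme.{u}} (q : U ⟶ V) : q.appLE ⊤ ⊤ le_top = q.appTop :=
  (Scheme.Hom.app_eq_appLE q).symm

/-- The algebra map on global functions of a morphism over an affine base. -/
noncomputable def toAlg {U V : Over S} (g : U ⟶ V) :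
    Γ(V.left, ⊤) →ₐ[Γ(S, ⊤)] Γ(U.left, ⊤) :=
  { g.left.appTop.hom with
    commutes' := fun r => by
      refine congrArg (fun q => CommRingCat.Hom.hom q r)
        (show V.hom.appLE ⊤ ⊤ le_top ≫ g.left.appTop = U.hom.appLE ⊤ ⊤ le_top from ?_)
      rw [appLE_top, appLE_top, ← Scheme.Hom.comp_appTop, Over.w g] }

theorem toAlg_comp {U V V' : Over S} (g : U ⟶ V) (h : V ⟶ V') :
    toAlg (g ≫ h) = (toAlg g).comp (toAlg h) := AlgHom.ext fun _ => rfl

theorem toAlg_id (U : Over S) : toAlg (𝟙 U) = AlgHom.id _ _ := AlgHom.ext fun _ => rfl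

theorem toAlg_bijective (U V : Over S) [IsAffine V.left] :
    Function.Bijective (toAlg : (U ⟶ V) → _) := by
  constructor
  · intro g h e
    exact Over.OverMorphism.ext (ext_of_isAffine (CommRingCat.hom_ext
      (congrArg AlgHom.toRingHom e)))
  · intro φ
    refine ⟨Over.homMk (U.left.toSpecΓ ≫ Spec.map (CommRingCat.ofHom φ.toRingHom) ≫ V.left.isoSpec.inv)
      (ext_of_isAffine ?_), AlgHom.ext fun a => congrArg (fun q => CommRingCat.Hom.hom q a) (appTop_toSpecΓ_comp _)⟩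
    rw [Scheme.Hom.comp_appTop, appTop_toSpecΓ_comp]
    refine CommRingCat.hom_ext (RingHom.ext fun r => ?_)
    have h1 : ∀ (Y : Over S), Y.hom.appTop = CommRingCat.ofHom (algebraMap Γ(S, ⊤) Γ(Y.left, ⊤)) := fun Y => by
      rw [algebraMap_eq]; exact Scheme.Hom.app_eq_appLE _
    rw [h1, h1]
    exact φ.commutes r

variable (X T : Over S)

/-- `gam` as an algebra map. -/
noncomputable def gamAlg :
    Γ(X.left, ⊤) ⊗[Γ(S, ⊤)] Γ(T.left, ⊤) →ₐ[Γ(S, ⊤)] Γ((X ⊗ T).left, ⊤) :=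
  { (gam X T ⊤).hom with
    commutes' := fun r => by
      show gam X T ⊤ ((algebraMap Γ(S, ⊤) Γ(X.left, ⊤) r) ⊗ₜ 1) = _
      rw [gam_tmul, map_one, mul_one]
      refine congrArg (fun q => CommRingCat.Hom.hom q r)
        (show X.hom.appLE ⊤ ⊤ le_top ≫ (fst X T).left.appLE ⊤ _ le_rfl = (X ⊗ T).hom.appLE ⊤ ⊤ le_top from ?_)
      rw [Scheme.Hom.appLE_comp_appLE]
      congr 1 }

theorem gamAlg_natural {T' : Over S} (g : T ⟶ T') (z : Γ(X.left, ⊤) ⊗[Γ(S, ⊤)] Γ(T'.left, ⊤)) :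
    gamAlg X T (Algebra.TensorProduct.map (AlgHom.id Γ(S, ⊤) Γ(X.left, ⊤)) (toAlg g) z) = toAlg (X ◁ g) (gamAlg X T' z) := by
  induction z using TensorProduct.induction_on with
  | zero => simp only [map_zero]
  | add x y hx hy => simp only [map_add, hx, hy]
  | tmul b c =>
    show gam X T ⊤ (b ⊗ₜ (g.left.appTop c)) = (X ◁ g).left.appTop (gam X T' ⊤ (b ⊗ₜ c))
    rw [gam_tmul, gam_tmul, map_mul]
    have e1 : ∀ {Y : Over S} (q : Y ⟶ X) (x : Γ(X.left, ⊤)), q.left.appLE ⊤ ⊤ le_top x = q.left.appTop x :=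
      fun q x => congrArg (fun m => CommRingCat.Hom.hom m x) (Scheme.Hom.app_eq_appLE q.left).symm
    refine congrArg₂ (· * ·) ?_ ?_
    · show (fst X T).left.appLE ⊤ ⊤ le_top b = (X ◁ g).left.appTop ((fst X T').left.appLE ⊤ ⊤ le_top b)
      rw [e1, e1, ← CommRingCat.comp_apply, ← Scheme.Hom.comp_appTop, ← Over.comp_left, whiskerLeft_fst]
    · show (snd X T).left.appLE ⊤ ⊤ le_top (g.left.appTop c) =
        (X ◁ g).left.appTop ((snd X T').left.appLE ⊤ ⊤ le_top c)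
      have e2 : ∀ {Y Y' : Over S} (q : Y ⟶ Y') (x : Γ(Y'.left, ⊤)), q.left.appLE ⊤ ⊤ le_top x = q.left.appTop x :=
        fun q x => congrArg (fun m => CommRingCat.Hom.hom m x) (Scheme.Hom.app_eq_appLE q.left).symm
      rw [e2, e2, ← CommRingCat.comp_apply, ← CommRingCat.comp_apply, ← Scheme.Hom.comp_appTop,
        ← Scheme.Hom.comp_appTop, ← Over.comp_left, ← Over.comp_left, whiskerLeft_snd]

/-- Morphisms from a quasi-compact scheme with finitely many functions to an affine scheme. -/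
theorem exists_homAffine (hS : IsField Γ(S, ⊤)) (X Z : Over S) [CompactSpace X.left] [IsAffine Z.left]
    [Module.Finite Γ(S, ⊤) Γ(X.left, ⊤)] :
    ∃ (M : Over S) (_ : IsAffine M.left) (ev : X ⊗ M ⟶ Z),
      (∀ (T : Over S) (f : X ⊗ T ⟶ Z), ∃! g : T ⟶ M, (X ◁ g) ≫ ev = f) ∧
      (LocallyOfFiniteType Z.hom → LocallyOfFiniteType M.hom) := by
  haveI : Module.Projective Γ(S, ⊤) Γ(X.left, ⊤) := by
    letI := hS.toField
    exact Module.Projective.of_free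
  let R : Type u := Γ(S, ⊤)
  let B : Type u := Γ(X.left, ⊤)
  let A : Type u := Γ(X.left, ⊤) ⊗[Γ(S, ⊤)] Γ(Z.left, ⊤)
  let WW : Type u := W Γ(S, ⊤) Γ(X.left, ⊤) (Γ(X.left, ⊤) ⊗[Γ(S, ⊤)] Γ(Z.left, ⊤))
  let M : Over S := Over.mk (Spec.map (CommRingCat.ofHom (algebraMap Γ(S, ⊤) WW)) ≫ S.isoSpec.inv)
  haveI : IsAffine M.left := inferInstanceAs (IsAffine (Spec _))
  let eM : WW ≃ₐ[Γ(S, ⊤)] Γ(M.left, ⊤) := AlgEquiv.ofRingEquiv
    (f := (Scheme.ΓSpecIso (CommRingCat.of WW)).commRingCatIsoToRingEquiv.symm) (fun r => by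
      refine congrArg (fun q => CommRingCat.Hom.hom q r)
        (show CommRingCat.ofHom (algebraMap Γ(S, ⊤) WW) ≫ (Scheme.ΓSpecIso (CommRingCat.of WW)).inv =
          M.hom.appLE ⊤ ⊤ le_top from ?_)
      refine Eq.trans ?_ (Scheme.Hom.app_eq_appLE _)
      rw [Scheme.ΓSpecIso_inv_naturality]
      have h : (S.isoSpec.inv).appTop = (Scheme.ΓSpecIso Γ(S, ⊤)).inv := by
        rw [← cancel_epi (Scheme.ΓSpecIso Γ(S, ⊤)).hom, Iso.hom_inv_id, ← Scheme.toSpecΓ_appTop,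
          ← Scheme.Hom.comp_appTop, Scheme.isoSpec_inv_toSpecΓ, Scheme.Hom.id_appTop]
      show _ = (Spec.map _ ≫ S.isoSpec.inv).appTop
      rw [Scheme.Hom.comp_appTop, h]
      rfl)
  let u₀ : Γ(Z.left, ⊤) →ₐ[Γ(S, ⊤)] Γ(X.left, ⊤) ⊗[Γ(S, ⊤)] Γ(M.left, ⊤) :=
    ((Algebra.TensorProduct.map (AlgHom.id Γ(S, ⊤) Γ(X.left, ⊤)) eM.toAlgHom).comp
      ((univ Γ(S, ⊤) Γ(X.left, ⊤) (Γ(X.left, ⊤) ⊗[Γ(S, ⊤)] Γ(Z.left, ⊤))).restrictScalars Γ(S, ⊤))).comp
      Algebra.TensorProduct.includeRight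
  obtain ⟨ev, hev⟩ := (toAlg_bijective (X ⊗ M) Z).2 ((gamAlg X M).comp u₀)
  have hP : ∀ (T : Over S) (a b : T ⟶ Over.mk (𝟙 S)), a = b := fun T a b =>
    Over.OverMorphism.ext (by
      have ha := Over.w a
      have hb := Over.w b
      simp only [Over.mk_hom] at ha hb
      exact (Category.comp_id _).symm.trans (ha.trans (hb.symm.trans (Category.comp_id _))))
  let r : M ⟶ Over.mk (𝟙 S) := Over.homMk M.hom (Category.comp_id _)
  have hrep : (mor X Z).IsRepOn r ev := Fam.IsRepOn.of_affine (mor_zarSep X Z) fun T _ p x => by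
    have hγ : Function.Bijective (gamAlg X T) := gam_bijective X T hS
    let γ := AlgEquiv.ofBijective (gamAlg X T) hγ
    have key : ∀ g : T ⟶ M, toAlg ((X ◁ g) ≫ ev) = (gamAlg X T).comp
        ((((homEquiv Γ(S, ⊤) Γ(X.left, ⊤) (Γ(X.left, ⊤) ⊗[Γ(S, ⊤)] Γ(Z.left, ⊤)) Γ(T.left, ⊤))
          ((toAlg g).comp eM.toAlgHom)).restrictScalars Γ(S, ⊤)).comp Algebra.TensorProduct.includeRight) := by
      intro g
      rw [toAlg_comp, hev]
      refine AlgHom.ext fun a => ?_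
      show toAlg (X ◁ g) (gamAlg X M _) = gamAlg X T _
      rw [← gamAlg_natural]
      refine congrArg _ ?_
      show Algebra.TensorProduct.map (AlgHom.id _ _) (toAlg g)
          (Algebra.TensorProduct.map (AlgHom.id _ _) eM.toAlgHom (univ _ _ _ _)) =
        Algebra.TensorProduct.map (AlgHom.id _ _) ((toAlg g).comp eM.toAlgHom) (univ _ _ _ _)
      generalize univ Γ(S, ⊤) Γ(X.left, ⊤) (Γ(X.left, ⊤) ⊗[Γ(S, ⊤)] Γ(Z.left, ⊤)) _ = z
      induction z using TensorProduct.induction_on with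
      | zero => simp only [map_zero]
      | add x y hx hy => simp only [map_add, hx, hy]
      | tmul b c => rfl
    obtain ⟨ψ, hψ⟩ : ∃ ψ : Γ(Z.left, ⊤) →ₐ[Γ(S, ⊤)] Γ(X.left, ⊤) ⊗[Γ(S, ⊤)] Γ(T.left, ⊤),
        (gamAlg X T).comp ψ = toAlg x :=
      ⟨γ.symm.toAlgHom.comp (toAlg x), AlgHom.ext fun a => γ.apply_symm_apply (toAlg x a)⟩
    let ψ' : Γ(X.left, ⊤) ⊗[Γ(S, ⊤)] Γ(Z.left, ⊤) →ₐ[Γ(X.left, ⊤)] Γ(X.left, ⊤) ⊗[Γ(S, ⊤)] Γ(T.left, ⊤) :=
      Algebra.TensorProduct.lift (Algebra.ofId _ _) ψ (fun _ _ => Commute.all _ _)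
    let g₀ := (homEquiv Γ(S, ⊤) Γ(X.left, ⊤) (Γ(X.left, ⊤) ⊗[Γ(S, ⊤)] Γ(Z.left, ⊤)) Γ(T.left, ⊤)).symm ψ'
    obtain ⟨g, hg⟩ := (toAlg_bijective T M).2 (g₀.comp eM.symm.toAlgHom)
    have hg' : (toAlg g).comp eM.toAlgHom = g₀ := by
      rw [hg]; exact AlgHom.ext fun a => congrArg g₀ (eM.symm_apply_apply a)
    refine ⟨g, ⟨hP T _ _, (toAlg_bijective (X ⊗ T) Z).1 ?_⟩, fun g' hg'' => ?_⟩
    · show toAlg ((X ◁ g) ≫ ev) = toAlg x
      rw [key, hg', Equiv.apply_symm_apply, ← hψ]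
      refine congrArg (gamAlg X T).comp (AlgHom.ext fun a => ?_)
      simp [ψ']
    · have h1 := congrArg toAlg hg''.2
      rw [show (mor X Z).res g' ev = (X ◁ g') ≫ ev from rfl, key, ← hψ] at h1
      apply (toAlg_bijective T M).1
      rw [hg]
      have h2 : (homEquiv Γ(S, ⊤) Γ(X.left, ⊤) (Γ(X.left, ⊤) ⊗[Γ(S, ⊤)] Γ(Z.left, ⊤)) Γ(T.left, ⊤))
          ((toAlg g').comp eM.toAlgHom) = ψ' := by
        apply Algebra.TensorProduct.ext
        · exact Subsingleton.elim _ _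
        · refine AlgHom.ext fun a => hγ.1 ?_
          refine (AlgHom.congr_fun h1 a).trans ?_
          simp [ψ']
      have h3 : (toAlg g').comp eM.toAlgHom = g₀ := by
        rw [← Equiv.symm_apply_apply (homEquiv Γ(S, ⊤) Γ(X.left, ⊤)
          (Γ(X.left, ⊤) ⊗[Γ(S, ⊤)] Γ(Z.left, ⊤)) Γ(T.left, ⊤)) ((toAlg g').comp eM.toAlgHom), h2]
      rw [← h3]
      exact AlgHom.ext fun a => congrArg (toAlg g') (eM.apply_symm_apply a).symm
  refine ⟨M, inferInstance, ev, fun T f => ?_, fun hZ => ?_⟩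
  · obtain ⟨a, ⟨-, ha⟩, hu⟩ := hrep T (Over.homMk T.hom (Category.comp_id _)) f
    exact ⟨a, ha, fun b hb => hu b ⟨hP _ _ _, hb⟩⟩
  · haveI : Algebra.FiniteType Γ(S, ⊤) Γ(Z.left, ⊤) := by
      have h := HasRingHomProperty.appTop (P := @LocallyOfFiniteType) Z.hom hZ
      rw [Scheme.Hom.appTop, Scheme.Hom.app_eq_appLE] at h
      exact h
    haveI : Algebra.FiniteType Γ(S, ⊤) WW := Groth.L13.WeilRes.finiteType _ _ _
    haveI : LocallyOfFiniteType (Spec.map (CommRingCat.ofHom (algebraMap Γ(S, ⊤) WW))) :=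
      (HasRingHomProperty.Spec_iff (P := @LocallyOfFiniteType)).2 (RingHom.finiteType_algebraMap.2 inferInstance)
    exact inferInstanceAs (LocallyOfFiniteType (_ ≫ _))

end Groth.L19.HomAffine
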