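import Groth.Prelude.Def_Red
import Groth.Agent.L25.LimHom
import Groth.Agent.L15.SubGrp.Image

/-!
# Closed subgroup schemes at a stage of a limit: factorisations of morphisms
-/

set_option autoImplicit false
set_option backward.isDefEq.respectTransparency.types false
set_option backward.isDefEq.respectTransparency false
set_option linter.style.haveILetI false

universe u

open CategoryTheory CategoryTheory.Limits MonoidalCategory CartesianMonoidalCategory MonObj GrpObj AlgebraicGeometry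

noncomputable section

namespace Groth.L19.SubgroupStage

variable {A B C : Scheme.{u}}

/-- the base change of `m` along `a` factors through that of `eι` -/
def Fac (a : B ⟶ A) {T Y Z : Over A} (eι : Z ⟶ Y) (m : T ⟶ Y) : Prop :=
  ∃ v : Red.bc a T ⟶ Red.bc a Z, v ≫ (Over.pullback a).map eι = (Over.pullback a).map m

open Groth.L25.LimHom in
theorem cmp_naturality {b : C ⟶ B} {a : B ⟶ A} {h : C ⟶ A} (hc : b ≫ a = h) {X Y : Over A} (φ : X ⟶ Y) :
    (Over.pullback b).map ((Over.pullback a).map φ) ≫ (cmp hc Y).hom =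
      (cmp hc X).hom ≫ (Over.pullback h).map φ := by
  refine bc_ext ?_
  simp only [Over.comp_left, Category.assoc]
  rw [cmp_fst]
  simp [reassoc_of% cmp_fst hc X]

open Groth.L25.LimHom in
theorem fac_mono {b : C ⟶ B} {a : B ⟶ A} {h : C ⟶ A} (hc : b ≫ a = h) {T Y Z : Over A} {eι : Z ⟶ Y}
    {m : T ⟶ Y} (hf : Fac a eι m) : Fac h eι m := by
  obtain ⟨v, hv⟩ := hf
  refine ⟨mk hc v, ?_⟩
  rw [← cancel_epi (cmp hc T).hom, ← cmp_naturality hc m, ← hv, Functor.map_comp, Category.assoc,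
    cmp_naturality hc eι, mk_eq]
  simp only [Category.assoc, Iso.hom_inv_id_assoc]

open Groth.L25.LimHom in
theorem fac_of_stage {b : C ⟶ B} {a : B ⟶ A} {h : C ⟶ A} (hc : b ≫ a = h) {T Y Z : Over A} {eι : Z ⟶ Y}
    {m : T ⟶ Y} (v : Red.bc a T ⟶ Red.bc a Z)
    (hv : (Over.pullback b).map (v ≫ (Over.pullback a).map eι) = (Over.pullback b).map ((Over.pullback a).map m)) :
    Fac h eι m := by
  refine ⟨mk hc v, ?_⟩
  rw [← cancel_epi (cmp hc T).hom, ← cmp_naturality hc m, ← hv, Functor.map_comp, Category.assoc,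
    cmp_naturality hc eι, mk_eq]
  simp only [Category.assoc, Iso.hom_inv_id_assoc]

open Groth.L25.LimHom in
theorem exists_fac_of_forall {I : Type u} [SmallCategory I] [IsCofiltered I] (D : I ⥤ Scheme.{u}) (c : Cone D)
    (hc : IsLimit c) [∀ (i i' : I) (f : i ⟶ i'), IsAffineHom (D.map f)] [∀ i, CompactSpace (D.obj i)]
    [∀ i, QuasiSeparatedSpace (D.obj i)] (j : I) {T Y Z : Over (D.obj j)}
    [QuasiCompact T.hom] [QuasiSeparated T.hom] [LocallyOfFinitePresentation Z.hom]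
    [LocallyOfFiniteType Y.hom] (eι : Z ⟶ Y) (m : T ⟶ Y) (hf : Fac (c.π.app j) eι m) :
    ∃ (i : I) (a : i ⟶ j), Fac (D.map a) eι m := by
  obtain ⟨w, hw⟩ := hf
  obtain ⟨k, f, v, hv⟩ := exists_hom D c hc j T w
  haveI : QuasiCompact (Red.bc (D.map f) T).hom := inferInstanceAs (QuasiCompact (pullback.snd T.hom (D.map f)))
  haveI : LocallyOfFiniteType (Red.bc (D.map f) Y).hom :=
    inferInstanceAs (LocallyOfFiniteType (pullback.snd Y.hom (D.map f)))
  have e : (Over.pullback (c.π.app k)).map (v ≫ (Over.pullback (D.map f)).map eι) =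
      (Over.pullback (c.π.app k)).map ((Over.pullback (D.map f)).map m) := by
    rw [← cancel_mono (cmp (c.w f) Y).hom, Functor.map_comp, Category.assoc,
      cmp_naturality (c.w f) eι, cmp_naturality (c.w f) m, hv]
    simp only [Category.assoc, Iso.inv_hom_id_assoc]
    exact congrArg (fun z => (cmp (c.w f) T).hom ≫ z) hw
  obtain ⟨k', g, hg⟩ := exists_eq D c hc k _ _ _ e
  have hgf : D.map g ≫ D.map f = D.map (g ≫ f) := (D.map_comp _ _).symm
  exact ⟨k', g ≫ f, fac_of_stage hgf v hg⟩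

/-- a factorisation over the limit exists at a stage -/
theorem exists_fac {I : Type u} [SmallCategory I] [IsCofiltered I] (D : I ⥤ Scheme.{u}) (c : Cone D)
    (hc : IsLimit c) [∀ (i i' : I) (f : i ⟶ i'), IsAffineHom (D.map f)] (j : I)
    [CompactSpace (D.obj j)] [QuasiSeparatedSpace (D.obj j)] {T Y Z : Over (D.obj j)}
    [QuasiCompact T.hom] [QuasiSeparated T.hom] [LocallyOfFinitePresentation Z.hom]
    [LocallyOfFiniteType Y.hom] (eι : Z ⟶ Y) (m : T ⟶ Y) (hf : Fac (c.π.app j) eι m) :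
    ∃ (i : I) (a : i ⟶ j), Fac (D.map a) eι m := by
  let D' : Over j ⥤ Scheme.{u} := Over.forget j ⋙ D
  let c' : Cone D' := c.whisker (Over.forget j)
  have hc' : IsLimit c' := (Functor.Initial.isLimitWhiskerEquiv (Over.forget j) c).symm hc
  haveI : ∀ (k k' : Over j) (f : k ⟶ k'), IsAffineHom (D'.map f) := fun k k' f =>
    inferInstanceAs (IsAffineHom (D.map f.left))
  haveI : ∀ k : Over j, CompactSpace (D'.obj k) := fun k =>
    QuasiCompact.compactSpace_of_compactSpace (D.map k.hom)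
  haveI : ∀ k : Over j, QuasiSeparatedSpace (D'.obj k) := fun k =>
    quasiSeparatedSpace_of_quasiSeparated (D.map k.hom)
  obtain ⟨k, f, hk⟩ := @exists_fac_of_forall (Over j) _ _ D' c' hc' _ _ _ (Over.mk (𝟙 j)) T Y Z
    ‹QuasiCompact T.hom› ‹QuasiSeparated T.hom› ‹LocallyOfFinitePresentation Z.hom›
    ‹LocallyOfFiniteType Y.hom› eι m hf
  exact ⟨k.left, f.left, hk⟩

section Group

variable (a : B ⟶ A) {G H : Over A} [GrpObj G] (eι : H ⟶ G)

/-- the three morphisms which have to factor through a subgroup -/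
def mulMap : H ⊗ H ⟶ G := (fst H H ≫ eι) * (snd H H ≫ eι)

/-- the conjugation morphism -/
def conjMap : G ⊗ H ⟶ G := fst G H * (snd G H ≫ eι) * (fst G H)⁻¹

theorem fac_of_isMonHom [GrpObj (Red.bc a H)] [IsMonHom ((Over.pullback a).map eι)] :
    Fac a eι (1 : 𝟙_ (Over A) ⟶ G) ∧ Fac a eι (mulMap eι) ∧ Fac a eι eι⁻¹ := by
  let P := Over.pullback a
  refine ⟨⟨(1 : P.obj (𝟙_ (Over A)) ⟶ Red.bc a H), ?_⟩,
    ⟨(P.map (fst H H) * P.map (snd H H) : P.obj (H ⊗ H) ⟶ Red.bc a H), ?_⟩,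
    ⟨((𝟙 (Red.bc a H))⁻¹ : Red.bc a H ⟶ Red.bc a H), ?_⟩⟩
  · exact (MonObj.one_comp _).trans (Functor.map_one P).symm
  · refine (MonObj.mul_comp _ _ _).trans ?_
    rw [mulMap, P.map_mul, P.map_comp, P.map_comp]
  · refine (GrpObj.inv_comp _ _).trans ?_
    rw [Category.id_comp]
    exact (Functor.map_inv' P eι).symm

theorem exists_grpObj_of_fac [Mono ((Over.pullback a).map eι)]
    (h₁ : Fac a eι (1 : 𝟙_ (Over A) ⟶ G)) (h₂ : Fac a eι (mulMap eι)) (h₃ : Fac a eι eι⁻¹) :
    ∃ _ : GrpObj (Red.bc a H), IsMonHom ((Over.pullback a).map eι) := by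
  let P := Over.pullback a
  obtain ⟨v₁, hv₁⟩ := h₁
  obtain ⟨v₂, hv₂⟩ := h₂
  obtain ⟨v₃, hv₃⟩ := h₃
  refine Groth.L15.SubGrp.exists_grpObj_of_mono (P.map eι) (Functor.LaxMonoidal.ε P ≫ v₁) ?_
    (Functor.LaxMonoidal.μ P H H ≫ v₂) ?_ v₃ ?_
  · rw [Category.assoc, hv₁, Functor.map_one P, MonObj.comp_one]
  · rw [Category.assoc, hv₂, mulMap, P.map_mul, P.map_comp, P.map_comp, MonObj.comp_mul,
      Functor.Monoidal.μ_fst_assoc, Functor.Monoidal.μ_snd_assoc]
  · rw [hv₃]
    exact Functor.map_inv' P eι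

theorem fac_conjMap [GrpObj (Red.bc a H)] [IsMonHom ((Over.pullback a).map eι)]
    (hn : AlgGrp.IsNormalHom ((Over.pullback a).map eι)) : Fac a eι (conjMap eι) := by
  let P := Over.pullback a
  obtain ⟨n', hn'⟩ := hn (P.obj (G ⊗ H)) (P.map (fst G H)) (P.map (snd G H))
  refine ⟨n', ?_⟩
  rw [← hn', conjMap, P.map_mul, P.map_mul, Functor.map_inv' P, P.map_comp]

theorem isNormalHom_of_fac [GrpObj (Red.bc a H)] [IsMonHom ((Over.pullback a).map eι)]
    (h : Fac a eι (conjMap eι)) : AlgGrp.IsNormalHom ((Over.pullback a).map eι) := by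
  let P := Over.pullback a
  obtain ⟨v, hv⟩ := h
  intro T g n
  refine ⟨CartesianMonoidalCategory.lift g n ≫ Functor.LaxMonoidal.μ P G H ≫ v, ?_⟩
  rw [Category.assoc, Category.assoc, hv, conjMap, P.map_mul, P.map_mul, Functor.map_inv' P, P.map_comp]
  dsimp only [P]
  simp only [MonObj.comp_mul, GrpObj.comp_inv, Functor.Monoidal.μ_fst, Functor.Monoidal.μ_snd_assoc]
  rw [CartesianMonoidalCategory.lift_fst, CartesianMonoidalCategory.lift_snd_assoc]

end Group

end Groth.L19.SubgroupStage
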