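import Groth.Agent.L07.SyntRel
import Groth.Agent.L07.SyntAlg
import Mathlib.RingTheory.AdjoinRoot
import Mathlib.RingTheory.KrullDimension.Zero
import Mathlib.RingTheory.Spectrum.Prime.Noetherian
import Mathlib.RingTheory.Flat.FaithfullyFlat.Basic
import Mathlib.Algebra.MvPolynomial.Equiv

/-!
# Adjoining a root of a monic polynomial is syntomic
-/

set_option autoImplicit false
set_option linter.style.haveILetI false
universe u

open Polynomial
open scoped TensorProduct

namespace Groth.L19.RootSynt

theorem dim_zero_of_finite {k S : Type u} [Field k] [CommRing S] [Algebra k S] [Module.Finite k S]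
    [Nontrivial S] : ringKrullDim S = 0 := by
  haveI : IsArtinianRing S := IsArtinianRing.of_finite k S
  exact ringKrullDimZero_iff_ringKrullDim_eq_zero.mp inferInstance

theorem isSyntomic_adjoinRoot (A : Type u) [CommRing A] (f : A[X]) (hf : f.Monic) :
    Synt.IsSyntomic A (AdjoinRoot f) := by
  let e := MvPolynomial.uniqueAlgEquiv A (Fin 1)
  let F : Fin 1 → MvPolynomial (Fin 1) A := fun _ => e.symm f
  let eq : Synt.RelGCIRing A 1 1 F ≃ₐ[A] AdjoinRoot f :=
    Ideal.quotientEquivAlg _ _ e (by
      rw [Ideal.map_span, ← Set.range_comp]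
      congr 1
      ext x
      simp [F, eq_comm])
  haveI : Module.Finite A (AdjoinRoot f) := hf.finite_adjoinRoot
  haveI : Module.Finite A (Synt.RelGCIRing A 1 1 F) := Module.Finite.equiv eq.symm.toLinearEquiv
  have h : Synt.IsRelGCI A 1 1 F := fun p hp => by
    refine ⟨le_rfl, ?_⟩
    haveI := hp
    rw [Nat.sub_self]
    exact dim_zero_of_finite (k := p.asIdeal.ResidueField) (S := p.asIdeal.Fiber (Synt.RelGCIRing A 1 1 F))
  exact Groth.L07.SyntAlg.isSyntomic_of_algEquiv eq (Groth.L07.SyntRel.isSyntomic_of_isRelGCI h)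

theorem faithfullyFlat_adjoinRoot (A : Type u) [CommRing A] (f : A[X]) (hf : f.Monic)
    (hd : 0 < f.natDegree) : Module.FaithfullyFlat A (AdjoinRoot f) := by
  have b := (AdjoinRoot.powerBasis' hf).basis
  haveI : Module.Free A (AdjoinRoot f) := Module.Free.of_basis b
  rcases subsingleton_or_nontrivial A with hA | hA
  · haveI : Subsingleton (AdjoinRoot f) := Module.subsingleton A _
    exact { toFlat := inferInstance
            submodule_ne_top := fun {m} hm => absurd (Subsingleton.elim m ⊤) hm.ne_top }
  haveI : Nontrivial (AdjoinRoot f) := by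
    haveI : Nonempty (Fin (AdjoinRoot.powerBasis' hf).dim) := ⟨⟨0, by rw [AdjoinRoot.powerBasis'_dim]; exact hd⟩⟩
    exact nontrivial_of_ne (b (Classical.arbitrary _)) 0 (b.ne_zero _)
  infer_instance

end Groth.L19.RootSynt
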