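import Mathlib.AlgebraicGeometry.ZariskisMainTheorem
import Mathlib.AlgebraicGeometry.FunctionField
import Mathlib.AlgebraicGeometry.Morphisms.LocalIso
import Mathlib.RingTheory.ZariskisMainTheorem
import Mathlib.RingTheory.IntegralClosure.IntegrallyClosed

/-!
A birational morphism of integral schemes is a local isomorphism at a quasi-finite point
over a normal point.
-/

set_option autoImplicit false
set_option linter.style.haveILetI false
universe u

open CategoryTheory AlgebraicGeometry

namespace Groth.L19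

/-- Zariski's main theorem, birational affine form. -/
theorem exists_away_of_quasiFiniteAt {A B O K : Type u} [CommRing A] [CommRing B] [CommRing O]
    [Field K] [Algebra A B] [Algebra.FiniteType A B] [Algebra A O] [Algebra O K] [Algebra A K]
    [IsScalarTower A O K] [Algebra B K] [IsScalarTower A B K] (q : Ideal B) [q.IsPrime]
    [Algebra.QuasiFiniteAt A q] [IsLocalization.AtPrime O (q.under A)]
    [IsFractionRing O K] [IsIntegrallyClosed O] (hB : Function.Injective (algebraMap B K)) :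
    ∃ s ∉ q.under A, ∀ b : B, ∃ a : A, ∃ n : ℕ,
      algebraMap A B s ^ n * b = algebraMap A B a := by
  obtain ⟨r, hrq, hr, hint⟩ :=
    Algebra.zariskisMainProperty_iff.mp (Algebra.ZariskisMainProperty.of_finiteType (R := A) q)
  have key : ∀ b : B, IsIntegral A b →
      ∃ a : A, ∃ t ∉ q.under A, algebraMap A B t * b = algebraMap A B a := fun b hb => by
    have h1 : IsIntegral O (algebraMap B K b) :=
      (hb.map (IsScalarTower.toAlgHom A B K)).tower_top
    obtain ⟨o, ho⟩ := IsIntegrallyClosed.isIntegral_iff.mp h1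
    obtain ⟨⟨a, t⟩, hat⟩ := IsLocalization.surj (q.under A).primeCompl o
    refine ⟨a, t.1, t.2, hB ?_⟩
    rw [map_mul, ← IsScalarTower.algebraMap_apply A B K, ← IsScalarTower.algebraMap_apply A B K,
      IsScalarTower.algebraMap_apply A O K, IsScalarTower.algebraMap_apply A O K a, ← ho,
      ← map_mul, mul_comm]
    exact congrArg _ hat
  obtain ⟨a₀, t₀, ht₀, he₀⟩ := key r hr
  have ha₀ : a₀ ∉ q.under A := fun h => by
    have h2 : algebraMap A B t₀ * r ∈ q := by rw [he₀]; exact h
    rcases Ideal.IsPrime.mem_or_mem ‹_› h2 with h3 | h3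
    exacts [ht₀ h3, hrq h3]
  have key2 : ∀ b : B, ∃ a : A, ∃ t ∉ q.under A, algebraMap A B t * b = algebraMap A B a := by
    intro b
    obtain ⟨m, hm⟩ := hint b
    obtain ⟨a, t, ht, he⟩ := key _ hm
    refine ⟨t₀ ^ m * a, a₀ ^ m * t, ?_, ?_⟩
    · intro h
      rcases Ideal.IsPrime.mem_or_mem inferInstance h with h3 | h3
      exacts [ha₀ (Ideal.IsPrime.mem_of_pow_mem inferInstance m h3), ht h3]
    · simp only [map_mul, map_pow, ← he, ← he₀]
      ring
  choose a t ht he using key2
  obtain ⟨S, hS⟩ := Algebra.FiniteType.out (R := A) (A := B)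
  refine ⟨∏ b ∈ S, t b, fun h => ?_, ?_⟩
  · obtain ⟨b, _, hb⟩ := (Ideal.IsPrime.prod_mem_iff (p := q.under A)).mp h
    exact ht b hb
  intro b
  have hb : b ∈ Algebra.adjoin A (S : Set B) := by rw [hS]; trivial
  induction hb using Algebra.adjoin_induction with
  | mem x hx =>
    classical
    refine ⟨(∏ b ∈ S.erase x, t b) * a x, 1, ?_⟩
    rw [pow_one, ← Finset.prod_erase_mul S t hx, map_mul, map_mul, mul_assoc, he]
  | algebraMap c => exact ⟨c, 0, by simp⟩
  | add x y _ _ hx hy =>
    obtain ⟨a₁, n₁, h₁⟩ := hx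
    obtain ⟨a₂, n₂, h₂⟩ := hy
    refine ⟨(∏ b ∈ S, t b) ^ n₂ * a₁ + (∏ b ∈ S, t b) ^ n₁ * a₂, n₁ + n₂, ?_⟩
    simp only [map_add, map_mul, map_pow, ← h₁, ← h₂]
    ring
  | mul x y _ _ hx hy =>
    obtain ⟨a₁, n₁, h₁⟩ := hx
    obtain ⟨a₂, n₂, h₂⟩ := hy
    refine ⟨a₁ * a₂, n₁ + n₂, ?_⟩
    simp only [map_mul, ← h₁, ← h₂]
    ring

variable {X Y : Scheme.{u}} [IsIntegral X] [IsIntegral Y] (f : X ⟶ Y)

/-- The local ring of the image point maps into the function field of the source with fractions. -/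
theorem isFractionRing_stalk_of_birational (hgen : f (genericPoint X) = genericPoint Y)
    (hbir : IsIso (f.stalkMap (genericPoint X))) (x : X) :
    @IsFractionRing (Y.presheaf.stalk (f x)) _ X.functionField _
      (f.stalkMap x ≫ X.presheaf.stalkSpecializes
        ((genericPoint_spec X).specializes trivial)).hom.toAlgebra := by
  have key : ∀ z : Y, z = genericPoint Y → ∀ h : z ⤳ f x,
      @IsFractionRing (Y.presheaf.stalk (f x)) _ (Y.presheaf.stalk z) _
        (Y.presheaf.stalkSpecializes h).hom.toAlgebra := by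
    rintro z rfl h
    exact inferInstanceAs (IsFractionRing (Y.presheaf.stalk (f x)) Y.functionField)
  have h := key _ hgen (((genericPoint_spec X).specializes trivial).map f.continuous)
  letI := (Y.presheaf.stalkSpecializes (C := CommRingCat)
    (((genericPoint_spec X).specializes (show x ∈ (⊤ : Set X) from trivial)).map f.continuous)).hom.toAlgebra
  letI := (f.stalkMap x ≫ X.presheaf.stalkSpecializes
    ((genericPoint_spec X).specializes (show x ∈ (⊤ : Set X) from trivial))).hom.toAlgebra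
  let e : Y.presheaf.stalk (f (genericPoint X)) ≃ₐ[Y.presheaf.stalk (f x)] X.functionField :=
    AlgEquiv.ofRingEquiv (f := (asIso (f.stalkMap (genericPoint X))).commRingCatIsoToRingEquiv)
      fun a => ConcreteCategory.congr_hom
        (Scheme.Hom.stalkSpecializes_stalkMap f (genericPoint X) x _) a
  exact IsLocalization.isLocalization_of_algEquiv _ e

/-- Local isomorphism at a quasi-finite point over a normal point. -/
theorem exists_open_isOpenImmersion_of_birational [LocallyOfFiniteType f]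
    (hgen : f (genericPoint X) = genericPoint Y)
    (hbir : IsIso (f.stalkMap (genericPoint X))) (x : X) (hx : f.QuasiFiniteAt x)
    (hy : IsIntegrallyClosed (Y.presheaf.stalk (f x))) :
    ∃ U : X.Opens, x ∈ U ∧ IsOpenImmersion (U.ι ≫ f) := by
  obtain ⟨_, ⟨V, hV, rfl⟩, hxV, -⟩ := Y.isBasis_affineOpens.exists_subset_of_mem_open
    (Set.mem_univ (f x)) isOpen_univ
  obtain ⟨_, ⟨U, hU, rfl⟩, hxU, hUV : U ≤ f ⁻¹ᵁ V⟩ :=
    X.isBasis_affineOpens.exists_subset_of_mem_open hxV (f ⁻¹ᵁ V).2
  have hft : (f.appLE V U hUV).hom.FiniteType := f.finiteType_appLE hV hU hUV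
  haveI : Nonempty U := ⟨⟨x, hxU⟩⟩
  haveI : Nonempty V := ⟨⟨f x, hxV⟩⟩
  have hη : genericPoint X ∈ U :=
    ((genericPoint_spec X).mem_open_set_iff U.isOpen).mpr ⟨x, trivial, hxU⟩
  letI : Algebra Γ(Y, V) Γ(X, U) := (f.appLE V U hUV).hom.toAlgebra
  haveI : Algebra.FiniteType Γ(Y, V) Γ(X, U) := hft
  let q := (hU.primeIdealOf ⟨x, hxU⟩).asIdeal
  have hq : (hU.primeIdealOf ⟨x, hxU⟩).comap (f.appLE V U hUV).hom
      = hV.primeIdealOf ⟨f x, hxV⟩ := by
    exact IsAffineOpen.comap_primeIdealOf_appLE V hV U hU hUV hxU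
  haveI : Algebra.QuasiFiniteAt Γ(Y, V) q := hx.quasiFiniteAt hU hV hUV hxU
  letI : Algebra Γ(Y, V) (Y.presheaf.stalk (f x)) := (Y.presheaf.germ V _ hxV).hom.toAlgebra
  haveI : IsLocalization.AtPrime (Y.presheaf.stalk (f x)) (q.under Γ(Y, V)) := by
    have h1 : q.under Γ(Y, V) = (hV.primeIdealOf ⟨f x, hxV⟩).asIdeal := by
      rw [← hq]; rfl
    have h2 : (q.under Γ(Y, V)).primeCompl = (hV.primeIdealOf ⟨f x, hxV⟩).asIdeal.primeCompl :=
      Submonoid.ext fun a => not_congr (SetLike.ext_iff.mp h1 a)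
    show IsLocalization (q.under Γ(Y, V)).primeCompl _
    rw [h2]
    exact hV.isLocalization_stalk ⟨f x, hxV⟩
  letI := (f.stalkMap x ≫ X.presheaf.stalkSpecializes
    ((genericPoint_spec X).specializes (show x ∈ (⊤ : Set X) from trivial))).hom.toAlgebra
  haveI : IsFractionRing (Y.presheaf.stalk (f x)) X.functionField :=
    isFractionRing_stalk_of_birational f hgen hbir x
  letI : Algebra Γ(Y, V) X.functionField :=
    (f.appLE V U hUV ≫ X.germToFunctionField U).hom.toAlgebra
  haveI : IsScalarTower Γ(Y, V) Γ(X, U) X.functionField := IsScalarTower.of_algebraMap_eq' rfl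
  haveI : IsScalarTower Γ(Y, V) (Y.presheaf.stalk (f x)) X.functionField := by
    refine IsScalarTower.of_algebraMap_eq fun a => ?_
    have h3 : f.appLE V U hUV ≫ X.presheaf.germ U _ hη = Y.presheaf.germ V _ hxV ≫
        f.stalkMap x ≫ X.presheaf.stalkSpecializes
          ((genericPoint_spec X).specializes (show x ∈ (⊤ : Set X) from trivial)) := by
      rw [Scheme.Hom.germ_stalkMap_assoc, Scheme.Hom.appLE,
        Category.assoc, TopCat.Presheaf.germ_res]
      exact congrArg (f.app V ≫ ·) (TopCat.Presheaf.germ_stalkSpecializes X.presheaf _ _).symm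
    exact ConcreteCategory.congr_hom h3 a
  obtain ⟨s, hs, hsb⟩ := exists_away_of_quasiFiniteAt (A := Γ(Y, V)) (B := Γ(X, U))
    (O := Y.presheaf.stalk (f x)) (K := X.functionField) q
    (germ_injective_of_isIntegral X _ hη)
  replace hU : IsAffineOpen U := hU
  have hx' : x ∈ X.basicOpen ((f.appLE V U hUV) s) := by
    have h4 : hU.primeIdealOf ⟨x, hxU⟩ ∈ hU.fromSpec ⁻¹ᵁ X.basicOpen ((f.appLE V U hUV) s) := by
      rw [hU.fromSpec_preimage_basicOpen]
      exact hs
    have h5 := (Scheme.Hom.mem_preimage ..).mp h4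
    rwa [hU.fromSpec_primeIdealOf ⟨x, hxU⟩] at h5
  refine ⟨X.basicOpen ((f.appLE V U hUV) s), hx', ?_⟩
  have hle : X.basicOpen ((f.appLE V U hUV) s) ≤ f ⁻¹ᵁ Y.basicOpen s := by
    rw [Scheme.Hom.appLE, Scheme.preimage_basicOpen]
    exact (X.basicOpen_res _ _).le.trans inf_le_right
  have hWb := hU.isLocalization_basicOpen ((f.appLE V U hUV) s)
  have hDb := hV.isLocalization_basicOpen s
  have hcomp : ∀ a : Γ(Y, V),
      f.appLE (Y.basicOpen s) _ hle (Y.presheaf.map (homOfLE (Y.basicOpen_le s)).op a) =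
        X.presheaf.map (homOfLE (X.basicOpen_le _)).op (f.appLE V U hUV a) := fun a => by
    rw [← CommRingCat.comp_apply, ← CommRingCat.comp_apply, Scheme.Hom.map_appLE,
      Scheme.Hom.appLE_map]
  letI : Algebra Γ(X, U) Γ(X, X.basicOpen ((f.appLE V U hUV) s)) :=
    (X.presheaf.map (homOfLE (X.basicOpen_le _)).op).hom.toAlgebra
  letI : Algebra Γ(Y, V) Γ(Y, Y.basicOpen s) :=
    (Y.presheaf.map (homOfLE (Y.basicOpen_le _)).op).hom.toAlgebra
  haveI : IsLocalization.Away ((f.appLE V U hUV) s) Γ(X, X.basicOpen ((f.appLE V U hUV) s)) := hWb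
  haveI : IsLocalization.Away s Γ(Y, Y.basicOpen s) := hDb
  have hinjA : Function.Injective (f.appLE V U hUV) := fun a a' h => by
    have h1 : algebraMap Γ(Y, V) X.functionField a = algebraMap Γ(Y, V) X.functionField a' :=
      congrArg (X.germToFunctionField U) h
    rw [IsScalarTower.algebraMap_apply Γ(Y, V) (Y.presheaf.stalk (f x)) X.functionField a,
      IsScalarTower.algebraMap_apply Γ(Y, V) (Y.presheaf.stalk (f x)) X.functionField a'] at h1
    exact germ_injective_of_isIntegral Y (f x) hxV (IsFractionRing.injective _ _ h1)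
  have hbij : Function.Bijective (f.appLE (Y.basicOpen s) _ hle) := by
    refine ⟨(injective_iff_map_eq_zero (f.appLE (Y.basicOpen s) _ hle).hom).mpr fun z hz => ?_,
      fun z => ?_⟩
    · obtain ⟨n, a, ha⟩ := IsLocalization.Away.surj s z
      have h1 : X.presheaf.map (homOfLE (X.basicOpen_le ((f.appLE V U hUV) s))).op
          (f.appLE V U hUV a) = 0 := by
        rw [← hcomp, show Y.presheaf.map _ a = _ from ha.symm, map_mul, hz, zero_mul]
      have h2 : f.appLE V U hUV a = 0 := by
        rcases (X.basicOpen ((f.appLE V U hUV) s)).1.eq_empty_or_nonempty with he | ⟨w, hw⟩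
        · exact absurd hx' ((Set.eq_empty_iff_forall_notMem.mp he) x)
        · apply germ_injective_of_isIntegral X w (X.basicOpen_le _ hw)
          rw [← TopCat.Presheaf.germ_res_apply X.presheaf (homOfLE (X.basicOpen_le _)) w hw, h1,
            map_zero, map_zero]
      have h3 : a = 0 := hinjA (h2.trans (map_zero _).symm)
      rw [h3, map_zero] at ha
      exact (IsLocalization.Away.algebraMap_pow_isUnit s n).mul_left_eq_zero.mp ha
    · obtain ⟨n, b, hb⟩ := IsLocalization.Away.surj ((f.appLE V U hUV) s) z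
      obtain ⟨a, m, hab⟩ := hsb b
      refine ⟨IsLocalization.mk' _ a (⟨s ^ (m + n), m + n, rfl⟩ : Submonoid.powers s), ?_⟩
      have h4 : f.appLE (Y.basicOpen s) _ hle (algebraMap Γ(Y, V) _ (s ^ (m + n))) *
          z = f.appLE (Y.basicOpen s) _ hle (algebraMap Γ(Y, V) _ a) := by
        erw [hcomp, hcomp]
        rw [show f.appLE V U hUV a = _ from hab.symm, map_mul, map_pow, map_pow]
        erw [← hb]
        rw [pow_add]
        simp only [map_pow]
        generalize hρ : X.presheaf.map (homOfLE (X.basicOpen_le ((f.appLE V U hUV) s))).op = ρ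
        show ρ (f.appLE V U hUV s) ^ m * ρ (f.appLE V U hUV s) ^ n * z = _
        rw [← hρ]
        exact (mul_assoc _ _ z).trans (congrArg (_ * ·) (mul_comm _ z))
      refine ((IsUnit.map (f.appLE (Y.basicOpen s) _ hle).hom
        (IsLocalization.map_units _ (⟨s ^ (m + n), m + n, rfl⟩ : Submonoid.powers s))).mul_right_inj).mp ?_
      erw [← map_mul, IsLocalization.mk'_spec', h4]
  haveI : IsIso (f.appLE (Y.basicOpen s) _ hle) :=
    (ConcreteCategory.isIso_iff_bijective _).mpr hbij
  have hW := hU.basicOpen ((f.appLE V U hUV) s)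
  have hD := hV.basicOpen s
  have h5 := IsAffineOpen.SpecMap_appLE_fromSpec f hD hW hle
  have : (X.basicOpen ((f.appLE V U hUV) s)).ι ≫ f
      = hW.isoSpec.hom ≫ Spec.map (f.appLE (Y.basicOpen s) _ hle) ≫ hD.fromSpec := by
    rw [h5, IsAffineOpen.isoSpec_hom, IsAffineOpen.toSpecΓ_fromSpec_assoc]
  rw [this]
  infer_instance

/-- Isomorphism over a neighbourhood at a quasi-finite point over a normal point. -/
theorem exists_isIso_morphismRestrict_of_birational [LocallyOfFiniteType f] [IsSeparated f]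
    (hgen : f (genericPoint X) = genericPoint Y)
    (hbir : IsIso (f.stalkMap (genericPoint X))) (x : X) (hx : f.QuasiFiniteAt x)
    (hy : IsIntegrallyClosed (Y.presheaf.stalk (f x))) :
    ∃ D : Y.Opens, f x ∈ D ∧ IsIso (f ∣_ D) := by
  obtain ⟨U, hxU, hU⟩ := exists_open_isOpenImmersion_of_birational f hgen hbir x hx hy
  let D := (U.ι ≫ f).opensRange
  have hUD : U ≤ f ⁻¹ᵁ D := fun z hz => ⟨⟨z, hz⟩, rfl⟩
  let j := X.homOfLE hUD
  have hj : j ≫ (f ∣_ D) = (U.ι ≫ f).isoOpensRange.hom := by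
    rw [← cancel_mono D.ι, Category.assoc, morphismRestrict_ι, Scheme.Hom.isoOpensRange]
    simp [j, D]
  haveI : IsClosedImmersion (j ≫ (f ∣_ D)) := by rw [hj]; infer_instance
  haveI : IsClosedImmersion j := IsClosedImmersion.of_comp j (f ∣_ D)
  haveI : Nonempty (f ⁻¹ᵁ D).toScheme := ⟨⟨x, hUD hxU⟩⟩
  haveI : IsIntegral (f ⁻¹ᵁ D).toScheme := isIntegral_of_isOpenImmersion (f ⁻¹ᵁ D).ι
  have hsurj : Set.range j = Set.univ :=
    (IsClopen.eq_univ ⟨j.isClosedEmbedding.isClosed_range, j.isOpenEmbedding.isOpen_range⟩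
      ⟨j ⟨x, hxU⟩, _, rfl⟩)
  haveI : Surjective j := ⟨Set.range_eq_univ.mp hsurj⟩
  haveI : IsIso j := (isIso_iff_isOpenImmersion_and_surjective j).mpr ⟨inferInstance, inferInstance⟩
  refine ⟨D, ⟨⟨x, hxU⟩, rfl⟩, ?_⟩
  haveI : IsIso (j ≫ (f ∣_ D)) := by rw [hj]; infer_instance
  exact IsIso.of_isIso_comp_left j (f ∣_ D)

end Groth.L19
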