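import Mathlib.AlgebraicGeometry.ZariskisMainTheorem
import Mathlib.AlgebraicGeometry.Morphisms.Finite
import Mathlib.RingTheory.Nakayama
import Mathlib.RingTheory.LocalRing.Module

/-!
A proper morphism is a closed immersion near a point over which its fibre is a point or empty.
-/

set_option autoImplicit false
set_option backward.isDefEq.respectTransparency.types false
set_option backward.isDefEq.respectTransparency false
set_option linter.style.haveILetI false
universe u

open CategoryTheory Limits AlgebraicGeometry TopologicalSpace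

namespace Groth.L19.ClosedImmNhd

/-- A finite algebra generated by one element modulo a prime is so after inverting an element. -/
theorem exists_away_surjective {A B : Type u} [CommRing A] [CommRing B] [Algebra A B]
    [Module.Finite A B] (p : Ideal A) [p.IsPrime]
    (h : ∀ b : B, ∃ s ∉ p, ∃ a : A, s • b - algebraMap A B a ∈ p.map (algebraMap A B)) :
    ∃ s ∉ p, ∀ b : B, ∃ a : A, s • b = algebraMap A B a := by
  let N : Submodule A B := LinearMap.range (Algebra.linearMap A B)
  let S := Localization.AtPrime p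
  let l : (B ⧸ N) →ₗ[A] LocalizedModule p.primeCompl (B ⧸ N) := LocalizedModule.mkLinearMap _ _
  haveI : Module.Finite S (LocalizedModule p.primeCompl (B ⧸ N)) :=
    Module.Finite.of_isLocalizedModule p.primeCompl l
  have hz : ∀ z : LocalizedModule p.primeCompl (B ⧸ N),
      z ∈ (IsLocalRing.maximalIdeal S) • (⊤ : Submodule S (LocalizedModule p.primeCompl (B ⧸ N))) := by
    intro z
    induction z using LocalizedModule.induction_on with
    | h m t =>
      obtain ⟨b, rfl⟩ := Submodule.Quotient.mk_surjective N m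
      obtain ⟨s, hs, a, ha⟩ := h b
      have hmem : s • b - algebraMap A B a ∈ p • (⊤ : Submodule A B) := by
        rw [Ideal.smul_top_eq_map]; exact ha
      have h2 : (Submodule.Quotient.mk (p := N) (s • b)) ∈ p • (⊤ : Submodule A (B ⧸ N)) := by
        have := Submodule.mem_map_of_mem (f := N.mkQ) hmem
        rw [Submodule.map_smul'', Submodule.map_top, Submodule.range_mkQ] at this
        have he : (Submodule.Quotient.mk (p := N) (s • b)) = N.mkQ (s • b - algebraMap A B a) := by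
          rw [map_sub, show N.mkQ (algebraMap A B a) = 0 from
            (Submodule.Quotient.mk_eq_zero N).mpr ⟨a, rfl⟩, sub_zero]
          rfl
        rw [he]; exact this
      have h3 : l (Submodule.Quotient.mk (p := N) (s • b)) ∈
          (IsLocalRing.maximalIdeal S) • (⊤ : Submodule S (LocalizedModule p.primeCompl (B ⧸ N))) := by
        refine Submodule.smul_induction_on h2 (fun r hr v _ => ?_) (fun v w hv hw => ?_)
        · rw [map_smul, ← algebraMap_smul S r (l v)]
          refine Submodule.smul_mem_smul ?_ trivial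
          rw [← Localization.AtPrime.map_eq_maximalIdeal]
          exact Ideal.mem_map_of_mem _ hr
        · rw [map_add]; exact add_mem hv hw
      have h4 : LocalizedModule.mk (Submodule.Quotient.mk (p := N) b) t =
          (Localization.mk 1 (⟨s, hs⟩ * t) : S) • l (Submodule.Quotient.mk (p := N) (s • b)) := by
        simp only [l, LocalizedModule.mkLinearMap_apply, LocalizedModule.mk_smul_mk, one_smul,
          Submodule.Quotient.mk_smul, mul_one]
        exact (LocalizedModule.mk_cancel_common_left ⟨s, hs⟩ t _).symm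
      rw [h4]
      exact Submodule.smul_mem _ _ h3
  haveI : Subsingleton (LocalizedModule p.primeCompl (B ⧸ N)) := by
    have h5 : (⊤ : Submodule S (LocalizedModule p.primeCompl (B ⧸ N))) = ⊥ :=
      Submodule.eq_bot_of_le_smul_of_le_jacobson_bot (IsLocalRing.maximalIdeal S) _ Module.Finite.fg_top
        (fun z _ => hz z) (le_of_eq (IsLocalRing.jacobson_eq_maximalIdeal ⊥ bot_ne_top).symm)
    refine ⟨fun u v => ?_⟩
    have hu : u ∈ (⊤ : Submodule S (LocalizedModule p.primeCompl (B ⧸ N))) := trivial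
    have hv : v ∈ (⊤ : Submodule S (LocalizedModule p.primeCompl (B ⧸ N))) := trivial
    rw [h5, Submodule.mem_bot] at hu hv
    rw [hu, hv]
  classical
  obtain ⟨G, hG⟩ := Module.Finite.fg_top (R := A) (M := B ⧸ N)
  have hs : ∀ g : B ⧸ N, ∃ s ∉ p, s • g = 0 := by
    intro g
    have h6 : LocalizedModule.mk g (1 : p.primeCompl) = LocalizedModule.mk 0 1 := Subsingleton.elim _ _
    obtain ⟨c, hc⟩ := LocalizedModule.mk_eq.mp h6
    exact ⟨c.1, c.2, by simpa [Submonoid.smul_def] using hc⟩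
  choose s hs hs0 using hs
  refine ⟨∏ g ∈ G, s g, fun hp => ?_, fun b => ?_⟩
  · obtain ⟨g, -, hg⟩ := (Ideal.IsPrime.prod_mem_iff (p := p)).mp hp
    exact hs g hg
  · have h9 : ∀ v ∈ Submodule.span A (G : Set (B ⧸ N)), (∏ g ∈ G, s g) • v = 0 := by
      intro v hv
      induction hv using Submodule.span_induction with
      | mem v hv =>
        rw [← Finset.prod_erase_mul G s hv, mul_smul, hs0, smul_zero]
      | zero => simp
      | add v w _ _ hv hw => rw [smul_add, hv, hw, add_zero]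
      | smul c v _ hv => rw [smul_comm, hv, smul_zero]
    have h7 : (∏ g ∈ G, s g) • (Submodule.Quotient.mk (p := N) b) = 0 :=
      h9 _ (by rw [hG]; trivial)
    rw [← Submodule.Quotient.mk_smul, Submodule.Quotient.mk_eq_zero] at h7
    obtain ⟨a, ha⟩ := h7
    exact ⟨a, ha.symm⟩

variable {X Y : Scheme.{u}} (f : X ⟶ Y)

/-- A proper morphism is a closed immersion near `y` if the fibre has one point where the stalk map
is surjective modulo the maximal ideal, or is empty. -/
theorem exists_nhd_isClosedImmersion [IsProper f] (y : Y) (hsub : (f ⁻¹' {y}).Subsingleton)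
    (hsurj : ∀ x, f x = y → ∀ a : X.presheaf.stalk x, ∃ b : Y.presheaf.stalk (f x),
      a - f.stalkMap x b ∈
        (IsLocalRing.maximalIdeal (Y.presheaf.stalk (f x))).map (f.stalkMap x).hom) :
    ∃ V : Y.Opens, y ∈ V ∧ IsClosedImmersion (f ∣_ V) := by
  obtain ⟨V₀, hyV₀, hfin⟩ :=
    exists_isFinite_morphismRestrict_of_finite_preimage_singleton f y hsub.finite
  haveI := hfin
  obtain ⟨_, ⟨V, hV, rfl⟩, hyV, hVV₀⟩ := Y.isBasis_affineOpens.exists_subset_of_mem_open hyV₀ V₀.isOpen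
  replace hV : IsAffineOpen V := hV
  replace hVV₀ : V ≤ V₀ := hVV₀
  have hfinV : IsFinite (f ∣_ V) := by
    have h3 := IsZariskiLocalAtTarget.restrict (P := @IsFinite) hfin (V₀.ι ⁻¹ᵁ V)
    exact (MorphismProperty.arrow_mk_iso_iff @IsFinite (morphismRestrictRestrict f _ _ ≪≫
      eqToIso (by rw [Scheme.Hom.image_preimage_eq_opensRange_inf, Scheme.Opens.opensRange_ι,
        inf_eq_right.mpr hVV₀]))).mp h3
  haveI := hfinV
  have hU : IsAffineOpen (f ⁻¹ᵁ V) := by
    haveI : IsAffine V := hV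
    exact isAffine_of_isAffineHom (f ∣_ V)
  have hφfin : (f.app V).hom.Finite := by
    haveI : IsAffine V := hV
    haveI : IsAffine (f ⁻¹ᵁ V : X.Opens) := hU
    have h1 := (f ∣_ V).finite_app ⊤ (isAffineOpen_top _)
    rw [morphismRestrict_app'] at h1
    rw [Scheme.Hom.app_eq_appLE]
    have e2 : (f ⁻¹ᵁ V).ι ''ᵁ ((f ∣_ V) ⁻¹ᵁ ⊤) = f ⁻¹ᵁ V := by simp
    exact (Scheme.Hom.appLE_congr f _ (by simp) e2 (fun φ => φ.hom.Finite)).1 h1
  letI := (f.app V).hom.toAlgebra
  haveI : Module.Finite Γ(Y, V) Γ(X, f ⁻¹ᵁ V) := hφfin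
  let p := (hV.primeIdealOf ⟨y, hyV⟩).asIdeal
  let φ : Γ(Y, V) →+* Γ(X, f ⁻¹ᵁ V) := (f.app V).hom
  let J := p.map φ
  have hmeet : ∀ K : Ideal Γ(X, f ⁻¹ᵁ V), J ≤ K → (∀ (x : X) (hx : x ∈ f ⁻¹ᵁ V), f x = y →
      ∃ c ∈ K, c ∉ (hU.primeIdealOf ⟨x, hx⟩).asIdeal) → ∃ s ∉ p, φ s ∈ K := by
    intro K hJK hK
    by_contra hcon
    push Not at hcon
    have hd : Disjoint (K : Set Γ(X, f ⁻¹ᵁ V)) ((p.primeCompl.map φ : Submonoid _) : Set _) := by
      rw [Set.disjoint_left]
      rintro _ hk ⟨s, hs, rfl⟩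
      exact hcon s hs hk
    obtain ⟨q, hq, hKq, hqd⟩ := Ideal.exists_le_prime_disjoint K _ hd
    let x := hU.fromSpec ⟨q, hq⟩
    have hxU : x ∈ f ⁻¹ᵁ V := by
      have : x ∈ Set.range hU.fromSpec := ⟨_, rfl⟩
      rwa [hU.range_fromSpec] at this
    have hpx : hU.primeIdealOf ⟨x, hxU⟩ = ⟨q, hq⟩ := by
      apply hU.fromSpec.isOpenEmbedding.injective
      rw [hU.fromSpec_primeIdealOf]
    have hfx : f x = y := by
      have h1 : hV.primeIdealOf ⟨f x, hxU⟩ = hV.primeIdealOf ⟨y, hyV⟩ := by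
        apply PrimeSpectrum.ext
        rw [← IsAffineOpen.comap_primeIdealOf_appLE V hV (f ⁻¹ᵁ V) hU le_rfl hxU, hpx,
          ← Scheme.Hom.app_eq_appLE]
        refine le_antisymm (fun a ha => ?_) fun a ha => hKq (hJK (Ideal.mem_map_of_mem φ ha))
        by_contra hap
        exact Set.disjoint_left.mp hqd ha ⟨a, hap, rfl⟩
      have h2 := congrArg hV.fromSpec h1
      rwa [hV.fromSpec_primeIdealOf ⟨f x, hxU⟩, hV.fromSpec_primeIdealOf ⟨y, hyV⟩] at h2
    obtain ⟨c, hcK, hcx⟩ := hK x hxU hfx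
    exact hcx (by rw [hpx]; exact hKq hcK)
  have key : ∀ b : Γ(X, f ⁻¹ᵁ V), ∃ s ∉ p, ∃ a : Γ(Y, V),
      s • b - algebraMap Γ(Y, V) Γ(X, f ⁻¹ᵁ V) a ∈ p.map (algebraMap Γ(Y, V) Γ(X, f ⁻¹ᵁ V)) := by
    intro b
    by_cases hne : ∃ x, f x = y
    swap
    · obtain ⟨s, hs, hsJ⟩ := hmeet J le_rfl fun x _ hx => absurd ⟨x, hx⟩ hne
      refine ⟨s, hs, 0, ?_⟩
      rw [map_zero, sub_zero, Algebra.smul_def]
      exact Ideal.mul_mem_right b J hsJ
    obtain ⟨x, rfl⟩ := hne
    letI algA : Algebra Γ(Y, V) (Y.presheaf.stalk (f x)) := (Y.presheaf.germ V _ hyV).hom.toAlgebra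
    haveI : IsLocalization.AtPrime (Y.presheaf.stalk (f x)) p := hV.isLocalization_stalk ⟨f x, hyV⟩
    letI algB : Algebra Γ(X, f ⁻¹ᵁ V) (X.presheaf.stalk x) :=
      (X.presheaf.germ (f ⁻¹ᵁ V) x hyV).hom.toAlgebra
    let q := (hU.primeIdealOf ⟨x, hyV⟩).asIdeal
    haveI : IsLocalization.AtPrime (X.presheaf.stalk x) q := hU.isLocalization_stalk ⟨x, hyV⟩
    obtain ⟨β, hβ⟩ := hsurj x rfl (algebraMap Γ(X, f ⁻¹ᵁ V) (X.presheaf.stalk x) b)
    obtain ⟨⟨a, t⟩, hat⟩ := IsLocalization.surj p.primeCompl β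
    have hgerm : ∀ a : Γ(Y, V), f.stalkMap x (algebraMap Γ(Y, V) (Y.presheaf.stalk (f x)) a) =
        algebraMap Γ(X, f ⁻¹ᵁ V) (X.presheaf.stalk x) (φ a) := fun a =>
      Scheme.Hom.germ_stalkMap_apply f V x hyV a
    have hm : (IsLocalRing.maximalIdeal (Y.presheaf.stalk (f x))).map (f.stalkMap x).hom =
        J.map (algebraMap Γ(X, f ⁻¹ᵁ V) (X.presheaf.stalk x)) := by
      rw [← IsLocalization.AtPrime.map_eq_maximalIdeal p (Y.presheaf.stalk (f x)), Ideal.map_map,
        Ideal.map_map]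
      congr 1
      exact RingHom.ext hgerm
    let e := φ t.1 * b - φ a
    have he : algebraMap Γ(X, f ⁻¹ᵁ V) (X.presheaf.stalk x) e ∈
        J.map (algebraMap Γ(X, f ⁻¹ᵁ V) (X.presheaf.stalk x)) := by
      rw [map_sub, map_mul, ← hgerm, ← hgerm, ← hat, map_mul, mul_comm (f.stalkMap x β), ← mul_sub]
      exact Ideal.mul_mem_left _ _ (hm ▸ hβ)
    obtain ⟨c, hc, hce⟩ := (IsLocalization.algebraMap_mem_map_algebraMap_iff q.primeCompl _ J e).mp he
    obtain ⟨s, hs, hsK⟩ := hmeet (J.colon {e})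
      (fun z hz => Submodule.mem_colon_singleton.mpr (Ideal.mul_mem_right _ _ hz))
      fun x' hx' hfx' => by
        obtain rfl : x' = x := hsub hfx' rfl
        exact ⟨c, Submodule.mem_colon_singleton.mpr hce, hc⟩
    refine ⟨s * t.1, fun h => ?_, s * a, ?_⟩
    · rcases Ideal.IsPrime.mem_or_mem inferInstance h with h' | h'
      exacts [hs h', t.2 h']
    · have h8 := Submodule.mem_colon_singleton.mp hsK
      rw [smul_eq_mul] at h8
      rw [Algebra.smul_def]
      show φ (s * t.1) * b - φ (s * a) ∈ J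
      rwa [map_mul, map_mul, mul_assoc, ← mul_sub]
  obtain ⟨s, hs, hsb⟩ := exists_away_surjective p key
  refine ⟨Y.basicOpen s, ?_, ?_⟩
  · have h4 : hV.primeIdealOf ⟨y, hyV⟩ ∈ hV.fromSpec ⁻¹ᵁ Y.basicOpen s := by
      rw [hV.fromSpec_preimage_basicOpen]; exact hs
    have h5 : hV.fromSpec (hV.primeIdealOf ⟨y, hyV⟩) ∈ Y.basicOpen s := h4
    rwa [hV.fromSpec_primeIdealOf ⟨y, hyV⟩] at h5
  haveI : IsAffine (Y.basicOpen s) := hV.basicOpen s
  have hpre : f ⁻¹ᵁ Y.basicOpen s = X.basicOpen (φ s) := Scheme.preimage_basicOpen f s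
  haveI : IsAffine (f ⁻¹ᵁ Y.basicOpen s : X.Opens) := by rw [hpre]; exact hU.basicOpen _
  refine IsClosedImmersion.of_surjective_of_isAffine _ ?_
  rw [show (f ∣_ Y.basicOpen s).appTop = (f ∣_ Y.basicOpen s).app ⊤ from rfl, morphismRestrict_app']
  have h6 : Function.Surjective (f.app (Y.basicOpen s)) := by
    intro z
    letI : Algebra Γ(X, f ⁻¹ᵁ V) Γ(X, f ⁻¹ᵁ Y.basicOpen s) :=
      (X.presheaf.map (homOfLE (f.preimage_mono (Y.basicOpen_le s))).op).hom.toAlgebra
    haveI : IsLocalization.Away (φ s) Γ(X, f ⁻¹ᵁ Y.basicOpen s) := by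
      exact hU.isLocalization_of_eq_basicOpen (φ s) (homOfLE (f.preimage_mono (Y.basicOpen_le s))) hpre
    letI : Algebra Γ(Y, V) Γ(Y, Y.basicOpen s) :=
      (Y.presheaf.map (homOfLE (Y.basicOpen_le s)).op).hom.toAlgebra
    haveI : IsLocalization.Away s Γ(Y, Y.basicOpen s) := hV.isLocalization_basicOpen s
    have hnat : ∀ a : Γ(Y, V), f.app (Y.basicOpen s) (algebraMap Γ(Y, V) Γ(Y, Y.basicOpen s) a) =
        algebraMap Γ(X, f ⁻¹ᵁ V) Γ(X, f ⁻¹ᵁ Y.basicOpen s) (φ a) := fun a =>
      (NatTrans.naturality_apply (φ := f.c) (f := (homOfLE (Y.basicOpen_le s)).op) a :)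
    obtain ⟨n, b, hb⟩ := IsLocalization.Away.surj (φ s) z
    obtain ⟨a, ha⟩ := hsb b
    refine ⟨IsLocalization.mk' _ a (⟨s ^ (n + 1), n + 1, rfl⟩ : Submonoid.powers s), ?_⟩
    refine ((IsUnit.map (f.app (Y.basicOpen s)).hom
      (IsLocalization.map_units _ (⟨s ^ (n + 1), n + 1, rfl⟩ : Submonoid.powers s))).mul_right_inj).mp ?_
    rw [← map_mul, IsLocalization.mk'_spec', hnat, hnat,
      show φ a = φ s * b from ha.symm.trans (Algebra.smul_def s b), map_mul, ← hb]
    simp only [map_pow]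
    ring
  have e2 : (f ⁻¹ᵁ Y.basicOpen s).ι ''ᵁ ((f ∣_ Y.basicOpen s) ⁻¹ᵁ ⊤) = f ⁻¹ᵁ Y.basicOpen s := by simp
  rw [Scheme.Hom.app_eq_appLE] at h6
  exact (Scheme.Hom.appLE_congr f _ (by simp) e2 (fun φ => Function.Surjective φ.hom)).2 h6

/-- A point of the fibre gives surjectivity of the stalk map modulo the maximal ideal when the
fibre is a closed subscheme of the spectrum of the residue field. -/
theorem stalkMap_surjective_mod_of_fiber [IsProper f] (x : X)
    [IsClosedImmersion (f.fiberToSpecResidueField (f x))] (a : X.presheaf.stalk x) :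
    ∃ b : Y.presheaf.stalk (f x), a - f.stalkMap x b ∈
      (IsLocalRing.maximalIdeal (Y.presheaf.stalk (f x))).map (f.stalkMap x).hom := by
  haveI : Nonempty (f.fiber (f x)) := ⟨f.asFiber x⟩
  haveI : Surjective (f.fiberToSpecResidueField (f x)) := ⟨fun q => ⟨f.asFiber x, Subsingleton.elim _ _⟩⟩
  haveI : IsIso (f.fiberToSpecResidueField (f x)) := isIso_of_isClosedImmersion_of_surjective _
  let r : Spec (Y.residueField (f x)) ⟶ X := inv (f.fiberToSpecResidueField (f x)) ≫ f.fiberι (f x)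
  have hr : r (IsLocalRing.closedPoint (Y.residueField (f x))) = x := by
    have h1 : inv (f.fiberToSpecResidueField (f x)) (IsLocalRing.closedPoint _) = f.asFiber x := by
      apply (f.fiberToSpecResidueField (f x)).isClosedEmbedding.injective
      exact Subsingleton.elim _ _
    rw [Scheme.Hom.comp_apply, h1, f.fiberι_asFiber]
  let I := (IsLocalRing.maximalIdeal (Y.presheaf.stalk (f x))).map (f.stalkMap x).hom
  let π : X.presheaf.stalk x ⟶ CommRingCat.of (X.presheaf.stalk x ⧸ I) :=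
    CommRingCat.ofHom (Ideal.Quotient.mk I)
  let ψ : Y.residueField (f x) ⟶ CommRingCat.of (X.presheaf.stalk x ⧸ I) :=
    CommRingCat.ofHom (Ideal.Quotient.lift _ (f.stalkMap x ≫ π).hom
      fun a ha => Ideal.Quotient.eq_zero_iff_mem.mpr (Ideal.mem_map_of_mem _ ha))
  have hψ : Y.residue (f x) ≫ ψ = f.stalkMap x ≫ π := by
    ext a
    rfl
  let φ : Spec (CommRingCat.of (X.presheaf.stalk x ⧸ I)) ⟶ f.fiber (f x) :=
    pullback.lift (Spec.map π ≫ X.fromSpecStalk x) (Spec.map ψ) (by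
      rw [Category.assoc, ← Scheme.SpecMap_stalkMap_fromSpecStalk, ← Spec.map_comp_assoc, ← hψ,
        Spec.map_comp_assoc]
      rfl)
  have hq : Spec.map π ≫ X.fromSpecStalk x = Spec.map ψ ≫ r := by
    have h1 : φ ≫ f.fiberι (f x) = Spec.map π ≫ X.fromSpecStalk x := pullback.lift_fst ..
    have h2 : φ ≫ f.fiberToSpecResidueField (f x) = Spec.map ψ := pullback.lift_snd ..
    rw [← h1, ← h2, Category.assoc, IsIso.hom_inv_id_assoc]
  let ρ : X.presheaf.stalk x ⟶ Y.residueField (f x) :=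
    X.presheaf.stalkSpecializes (specializes_of_eq hr) ≫ Scheme.stalkClosedPointTo r
  have hρ : Spec.map ρ ≫ X.fromSpecStalk x = r := by
    rw [Spec.map_comp, Category.assoc, Scheme.SpecMap_stalkSpecializes_fromSpecStalk,
      Scheme.Spec_stalkClosedPointTo_fromSpecStalk]
  rw [← hρ, ← Spec.map_comp_assoc, cancel_mono] at hq
  have hπ : π = ρ ≫ ψ := Spec.map_injective hq
  obtain ⟨b, hb⟩ := Y.residue_surjective (f x) (ρ a)
  refine ⟨b, Ideal.Quotient.eq_zero_iff_mem.mp ?_⟩
  rw [map_sub, sub_eq_zero]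
  show π a = π (f.stalkMap x b)
  rw [← CommRingCat.comp_apply (f.stalkMap x) π, ← hψ, CommRingCat.comp_apply, hb, hπ]
  rfl

/-- A proper morphism is a closed immersion near a point with a closed immersion fibre. -/
theorem exists_nhd_isClosedImmersion_of_fiber [IsProper f] (y : Y)
    [IsClosedImmersion (f.fiberToSpecResidueField y)] :
    ∃ V : Y.Opens, y ∈ V ∧ IsClosedImmersion (f ∣_ V) := by
  refine exists_nhd_isClosedImmersion f y ?_ ?_
  · intro a ha b hb
    have h := (f.fiberToSpecResidueField y).isClosedEmbedding.injective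
    haveI : Subsingleton (f.fiber y) := ⟨fun u v => h (Subsingleton.elim _ _)⟩
    have he : (f.fiberHomeo y).symm ⟨a, ha⟩ = (f.fiberHomeo y).symm ⟨b, hb⟩ := Subsingleton.elim _ _
    exact congrArg Subtype.val ((f.fiberHomeo y).symm.injective he)
  · rintro x rfl a
    exact stalkMap_surjective_mod_of_fiber f x a

end Groth.L19.ClosedImmNhd
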