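import Groth.Agent.L19.GenericIso
import Groth.Agent.L09.QuillenMain
import Mathlib.AlgebraicGeometry.ValuativeCriterion
import Mathlib.AlgebraicGeometry.FunctionField
import Mathlib.AlgebraicGeometry.SpreadingOut
import Mathlib.AlgebraicGeometry.Morphisms.Separated
import Mathlib.RingTheory.Valuation.ValuationRing

/-!
Extending morphisms to proper schemes across points whose local ring is a valuation ring.
-/

set_option autoImplicit false
set_option backward.isDefEq.respectTransparency.types false
set_option backward.isDefEq.respectTransparency false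
set_option linter.style.haveILetI false
universe u

open CategoryTheory AlgebraicGeometry TopologicalSpace

namespace Groth.L19.ExtendValuation

/-- In an integral scheme, the local ring at the generic point is dense. -/
theorem isDominant_fromSpecStalkOfMem {Z : Scheme.{u}} [IsIntegral Z] (O : Z.Opens)
    (h : genericPoint Z ∈ O) : IsDominant (O.fromSpecStalkOfMem (genericPoint Z) h) := ⟨by
  refine Dense.mono (s₁ := {⟨genericPoint Z, h⟩}) ?_ ?_
  · rw [Set.singleton_subset_iff]
    exact ⟨IsLocalRing.closedPoint _, Groth.L19.BiratStalk.fromSpecStalkOfMem_closedPoint h⟩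
  · intro w
    rw [← specializes_iff_mem_closure]
    exact O.ι.isOpenEmbedding.isInducing.specializes_iff.1 (genericPoint_specializes (O.ι w))⟩

/-- Extension on an integral scheme. -/
theorem exists_extension {Z Y S : Scheme.{u}} [IsIntegral Z] (p : Z ⟶ S) (q : Y ⟶ S) [IsProper q]
    (z : Z) [ValuationRing (Z.presheaf.stalk z)] (U : Z.Opens) (hηU : genericPoint Z ∈ U)
    (f : U.toScheme ⟶ Y) (hf : f ≫ q = U.ι ≫ p) :
    ∃ (V : Z.Opens) (g : V.toScheme ⟶ Y), z ∈ V ∧ g ≫ q = V.ι ≫ p ∧
      Z.homOfLE (inf_le_left : U ⊓ V ≤ U) ≫ f = Z.homOfLE (inf_le_right : U ⊓ V ≤ V) ≫ g := by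
  let c : ValuativeCommSq q :=
    { R := Z.presheaf.stalk z
      K := Z.functionField
      i₁ := U.fromSpecStalkOfMem (genericPoint Z) hηU ≫ f
      i₂ := Z.fromSpecStalk z ≫ p
      commSq := ⟨by
        rw [Category.assoc, hf, Scheme.Opens.fromSpecStalkOfMem_ι_assoc]
        refine Eq.trans ?_ (Category.assoc _ _ _)
        congr 1
        exact (Scheme.SpecMap_stalkSpecializes_fromSpecStalk
          ((genericPoint_spec Z).specializes trivial)).symm⟩ }
  haveI := (show ValuativeCriterion.Existence q from by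
    have h := (inferInstance : UniversallyClosed q)
    rw [UniversallyClosed.eq_valuativeCriterion] at h
    exact h.1) c
  obtain ⟨l, hl₁, hl₂⟩ : ∃ l : Spec (Z.presheaf.stalk z) ⟶ Y,
      Spec.map (CommRingCat.ofHom (algebraMap (Z.presheaf.stalk z) Z.functionField)) ≫ l = c.i₁ ∧
        l ≫ q = Z.fromSpecStalk z ≫ p :=
    ⟨c.commSq.lift, c.commSq.fac_left, c.commSq.fac_right⟩
  obtain ⟨V, hzV, g, hg, hgS⟩ := spread_out_of_isGermInjective' p q l hl₂
  refine ⟨V, g, hzV, hgS, ?_⟩
  have hηV : genericPoint Z ∈ V := (genericPoint_specializes z).mem_open V.isOpen hzV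
  haveI : IsReduced (U ⊓ V : Z.Opens).toScheme := isReduced_of_isOpenImmersion (U ⊓ V).ι
  haveI := isDominant_fromSpecStalkOfMem (U ⊓ V) (h := ⟨hηU, hηV⟩)
  refine ext_of_isDominant_of_isSeparated q ?_ ((U ⊓ V).fromSpecStalkOfMem (genericPoint Z) ⟨hηU, hηV⟩) ?_
  · rw [Category.assoc, Category.assoc, hf, hgS, Scheme.homOfLE_ι_assoc, Scheme.homOfLE_ι_assoc]
  · rw [← Category.assoc, ← Category.assoc, Groth.L19.BiratStalk.fromSpecStalkOfMem_homOfLE,
      Groth.L19.BiratStalk.fromSpecStalkOfMem_homOfLE]
    rw [show U.fromSpecStalkOfMem (genericPoint Z) hηU ≫ f = c.i₁ from rfl, ← hl₁, hg,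
      ← Category.assoc]
    congr 1
    rw [← cancel_mono V.ι, Category.assoc, Scheme.Opens.fromSpecStalkOfMem_ι,
      Scheme.Opens.fromSpecStalkOfMem_ι]
    exact Scheme.SpecMap_stalkSpecializes_fromSpecStalk ((genericPoint_spec Z).specializes trivial)

end Groth.L19.ExtendValuation
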