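import Groth.Agent.L19.BiratStalk
import Groth.Agent.L19.SpreadLfp
import Mathlib.AlgebraicGeometry.Morphisms.QuasiCompact
import Mathlib.AlgebraicGeometry.Morphisms.Separated
import Mathlib.AlgebraicGeometry.Morphisms.ClosedImmersion

/-!
Birational morphisms of schemes with finitely many irreducible components.
-/

set_option autoImplicit false
set_option backward.isDefEq.respectTransparency.types false
set_option backward.isDefEq.respectTransparency false
set_option linter.style.haveILetI false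
universe u

open CategoryTheory Limits AlgebraicGeometry TopologicalSpace

namespace Groth.L19.GenericIso

variable {X Y : Scheme.{u}}

/-- Every point specializes from a generic point of an irreducible component. -/
theorem exists_generic_specializes (x : X) :
    ∃ ξ : X, closure {ξ} ∈ irreducibleComponents X ∧ ξ ⤳ x := by
  refine ⟨(genericPoints.ofComponent ⟨_, irreducibleComponent_mem_irreducibleComponents x⟩).1,
    (genericPoints.ofComponent ⟨_, irreducibleComponent_mem_irreducibleComponents x⟩).2, ?_⟩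
  rw [specializes_iff_mem_closure]
  have h := genericPoints.isGenericPoint (genericPoints.ofComponent (α := X)
    ⟨_, irreducibleComponent_mem_irreducibleComponents x⟩)
  have h2 : (genericPoints.component (genericPoints.ofComponent (α := X)
    ⟨_, irreducibleComponent_mem_irreducibleComponents x⟩)).1 = irreducibleComponent x :=
    congrArg Subtype.val ((genericPoints.equiv (α := X)).apply_symm_apply _)
  rw [h.def, h2]
  exact mem_irreducibleComponent

/-- A generic point of a component has no generalization but itself. -/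
theorem eq_of_specializes {ξ z : X} (hξ : closure {ξ} ∈ irreducibleComponents X) (h : z ⤳ ξ) :
    z = ξ := by
  have h1 : closure ({ξ} : Set X) ⊆ closure {z} :=
    closure_minimal (Set.singleton_subset_iff.mpr (specializes_iff_mem_closure.mp h)) isClosed_closure
  have h2 : closure ({z} : Set X) ⊆ closure {ξ} :=
    (irreducibleComponents_eq_maximals_closed X ▸ hξ : _).2
      ⟨isClosed_closure, isIrreducible_singleton.closure⟩ h1
  exact (h.antisymm (specializes_iff_mem_closure.mpr (h2 (subset_closure rfl)))).eq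

variable (f : X ⟶ Y)

/-- An isomorphism on stalks at the more generic point separates points of the fibre. -/
theorem eq_of_specializes_of_isIso_stalkMap {ξ x : X} [IsIso (f.stalkMap ξ)] (h : ξ ⤳ x)
    (hf : f x = f ξ) : ξ = x := by
  have hnat := Scheme.Hom.stalkSpecializes_stalkMap f ξ x h
  haveI : IsIso (Y.presheaf.stalkSpecializes (C := CommRingCat) (h.map f.continuous)) :=
    (TopCat.Presheaf.stalkCongr Y.presheaf (Inseparable.of_eq hf)).isIso_hom
  have hsurj : Function.Surjective (X.presheaf.stalkSpecializes h) := by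
    intro a
    have hb := (ConcreteCategory.bijective_of_isIso
      (Y.presheaf.stalkSpecializes (C := CommRingCat) (h.map f.continuous) ≫ f.stalkMap ξ)).2 a
    obtain ⟨b, hb⟩ := hb
    refine ⟨f.stalkMap x b, ?_⟩
    rw [← hb]
    exact (ConcreteCategory.congr_hom hnat b).symm
  have hmax : Spec.map (X.presheaf.stalkSpecializes h) (IsLocalRing.closedPoint _) =
      IsLocalRing.closedPoint (X.presheaf.stalk x) := by
    apply PrimeSpectrum.ext
    exact IsLocalRing.eq_maximalIdeal (Ideal.comap_isMaximal_of_surjective _ hsurj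
      (H := IsLocalRing.maximalIdeal.isMaximal _))
  have := congrArg (X.fromSpecStalk x) hmax
  rw [← Scheme.Hom.comp_apply, Scheme.SpecMap_stalkSpecializes_fromSpecStalk,
    Scheme.fromSpecStalk_closedPoint, Scheme.fromSpecStalk_closedPoint] at this
  exact this

variable (hbij : Set.BijOn (fun x : X => f.base x) {x : X | closure {x} ∈ irreducibleComponents X}
      {y : Y | closure {y} ∈ irreducibleComponents Y})
    (hiso : ∀ x : X, closure {x} ∈ irreducibleComponents X → IsIso (f.stalkMap x))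

include hbij hiso in
/-- The fibre over a generic point of a component is one generic point. -/
theorem fibre_subsingleton {η : Y} (hη : closure {η} ∈ irreducibleComponents Y) {ξ x : X}
    (hξ : closure {ξ} ∈ irreducibleComponents X) (hfξ : f ξ = η) (hfx : f x ⤳ η) : x = ξ := by
  obtain ⟨ξ', hξ', hs⟩ := exists_generic_specializes x
  have h1 : f x = η := eq_of_specializes hη hfx
  have h2 : f ξ' = η := eq_of_specializes hη ((hs.map f.continuous).trans hfx)
  have h3 : ξ' = ξ := hbij.injOn hξ' hξ (h2.trans hfξ.symm)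
  subst h3
  haveI := hiso ξ' hξ'
  exact (eq_of_specializes_of_isIso_stalkMap f hs (h1.trans hfξ.symm)).symm

include hbij hiso in
/-- The base change to the local ring at a generic point of a component is an isomorphism. -/
theorem isIso_pullback_fromSpecStalk {η : Y} (hη : closure {η} ∈ irreducibleComponents Y) :
    IsIso (pullback.snd f (Y.fromSpecStalk η)) := by
  obtain ⟨ξ, hξ, hfξ⟩ := hbij.surjOn hη
  subst hfξ
  haveI := hiso ξ hξ
  have hY : ∀ q : Spec (Y.presheaf.stalk (f ξ)), q = IsLocalRing.closedPoint _ := fun q => by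
    apply (Y.fromSpecStalk (f ξ)).isEmbedding.injective
    rw [Scheme.fromSpecStalk_closedPoint]
    have hq : Y.fromSpecStalk (f ξ) q ∈ Set.range (Y.fromSpecStalk (f ξ)) := ⟨q, rfl⟩
    rw [Scheme.range_fromSpecStalk] at hq
    exact eq_of_specializes hη hq
  let P := pullback f (Y.fromSpecStalk (f ξ))
  let s : Spec (Y.presheaf.stalk (f ξ)) ⟶ P :=
    pullback.lift (Spec.map (inv (f.stalkMap ξ)) ≫ X.fromSpecStalk ξ) (𝟙 _) (by
      rw [Category.assoc, ← Scheme.SpecMap_stalkMap_fromSpecStalk, ← Spec.map_comp_assoc,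
        IsIso.hom_inv_id, Spec.map_id])
  have hs : s ≫ pullback.snd f (Y.fromSpecStalk (f ξ)) = 𝟙 _ := pullback.lift_snd ..
  have hP : ∀ p q : P, p = q := by
    have h : ∀ p : P, pullback.fst f (Y.fromSpecStalk (f ξ)) p = ξ := fun p => by
      refine fibre_subsingleton f hbij hiso hη hξ rfl ?_
      have h1 : f (pullback.fst f (Y.fromSpecStalk (f ξ)) p) =
          Y.fromSpecStalk (f ξ) (pullback.snd f (Y.fromSpecStalk (f ξ)) p) := by
        rw [← Scheme.Hom.comp_apply, ← Scheme.Hom.comp_apply, pullback.condition]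
      rw [h1, hY (pullback.snd f _ p), Scheme.fromSpecStalk_closedPoint]
    intro p q
    exact (pullback.fst f (Y.fromSpecStalk (f ξ))).isEmbedding.injective ((h p).trans (h q).symm)
  haveI : ∀ p : P, IsIso ((pullback.snd f (Y.fromSpecStalk (f ξ))).stalkMap p) := by
    intro p
    rw [ConcreteCategory.isIso_iff_bijective]
    constructor
    · have hp : p = s (IsLocalRing.closedPoint _) := hP _ _
      subst hp
      have h2 := Scheme.Hom.stalkMap_comp s (pullback.snd f (Y.fromSpecStalk (f ξ)))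
        (IsLocalRing.closedPoint _)
      have h3 : IsIso ((s ≫ pullback.snd f (Y.fromSpecStalk (f ξ))).stalkMap
          (IsLocalRing.closedPoint _)) := by
        rw [hs]; infer_instance
      rw [h2] at h3
      intro a b hab
      exact ((ConcreteCategory.isIso_iff_bijective _).mp h3).1
        (congrArg (s.stalkMap (IsLocalRing.closedPoint _)) hab)
    · have h2 := Scheme.Hom.stalkMap_comp (pullback.fst f (Y.fromSpecStalk (f ξ))) f p
      have h3 := Scheme.Hom.stalkMap_comp (pullback.snd f (Y.fromSpecStalk (f ξ)))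
        (Y.fromSpecStalk (f ξ)) p
      have h4 : Function.Surjective ((pullback.fst f (Y.fromSpecStalk (f ξ)) ≫ f).stalkMap p) := by
        rw [h2]
        show Function.Surjective ((pullback.fst f (Y.fromSpecStalk (f ξ))).stalkMap p ∘
          f.stalkMap (pullback.fst f (Y.fromSpecStalk (f ξ)) p))
        refine ((pullback.fst f (Y.fromSpecStalk (f ξ))).stalkMap_surjective p).comp ?_
        have h5 : pullback.fst f (Y.fromSpecStalk (f ξ)) p = ξ := by
          refine fibre_subsingleton f hbij hiso hη hξ rfl ?_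
          have h1 : f (pullback.fst f (Y.fromSpecStalk (f ξ)) p) =
              Y.fromSpecStalk (f ξ) (pullback.snd f (Y.fromSpecStalk (f ξ)) p) := by
            rw [← Scheme.Hom.comp_apply, ← Scheme.Hom.comp_apply, pullback.condition]
          rw [h1, hY (pullback.snd f _ p), Scheme.fromSpecStalk_closedPoint]
        haveI : IsIso (f.stalkMap (pullback.fst f (Y.fromSpecStalk (f ξ)) p)) := hiso _ (by rw [h5]; exact hξ)
        exact (ConcreteCategory.bijective_of_isIso _).2
      have h6 : Function.Surjective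
          ((pullback.snd f (Y.fromSpecStalk (f ξ)) ≫ Y.fromSpecStalk (f ξ)).stalkMap p) := by
        have key : ∀ (g g' : P ⟶ Y), g = g' → Function.Surjective (g.stalkMap p) →
            Function.Surjective (g'.stalkMap p) := by
          rintro g _ rfl h; exact h
        exact key _ _ pullback.condition h4
      rw [h3] at h6
      intro a
      obtain ⟨b, hb⟩ := h6 a
      exact ⟨_, hb⟩
  rw [isIso_iff_isOpenImmersion_and_surjective]
  refine ⟨IsOpenImmersion.of_isIso_stalkMap _ ?_, ⟨fun q => ⟨s q, by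
    rw [← Scheme.Hom.comp_apply, hs]; rfl⟩⟩⟩
  refine Topology.IsOpenEmbedding.of_continuous_injective_isOpenMap (Scheme.Hom.continuous _)
    (fun a b _ => hP a b) fun O hO => ?_
  rcases O.eq_empty_or_nonempty with rfl | ⟨p, hp⟩
  · simp
  · convert isOpen_univ
    refine Set.eq_univ_of_forall fun q => ⟨p, hp, ?_⟩
    rw [hY q, hY (pullback.snd f _ p)]

/-- The complement of the other components. -/
theorem exists_isolating_open (hYfin : (irreducibleComponents Y).Finite) :
    ∃ W : Y → Y.Opens, (∀ η, closure {η} ∈ irreducibleComponents Y → η ∈ W η) ∧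
      (∀ η z, closure {η} ∈ irreducibleComponents Y → z ∈ W η → η ⤳ z) ∧
      ∀ η η' z, closure {η} ∈ irreducibleComponents Y → closure {η'} ∈ irreducibleComponents Y →
        z ∈ W η → z ∈ W η' → η = η' := by
  let W : Y → Y.Opens := fun η => ⟨(⋃₀ (irreducibleComponents Y \ {closure {η}}))ᶜ,
    (show IsClosed (⋃₀ (irreducibleComponents Y \ {closure {η}})) by
      rw [Set.sUnion_eq_biUnion]
      exact Set.Finite.isClosed_biUnion (hYfin.subset Set.sdiff_subset) fun Z hZ =>
        isClosed_of_mem_irreducibleComponents Z hZ.1).isOpen_compl⟩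
  have h2 : ∀ η z, closure {η} ∈ irreducibleComponents Y → z ∈ W η →
      ∀ ξ, closure {ξ} ∈ irreducibleComponents Y → ξ ⤳ z → ξ = η := by
    intro η z hη hz ξ hξ hs
    by_contra hne
    refine hz ⟨closure {ξ}, ⟨hξ, fun h => hne ?_⟩, specializes_iff_mem_closure.mp hs⟩
    exact (inseparable_iff_closure_eq.mpr h).eq
  refine ⟨W, fun η hη => ?_, fun η z hη hz => ?_, fun η η' z hη hη' hz hz' => ?_⟩
  · rintro ⟨Z, ⟨hZ, hne⟩, hmem⟩
    obtain ⟨ξ, hξ⟩ := QuasiSober.sober hZ.1 (isClosed_of_mem_irreducibleComponents Z hZ)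
    have : ξ = η := eq_of_specializes hη (specializes_iff_mem_closure.mpr (hξ.def.symm ▸ hmem))
    exact hne (by rw [← hξ.def, this]; rfl)
  · obtain ⟨ξ, hξ, hs⟩ := exists_generic_specializes z
    exact h2 η z hη hz ξ hξ hs ▸ hs
  · obtain ⟨ξ, hξ, hs⟩ := exists_generic_specializes z
    exact (h2 η z hη hz ξ hξ hs).symm.trans (h2 η' z hη' hz' ξ hξ hs)

/-- A reduced scheme with finitely many components is germ injective. -/
theorem isGermInjectiveAt_of_finite [IsReduced X] (hirr : (irreducibleComponents X).Finite) (x : X) :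
    X.IsGermInjectiveAt x := by
  let O : X.Opens := ⟨(⋃₀ {Z ∈ irreducibleComponents X | x ∉ Z})ᶜ,
    (show IsClosed (⋃₀ {Z ∈ irreducibleComponents X | x ∉ Z}) by
      rw [Set.sUnion_eq_biUnion]
      exact Set.Finite.isClosed_biUnion (hirr.subset (Set.sep_subset _ _)) fun Z hZ =>
        isClosed_of_mem_irreducibleComponents Z hZ.1).isOpen_compl⟩
  have hxO : x ∈ O := fun ⟨Z, hZ, hxZ⟩ => hZ.2 hxZ
  obtain ⟨_, ⟨U, hU, rfl⟩, hxU, hUO⟩ := X.isBasis_affineOpens.exists_subset_of_mem_open hxO O.isOpen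
  refine ⟨U, hxU, hU, (injective_iff_map_eq_zero (X.presheaf.germ U x hxU).hom).mpr fun a ha => ?_⟩
  obtain ⟨W, hxW, i, j, he⟩ := TopCat.Presheaf.germ_eq X.presheaf x hxU hxU a 0
    (ha.trans (map_zero _).symm)
  rw [map_zero] at he
  refine (basicOpen_eq_bot_iff a).mp ?_
  by_contra hne
  obtain ⟨z, hz⟩ := (Opens.ne_bot_iff_nonempty _).mp hne
  obtain ⟨ξ, hξ, hs⟩ := exists_generic_specializes z
  have hξx : ξ ⤳ x := by
    rw [specializes_iff_mem_closure]
    by_contra h
    exact hUO (X.basicOpen_le a hz) ⟨_, ⟨hξ, h⟩, specializes_iff_mem_closure.mp hs⟩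
  have hξW : ξ ∈ W := hξx.mem_open W.isOpen hxW
  have hξa : ξ ∈ X.basicOpen a := hs.mem_open (X.basicOpen a).isOpen hz
  have h4 : ξ ∈ X.basicOpen (X.presheaf.map i.op a) := by
    rw [Scheme.basicOpen_res]; exact ⟨hξW, hξa⟩
  rw [he, Scheme.basicOpen_zero] at h4
  exact h4

/-- Spreading out an isomorphism of local rings. -/
theorem exists_open_isOpenImmersion [LocallyOfFiniteType f] (ξ : X) [IsIso (f.stalkMap ξ)]
    (h : ∀ (φ : Spec (Y.presheaf.stalk (f ξ)) ⟶ X),
      φ ≫ f = Y.fromSpecStalk (f ξ) ≫ 𝟙 Y →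
      ∃ (U : Y.Opens) (hxU : f ξ ∈ U) (g : U.toScheme ⟶ X),
        φ = U.fromSpecStalkOfMem (f ξ) hxU ≫ g ∧ g ≫ f = U.ι ≫ 𝟙 Y) :
    ∃ U : X.Opens, ξ ∈ U ∧ IsOpenImmersion (U.ι ≫ f) := by
  obtain ⟨V, hyV, g, hg, hgS⟩ := h (Spec.map (inv (f.stalkMap ξ)) ≫ X.fromSpecStalk ξ) (by
    rw [Category.assoc, ← Scheme.SpecMap_stalkMap_fromSpecStalk, ← Spec.map_comp_assoc,
      IsIso.hom_inv_id, Spec.map_id, Category.id_comp, Category.comp_id])
  obtain ⟨U₁, V₁, i, hxU, -, hi⟩ := Groth.L19.BiratStalk.exists_iso_nhds f (𝟙 Y)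
    (asIso (f.stalkMap ξ)).symm (U := ⊤) trivial ((⊤ : X.Opens).ι ≫ f)
    (by rw [← Category.assoc, Scheme.Opens.fromSpecStalkOfMem_ι, Iso.symm_inv, asIso_hom,
      Scheme.SpecMap_stalkMap_fromSpecStalk]) (Category.comp_id _)
    hyV g hg.symm hgS
  refine ⟨U₁, hxU, ?_⟩
  rw [← hi, Category.comp_id]
  infer_instance

include hbij hiso in
/-- Dense opens on which a birational morphism is an isomorphism. -/
theorem exists_dense_opens (hXfin : (irreducibleComponents X).Finite)
    (hYfin : (irreducibleComponents Y).Finite) [LocallyOfFiniteType f]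
    (hf : (LocallyOfFiniteType f ∧ IsReduced Y) ∨ LocallyOfFinitePresentation f) :
    ∃ U : X.Opens, (∀ x, closure {x} ∈ irreducibleComponents X → x ∈ U) ∧
      IsOpenImmersion (U.ι ≫ f) := by
  have _ := hXfin
  obtain ⟨W, hW₁, hW₂, hW₃⟩ := exists_isolating_open hYfin
  have hloc : ∀ ξ : {x : X // closure {x} ∈ irreducibleComponents X},
      ∃ U : X.Opens, ξ.1 ∈ U ∧ U ≤ f ⁻¹ᵁ W (f ξ.1) ∧ IsOpenImmersion (U.ι ≫ f) := by
    rintro ⟨ξ, hξ⟩
    haveI := hiso ξ hξ
    obtain ⟨U, hxU, hU⟩ := exists_open_isOpenImmersion f ξ (fun φ hφ => by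
      rcases hf with ⟨_, _⟩ | _
      · haveI := isGermInjectiveAt_of_finite hYfin (f ξ)
        exact spread_out_of_isGermInjective' (𝟙 Y) f φ hφ
      · exact Groth.L19.SpreadLfp.spread_out' (𝟙 Y) f φ hφ)
    refine ⟨U ⊓ f ⁻¹ᵁ W (f ξ), ⟨hxU, hW₁ _ (hbij.mapsTo hξ)⟩, inf_le_right, ?_⟩
    rw [← Scheme.homOfLE_ι X (inf_le_left : U ⊓ f ⁻¹ᵁ W (f ξ) ≤ U), Category.assoc]
    infer_instance
  choose U hxU hUW hU using hloc
  refine ⟨⨆ ξ, U ξ, fun x hx => Opens.mem_iSup.mpr ⟨⟨x, hx⟩, hxU _⟩, ?_⟩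
  refine IsOpenImmersion.of_forall_source_exists _ ?_ fun z => ?_
  · rintro ⟨a, ha⟩ ⟨b, hb⟩ h
    obtain ⟨ξ, hξa⟩ := Opens.mem_iSup.mp ha
    obtain ⟨ξ', hξb⟩ := Opens.mem_iSup.mp hb
    have hab : f a = f b := by simpa using h
    have h1 : ξ = ξ' := Subtype.ext (hbij.injOn ξ.2 ξ'.2
      (hW₃ _ _ (f a) (hbij.mapsTo ξ.2) (hbij.mapsTo ξ'.2) (hUW ξ hξa)
        (by rw [hab]; exact hUW ξ' hξb)))
    subst h1
    have h2 := ((U ξ).ι ≫ f).isOpenEmbedding.injective (a₁ := ⟨a, hξa⟩) (a₂ := ⟨b, hξb⟩)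
      (by simpa using hab)
    obtain rfl : a = b := congrArg Subtype.val h2
    rfl
  · obtain ⟨ξ, hξz⟩ := Opens.mem_iSup.mp z.2
    refine ⟨(U ξ).toScheme, X.homOfLE (le_iSup U ξ), inferInstance, ⟨⟨z.1, hξz⟩, ?_⟩, ?_⟩
    · exact Subtype.ext (Scheme.homOfLE_apply ..)
    · rw [Scheme.homOfLE_ι_assoc]; exact hU ξ

/-- A closed set missing the fibre over a generic point misses a neighbourhood. -/
theorem exists_nhd_avoid [QuasiCompact f] {η : Y} {Z : Set X} (hZ : IsClosed Z)
    (h : ∀ z ∈ Z, ¬ f z ⤳ η) : ∃ V : Y.Opens, η ∈ V ∧ ∀ z ∈ Z, f z ∉ V := by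
  obtain ⟨_, ⟨V, hV, rfl⟩, hηV, -⟩ := Y.isBasis_affineOpens.exists_subset_of_mem_open
    (Set.mem_univ η) isOpen_univ
  replace hV : IsAffineOpen V := hV
  obtain ⟨s, hs, e⟩ := (isCompact_iff_finite_and_eq_biUnion_affineOpens (U := f ⁻¹ᵁ V)).mp
    (f.isCompact_preimage hV.isCompact)
  have hsub : ∀ U : X.affineOpens, U ∈ s →
      ∃ t : Γ(Y, V), η ∈ Y.basicOpen t ∧ ∀ z ∈ U.1, z ∈ Z → f z ∉ Y.basicOpen t := by
    rintro ⟨U, hU⟩ hUs
    have hUV : U ≤ f ⁻¹ᵁ V := by
      intro z hz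
      rw [e]
      exact Opens.mem_iSup.mpr ⟨⟨U, hU⟩, Opens.mem_iSup.mpr ⟨hUs, hz⟩⟩
    let φ := (f.appLE V U hUV).hom
    let p := (hV.primeIdealOf ⟨η, hηV⟩).asIdeal
    let I := PrimeSpectrum.vanishingIdeal (hU.fromSpec ⁻¹' Z)
    by_cases hd : Disjoint (I : Set Γ(X, U)) ((p.primeCompl.map φ : Submonoid Γ(X, U)) : Set Γ(X, U))
    · exfalso
      obtain ⟨q, hq, hIq, hqd⟩ := Ideal.exists_le_prime_disjoint I _ hd
      let z := hU.fromSpec ⟨q, hq⟩
      have hzU : z ∈ U := by
        have : z ∈ Set.range hU.fromSpec := ⟨_, rfl⟩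
        rwa [hU.range_fromSpec] at this
      have hzZ : z ∈ Z := by
        have h5 : (⟨q, hq⟩ : PrimeSpectrum Γ(X, U)) ∈ closure (hU.fromSpec ⁻¹' Z) := by
          rw [← PrimeSpectrum.zeroLocus_vanishingIdeal_eq_closure]
          exact hIq
        rw [(hZ.preimage hU.fromSpec.continuous).closure_eq] at h5
        exact h5
      refine h z hzZ ?_
      have h6 : Spec.map (f.appLE V U hUV) ⟨q, hq⟩ ⤳ hV.primeIdealOf ⟨η, hηV⟩ := by
        refine (PrimeSpectrum.le_iff_specializes _ _).mp ?_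
        intro a ha
        by_contra hap
        exact Set.disjoint_left.mp hqd ha ⟨a, hap, rfl⟩
      have h7 := h6.map hV.fromSpec.continuous
      rw [hV.fromSpec_primeIdealOf ⟨η, hηV⟩, ← Scheme.Hom.comp_apply,
        IsAffineOpen.SpecMap_appLE_fromSpec f hV hU hUV] at h7
      exact h7
    · obtain ⟨_, hI, t, ht, rfl⟩ := Set.not_disjoint_iff.mp hd
      refine ⟨t, ?_, fun z hz hzZ hzt => ?_⟩
      · have h4 : hV.primeIdealOf ⟨η, hηV⟩ ∈ hV.fromSpec ⁻¹ᵁ Y.basicOpen t := by
          rw [hV.fromSpec_preimage_basicOpen]; exact ht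
        have h5 : hV.fromSpec (hV.primeIdealOf ⟨η, hηV⟩) ∈ Y.basicOpen t := h4
        rwa [hV.fromSpec_primeIdealOf ⟨η, hηV⟩] at h5
      · have hq : hU.primeIdealOf ⟨z, hz⟩ ∈ hU.fromSpec ⁻¹' Z := by
          show hU.fromSpec _ ∈ Z
          rw [hU.fromSpec_primeIdealOf]; exact hzZ
        have h4 : φ t ∈ (hU.primeIdealOf ⟨z, hz⟩).asIdeal :=
          PrimeSpectrum.mem_vanishingIdeal _ _ |>.mp hI _ hq
        have h5 : z ∈ (X.basicOpen (U := U) (φ t) : X.Opens) := by
          show z ∈ X.basicOpen (U := U) ((f.appLE V U hUV) t)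
          rw [Scheme.Hom.appLE, CommRingCat.comp_apply, Scheme.basicOpen_res,
            ← Scheme.preimage_basicOpen]
          exact ⟨hz, hzt⟩
        have h6 : hU.primeIdealOf ⟨z, hz⟩ ∈ hU.fromSpec ⁻¹ᵁ X.basicOpen (φ t) := by
          show hU.fromSpec (hU.primeIdealOf ⟨z, hz⟩) ∈ (X.basicOpen (φ t) : X.Opens)
          rw [hU.fromSpec_primeIdealOf ⟨z, hz⟩]
          exact h5
        rw [hU.fromSpec_preimage_basicOpen] at h6
        exact h6 h4
  choose t ht₁ ht₂ using hsub
  let O : Set Y := ⋂ U : s, (Y.basicOpen (t U.1 U.2) : Set Y)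
  haveI := hs.to_subtype
  refine ⟨V ⊓ ⟨O, isOpen_iInter_of_finite fun U => (Y.basicOpen _).isOpen⟩,
    ⟨hηV, Set.mem_iInter.mpr fun U => ht₁ U.1 U.2⟩, fun z hzZ hz => ?_⟩
  have hz1 : z ∈ f ⁻¹ᵁ V := hz.1
  rw [e] at hz1
  obtain ⟨U, hz2⟩ := Opens.mem_iSup.mp hz1
  obtain ⟨hUs, hzU⟩ := Opens.mem_iSup.mp hz2
  exact ht₂ U hUs z hzU hzZ (Set.mem_iInter.mp hz.2 ⟨U, hUs⟩)

include hbij hiso in
/-- A dense open of the base over which a birational morphism is an isomorphism. -/
theorem exists_dense_open_restrict (hXfin : (irreducibleComponents X).Finite)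
    (hYfin : (irreducibleComponents Y).Finite) [LocallyOfFiniteType f]
    (hf₁ : QuasiCompact f ∨ IsSeparated f)
    (hf : (LocallyOfFiniteType f ∧ IsReduced Y) ∨ LocallyOfFinitePresentation f) :
    ∃ V : Y.Opens, Dense (V : Set Y) ∧ IsIso (f ∣_ V) := by
  obtain ⟨U, hUgen, hU⟩ := exists_dense_opens f hbij hiso hXfin hYfin hf
  obtain ⟨W, hW₁, hW₂, hW₃⟩ := exists_isolating_open hYfin
  let R := (U.ι ≫ f).opensRange
  have key : ∀ η : {y : Y // closure {y} ∈ irreducibleComponents Y},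
      ∃ V : Y.Opens, η.1 ∈ V ∧ V ≤ R ∧ f ⁻¹ᵁ V ≤ U := by
    rintro ⟨η, hη⟩
    obtain ⟨ξ, hξ, rfl⟩ := hbij.surjOn hη
    have hηR : f ξ ∈ R := ⟨⟨ξ, hUgen ξ hξ⟩, rfl⟩
    rcases hf₁ with hq | hsep
    · haveI : QuasiCompact f := hq
      obtain ⟨V, hV, hVZ⟩ := exists_nhd_avoid f (η := f ξ) U.isOpen.isClosed_compl fun z hz hs => by
        exact hz (fibre_subsingleton f hbij hiso hη hξ rfl hs ▸ hUgen ξ hξ)
      refine ⟨V ⊓ R, ⟨hV, hηR⟩, inf_le_right, fun z hz => ?_⟩
      by_contra hzU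
      exact hVZ z hzU hz.1
    · haveI : IsSeparated f := hsep
      let D := R ⊓ W (f ξ)
      let U' := U ⊓ f ⁻¹ᵁ D
      let j := X.homOfLE (inf_le_right : U' ≤ f ⁻¹ᵁ D)
      have hj : j ≫ (f ∣_ D) ≫ D.ι = X.homOfLE (inf_le_left : U' ≤ U) ≫ U.ι ≫ f := by
        simp [j]
      haveI : IsOpenImmersion (j ≫ (f ∣_ D)) := by
        haveI : IsOpenImmersion ((j ≫ (f ∣_ D)) ≫ D.ι) := by
          rw [Category.assoc, hj]; infer_instance
        exact IsOpenImmersion.of_comp _ D.ι
      haveI : Surjective (j ≫ (f ∣_ D)) := by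
        refine ⟨fun d => ?_⟩
        obtain ⟨z, hz⟩ := d.2.1
        refine ⟨⟨z.1, z.2, ?_⟩, ?_⟩
        · show f z.1 ∈ D
          have : f z.1 = d.1 := hz
          rw [this]; exact d.2
        · apply Subtype.ext
          rw [Scheme.Hom.comp_apply, morphismRestrict_base_coe]
          exact (congrArg f (Scheme.homOfLE_apply ..)).trans hz
      haveI : IsIso (j ≫ (f ∣_ D)) :=
        (isIso_iff_isOpenImmersion_and_surjective _).mpr ⟨inferInstance, inferInstance⟩
      haveI : IsClosedImmersion j := IsClosedImmersion.of_comp j (f ∣_ D)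
      refine ⟨D, ⟨hηR, hW₁ _ hη⟩, inf_le_left, fun z hz => ?_⟩
      obtain ⟨ξ', hξ', hs⟩ := exists_generic_specializes z
      have h1 : f ξ' ∈ D := (hs.map f.continuous).mem_open D.isOpen hz
      have h2 : f ξ = f ξ' := (hW₃ (f ξ') (f ξ) (f ξ') (hbij.mapsTo hξ') hη
        (hW₁ _ (hbij.mapsTo hξ')) h1.2).symm
      have h3 : ξ' ∈ U' := ⟨hUgen ξ' hξ', h1⟩
      have h4 : (⟨z, hz⟩ : (f ⁻¹ᵁ D : X.Opens).toScheme) ∈ Set.range j := by
        have h5 : (⟨ξ', h1⟩ : (f ⁻¹ᵁ D : X.Opens).toScheme) ⤳ ⟨z, hz⟩ :=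
          (f ⁻¹ᵁ D).ι.isOpenEmbedding.isInducing.specializes_iff.1 hs
        exact h5.mem_closed j.isClosedEmbedding.isClosed_range
          ⟨⟨ξ', h3⟩, Subtype.ext (Scheme.homOfLE_apply ..)⟩
      obtain ⟨w, hw⟩ := h4
      have : z = w.1 := (congrArg Subtype.val hw).symm.trans (Scheme.homOfLE_apply ..)
      rw [this]; exact w.2.1
  choose V hηV hVR hVU using key
  refine ⟨⨆ η, V η, ?_, ?_⟩
  · refine Dense.mono (s₁ := {y : Y | closure {y} ∈ irreducibleComponents Y})
      (fun y hy => Opens.mem_iSup.mpr ⟨⟨y, hy⟩, hηV _⟩) ?_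
    rw [dense_iff_closure_eq]
    exact genericPoints.closure
  · have hle : f ⁻¹ᵁ (⨆ η, V η) ≤ U := fun z hz => by
      obtain ⟨η, hη⟩ := Opens.mem_iSup.mp (show f z ∈ ⨆ η, V η from hz)
      exact hVU η hη
    haveI : IsOpenImmersion (f ∣_ (⨆ η, V η)) := by
      haveI : IsOpenImmersion ((f ∣_ (⨆ η, V η)) ≫ (⨆ η, V η).ι) := by
        rw [morphismRestrict_ι, ← Scheme.homOfLE_ι X hle, Category.assoc]
        infer_instance
      exact IsOpenImmersion.of_comp _ (⨆ η, V η).ι
    haveI : Surjective (f ∣_ (⨆ η, V η)) := by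
      refine ⟨fun d => ?_⟩
      obtain ⟨η, hη⟩ := Opens.mem_iSup.mp d.2
      obtain ⟨z, hz⟩ := hVR η hη
      have hz' : f z.1 = d.1 := hz
      exact ⟨⟨z.1, show f z.1 ∈ _ by rw [hz']; exact d.2⟩,
        Subtype.ext ((morphismRestrict_base_coe ..).trans hz')⟩
    exact (isIso_iff_isOpenImmersion_and_surjective _).mpr ⟨inferInstance, inferInstance⟩

end Groth.L19.GenericIso
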