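import Groth.Agent.L16.AffineBC.Pullback
import Groth.Agent.L19.Thick.PullGen
import Groth.Agent.L19.OmegaSh.Points
import Groth.Prelude.Def_CAlgX
import Groth.Agent.L00.LocalData
import Groth.Agent.L19.ConormalAffine
import Groth.Agent.L20.ModStalk

/-!
# Bases and generators of conormal sheaves given by a generating sequence of the ideal
-/

set_option autoImplicit false
set_option linter.style.haveILetI false
set_option backward.isDefEq.respectTransparency.types false
set_option backward.isDefEq.respectTransparency false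

universe u

open CategoryTheory CategoryTheory.Limits AlgebraicGeometry TopologicalSpace Opposite
open scoped TensorProduct

noncomputable section

namespace Groth.L19.ConormalBasis

open Groth.L18.Frame (rs ro rs_rs ro_ro rs_smul rs_self)
open _root_.OmegaSh (idealSect conormalSect)
open Groth.L19.OmegaSh (idl idealSect_injective idealSect_smul exists_idealSect app_idealSect conormalSect_smul)
open Groth.L19.Thick (gen gen_zero gen_add gen_smul span_gen_eq_top)

/-- The coefficients of a relation of a quasi-regular sequence lie in the ideal it generates. -/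
theorem coeff_mem_of_rel {T : Type u} [CommRing T] {c : ℕ} {f : Fin c → T} (hf : CAlgX.IsQuasiRegular f)
    (d : Fin c → T) (hd : ∑ j, d j * f j = 0) (k : Fin c) : d k ∈ Ideal.span (Set.range f) := by
  classical
  have h1 := hf 1 (∑ j, MvPolynomial.C (d j) * MvPolynomial.X j)
    (MvPolynomial.IsHomogeneous.sum _ _ _ fun j _ => (MvPolynomial.isHomogeneous_X T j).C_mul _)
    (by simp [hd]) (Finsupp.single k 1)
  simpa [MvPolynomial.coeff_sum, MvPolynomial.coeff_C_mul, MvPolynomial.coeff_X',
    Finsupp.single_eq_single_iff, eq_comm] using h1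

variable {Z X : Scheme.{u}}

/-- A family of sections which is a basis over every smaller open. -/
def IsBasisS (E : X.Modules) {n : ℕ} {U : X.Opens} (e : Fin n → Γ(E, U)) : Prop :=
  ∀ (V : X.Opens) (h : V ≤ U), Function.Bijective fun r : Fin n → Γ(X, V) => ∑ j, r j • rs E h (e j)

theorem IsBasisS.stalk {n : ℕ} {E : X.Modules} {U : X.Opens} {e : Fin n → Γ(E, U)} (he : IsBasisS E e) (x : X)
    (hx : x ∈ U) :
    Function.Bijective fun a : Fin n → X.presheaf.stalk x => ∑ j, a j • E.presheaf.germ U x hx (e j) := by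
  have hg : ∀ {V : X.Opens} (h : V ≤ U) (hxV : x ∈ V) (r : Fin n → Γ(X, V)),
      E.presheaf.germ V x hxV (∑ j, r j • rs E h (e j)) =
        ∑ j, (X.presheaf.germ V x hxV (r j) : X.presheaf.stalk x) • E.presheaf.germ U x hx (e j) := fun h hxV r => by
    refine (map_sum _ _ _).trans (Finset.sum_congr rfl fun j _ => ?_)
    rw [Groth.L20.ModStalk.germ_smul, Groth.L20.ModStalk.germ_rs]
  constructor
  · intro a b hab
    rw [← sub_eq_zero]
    choose V hV r hr using fun j => TopCat.Presheaf.exists_germ_eq X.presheaf ((a - b) j)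
    let V₀ : X.Opens := U ⊓ ⟨⋂ j, (V j : Set X), isOpen_iInter_of_finite fun j => (V j).isOpen⟩
    have hV₀ : x ∈ V₀ := ⟨hx, Set.mem_iInter.2 hV⟩
    have hle : ∀ j, V₀ ≤ V j := fun j => le_trans inf_le_right (fun y hy => Set.mem_iInter.1 hy j)
    let r' : Fin n → Γ(X, V₀) := fun j => ro (hle j) (r j)
    have hr' : ∀ j, X.presheaf.germ V₀ x hV₀ (r' j) = (a - b) j := fun j =>
      (TopCat.Presheaf.germ_res_apply X.presheaf _ x hV₀ (r j)).trans (hr j)
    have h0 : E.presheaf.germ V₀ x hV₀ (∑ j, r' j • rs E inf_le_left (e j)) = E.presheaf.germ V₀ x hV₀ 0 := by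
      rw [hg, map_zero]
      simp only [hr', Pi.sub_apply, sub_smul, Finset.sum_sub_distrib]
      exact sub_eq_zero.2 hab
    obtain ⟨W, hxW, i1, i2, hW⟩ := E.presheaf.germ_eq x hV₀ hV₀ _ _ h0
    have h1 : rs E i1.le (∑ j, r' j • rs E inf_le_left (e j)) = rs E i2.le 0 := hW
    rw [show rs E i2.le 0 = 0 from map_zero _,
      show rs E i1.le (∑ j, r' j • rs E inf_le_left (e j)) = ∑ j, rs E i1.le (r' j • rs E inf_le_left (e j)) from
        map_sum _ _ _] at h1
    simp only [rs_smul, rs_rs] at h1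
    have h2 : (fun j => ro i1.le (r' j)) = 0 := (he W (i1.le.trans inf_le_left)).1
      (h1.trans (Finset.sum_eq_zero fun j _ => by rw [Pi.zero_apply, zero_smul]).symm)
    funext j
    rw [← hr' j, Pi.zero_apply, ← TopCat.Presheaf.germ_res_apply X.presheaf (homOfLE i1.le) x hxW (r' j)]
    exact (congrArg (X.presheaf.germ W x hxW) (congrFun h2 j)).trans (map_zero _)
  · intro p
    obtain ⟨O, hxO, m, rfl⟩ := TopCat.Presheaf.exists_germ_eq E.presheaf p
    obtain ⟨r, hr⟩ := (he (O ⊓ U) inf_le_right).2 (rs E inf_le_left m)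
    refine ⟨fun j => X.presheaf.germ (O ⊓ U) x ⟨hxO, hx⟩ (r j), ?_⟩
    refine ((hg inf_le_right ⟨hxO, hx⟩ r).symm.trans (congrArg (E.presheaf.germ (O ⊓ U) x ⟨hxO, hx⟩) hr)).trans ?_
    exact Groth.L20.ModStalk.germ_rs (M := E) inf_le_left (x := x) ⟨hxO, hx⟩ m

theorem isQCoh_kernel {F G : X.Modules} [Coh.IsQCoh F] [Coh.IsQCoh G] (φ : F ⟶ G) :
    Coh.IsQCoh (kernel φ) := by
  refine Groth.L00.Local.isQCoh_of_tilde_charts _ fun x => ?_
  obtain ⟨_, ⟨U, hU, rfl⟩, hxU, -⟩ :=
    X.isBasis_affineOpens.exists_subset_of_mem_open (Set.mem_univ x) isOpen_univ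
  let j := hU.fromSpec
  obtain ⟨NF, ⟨eF⟩⟩ := Groth.L00.Local.exists_tilde_iso_restrict j F
  obtain ⟨NG, ⟨eG⟩⟩ := Groth.L00.Local.exists_tilde_iso_restrict j G
  obtain ⟨l, hl⟩ := (tilde.functor Γ(X, U)).map_surjective
    (eF.inv ≫ (Scheme.Modules.restrictFunctor j).map φ ≫ eG.hom)
  exact ⟨_, j, inferInstance, kernel l, hU.opensRange_fromSpec.ge hxU,
    ⟨PreservesKernel.iso (Scheme.Modules.restrictFunctor j) φ ≪≫
      kernel.mapIso _ ((tilde.functor _).map l) eF eG (by rw [hl]; simp) ≪≫
      (PreservesKernel.iso (tilde.functor _) l).symm⟩⟩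

/-- The module of a quasi-coherent ideal is quasi-coherent. -/
theorem isQCoh_idealMod (I : X.IdealSheafData) : Coh.IsQCoh (ClSub.idealMod I) := by
  haveI : Coh.IsQCoh (Coh.structureModule X) := Groth.L19.Conormal.isQCoh_structureModule X
  haveI : Coh.IsQCoh (Coh.structureModule I.subscheme) := Groth.L19.Conormal.isQCoh_structureModule _
  haveI : Coh.IsQCoh (ClSub.quotMod I) :=
    Groth.L16.QcqsPush.isQCoh_push (Coh.structureModule I.subscheme) I.subschemeι
  exact isQCoh_kernel (ClSub.toSubscheme I)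

/-- The linear map on stalks of a morphism of modules. -/
def st {M N : X.Modules} (f : M ⟶ N) (x : X) :
    M.presheaf.stalk x →ₗ[X.presheaf.stalk x] N.presheaf.stalk x :=
  ((Groth.L00.Stk.F X x).map f).hom

theorem st_germ {M N : X.Modules} (f : M ⟶ N) {U : X.Opens} {x : X} (hx : x ∈ U) (s : Γ(M, U)) :
    st f x (M.presheaf.germ U x hx s) = N.presheaf.germ U x hx (f.app U s) :=
  DerSch.stalkFunctor_map_germ x f U hx s

theorem st_id {M : X.Modules} (x : X) (v : M.presheaf.stalk x) : st (𝟙 M) x v = v := by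
  simp only [st, CategoryTheory.Functor.map_id]
  rfl

theorem st_comp {M N P : X.Modules} (f : M ⟶ N) (g : N ⟶ P) (x : X) (v : M.presheaf.stalk x) :
    st (f ≫ g) x v = st g x (st f x v) := by
  simp only [st, Functor.map_comp]
  rfl

theorem st_sum {ι : Type*} (s : Finset ι) {M N : X.Modules} (f : ι → (M ⟶ N)) (x : X) (v : M.presheaf.stalk x) :
    st (∑ j ∈ s, f j) x v = ∑ j ∈ s, st (f j) x v := by
  haveI : (Groth.L00.Stk.F X x).Additive := DerSch.additive_stalkFunctor x
  simp only [st, Functor.map_sum]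
  exact LinearMap.congr_fun (map_sum (ModuleCat.homAddEquiv (M := (Groth.L00.Stk.F X x).obj M)
    (N := (Groth.L00.Stk.F X x).obj N)).toAddMonoidHom _ s) v |>.trans (LinearMap.sum_apply _ _ _)

/-- Bases on affine opens are bases. -/
theorem isBasisS_of_affine {n : ℕ} {E : X.Modules} {U : X.Opens} (e : Fin n → Γ(E, U))
    (H : ∀ (V : X.affineOpens) (h : V.1 ≤ U),
      Function.Bijective fun r : Fin n → Γ(X, V.1) => ∑ j, r j • rs E h (e j)) : IsBasisS E e := by
  have hsum : ∀ {V W : X.Opens} (hWV : W ≤ V) (hV : V ≤ U) (r : Fin n → Γ(X, V)),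
      rs E hWV (∑ j, r j • rs E hV (e j)) = ∑ j, ro hWV (r j) • rs E (hWV.trans hV) (e j) := by
    intro V W hWV hV r
    rw [show rs E hWV (∑ j, r j • rs E hV (e j)) = ∑ j, rs E hWV (r j • rs E hV (e j)) from map_sum _ _ _]
    simp only [rs_smul, rs_rs]
  have hP : ∀ (x : X) (O : X.Opens), x ∈ O → ∃ W : X.affineOpens, True ∧ x ∈ W.1 ∧ W.1 ≤ O := fun x O hx => by
    obtain ⟨_, ⟨W, hW, rfl⟩, hxW, hWO⟩ := X.isBasis_affineOpens.exists_subset_of_mem_open hx O.2
    exact ⟨⟨W, hW⟩, trivial, hxW, hWO⟩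
  intro V hVU
  constructor
  · intro r r' hr
    funext j
    have key : ∀ (W : X.affineOpens) (hWV : W.1 ≤ V),
        (fun l => ro hWV (r l)) = fun l => ro hWV (r' l) := fun W hWV => by
      refine (H W (hWV.trans hVU)).1 ?_
      have := congrArg (rs E hWV) hr
      rwa [hsum, hsum] at this
    obtain ⟨s, -, hu⟩ := Groth.L19.OmegaSh.existsUnique_glue (Coh.structureModule X) (fun _ => True)
      hP V (fun W _ hW => ro hW (r j)) (fun W W' _ _ hZ hZ' hh => ro_ro _ _ _)
    exact (hu (r j) fun W _ hW => rfl).trans (hu (r' j) fun W _ hW => (congrFun (key W hW) j).symm).symm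
  · intro s
    have hc : ∀ (W : X.affineOpens) (hW : W.1 ≤ V), ∃ r : Fin n → Γ(X, W.1),
        ∑ j, r j • rs E (hW.trans hVU) (e j) = rs E hW s := fun W hW => (H W _).2 _
    choose r hr using hc
    have hco : ∀ (W W' : X.affineOpens) (hW : W.1 ≤ V) (hW' : W'.1 ≤ V) (hh : W'.1 ≤ W.1),
        (fun j => ro hh (r W hW j)) = r W' hW' := by
      intro W W' hW hW' hh
      refine (H W' (hW'.trans hVU)).1 ?_
      have := congrArg (rs E hh) (hr W hW)
      rw [hsum, rs_rs] at this
      exact this.trans (hr W' hW').symm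
    choose t ht hu using fun j => Groth.L19.OmegaSh.existsUnique_glue (Coh.structureModule X) (fun _ => True)
      hP V (fun W _ hW => r W hW j) (fun W W' _ _ hW hW' hh => congrFun (hco W W' hW hW' hh) j)
    refine ⟨t, ?_⟩
    obtain ⟨s', hs', hu'⟩ := Groth.L19.OmegaSh.existsUnique_glue E (fun _ => True) hP V
      (fun W _ hW => rs E hW s) (fun W W' _ _ hZ hZ' hh => rs_rs _ _ _ _)
    refine (hu' _ fun W _ hW => ?_).trans (hu' s fun W _ hW => rfl).symm
    rw [hsum, ← hr W hW]
    exact Finset.sum_congr rfl fun j _ => congrArg (· • _) (ht j W trivial hW)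

theorem idealSect_sum {i : Z ⟶ X} {U : X.Opens} {c : ℕ} {f : Fin c → Γ(X, U)}
    {el : Fin c → Γ(idl i, U)} (hel : ∀ k, idealSect i.ker U (el k) = f k) (a : Fin c → Γ(X, U)) :
    idealSect i.ker U (∑ k, a k • el k) = ∑ k, a k * f k :=
  (map_sum _ _ _).trans (Finset.sum_congr rfl fun k _ => by rw [idealSect_smul, hel])

/-- Sections generating the ideal generate its sections. -/
theorem exists_comb {i : Z ⟶ X} {U : X.Opens} {c : ℕ} {f : Fin c → Γ(X, U)}
    (hJ : Ideal.span (Set.range f) = RingHom.ker (i.app U).hom)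
    {el : Fin c → Γ(idl i, U)} (hel : ∀ k, idealSect i.ker U (el k) = f k) (s : Γ(idl i, U)) :
    ∃ a : Fin c → Γ(X, U), ∑ k, a k • el k = s := by
  have h : idealSect i.ker U s ∈ Ideal.span (Set.range f) := by
    rw [hJ, RingHom.mem_ker]
    exact app_idealSect i U s
  obtain ⟨a, ha⟩ := Ideal.mem_span_range_iff_exists_fun.1 h
  exact ⟨a, idealSect_injective (i := i) U ((idealSect_sum hel a).trans ha)⟩

/-- For a quasi-regular sequence generating the ideal, the classes are a basis. -/
theorem isBasisS_conormalSect (i : Z ⟶ X) [QuasiCompact i] (U : X.affineOpens)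
    {c : ℕ} {f : Fin c → Γ(X, U.1)} (hf : CAlgX.IsQuasiRegular f)
    (hJ : Ideal.span (Set.range f) = RingHom.ker (i.app U.1).hom)
    {el : Fin c → Γ(idl i, U.1)} (hel : ∀ k, idealSect i.ker U.1 (el k) = f k) :
    IsBasisS (Omega.conormal i) (fun k => conormalSect i U.1 (el k)) := by
  classical
  refine isBasisS_of_affine _ fun V h => ?_
  let T := Γ(X, U.1)
  let A := Γ(Z, V.1)
  let M := ClSub.idealMod i.ker
  letI algTA : Algebra T A := (i.appLE U.1 V.1 h).hom.toAlgebra
  letI := Module.compHom Γ((Scheme.Modules.pullback i).obj M, V.1) (i.appLE U.1 V.1 h).hom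
  haveI : IsScalarTower T A Γ((Scheme.Modules.pullback i).obj M, V.1) :=
    IsScalarTower.of_algebraMap_smul fun _ _ => rfl
  haveI : Coh.IsQCoh M := isQCoh_idealMod _
  have hbc : IsBaseChange A (Groth.L16.AffineBC.pullRes i M h) :=
    Groth.L16.AffineBC.isBaseChange_pull i M U.2 V.2 h
  have hal : ∀ a : T, i.app U.1 a = 0 → algebraMap T A a = 0 := fun a ha => by
    show i.appLE U.1 V.1 h a = 0
    rw [Scheme.Hom.appLE]
    show Z.presheaf.map _ (i.app U.1 a) = 0
    rw [ha]
    exact map_zero _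
  have hwd : ∀ a b : Fin c → T, ∑ k, a k • el k = ∑ k, b k • el k →
      ∀ k, algebraMap T A (a k) = algebraMap T A (b k) := by
    intro a b hab k
    rw [← sub_eq_zero, ← map_sub]
    refine hal _ (RingHom.mem_ker.1 ?_)
    rw [← hJ]
    refine coeff_mem_of_rel hf (fun j => a j - b j) ?_ k
    rw [← idealSect_sum hel]
    simp only [sub_smul, Finset.sum_sub_distrib, hab, sub_self, map_zero]
  choose co hco using exists_comb hJ hel
  let κ : Γ(M, U.1) →ₗ[T] (Fin c → A) :=
    { toFun := fun s k => algebraMap T A (co s k)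
      map_add' := fun s t => funext fun k => by
        rw [Pi.add_apply, ← map_add]
        exact hwd _ (fun j => co s j + co t j) (by simp only [add_smul, Finset.sum_add_distrib, hco]) k
      map_smul' := fun r s => funext fun k => by
        rw [RingHom.id_apply, Pi.smul_apply, Algebra.smul_def, ← map_mul]
        exact hwd _ (fun j => r * co s j) (by simp only [mul_smul, ← Finset.smul_sum, hco]) k }
  let ψ := hbc.lift κ
  let P := Groth.L16.AffineBC.pullRes i M h
  have hP : ∀ k, rs (Omega.conormal i) h (conormalSect i U.1 (el k)) = P (el k) := fun k => rfl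
  have hψ : ∀ k, ψ (P (el k)) = Pi.single k 1 := fun k => by
    rw [IsBaseChange.lift_eq]
    funext j
    show algebraMap T A (co (el k) j) = _
    rw [hwd _ (Pi.single k (1 : T)) ((hco (el k)).trans (by simp [Pi.single_apply])) j]
    simp [Pi.single_apply]
  constructor
  · intro r r' hr
    have : ∀ a : Fin c → A, ψ (∑ k, a k • rs (Omega.conormal i) h (conormalSect i U.1 (el k))) = a := fun a => by
      refine (map_sum ψ _ _).trans ?_
      funext j
      simp [hP, hψ, Pi.single_apply]
    rw [← this r, ← this r']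
    exact congrArg ψ hr
  · intro y
    induction y using hbc.inductionOn with
    | zero => exact ⟨0, by simp⟩
    | tmul s =>
      refine ⟨fun k => algebraMap T A (co s k), ?_⟩
      show _ = P s
      rw [← hco s, map_sum]
      refine Finset.sum_congr rfl fun k _ => ?_
      rw [map_smul, hco s, hP]
      exact (IsScalarTower.algebraMap_smul A (co s k) _)
    | smul r y hy =>
      obtain ⟨a, ha⟩ := hy
      exact ⟨fun k => r * a k, by rw [← ha, Finset.smul_sum]; simp [mul_smul]⟩
    | add y y' hy hy' =>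
      obtain ⟨a, ha⟩ := hy
      obtain ⟨a', ha'⟩ := hy'
      exact ⟨a + a', by rw [← ha, ← ha']; simp [add_smul, Finset.sum_add_distrib]⟩

variable {W : Scheme.{u}} {g : W ⟶ Z} {i : Z ⟶ X} {z : W}

theorem gen_sum {U : X.Opens} (hU : z ∈ g ⁻¹ᵁ (i ⁻¹ᵁ U)) {ι : Type*} (S : Finset ι) (s : ι → Γ(idl i, U)) :
    gen g i z U hU (∑ k ∈ S, s k) = ∑ k ∈ S, gen g i z U hU (s k) := by
  classical
  induction S using Finset.induction_on with
  | empty => rw [Finset.sum_empty, Finset.sum_empty, gen_zero]
  | insert b S hb ih => rw [Finset.sum_insert hb, Finset.sum_insert hb, gen_add, ih]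

/-- The germs of the classes of generators of the ideal span the stalk of the pulled back conormal sheaf. -/
theorem span_gen_el_eq_top [QuasiCompact i] (U : X.affineOpens) (hU : z ∈ g ⁻¹ᵁ (i ⁻¹ᵁ U.1))
    {c : ℕ} {f : Fin c → Γ(X, U.1)} (hJ : Ideal.span (Set.range f) = RingHom.ker (i.app U.1).hom)
    {el : Fin c → Γ(idl i, U.1)} (hel : ∀ k, idealSect i.ker U.1 (el k) = f k) :
    Submodule.span (W.presheaf.stalk z) (Set.range fun k => gen g i z U.1 hU (el k)) = ⊤ := by
  refine eq_top_iff.mpr ?_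
  rw [← span_gen_eq_top U hU]
  refine Submodule.span_le.2 ?_
  rintro _ ⟨s, rfl⟩
  obtain ⟨a, rfl⟩ := exists_comb hJ hel s
  rw [gen_sum]
  refine Submodule.sum_mem _ fun k _ => ?_
  rw [gen_smul]
  exact Submodule.smul_mem _ _ (Submodule.subset_span ⟨k, rfl⟩)

end Groth.L19.ConormalBasis
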