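import Groth.Agent.L20.SchDesc.Main
import Groth.Agent.L20.SchDesc.Sigma
import Groth.Agent.L20.QuasiAffine
import Groth.Agent.L27.Torsor.Cov
import Groth.Agent.L25.DescHom
import Groth.Agent.L09.TorsorSch

/-!
Extension of the structure group of fpqc torsors under affine group schemes.
-/

universe u

open CategoryTheory CategoryTheory.Limits MonoidalCategory CartesianMonoidalCategory MonObj
open AlgebraicGeometry

namespace Groth.L19.TorsorPush

set_option backward.isDefEq.respectTransparency.types false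
set_option backward.isDefEq.respectTransparency false
set_option linter.style.haveILetI false

open Groth.L25.Actions (one_act mul_act)

variable {S : Scheme.{u}} {J J' P T : Over S} [GrpObj J] [GrpObj J'] (u : J ⟶ J') [IsMonHom u]
variable (a : AlgGrp.Action J P) (σ : T ⟶ P)

theorem u_mul {W : Over S} (g h : W ⟶ J) : (g * h) ≫ u = (g ≫ u) * (h ≫ u) := by
  simp only [Hom.mul_def, Category.assoc, IsMonHom.mul_hom]
  rw [← Category.assoc]
  congr 1
  ext1 <;> simp

theorem u_one {W : Over S} : (1 : W ⟶ J) ≫ u = 1 := by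
  simp only [Hom.one_def, Category.assoc, IsMonHom.one_hom]

variable (h : IsIso (lift a.act (snd J P)))

/-- The translation from `y` to `x`. -/
noncomputable def tr {W : Over S} (x y : W ⟶ P) : W ⟶ J :=
  (Groth.L27.Torsor.exists_act_eq h y x).choose

theorem tr_spec {W : Over S} (x y : W ⟶ P) : lift (tr a h x y) y ≫ a.act = x :=
  (Groth.L27.Torsor.exists_act_eq h y x).choose_spec

theorem tr_unique {W : Over S} {x y : W ⟶ P} {g : W ⟶ J} (e : lift g y ≫ a.act = x) :
    tr a h x y = g :=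
  Groth.L27.Torsor.act_injective h ((tr_spec a h x y).trans e.symm)

theorem tr_self {W : Over S} (x : W ⟶ P) : tr a h x x = 1 := tr_unique a h (one_act a x)

theorem tr_trans {W : Over S} (x y z : W ⟶ P) : tr a h x y * tr a h y z = tr a h x z :=
  (tr_unique a h (by rw [mul_act, tr_spec, tr_spec])).symm

theorem tr_comp {W W' : Over S} (j : W' ⟶ W) (x y : W ⟶ P) :
    j ≫ tr a h x y = tr a h (j ≫ x) (j ≫ y) :=
  (tr_unique a h (by rw [← comp_lift, Category.assoc, tr_spec])).symm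

/-- Moving a point of `J' × T` over another point of `T`. -/
noncomputable def move {W : Over S} (v : W ⟶ J' ⊗ T) (x : W ⟶ T) : W ⟶ J' ⊗ T :=
  lift ((v ≫ fst J' T) * (tr a h (v ≫ snd J' T ≫ σ) (x ≫ σ) ≫ u)) x

theorem move_snd {W : Over S} (v : W ⟶ J' ⊗ T) (x : W ⟶ T) : move u a σ h v x ≫ snd J' T = x :=
  lift_snd _ _

theorem move_self {W : Over S} (v : W ⟶ J' ⊗ T) (x : W ⟶ T) (e : x = v ≫ snd J' T) :
    move u a σ h v x = v := by
  subst e
  rw [move, Category.assoc, tr_self, u_one, _root_.mul_one, lift_comp_fst_snd]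

theorem move_move {W : Over S} (v : W ⟶ J' ⊗ T) (x y : W ⟶ T) :
    move u a σ h (move u a σ h v x) y = move u a σ h v y := by
  simp only [move, lift_fst, lift_snd_assoc]
  rw [_root_.mul_assoc, ← u_mul, tr_trans]

theorem move_comp {W W' : Over S} (j : W' ⟶ W) (v : W ⟶ J' ⊗ T) (x : W ⟶ T) :
    j ≫ move u a σ h v x = move u a σ h (j ≫ v) (j ≫ x) := by
  simp only [move, comp_lift, MonObj.comp_mul, Category.assoc]
  rw [← Category.assoc j (tr a h _ _), tr_comp]

theorem move_left_mul {W : Over S} (g : W ⟶ J') (v : W ⟶ J' ⊗ T) (x : W ⟶ T) :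
    move u a σ h (lift (g * (v ≫ fst J' T)) (v ≫ snd J' T)) x =
      lift (g * (move u a σ h v x ≫ fst J' T)) x := by
  simp only [move, lift_fst, lift_snd_assoc, Category.assoc, _root_.mul_assoc]

/-- A point as a point over the base. -/
noncomputable abbrev hv {Q : Scheme.{u}} (v : Q ⟶ (J' ⊗ T).left) : Over.mk (v ≫ (J' ⊗ T).hom) ⟶ J' ⊗ T :=
  Over.homMk v rfl

theorem base_eq {Q : Scheme.{u}} (v : Q ⟶ (J' ⊗ T).left) (x : Q ⟶ T.left)
    (e : v ≫ (snd J' T).left ≫ T.hom = x ≫ T.hom) : x ≫ T.hom = v ≫ (J' ⊗ T).hom := by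
  rw [← e, Over.w (snd J' T)]

/-- The descent datum. -/
noncomputable def pre : Groth.L20.SchDesc.Pre T.hom (snd J' T).left where
  act v x e := (move u a σ h (hv v) (Over.homMk x (base_eq v x e))).left
  hom v x e := congrArg CommaMorphism.left (move_snd u a σ h (hv v) (Over.homMk x (base_eq v x e)))
  natural {Q Q'} g v x e e' := by
    let G : Over.mk ((g ≫ v) ≫ (J' ⊗ T).hom) ⟶ Over.mk (v ≫ (J' ⊗ T).hom) :=
      Over.homMk g (Category.assoc _ _ _).symm
    have h1 := congrArg CommaMorphism.left (move_comp u a σ h G (hv v) (Over.homMk x (base_eq v x e)))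
    refine Eq.trans ?_ h1.symm
    congr 2 <;> exact Over.OverMorphism.ext rfl
  self {Q} v e := congrArg CommaMorphism.left (move_self u a σ h (hv v) _ (Over.OverMorphism.ext rfl))
  comp {Q} v x y e e' e'' := by
    let X' : Over.mk (v ≫ (J' ⊗ T).hom) ⟶ T := Over.homMk x (base_eq v x e)
    let Y' : Over.mk (v ≫ (J' ⊗ T).hom) ⟶ T := Over.homMk y (base_eq v y e'')
    have h1 := congrArg CommaMorphism.left (move_move u a σ h (hv v) X' Y')
    let w := move u a σ h (hv v) X'
    let G : Over.mk (w.left ≫ (J' ⊗ T).hom) ⟶ Over.mk (v ≫ (J' ⊗ T).hom) :=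
      Over.homMk (𝟙 Q) ((Category.id_comp _).trans (Over.w w).symm)
    have h2 := congrArg CommaMorphism.left (move_comp u a σ h G w Y')
    refine Eq.trans ?_ h1
    refine Eq.trans ?_ (h2.symm.trans (Category.id_comp _))
    congr 2 <;> exact Over.OverMorphism.ext (Category.id_comp _).symm

theorem pre_act {W : Over S} (v : W ⟶ J' ⊗ T) (x : W ⟶ T)
    (e : v.left ≫ (snd J' T).left ≫ T.hom = x.left ≫ T.hom) :
    (pre u a σ h).act v.left x.left e = (move u a σ h v x).left := by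
  let G : Over.mk (v.left ≫ (J' ⊗ T).hom) ⟶ W :=
    Over.homMk (𝟙 _) ((Category.id_comp _).trans (Over.w v).symm)
  have h2 := congrArg CommaMorphism.left (move_comp u a σ h G v x)
  refine Eq.trans ?_ (h2.symm.trans (Category.id_comp _))
  show (move u a σ h (hv v.left) _).left = _
  congr 2 <;> exact Over.OverMorphism.ext (Category.id_comp _).symm

omit [IsMonHom u] in
theorem isIso_of_cov {A B T : Over S} (hT : Groth.L27.Torsor.Cov (toUnit T)) (f : A ⟶ B) [IsIso (f ▷ T)] :
    IsIso f := by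
  obtain ⟨g, hg⟩ := Groth.L27.Torsor.descend (Groth.L27.Torsor.cov_fst hT B)
    (inv (f ▷ T) ≫ fst A T) (fun W b₁ b₂ e => by
      let w₁ := b₁ ≫ inv (f ▷ T)
      let w₂ := b₂ ≫ inv (f ▷ T)
      have e1 : w₁ ≫ (f ▷ T) = b₁ := by simp [w₁]
      have e2 : w₂ ≫ (f ▷ T) = b₂ := by simp [w₂]
      have h3 : lift (w₂ ≫ fst A T) (w₁ ≫ snd A T) ≫ (f ▷ T) = w₁ ≫ (f ▷ T) := by
        rw [e1]
        ext1
        · have h4 : (w₂ ≫ (f ▷ T)) ≫ fst B T = b₂ ≫ fst B T := by rw [e2]
          simp only [Category.assoc, whiskerRight_fst] at h4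
          simp only [lift_whiskerRight, lift_fst, Category.assoc]
          rw [h4, ← e]
        · have h5 : (w₁ ≫ (f ▷ T)) ≫ snd B T = b₁ ≫ snd B T := by rw [e1]
          simp only [Category.assoc, whiskerRight_snd] at h5
          simp [h5]
      have := congrArg (· ≫ fst A T) ((cancel_mono (f ▷ T)).1 h3)
      simpa [w₁, w₂] using this.symm)
  refine ⟨g, ?_, ?_⟩
  · refine Groth.L27.Torsor.cancel (Groth.L27.Torsor.cov_fst hT A) ?_
    rw [← whiskerRight_fst_assoc, hg, IsIso.hom_inv_id_assoc, Category.comp_id]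
  · refine Groth.L27.Torsor.cancel (Groth.L27.Torsor.cov_fst hT B) ?_
    rw [reassoc_of% hg, Category.comp_id, IsIso.inv_comp_eq]
    simp

include σ h in
/-- The pushed out torsor along a trivialising covering. -/
theorem exists_push [IsAffineHom J'.hom] [Groth.L20.SchDesc.Cov T.hom]
    (hT : Groth.L27.Torsor.Cov (toUnit T)) :
    ∃ (P' : Over S) (a' : AlgGrp.Action J' P') (_ : T ⟶ P') (f : P ⟶ P'),
      IsIso (lift a'.act (snd J' P')) ∧
      a.act ≫ f = lift (fst J P ≫ u) (snd J P ≫ f) ≫ a'.act := by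
  haveI : IsAffineHom (snd J' T).left := by
    simp only [Over.snd_left]
    exact MorphismProperty.pullback_snd _ _ inferInstance
  have hqa : MoreMor.IsIndQuasiAffineHom (snd J' T).left :=
    Groth.L20.isIndQuasiAffineHom_of_isQuasiAffineHom _ ⟨inferInstance, fun V hV => by
      haveI : IsAffine ((snd J' T).left ⁻¹ᵁ V : Scheme.{u}) := hV.preimage (snd J' T).left
      infer_instance⟩
  obtain ⟨d⟩ := Groth.L20.SchDesc.effective_of_isIndQuasiAffineHom hqa (pre u a σ h)
  let P' : Over S := Over.mk d.a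
  let q : J' ⊗ T ⟶ P' := Over.homMk d.q (d.isPullback.w.symm.trans (Over.w (snd J' T)))
  have sq : IsPullback (snd J' T).left q.left T.hom P'.hom := d.isPullback
  have hinv : ∀ {W : Over S} (v : W ⟶ J' ⊗ T) (x : W ⟶ T), move u a σ h v x ≫ q = v ≫ q := by
    intro W v x
    have e : v.left ≫ (snd J' T).left ≫ T.hom = x.left ≫ T.hom := by
      rw [Over.w (snd J' T), Over.w v, Over.w x]
    refine Over.OverMorphism.ext ?_
    show (move u a σ h v x).left ≫ d.q = v.left ≫ d.q
    rw [← pre_act u a σ h v x e, d.comm _ _ e]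
  have heq : ∀ {W : Over S} (v w : W ⟶ J' ⊗ T), v ≫ q = w ≫ q → move u a σ h v (w ≫ snd J' T) = w := by
    intro W v w hvw
    have e : v.left ≫ (snd J' T).left ≫ T.hom = (w ≫ snd J' T).left ≫ T.hom := by
      rw [Over.w (snd J' T), Over.w v, Over.w (w ≫ snd J' T)]
    refine Over.OverMorphism.ext ?_
    rw [← pre_act u a σ h v (w ≫ snd J' T) e]
    exact d.act_eq v.left w.left (congrArg CommaMorphism.left hvw) e
  have hpb : IsPullback q (snd J' T) (toUnit P') (toUnit T) := by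
    refine IsPullback.of_map_of_faithful (Over.forget S) ?_
    exact sq.flip.of_iso (Iso.refl _) (Iso.refl _) (Iso.refl _) (Iso.refl _) (by simp) (by simp) (by simp) (by simp)
  have hq : Groth.L27.Torsor.Cov q := Groth.L27.Torsor.Cov.of_isPullback hpb.flip hT
  -- the action
  obtain ⟨m, hm⟩ := Groth.L27.Torsor.descend (hq.whiskerLeft J')
    (lift (fst J' (J' ⊗ T) * (snd J' (J' ⊗ T) ≫ fst J' T)) (snd J' (J' ⊗ T) ≫ snd J' T) ≫ q)
    (fun W b₁ b₂ e => by
      have e1 : b₁ ≫ fst J' (J' ⊗ T) = b₂ ≫ fst J' (J' ⊗ T) := by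
        simpa using e =≫ fst J' P'
      have e2 : (b₁ ≫ snd J' (J' ⊗ T)) ≫ q = (b₂ ≫ snd J' (J' ⊗ T)) ≫ q := by
        simpa using e =≫ snd J' P'
      simp only [← Category.assoc, comp_lift, MonObj.comp_mul]
      rw [← hinv (lift (b₁ ≫ fst J' (J' ⊗ T) * ((b₁ ≫ snd J' (J' ⊗ T)) ≫ fst J' T))
        ((b₁ ≫ snd J' (J' ⊗ T)) ≫ snd J' T)) ((b₂ ≫ snd J' (J' ⊗ T)) ≫ snd J' T), move_left_mul,
        heq _ _ e2, e1])
  have act_pt : ∀ {W : Over S} (g : W ⟶ J') (v : W ⟶ J' ⊗ T),
      lift g (v ≫ q) ≫ m = lift (g * (v ≫ fst J' T)) (v ≫ snd J' T) ≫ q := by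
    intro W g v
    have h1 : lift g (v ≫ q) = lift g v ≫ (J' ◁ q) := by simp
    rw [h1, Category.assoc, hm, ← Category.assoc, comp_lift, MonObj.comp_mul, lift_fst,
      lift_snd_assoc, lift_snd_assoc]
  let a' : AlgGrp.Action J' P' :=
    { act := m
      one_act := by
        refine Groth.L27.Torsor.cancel (hq.whiskerLeft (𝟙_ (Over S))) ?_
        rw [← Category.assoc, whisker_exchange, Category.assoc, hm, leftUnitor_hom, whiskerLeft_snd,
          ← Category.assoc, comp_lift, MonObj.comp_mul, whiskerRight_fst, whiskerRight_snd_assoc,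
          whiskerRight_snd_assoc]
        rw [show fst (𝟙_ (Over S)) (J' ⊗ T) ≫ η[J'] = 1 by
          rw [Hom.one_def]; exact congrArg (· ≫ η[J']) (Subsingleton.elim _ _), _root_.one_mul,
          ← comp_lift, lift_fst_snd, Category.comp_id]
      mul_act := by
        refine Groth.L27.Torsor.cancel (hq.whiskerLeft (J' ⊗ J')) ?_
        let g₁ : (J' ⊗ J') ⊗ (J' ⊗ T) ⟶ J' := fst _ _ ≫ fst J' J'
        let g₂ : (J' ⊗ J') ⊗ (J' ⊗ T) ⟶ J' := fst _ _ ≫ snd J' J'
        let v : (J' ⊗ J') ⊗ (J' ⊗ T) ⟶ J' ⊗ T := snd _ _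
        have h1 : ((J' ⊗ J') ◁ q) ≫ (μ[J'] ▷ P') = lift (g₁ * g₂) (v ≫ q) := by
          ext1
          · simp only [Category.assoc, whiskerRight_fst, whiskerLeft_fst_assoc, lift_fst, g₁, g₂]
            rw [Hom.mul_def, ← comp_lift, Category.assoc, lift_fst_snd, Category.id_comp]
          · simp [v]
        have h2 : ((J' ⊗ J') ◁ q) ≫ (α_ J' J' P').hom = lift g₁ (lift g₂ (v ≫ q)) := by
          ext1
          · simp [g₁]
          · ext1 <;> simp [g₂, v]
        rw [← Category.assoc, h1, ← Category.assoc ((J' ⊗ J') ◁ q) (α_ J' J' P').hom, h2, act_pt,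
          ← Category.assoc (lift g₁ _), lift_whiskerLeft, act_pt g₂, act_pt g₁, lift_fst, lift_snd,
          _root_.mul_assoc] }
  have act_pt' : ∀ {W : Over S} (g : W ⟶ J') (v : W ⟶ J' ⊗ T),
      lift g (v ≫ q) ≫ a'.act = lift (g * (v ≫ fst J' T)) (v ≫ snd J' T) ≫ q := act_pt
  let e₀ : T ⟶ P' := lift 1 (𝟙 T) ≫ q
  haveI : IsIso (Groth.L09.TorsorSch.trivMap a' e₀) := by
    have h1 : Groth.L09.TorsorSch.trivMap a' e₀ = lift q (snd J' T) := by
      ext1
      · rw [Groth.L09.TorsorSch.trivMap, lift_fst, lift_fst]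
        have h2 : (J' ◁ e₀) = lift (fst J' T) ((snd J' T ≫ lift 1 (𝟙 T)) ≫ q) := by
          ext1 <;> simp [e₀, comp_lift_assoc, MonObj.comp_one]
        rw [h2, act_pt', Category.assoc, lift_fst, MonObj.comp_one, _root_.mul_one, Category.assoc, lift_snd,
          Category.comp_id, lift_fst_snd, Category.id_comp]
      · simp [Groth.L09.TorsorSch.trivMap]
    rw [h1]
    refine ⟨hpb.lift (fst P' T) (snd P' T) (Subsingleton.elim _ _), hpb.hom_ext ?_ ?_, ?_⟩
    · simp
    · simp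
    · ext1 <;> simp
  haveI := Groth.L09.TorsorSch.isIso_whiskerRight_of_trivMap a' e₀
  refine ⟨P', a', e₀, ?_⟩
  -- the map from the torsor
  obtain ⟨f, hf⟩ := Groth.L27.Torsor.descend (Groth.L27.Torsor.cov_fst hT P)
    (lift (tr a h (fst P T) (snd P T ≫ σ) ≫ u) (snd P T) ≫ q) (fun W b₁ b₂ e => by
      rw [← Category.assoc, ← Category.assoc, comp_lift, comp_lift, ← Category.assoc, ← Category.assoc b₂,
        tr_comp, tr_comp]
      rw [← hinv (lift (tr a h (b₁ ≫ fst P T) (b₁ ≫ snd P T ≫ σ) ≫ u) (b₁ ≫ snd P T)) (b₂ ≫ snd P T),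
        move, lift_fst, lift_snd_assoc, Category.assoc b₁, ← u_mul, Category.assoc b₂, tr_trans, e])
  refine ⟨f, isIso_of_cov hT (lift a'.act (snd J' P')), ?_⟩
  refine Groth.L27.Torsor.cancel (Groth.L27.Torsor.cov_fst hT (J ⊗ P)) ?_
  let g : (J ⊗ P) ⊗ T ⟶ J := fst _ _ ≫ fst J P
  let p : (J ⊗ P) ⊗ T ⟶ P := fst _ _ ≫ snd J P
  let t : (J ⊗ P) ⊗ T ⟶ T := snd _ _
  have f_pt : ∀ {W : Over S} (y : W ⟶ P) (s : W ⟶ T),
      y ≫ f = lift (tr a h y (s ≫ σ) ≫ u) s ≫ q := by
    intro W y s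
    have h1 := lift y s ≫= hf
    rw [lift_fst_assoc, ← Category.assoc, comp_lift, ← Category.assoc, tr_comp, lift_fst,
      lift_snd_assoc, lift_snd] at h1
    exact h1
  have h3 : fst (J ⊗ P) T ≫ a.act = lift g p ≫ a.act := by
    congr 1
    ext1 <;> simp [g, p]
  rw [← Category.assoc, h3, f_pt _ t, ← Category.assoc (fst (J ⊗ P) T), comp_lift]
  rw [← Category.assoc (fst (J ⊗ P) T), ← Category.assoc (fst (J ⊗ P) T),
    show fst (J ⊗ P) T ≫ snd J P = p from rfl, show fst (J ⊗ P) T ≫ fst J P = g from rfl,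
    f_pt p t, act_pt', lift_fst, lift_snd, ← u_mul]
  congr 3
  exact tr_unique a h (by rw [mul_act, tr_spec])

end Groth.L19.TorsorPush
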