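import Mathlib.RingTheory.Idempotents
import Mathlib.RingTheory.Flat.Equalizer
import Mathlib.LinearAlgebra.TensorProduct.Quotient
import Mathlib.Algebra.Module.Projective
import Mathlib.RingTheory.Nilpotent.Basic

/-!
# Projective modules along nilpotent thickenings (arbitrary rank)
-/

set_option autoImplicit false
set_option linter.style.haveILetI false
set_option backward.isDefEq.respectTransparency.types false
set_option backward.isDefEq.respectTransparency false

universe u v w

open TensorProduct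

namespace Groth.L19.ProjNil

variable {A : Type u} [CommRing A] (I : Ideal A)

theorem mem_smul_top_of_mk_eq_zero {M : Type*} [AddCommGroup M] [Module A M] {x : M}
    (hx : (1 : A ⧸ I) ⊗ₜ[A] x = 0) : x ∈ I • (⊤ : Submodule A M) := by
  have h := congrArg (quotTensorEquivQuotSMul M I) hx
  rw [quotTensorEquivQuotSMul_mk_one_tmul, map_zero] at h
  exact (Submodule.Quotient.mk_eq_zero _).mp h

theorem mk_eq_zero_of_mem_smul_top {M : Type*} [AddCommGroup M] [Module A M] {x : M}
    (hx : x ∈ I • (⊤ : Submodule A M)) : (1 : A ⧸ I) ⊗ₜ[A] x = 0 := by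
  apply (quotTensorEquivQuotSMul M I).injective
  rw [quotTensorEquivQuotSMul_mk_one_tmul, map_zero]
  exact (Submodule.Quotient.mk_eq_zero _).mpr hx

theorem le_pow_smul_of_le {M : Type*} [AddCommGroup M] [Module A M] {N K : Submodule A M}
    (h : N ≤ I • N ⊔ K) (m : ℕ) : N ≤ I ^ m • N ⊔ K := by
  induction m with
  | zero => simp
  | succ m ih =>
    refine ih.trans (sup_le ?_ le_sup_right)
    refine (smul_mono_right _ h).trans ?_
    rw [Submodule.smul_sup, ← Submodule.mul_smul, ← pow_succ]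
    exact sup_le_sup_left Submodule.smul_le_right _

theorem idem_lift {R S : Type*} [Ring R] [Ring S] (f : R →+* S)
    (h : ∀ x, f x = 0 → IsNilpotent x) (E : R) (he : IsIdempotentElem (f E)) :
    ∃ E', IsIdempotentElem E' ∧ f E' = f E :=
  exists_isIdempotentElem_eq_of_ker_isNilpotent f (fun x hx => h x (RingHom.mem_ker.mp hx)) _
    ⟨E, rfl⟩ he

set_option maxHeartbeats 400000 in
/-- Every projective module over `A ⧸ I`, `I` nilpotent, lifts. -/
theorem exists_lift (hI : IsNilpotent I) (P₀ : Type v) [AddCommGroup P₀] [Module (A ⧸ I) P₀]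
    [Module.Projective (A ⧸ I) P₀] :
    ∃ (P : Type (max u v)) (_ : AddCommGroup P) (_ : Module A P),
      Module.Projective A P ∧ Nonempty ((A ⧸ I) ⊗[A] P ≃ₗ[A ⧸ I] P₀) := by
  classical
  letI : Module A P₀ := Module.compHom P₀ (Ideal.Quotient.mk I)
  haveI : IsScalarTower A (A ⧸ I) P₀ := IsScalarTower.of_algebraMap_smul fun r m => rfl
  let F := P₀ →₀ A
  let π : (A ⧸ I) ⊗[A] F →ₗ[A ⧸ I] P₀ :=
    (Finsupp.linearCombination A (id : P₀ → P₀)).liftBaseChange (A ⧸ I)
  have hπ : Function.Surjective π := fun y =>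
    ⟨1 ⊗ₜ Finsupp.single y 1, by
      show (1 : A ⧸ I) • Finsupp.linearCombination A (id : P₀ → P₀) (Finsupp.single y 1) = y
      rw [one_smul, Finsupp.linearCombination_single, one_smul, id]⟩
  obtain ⟨s, hs⟩ := Module.projective_lifting_property π LinearMap.id hπ
  let e : Module.End (A ⧸ I) ((A ⧸ I) ⊗[A] F) := s ∘ₗ π
  let Φ : Module.End A F →+* Module.End (A ⧸ I) ((A ⧸ I) ⊗[A] F) :=
    (Module.End.baseChangeHom A (A ⧸ I) F).toRingHom
  have hker : ∀ x ∈ RingHom.ker Φ, IsNilpotent x := by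
    intro x hx
    have hx0 : ∀ y, x y ∈ I • (⊤ : Submodule A F) := fun y => by
      refine mem_smul_top_of_mk_eq_zero I ?_
      have := LinearMap.congr_fun (RingHom.mem_ker.mp hx) (1 ⊗ₜ y)
      exact this
    obtain ⟨k, hk⟩ := hI
    have hpow : ∀ m (y : F), (x ^ m) y ∈ I ^ m • (⊤ : Submodule A F) := by
      intro m
      induction m with
      | zero => simp
      | succ m ih =>
        intro y
        rw [pow_succ x m, Module.End.mul_apply]
        have hle : (Submodule.map (x ^ m) (I • (⊤ : Submodule A F))) ≤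
            I ^ (m + 1) • (⊤ : Submodule A F) := by
          rw [Submodule.map_smul'', pow_succ', Submodule.mul_smul]
          exact smul_mono_right _ (by rintro _ ⟨z, -, rfl⟩; exact ih z)
        exact hle ⟨x y, hx0 y, rfl⟩
    refine ⟨k, LinearMap.ext fun y => ?_⟩
    have h0 := hpow k y
    rw [hk, Ideal.zero_eq_bot, Submodule.bot_smul, Submodule.mem_bot] at h0
    exact h0
  have hrange : ∃ E, Φ E = e := by
    have hsurj := TensorProduct.mk_surjective (R := A) (S := A ⧸ I) (M := F) Ideal.Quotient.mk_surjective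
    choose g hg using fun i : P₀ => hsurj (e (1 ⊗ₜ Finsupp.single i 1))
    refine ⟨Finsupp.linearCombination A g, ?_⟩
    ext i
    show (Finsupp.linearCombination A g).baseChange (A ⧸ I) (1 ⊗ₜ Finsupp.single i 1) = _
    rw [LinearMap.baseChange_tmul, Finsupp.linearCombination_single, one_smul]
    exact hg i
  have he : IsIdempotentElem e := by
    show e * e = e
    refine LinearMap.ext fun v => ?_
    show s (π (s (π v))) = s (π v)
    rw [show π (s (π v)) = π v from LinearMap.congr_fun hs _]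
  obtain ⟨E₀, hE₀⟩ := hrange
  obtain ⟨E, hE, hEe₀⟩ := idem_lift (R := Module.End A F)
    (S := Module.End (A ⧸ I) ((A ⧸ I) ⊗[A] F)) Φ
    (fun x hx => hker x (RingHom.mem_ker.mpr hx)) E₀ (by rw [hE₀]; exact he)
  have hEe : Φ E = e := hEe₀.trans hE₀
  have hEE : ∀ v, E (E v) = E v := fun v => LinearMap.congr_fun hE v
  let P := LinearMap.range E
  have hproj : Module.Projective A P := by
    refine Module.Projective.of_split (R := A) (M := F) P.subtype E.rangeRestrict (LinearMap.ext ?_)
    rintro ⟨_, v, rfl⟩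
    exact Subtype.ext (hEE v)
  let a : (A ⧸ I) ⊗[A] P →ₗ[A ⧸ I] P₀ := π ∘ₗ P.subtype.baseChange (A ⧸ I)
  let b : P₀ →ₗ[A ⧸ I] (A ⧸ I) ⊗[A] P := E.rangeRestrict.baseChange (A ⧸ I) ∘ₗ s
  have hcomp : P.subtype.baseChange (A ⧸ I) ∘ₗ E.rangeRestrict.baseChange (A ⧸ I) = e := by
    rw [← LinearMap.baseChange_comp, LinearMap.subtype_comp_codRestrict]
    exact hEe
  refine ⟨P, inferInstance, inferInstance, hproj, ⟨LinearEquiv.ofLinearMap a b ?_ ?_⟩⟩
  · refine LinearMap.ext fun y => ?_
    show π ((P.subtype.baseChange (A ⧸ I) ∘ₗ E.rangeRestrict.baseChange (A ⧸ I)) (s y)) = y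
    rw [hcomp]
    show π (s (π (s y))) = y
    simp only [show ∀ z, π (s z) = z from LinearMap.congr_fun hs]
  · rw [show b ∘ₗ a = E.rangeRestrict.baseChange (A ⧸ I) ∘ₗ e ∘ₗ P.subtype.baseChange (A ⧸ I) from rfl,
      ← hEe]
    show E.rangeRestrict.baseChange (A ⧸ I) ∘ₗ E.baseChange (A ⧸ I) ∘ₗ P.subtype.baseChange (A ⧸ I) = _
    rw [← LinearMap.baseChange_comp, ← LinearMap.baseChange_comp, ← LinearMap.baseChange_id]
    congr 1
    refine LinearMap.ext ?_
    rintro ⟨_, v, rfl⟩
    refine Subtype.ext ?_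
    show E (E (E v)) = E v
    rw [hEE, hEE]

/-- A projective and a flat lift of the same module are isomorphic. -/
theorem nonempty_equiv (hI : IsNilpotent I) (P P' : Type v) [AddCommGroup P] [Module A P]
    [Module.Projective A P] [AddCommGroup P'] [Module A P'] [Module.Flat A P']
    (e : (A ⧸ I) ⊗[A] P ≃ₗ[A ⧸ I] (A ⧸ I) ⊗[A] P') : Nonempty (P ≃ₗ[A] P') := by
  obtain ⟨k, hk⟩ := hI
  have hsurj : Function.Surjective (TensorProduct.mk A (A ⧸ I) P' 1) :=
    TensorProduct.mk_surjective (R := A) (S := A ⧸ I) (M := P') Ideal.Quotient.mk_surjective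
  obtain ⟨f, hf⟩ := Module.projective_lifting_property (TensorProduct.mk A (A ⧸ I) P' 1)
    ((e.toLinearMap.restrictScalars A) ∘ₗ TensorProduct.mk A (A ⧸ I) P 1) hsurj
  have hf' : ∀ p, (1 : A ⧸ I) ⊗ₜ[A] f p = e (1 ⊗ₜ p) := fun p => LinearMap.congr_fun hf p
  have hfs : Function.Surjective f := by
    rw [← LinearMap.range_eq_top, eq_top_iff]
    refine (le_pow_smul_of_le (N := (⊤ : Submodule A P')) (K := LinearMap.range f) I (fun x _ => ?_) k).trans ?_
    · obtain ⟨p, hp⟩ := TensorProduct.mk_surjective (R := A) (S := A ⧸ I) (M := P)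
        Ideal.Quotient.mk_surjective (e.symm (1 ⊗ₜ x))
      refine Submodule.mem_sup.mpr ⟨x - f p, mem_smul_top_of_mk_eq_zero I ?_, f p, ⟨p, rfl⟩, sub_add_cancel _ _⟩
      rw [TensorProduct.tmul_sub, hf']
      rw [show (1 : A ⧸ I) ⊗ₜ[A] p = e.symm (1 ⊗ₜ x) from hp, LinearEquiv.apply_symm_apply, sub_self]
    · rw [hk, Ideal.zero_eq_bot, Submodule.bot_smul, bot_sup_eq]
  have hinj := LinearMap.lTensor_injective_of_exact_of_flat f hfs (LinearMap.ker f).subtype
    (Submodule.injective_subtype _) (LinearMap.exact_subtype_ker_map f) (A ⧸ I)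
  have hker : LinearMap.ker f ≤ I • LinearMap.ker f ⊔ ⊥ := by
    intro p hp
    rw [sup_bot_eq]
    have h1 : (1 : A ⧸ I) ⊗ₜ[A] p = 0 := by
      apply e.injective
      rw [← hf', LinearMap.mem_ker.mp hp, TensorProduct.tmul_zero, map_zero]
    have h2 : (1 : A ⧸ I) ⊗ₜ[A] (⟨p, hp⟩ : LinearMap.ker f) = 0 := by
      apply hinj
      rw [LinearMap.lTensor_tmul, map_zero]
      exact h1
    have h3 := Submodule.mem_map_of_mem (f := (LinearMap.ker f).subtype)
      (mem_smul_top_of_mk_eq_zero I h2)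
    rw [Submodule.map_smul'', Submodule.map_subtype_top] at h3
    exact h3
  have hfi : Function.Injective f := by
    rw [← LinearMap.ker_eq_bot, eq_bot_iff]
    refine (le_pow_smul_of_le I hker k).trans ?_
    rw [hk, Ideal.zero_eq_bot, Submodule.bot_smul, bot_sup_eq]
  exact ⟨LinearEquiv.ofBijective f ⟨hfi, hfs⟩⟩

end Groth.L19.ProjNil
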