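import Groth.Agent.L10.DRing.FlatDescent
import Groth.Agent.L10.DRing.TorRestrict
import Groth.Agent.L10.DRing.TorDim
import Groth.Agent.L10.DRing.PD
import Groth.Agent.L29.Dual.RestrictAdj
import Groth.Agent.L02.Flat
import Groth.Prelude.Def_MoreMor
import Mathlib.RingTheory.TensorProduct.MvPolynomial
import Mathlib.Algebra.MvPolynomial.Equiv
import Mathlib.LinearAlgebra.TensorProduct.Basis
import Mathlib.RingTheory.Polynomial.Basic
import Mathlib.Algebra.Polynomial.Basis

/-!
# Perfect ring maps

* tor amplitude over a polynomial algebra against tor amplitude over the base;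
* pseudo-coherence after a base change which is tor independent;
* the criterion: perfect ring map iff quotient of a polynomial algebra which is a perfect module.
-/

set_option autoImplicit false
set_option linter.style.haveILetI false
set_option backward.isDefEq.respectTransparency false
set_option backward.isDefEq.respectTransparency.types false
universe u

open CategoryTheory CategoryTheory.Limits CategoryTheory.Pretriangulated TensorProduct

attribute [local instance] HasDerivedCategory.standard

namespace Groth.L19.PerfectHom

open Groth.L10.DR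

/-- Modules in degree `0` of linearly equivalent modules. -/
noncomputable def inDIso {A : Type u} [CommRing A] {M N : Type u} [AddCommGroup M] [Module A M] [AddCommGroup N]
    [Module A N] (e : M ≃ₗ[A] N) : Dual.inD A M ≅ Dual.inD A N :=
  (DerivedCategory.singleFunctor (ModuleCat.{u} A) 0).mapIso e.toModuleIso

theorem amp_tensor {R S : Type u} [CommRing R] [CommRing S] [Algebra R S] [Module.Flat R S]
    {M : Type u} [AddCommGroup M] [Module R M] {a b : ℤ} (h : DRing.HasTorAmplitudeIn R a b (Dual.inD R M)) :
    DRing.HasTorAmplitudeIn S a b (Dual.inD S (S ⊗[R] M)) := by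
  obtain ⟨e⟩ := Groth.L10.FlatDescent.exists_single_iso (S := S) (R := R) M
  exact amp_of_iso e (Groth.L10.FlatDescent.amp_bcCx (algebraMap R S) (RingHom.flat_algebraMap_iff.mpr ‹_›)
    (amp_of_iso ((DerivedCategory.singleFunctorIsoCompQ (ModuleCat.{u} R) 0).app (ModuleCat.of R M)) h))

section Variable

variable {R S M : Type u} [CommRing R] [CommRing S] [Algebra R S] [AddCommGroup M] [Module R M] [Module S M]
  [IsScalarTower R S M] (b : Module.Basis ℕ R S) (x : S) (hb : ∀ i, b i = x ^ i)

variable (M) in
/-- The action map. -/
noncomputable def act : S ⊗[R] M →ₗ[S] M := LinearMap.liftBaseChange S LinearMap.id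

theorem act_tmul (s : S) (m : M) : act M (s ⊗ₜ[R] m) = s • m := by simp [act]

variable (M) in
/-- The difference of the two actions of `x`. -/
noncomputable def shiftMap : S ⊗[R] M →ₗ[S] S ⊗[R] M :=
  x • LinearMap.id - ((x • (LinearMap.id : M →ₗ[S] M)).restrictScalars R).baseChange S

theorem shiftMap_tmul (s : S) (m : M) : shiftMap M x (s ⊗ₜ[R] m) = (x * s) ⊗ₜ m - s ⊗ₜ (x • m) := by
  simp [shiftMap, smul_tmul']

include hb in
theorem coeff_shiftMap (i : ℕ) (z : S ⊗[R] M) :
    TensorProduct.equivFinsuppOfBasisLeft b (shiftMap M x z) (i + 1) =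
      TensorProduct.equivFinsuppOfBasisLeft b z i - x • TensorProduct.equivFinsuppOfBasisLeft b z (i + 1) := by
  induction z using TensorProduct.induction_on with
  | zero => simp
  | add u v hu hv => simp only [map_add, Finsupp.add_apply, hu, hv, smul_add]; abel
  | tmul s m =>
    have h1 : (Finsupp.lapply (i + 1)).comp (b.repr.toLinearMap.comp (LinearMap.mulLeft R x)) =
        (Finsupp.lapply i).comp b.repr.toLinearMap := b.ext fun j => by
      have : x * b j = b (j + 1) := by rw [hb, hb, pow_succ']
      simp [this, Finsupp.single_apply]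
    have h2 : b.repr (x * s) (i + 1) = b.repr s i := LinearMap.congr_fun h1 s
    rw [shiftMap_tmul, map_sub, Finsupp.sub_apply]
    simp only [TensorProduct.equivFinsuppOfBasisLeft_apply_tmul_apply, h2]
    rw [smul_comm]

include b hb in
theorem shiftMap_injective : Function.Injective (shiftMap M x : S ⊗[R] M → S ⊗[R] M) := by
  rw [injective_iff_map_eq_zero]
  intro z hz
  set c := TensorProduct.equivFinsuppOfBasisLeft b z with hc
  have hstep : ∀ i, c i = x • c (i + 1) := fun i => by
    have := coeff_shiftMap b x hb i z
    rw [hz, map_zero, Finsupp.zero_apply] at this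
    exact sub_eq_zero.mp this.symm
  have hall : ∀ k i, (∀ j, i + k ≤ j → c j = 0) → c i = 0 := by
    intro k
    induction k with
    | zero => exact fun i h => h i le_rfl
    | succ k ih => intro i h; rw [hstep i, ih (i + 1) fun j hj => h j (by omega), smul_zero]
  have : c = 0 := Finsupp.ext fun i => by
    refine hall (c.support.sup id + 1) i fun j hj => ?_
    by_contra h0
    have := Finset.le_sup (f := id) (Finsupp.mem_support_iff.mpr h0)
    simp only [id] at this
    omega
  exact (TensorProduct.equivFinsuppOfBasisLeft b).map_eq_zero_iff.mp this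

include b hb in
theorem exact_shiftMap : Function.Exact (shiftMap M x : S ⊗[R] M → S ⊗[R] M) (act M) := by
  have hcomp : ∀ z : S ⊗[R] M, act M (shiftMap M x z) = 0 := fun z => by
    induction z using TensorProduct.induction_on with
    | zero => simp
    | add u v hu hv => simp [map_add, hu, hv]
    | tmul s m => rw [shiftMap_tmul, map_sub, act_tmul, act_tmul, smul_smul, mul_comm s x, sub_self]
  intro z
  refine ⟨fun hz => ?_, fun ⟨y, hy⟩ => hy ▸ hcomp y⟩
  suffices h : z - (1 : S) ⊗ₜ[R] act M z ∈ LinearMap.range (shiftMap M x) by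
    rw [hz, TensorProduct.tmul_zero, sub_zero] at h
    exact h
  have hpow : ∀ (j : ℕ) (m : M), b j ⊗ₜ[R] m - (1 : S) ⊗ₜ[R] (x ^ j • m) ∈ LinearMap.range (shiftMap M x) := by
    intro j
    induction j with
    | zero => intro m; simp [hb]
    | succ j ih =>
      intro m
      have h1 := add_mem (LinearMap.mem_range_self (shiftMap M x) (b j ⊗ₜ[R] m)) (ih (x • m))
      rw [shiftMap_tmul, hb] at h1
      rw [hb, pow_succ', show (x * x ^ j) • m = x ^ j • x • m by rw [smul_smul, mul_comm]]
      simpa using h1
  obtain ⟨c, rfl⟩ := (TensorProduct.equivFinsuppOfBasisLeft b).symm.surjective z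
  clear hz
  induction c using Finsupp.induction_linear with
  | zero => simp
  | add f g hf hg =>
    simp only [map_add, TensorProduct.tmul_add]
    rw [add_sub_add_comm]
    exact add_mem hf hg
  | single j m =>
    have : (TensorProduct.equivFinsuppOfBasisLeft b).symm (Finsupp.single j m) = b j ⊗ₜ[R] m := by simp
    rw [this, act_tmul]
    have h2 : b j • m = x ^ j • m := by rw [hb]
    rw [h2]
    exact hpow j m

include b hb in
theorem amp_succ (d : ℕ) (h : DRing.HasTorAmplitudeIn R (-(d : ℤ)) 0 (Dual.inD R M)) :
    DRing.HasTorAmplitudeIn S (-((d + 1 : ℕ) : ℤ)) 0 (Dual.inD S M) := by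
  haveI : Module.Free R S := Module.Free.of_basis b
  have hM' := amp_tensor (S := S) h
  let T : ShortComplex (ModuleCat.{u} S) :=
    ShortComplex.mk (ModuleCat.ofHom (shiftMap M x)) (ModuleCat.ofHom (act M))
      (ModuleCat.hom_ext (LinearMap.ext fun z => (exact_shiftMap b x hb (shiftMap M x z)).mpr ⟨z, rfl⟩))
  have hT : T.ShortExact :=
    { exact := (ShortComplex.ShortExact.moduleCat_exact_iff_function_exact _).2 (exact_shiftMap b x hb)
      mono_f := ConcreteCategory.mono_of_injective _ (shiftMap_injective b x hb)
      epi_g := ConcreteCategory.epi_of_surjective _ fun m => ⟨(1 : S) ⊗ₜ m, show act M ((1 : S) ⊗ₜ[R] m) = m by rw [act_tmul, one_smul]⟩ }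
  refine amp_third hT.singleTriangle hT.singleTriangle_distinguished ?_ (amp_mono hM' (by omega) le_rfl)
  exact amp_mono hM' (by omega) (by omega)

end Variable

theorem amp_of_surjective {R S M : Type u} [CommRing R] [CommRing S] [Algebra R S] [Module.Flat R S]
    [AddCommGroup M] [Module R M] [Module S M] [IsScalarTower R S M]
    (hs : Function.Surjective (algebraMap R S)) {a b : ℤ} (h : DRing.HasTorAmplitudeIn R a b (Dual.inD R M)) :
    DRing.HasTorAmplitudeIn S a b (Dual.inD S M) := by
  have hinv : ∀ z : S ⊗[R] M, z = (1 : S) ⊗ₜ[R] act M z := fun z => by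
    induction z using TensorProduct.induction_on with
    | zero => simp
    | add u v hu hv => rw [map_add, TensorProduct.tmul_add, ← hu, ← hv]
    | tmul s m =>
      obtain ⟨r, rfl⟩ := hs s
      rw [act_tmul, algebraMap_smul, ← TensorProduct.smul_tmul, Algebra.smul_def, mul_one]
  refine amp_of_iso (inDIso (LinearEquiv.ofBijective (act M) ⟨?_, fun m => ⟨(1 : S) ⊗ₜ m, by simp [act]⟩⟩))
    (amp_tensor (S := S) h)
  intro u v huv
  rw [hinv u, hinv v, huv]

variable {A : Type u} [CommRing A]

/-- Tor amplitude over `A[x_1, …, x_n]` from tor amplitude over `A`. -/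
theorem amp_mvPolynomial : ∀ (n : ℕ) (M : Type u) [AddCommGroup M] [Module A M]
    [Module (MvPolynomial (Fin n) A) M] [IsScalarTower A (MvPolynomial (Fin n) A) M] (d : ℕ),
    DRing.HasTorAmplitudeIn A (-(d : ℤ)) 0 (Dual.inD A M) →
      DRing.HasTorAmplitudeIn (MvPolynomial (Fin n) A) (-((d + n : ℕ) : ℤ)) 0 (Dual.inD (MvPolynomial (Fin n) A) M) := by
  intro n
  induction n with
  | zero =>
    intro M _ _ _ _ d h
    refine amp_of_surjective (R := A) (MvPolynomial.C_surjective (Fin 0)) h
  | succ n ih =>
    intro M _ _ _ _ d h
    let R := MvPolynomial (Fin n) A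
    let S := MvPolynomial (Fin (n + 1)) A
    let e := MvPolynomial.finSuccEquiv A n
    letI : Algebra R S := (e.symm.toRingEquiv.toRingHom.comp Polynomial.C).toAlgebra
    letI : Module R M := Module.compHom M (algebraMap R S)
    haveI : IsScalarTower R S M := IsScalarTower.of_algebraMap_smul fun _ _ => rfl
    haveI : IsScalarTower A R M := IsScalarTower.of_algebraMap_smul fun a m => by
      show e.symm (Polynomial.C (algebraMap A R a)) • m = a • m
      rw [show Polynomial.C (algebraMap A R a) = algebraMap A (Polynomial R) a from rfl, e.symm.commutes,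
        algebraMap_smul]
    let e' : Polynomial R ≃ₐ[R] S := AlgEquiv.ofRingEquiv (f := e.symm.toRingEquiv) fun r => rfl
    let b : Module.Basis ℕ R S := (Polynomial.basisMonomials R).map e'.toLinearEquiv
    have hb : ∀ i, b i = (e' Polynomial.X) ^ i := fun i => by
      rw [← map_pow]
      simp [b, ← Polynomial.monomial_one_right_eq_X_pow]
    have := amp_succ (R := R) (S := S) (M := M) b _ hb (d + n) (ih M d h)
    rwa [show d + (n + 1) = d + n + 1 by omega]

/-- A module perfect over an algebra flat over `A` has finite tor dimension over `A`. -/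
theorem finiteTorDim_of_perfect {P M : Type u} [CommRing P] [Algebra A P] [Module.Flat A P] [AddCommGroup M]
    [Module A M] [Module P M] [IsScalarTower A P M] (h : DRing.IsPerfectModule P M) :
    DRing.HasFiniteTorDim A M := by
  obtain ⟨a, b, hab⟩ := amp_of_perfect h
  have hP := (hasTorDimLE_iff_amp (A := A) (M := P) 0).1 (hasTorDimLE_zero_iff.2 inferInstance)
  have h1 := Groth.L10.TorRestrict.amp_restrict (A := A) (B := P) 0 hP _ a b hab
  let e : ((ModuleCat.restrictScalars (algebraMap A P)).obj (ModuleCat.of P M) : Type u) ≃ₗ[A] M :=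
    { AddEquiv.refl M with map_smul' := fun a m => algebraMap_smul P a (show M from m) }
  exact finiteTorDim_iff_amp.2 ⟨_, _, amp_of_iso
    (Groth.L29.RestrictAdj.restrictSingle (algebraMap A P) (ModuleCat.of P M) ≪≫ inDIso e) h1⟩

variable {B : Type u} [CommRing B] [Algebra A B]

/-- The criterion. -/
theorem isPerfectHom_iff : MoreMor.IsPerfectHom A B ↔
    ∃ (n : ℕ) (φ : MvPolynomial (Fin n) A →ₐ[A] B), Function.Surjective φ ∧
      letI := φ.toRingHom.toAlgebra
      DRing.IsPerfectModule (MvPolynomial (Fin n) A) B := by
  constructor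
  · rintro ⟨⟨n, φ, hφ, hpc⟩, hT⟩
    refine ⟨n, φ, hφ, ?_⟩
    letI := φ.toRingHom.toAlgebra
    haveI : IsScalarTower A (MvPolynomial (Fin n) A) B :=
      IsScalarTower.of_algebraMap_eq fun a => (φ.commutes a).symm
    obtain ⟨d, hd⟩ := hT
    exact perfect_of_pc'_amp hpc (amp_mvPolynomial n B d ((hasTorDimLE_iff_amp d).1 hd))
  · rintro ⟨n, φ, hφ, hp⟩
    letI := φ.toRingHom.toAlgebra
    haveI : IsScalarTower A (MvPolynomial (Fin n) A) B :=
      IsScalarTower.of_algebraMap_eq fun a => (φ.commutes a).symm
    exact ⟨⟨n, φ, hφ, Groth.L29.PerfPC.isPseudoCoherent'_of_isPerfect hp⟩,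
      finiteTorDim_of_perfect (P := MvPolynomial (Fin n) A) hp⟩

/-- The kernel of a surjection of flat modules is flat. -/
theorem flat_ker_of_surjective {R F M : Type u} [CommRing R] [AddCommGroup F] [Module R F] [AddCommGroup M]
    [Module R M] [Module.Flat R F] [Module.Flat R M] (g : F →ₗ[R] M) (hg : Function.Surjective g) :
    Module.Flat R (LinearMap.ker g) :=
  Groth.L02.flat_of_universallyInjective (LinearMap.ker g).subtype
    (Groth.L02.universallyInjective_of_flat_coker _ g Subtype.val_injective g.exact_subtype_ker_map hg)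

/-- Finite modules over a Noetherian algebra, flat over the base, stay pseudo-coherent after base change. -/
theorem pc_baseChange {R C P P' : Type u} [CommRing R] [CommRing C] [CommRing P] [CommRing P'] [Algebra R C]
    [Algebra R P] [Algebra C P'] [Algebra P P'] [Algebra R P'] [IsScalarTower R C P'] [IsScalarTower R P P']
    [Algebra.IsPushout R C P P'] [IsNoetherianRing P] [Module.Flat R P] :
    ∀ (k : ℕ) (M : Type u) [AddCommGroup M] [Module P M] [Module R M] [IsScalarTower R P M] [Module.Finite P M]
      [Module.Flat R M], DRing.IsPseudoCoherentModule P' (-(k : ℤ)) (P' ⊗[P] M) := by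
  intro k
  induction k with
  | zero =>
    intro M _ _ _ _ _ _
    exact pcModule_zero _
  | succ k ih =>
    intro M _ _ _ _ _ _
    obtain ⟨n, f, hf⟩ := Module.Finite.exists_fin' P M
    let K := LinearMap.ker f
    haveI : Module.Flat R (Fin n → P) :=
      Module.Flat.trans R P (Fin n → P)
    haveI : Module.Flat R K := by
      have h1 := flat_ker_of_surjective (f.restrictScalars R) hf
      let e1 : K ≃ₗ[R] LinearMap.ker (f.restrictScalars R) :=
        { toFun := fun z => ⟨z.1, z.2⟩
          invFun := fun z => ⟨z.1, z.2⟩
          map_add' := fun _ _ => rfl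
          map_smul' := fun _ _ => rfl }
      exact Module.Flat.of_linearEquiv e1
    let i := K.subtype
    have hexi : Function.Exact i f := f.exact_subtype_ker_map
    let i' := i.baseChange P'
    let f' := f.baseChange P'
    have hf' : Function.Surjective f' := LinearMap.lTensor_surjective P' hf
    have hex : Function.Exact i' f' := lTensor_exact P' hexi hf
    have hinj : Function.Injective i' := by
      have hu : Function.Injective ((i.restrictScalars R).lTensor C) :=
        ((i.restrictScalars R).lTensor_inj_iff_rTensor_inj C).mpr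
          (Groth.L02.universallyInjective_of_flat_coker (i.restrictScalars R) (f.restrictScalars R)
            Subtype.val_injective hexi hf C)
      let cK := Algebra.IsPushout.cancelBaseChange R C P P' K
      let cF := Algebra.IsPushout.cancelBaseChange R C P P' (Fin n → P)
      have hsq : ∀ w : C ⊗[R] K, i' (cK.symm w) = cF.symm ((i.restrictScalars R).lTensor C w) := fun w => by
        induction w using TensorProduct.induction_on with
        | zero => simp
        | add u v hu hv => simp only [map_add, hu, hv]
        | tmul c z => simp [cK, cF, i', i]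
      intro u v huv
      obtain ⟨w, rfl⟩ := cK.symm.surjective u
      obtain ⟨w', rfl⟩ := cK.symm.surjective v
      rw [hsq, hsq] at huv
      rw [hu (cF.symm.injective huv)]
    let eF : P' ⊗[P] (Fin n → P) ≃ₗ[P'] (Fin n → P') := TensorProduct.piScalarRight P P' P' (Fin n)
    let g : (Fin n → P') →ₗ[P'] P' ⊗[P] M := f' ∘ₗ eF.symm.toLinearMap
    have hg : Function.Surjective g := hf'.comp eF.symm.surjective
    let j : P' ⊗[P] K →ₗ[P'] (Fin n → P') := eF.toLinearMap ∘ₗ i'
    have hj : Function.Injective j := eF.injective.comp hinj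
    have hrange : LinearMap.range j = LinearMap.ker g := by
      ext y
      constructor
      · rintro ⟨z, rfl⟩
        simpa [g, j] using hex.apply_apply_eq_zero z
      · intro hy
        obtain ⟨z, hz⟩ := (hex _).mp (show f' (eF.symm y) = 0 from hy)
        exact ⟨z, by simp [j, hz]⟩
    refine pcModule_step n g hg _ ?_
    rw [show (-((k + 1 : ℕ) : ℤ)) + 1 = -(k : ℤ) by omega]
    exact Groth.L02.PC.pc_of_iso
      (inDIso ((LinearEquiv.ofInjective j hj).trans (LinearEquiv.ofEq _ _ hrange))) (ih K)

end Groth.L19.PerfectHom
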