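import Groth.Agent.L17.FlatPair.Flat
import Groth.Agent.L00.StalkFunctor
import Groth.Agent.L00.PullStalk

/-!
# Flatness of tensor products of modules from the two factors of a fibre product
-/

set_option autoImplicit false
set_option linter.style.haveILetI false
set_option backward.isDefEq.respectTransparency false
set_option backward.isDefEq.respectTransparency.types false

universe u

open CategoryTheory CategoryTheory.Limits MonoidalCategory AlgebraicGeometry Opposite TopologicalSpace
open scoped TensorProduct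

noncomputable section

namespace Groth.L19.FlatTensor

section Stalk

open Groth.L29.DC.RelBC (flat_tensor_of_pushout)

variable {X S X' S' : Scheme.{u}} {f : X ⟶ S} {f' : X' ⟶ S'} {g' : X' ⟶ X} {g : S' ⟶ S}

theorem isFlatOverAt_pullback (hc : IsPullback g' f' f g) (x' : X') :
    (∀ M : X.Modules, FlatMod.IsFlatOverAt f M (g' x') → FlatMod.IsFlatOverAt f' ((Scheme.Modules.pullback g').obj M) x') := by
  obtain ⟨W, V, W', U, eV, eW, eU, eU', hW, hV, hW', hU, hxU, hpo⟩ := Groth.L20.ModStalk.exists_affine_square hc x'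
  algebraize [(f.appLE W V eV).hom, (g.appLE W W' eW).hom, (g'.appLE V U eU).hom, (f'.appLE W' U eU').hom,
    ((g'.appLE V U eU).hom.comp (f.appLE W V eV).hom)]
  haveI : IsScalarTower Γ(S, W) Γ(S', W') Γ(X', U) := IsScalarTower.of_algebraMap_eq' (congrArg CommRingCat.Hom.hom hpo.w)
  haveI : Algebra.IsPushout Γ(S, W) Γ(X, V) Γ(S', W') Γ(X', U) := CommRingCat.isPushout_iff_isPushout.mp hpo
  haveI : Algebra.IsPushout Γ(S, W) Γ(S', W') Γ(X, V) Γ(X', U) := Algebra.IsPushout.symm ‹_›
  have hxV : g' x' ∈ V := eU hxU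
  letI := X.presheaf.algebra_section_stalk ⟨g' x', hxV⟩
  haveI hlocV := hV.isLocalization_stalk ⟨g' x', hxV⟩
  letI := X'.presheaf.algebra_section_stalk ⟨x', hxU⟩
  haveI := hU.isLocalization_stalk ⟨x', hxU⟩
  haveI : Module.Flat Γ(X', U) (X'.presheaf.stalk x') :=
    IsLocalization.flat _ (hU.primeIdealOf ⟨x', hxU⟩).asIdeal.primeCompl
  letI : Algebra (X.presheaf.stalk (g' x')) (X'.presheaf.stalk x') := (Groth.L00.PullStalk.φ g' x').toAlgebra
  letI : Algebra Γ(X, V) (X'.presheaf.stalk x') :=
    ((algebraMap Γ(X', U) (X'.presheaf.stalk x')).comp (algebraMap Γ(X, V) Γ(X', U))).toAlgebra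
  haveI : IsScalarTower Γ(X, V) Γ(X', U) (X'.presheaf.stalk x') := IsScalarTower.of_algebraMap_eq fun _ => rfl
  haveI : IsScalarTower Γ(X, V) (X.presheaf.stalk (g' x')) (X'.presheaf.stalk x') :=
    IsScalarTower.of_algebraMap_eq fun r => (Groth.L20.ModStalk.stalkMap_germ eU hxU (eU hxU) r).symm
  let χ : Γ(S, W) →+* X.presheaf.stalk (g' x') :=
    (X.presheaf.germ V (g' x') hxV).hom.comp (f.appLE W V eV).hom
  let Sm := (hV.primeIdealOf ⟨g' x', hxV⟩).asIdeal.primeCompl
  intro M hM
  let N := (Groth.L00.Stk.F X (g' x')).obj M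
  letI := Module.compHom N χ
  letI := Module.compHom N (algebraMap Γ(X, V) (X.presheaf.stalk (g' x')))
  haveI : IsScalarTower Γ(X, V) (X.presheaf.stalk (g' x')) N := IsScalarTower.of_algebraMap_smul fun _ _ => rfl
  haveI : IsScalarTower Γ(S, W) Γ(X, V) N := IsScalarTower.of_algebraMap_smul fun _ _ => rfl
  haveI : Module.Flat Γ(S, W) N :=
    (Groth.L20.ModStalk.isFlatOverAt_iff_sections f M hW eV hxV).1 hM
  letI : Algebra Γ(S', W') (X'.presheaf.stalk x') :=
    ((algebraMap Γ(X', U) (X'.presheaf.stalk x')).comp (algebraMap Γ(S', W') Γ(X', U))).toAlgebra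
  haveI : IsScalarTower Γ(S', W') Γ(X', U) (X'.presheaf.stalk x') := IsScalarTower.of_algebraMap_eq fun _ => rfl
  rw [Groth.L20.ModStalk.isFlatOverAt_iff_sections f' _ hW' eU' hxU]
  have h := flat_tensor_of_pushout Γ(S, W) Γ(S', W') Γ(X, V) Γ(X', U) Sm (X.presheaf.stalk (g' x'))
    (X'.presheaf.stalk x') (M := N)
  let e : ((Scheme.Modules.pullback g').obj M).presheaf.stalk x' ≃ₗ[X'.presheaf.stalk x']
      X'.presheaf.stalk x' ⊗[X.presheaf.stalk (g' x')] N :=
    ((Groth.L00.PullStalk.stalkIso g' x').app M).toLinearEquiv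
  letI : Module Γ(S', W') (((Scheme.Modules.pullback g').obj M).presheaf.stalk x') :=
    Module.compHom _ ((X'.presheaf.germ U x' hxU).hom.comp (f'.appLE W' U eU').hom)
  exact Module.Flat.of_linearEquiv (AddEquiv.toLinearEquiv e.toAddEquiv fun a z =>
    (e.map_smul (algebraMap Γ(S', W') (X'.presheaf.stalk x') a) z).trans (algebraMap_smul _ a _))

end Stalk

section Algebra

/-- A tensor product over `B` of a `B`-flat and an `S`-flat module is `S`-flat. -/
theorem flat_tensor {S B M P : Type u} [CommRing S] [CommRing B] [Algebra S B] [AddCommGroup P] [Module B P]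
    [Module S P] [IsScalarTower S B P] [AddCommGroup M] [Module S M] [Module B M] [IsScalarTower S B M]
    [Module.Flat B P] [Module.Flat S M] : Module.Flat S (P ⊗[B] M) := by
  rw [Module.Flat.iff_lTensor_injective']
  intro J
  have h1 : Function.Injective (TensorProduct.AlgebraTensorModule.lTensor B M J.subtype : M ⊗[S] J →ₗ[B] M ⊗[S] S) :=
    Module.Flat.lTensor_preserves_injective_linearMap (M := M) J.subtype Subtype.val_injective
  have h2 := Module.Flat.lTensor_preserves_injective_linearMap (M := P)
    (TensorProduct.AlgebraTensorModule.lTensor B M J.subtype) h1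
  intro a b hab
  apply (TensorProduct.AlgebraTensorModule.assoc S B B P M J).injective
  apply h2
  have key : ∀ z : (P ⊗[B] M) ⊗[S] J, (TensorProduct.AlgebraTensorModule.lTensor B M J.subtype).lTensor P
      (TensorProduct.AlgebraTensorModule.assoc S B B P M J z) =
      TensorProduct.AlgebraTensorModule.assoc S B B P M S (J.subtype.lTensor (P ⊗[B] M) z) := by
    intro z
    induction z using TensorProduct.induction_on with
    | zero => simp
    | tmul w j =>
      induction w using TensorProduct.induction_on with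
      | zero => simp
      | tmul t m => simp
      | add x y hx hy => simp only [TensorProduct.add_tmul, map_add, hx, hy]
    | add x y hx hy => simp only [map_add, hx, hy]
  rw [key, key, hab]

/-- The form used on stalks: `P` a module over `C`, flat over `B`. -/
theorem flat_tensor_baseChange {S B C P M : Type u} [CommRing S] [CommRing B] [CommRing C] [Algebra S B] [Algebra B C]
    [Algebra S C] [IsScalarTower S B C] [AddCommGroup P] [Module C P] [Module B P] [IsScalarTower B C P]
    [AddCommGroup M] [Module S M] [Module B M] [IsScalarTower S B M]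
    [Module.Flat B P] [Module.Flat S M] :
    @Module.Flat S (P ⊗[C] (C ⊗[B] M)) _ _ (Module.compHom _ (algebraMap S C)) := by
  letI := Module.compHom P (algebraMap S C)
  letI := Module.compHom (P ⊗[C] (C ⊗[B] M)) (algebraMap S C)
  haveI : IsScalarTower S C P := IsScalarTower.of_algebraMap_smul fun _ _ => rfl
  haveI : IsScalarTower S B P := IsScalarTower.of_algebraMap_smul fun r z => by
    rw [← algebraMap_smul C (algebraMap S B r) z, ← IsScalarTower.algebraMap_apply]; rfl
  haveI : Module.Flat S (P ⊗[B] M) := flat_tensor (S := S) (B := B) (P := P) (M := M)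
  let e := TensorProduct.AlgebraTensorModule.cancelBaseChange B C C P M
  refine Module.Flat.of_linearEquiv (AddEquiv.toLinearEquiv e.toAddEquiv fun a z => ?_)
  exact (e.map_smul (algebraMap S C a) z).trans (algebraMap_smul C a (e z))

end Algebra

variable {X Y Z : Scheme.{u}}

/-- `M ⊗ q^*N` is flat over `Z` where `M` is flat over `Y` and `N` over `Z`. -/
theorem isFlatOverAt_tensor_pullback (q : X ⟶ Y) (h : Y ⟶ Z) (M : X.Modules) (N : Y.Modules) (x : X)
    (hM : FlatMod.IsFlatOverAt q M x) (hN : FlatMod.IsFlatOverAt h N (q x)) :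
    FlatMod.IsFlatOverAt (q ≫ h) (CohB1.tensorMod M ((Scheme.Modules.pullback q).obj N)) x := by
  let C := X.presheaf.stalk x
  let B := Y.presheaf.stalk (q x)
  let S := Z.presheaf.stalk (h (q x))
  letI : Algebra B C := (q.stalkMap x).hom.toAlgebra
  letI : Algebra S B := (h.stalkMap (q x)).hom.toAlgebra
  letI : Algebra S C := ((q.stalkMap x).hom.comp (h.stalkMap (q x)).hom).toAlgebra
  haveI : IsScalarTower S B C := IsScalarTower.of_algebraMap_eq fun _ => rfl
  let P := (Groth.L00.Stk.F X x).obj M
  let N' := (Groth.L00.Stk.F Y (q x)).obj N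
  letI : Module B P := Module.compHom P (q.stalkMap x).hom
  haveI : IsScalarTower B C P := IsScalarTower.of_algebraMap_smul fun _ _ => rfl
  haveI : Module.Flat B P := hM
  letI : Module S N' := Module.compHom N' (h.stalkMap (q x)).hom
  haveI : IsScalarTower S B N' := IsScalarTower.of_algebraMap_smul fun _ _ => rfl
  haveI : Module.Flat S N' := hN
  let R := ModuleCat.restrictScalars.{u} ((q ≫ h).stalkMap x).hom
  let T := ModuleCat.of C (P ⊗[C] (C ⊗[B] N'))
  haveI : Module.Flat S (R.obj T) := by
    have e : ((q ≫ h).stalkMap x).hom = algebraMap S C := by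
      rw [Scheme.Hom.stalkMap_comp]; rfl
    show @Module.Flat S (P ⊗[C] (C ⊗[B] N')) _ _ (Module.compHom _ ((q ≫ h).stalkMap x).hom)
    rw [e]
    exact flat_tensor_baseChange
  let e : T ≅ (Groth.L00.Stk.F X x).obj (CohB1.tensorMod M ((Scheme.Modules.pullback q).obj N)) :=
    (TensorProduct.congr (LinearEquiv.refl C P)
      ((Groth.L00.PullStalk.stalkIso q x).app N).toLinearEquiv.symm).toModuleIso ≪≫
      Groth.L00.Stk.τ x M ((Scheme.Modules.pullback q).obj N)
  exact (Module.Flat.of_linearEquiv (R.mapIso e).symm.toLinearEquiv :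
    Module.Flat S (R.obj ((Groth.L00.Stk.F X x).obj (CohB1.tensorMod M ((Scheme.Modules.pullback q).obj N)))))

/-- Flatness of the external tensor product. -/
theorem isFlatOverAt_tensorS {Y' : Scheme.{u}} (f : X ⟶ Y) (g : Y' ⟶ Y) (h : Y' ⟶ Z) (F : X.Modules) (G : Y'.Modules)
    (x' : ↥(pullback f g)) (hF : FlatMod.IsFlatOverAt f F (pullback.fst f g x'))
    (hG : FlatMod.IsFlatOverAt h G (pullback.snd f g x')) :
    FlatMod.IsFlatOverAt (pullback.snd f g ≫ h) (CohB1.tensorMod ((Scheme.Modules.pullback (pullback.fst f g)).obj F)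
      ((Scheme.Modules.pullback (pullback.snd f g)).obj G)) x' :=
  isFlatOverAt_tensor_pullback _ h _ G x' (isFlatOverAt_pullback (IsPullback.of_hasPullback f g) x' F hF) hG

end Groth.L19.FlatTensor
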