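import Groth.Agent.L19.AmpleRes
import Mathlib.CategoryTheory.Functor.OfSequence
import Mathlib.CategoryTheory.Limits.Constructions.EventuallyConstant
import Mathlib.Algebra.Homology.DerivedCategory.HomologySequence

/-!
# Bounded above resolutions of pseudo-coherent objects by negative powers of an ample family
-/

set_option autoImplicit false
set_option linter.style.haveILetI false
set_option backward.defeqAttrib.useBackward true
set_option backward.isDefEq.respectTransparency false

universe u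

open CategoryTheory CategoryTheory.Limits AlgebraicGeometry CochainComplex
  CategoryTheory.Pretriangulated TopologicalSpace

attribute [local instance] HasDerivedCategory.standard

noncomputable section

namespace Groth.L19.AmpleRes

open Groth.L29.DC Groth.Lead.ResProp
open scoped ZeroObject

variable {X : Scheme.{u}} {ι : Type u} {L : ι → X.Modules}

variable (L) in
/-- A stage of the construction: terms in degrees `[n, b]`, cone acyclic from `n` on. -/
def IsStage {E F : CochainComplex X.Modules ℤ} (φ : E ⟶ F) (b n : ℤ) : Prop :=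
  (∀ i, i < n ∨ b < i → IsZero (E.X i)) ∧ (∀ i, KSix.InAddL L (E.X i)) ∧
    ∀ i, n ≤ i → (mappingCone φ).ExactAt i

theorem isStage_succ (hL : KSix.IsAmpleFamily L) {E F : CochainComplex X.Modules ℤ}
    (hFq : ∀ i, Coh.IsQCoh (F.X i)) (hF : ∀ m, DCoh.IsPseudoCoherentD m (DCoh.toD X F)) (φ : E ⟶ F) {b n : ℤ}
    (hn : n - 1 ≤ b) (h : IsStage L φ b n) :
    ∃ (E' : CochainComplex X.Modules ℤ) (φ' : E' ⟶ F), IsStage L φ' b (n - 1) ∧
      ∃ j : E ⟶ E', j ≫ φ' = φ ∧ ∀ i, i ≠ n - 1 → IsIso (j.f i) := by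
  obtain ⟨hEz, hEL, hex⟩ := h
  have hE := isStrictlyPerfect_of_terms hEz hEL
  let C := mappingCone φ
  have hCq : ∀ i, Coh.IsQCoh (C.X i) := fun i =>
    isQCoh_cone φ (fun j => PCQCoh.isQCoh_of_isFinLocFree (hE.2 j)) hFq i
  have hpc : DCoh.IsPseudoCoherentD (n - 1) (DCoh.toD X C) :=
    (pc_two_out_of_three (DerivedCategory.mappingCone_triangle_distinguished φ) (n - 1)).1
      (pc_of_perfect (Groth.L29.DC.PushPerfect.isPerfect_of_strictly hE) _) (hF _)
  have hft : CohB1.IsFT (C.homology (n - 1)) := by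
    have h := TopCoh.isFT_top (m := n - 1) (n := n - 1) le_rfl hpc
      (fun i hi => ((HomologicalComplex.exactAt_iff_isZero_homology _ _).1 (hex i (by omega))).of_iso (hdIso C i))
    haveI : Epi (hdIso C (n - 1)).hom := inferInstance
    exact Groth.L17.Approx.isFT_of_epi (hdIso C (n - 1)).hom h
  obtain ⟨G, s₀, hG, hs₀⟩ := exists_epi_lift hL (PCQCoh.isQCoh_cycles hCq (n - 1))
    (PCQCoh.isQCoh_homology hCq (n - 1)) hft (C.homologyπ (n - 1))
  have hprev : (ComplexShape.up ℤ).prev (n - 1) = n - 2 := by simp; omega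
  obtain ⟨E', φ', h1, h2, h3, h4, -, h6⟩ := Groth.Lead.ResStep.exists_step_map φ n
    (fun i hi => hEz i (Or.inl hi)) hex (s₀ ≫ C.iCycles (n - 1))
    (by rw [Category.assoc, HomologicalComplex.iCycles_d, comp_zero]) (fun T z hz => by
      let z' := C.liftCycles z n (by simp) hz
      obtain ⟨T₁, e₁, he₁, x, hx⟩ := surjective_up_to_refinements_of_epi (s₀ ≫ C.homologyπ (n - 1))
        (z' ≫ C.homologyπ (n - 1))
      have h : (e₁ ≫ z') ≫ C.homologyπ (n - 1) = (x ≫ s₀) ≫ C.homologyπ (n - 1) := by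
        simpa only [Category.assoc] using hx
      obtain ⟨T₂, e₂, he₂, w, hw⟩ := (C.comp_homologyπ_eq_iff_up_to_refinements (n - 2) (n - 1) hprev _ _).1 h
      refine ⟨T₂, e₂ ≫ e₁, epi_comp _ _, e₂ ≫ x, w, ?_⟩
      have hw' := congrArg (· ≫ C.iCycles (n - 1)) hw
      simpa [z', C, Preadditive.add_comp] using hw')
  refine ⟨E', φ', ⟨fun i hi => ?_, fun i => ?_, h4⟩, h6⟩
  · rcases hi with hi | hi
    · exact h1 i hi
    · exact (hEz i (Or.inr hi)).of_iso (h2 i (by omega)).some
  · by_cases hi : i = n - 1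
    · subst hi
      exact inAddL_of_iso h3.some.symm hG
    · exact inAddL_of_iso (h2 i hi).some.symm (hEL i)

/-- In degrees where the cone is acyclic on both sides, a map is an isomorphism on cohomology. -/
theorem isIso_homologyMap_of_cone {E F : CochainComplex X.Modules ℤ} (φ : E ⟶ F) (i : ℤ)
    (h₁ : (mappingCone φ).ExactAt (i - 1)) (h₂ : (mappingCone φ).ExactAt i) :
    IsIso (HomologicalComplex.homologyMap φ i) := by
  have hT := DerivedCategory.mappingCone_triangle_distinguished φ
  let H := DerivedCategory.homologyFunctor X.Modules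
  have hz : ∀ k, (mappingCone φ).ExactAt k → IsZero ((H k).obj (DCoh.toD X (mappingCone φ))) := fun k hk =>
    ((HomologicalComplex.exactAt_iff_isZero_homology _ _).1 hk).of_iso (hdIso _ k)
  haveI h3 : IsIso ((H i).map (DerivedCategory.Q.map φ)) := by
    haveI : Mono ((H i).map (DerivedCategory.Q.map φ)) :=
      (DerivedCategory.HomologySequence.mono_homologyMap_mor₁_iff _ hT (i - 1) i (by omega)).2
        ((hz _ h₁).eq_of_src _ _)
    haveI : Epi ((H i).map (DerivedCategory.Q.map φ)) :=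
      (DerivedCategory.HomologySequence.epi_homologyMap_mor₁_iff _ hT i).2 ((hz _ h₂).eq_of_tgt _ _)
    exact isIso_of_mono_of_epi _
  exact (NatIso.isIso_map_iff (DerivedCategory.homologyFunctorFactors X.Modules i) φ).1 h3

/-- A map of complexes which is an isomorphism near a degree is an isomorphism on its cohomology. -/
theorem isIso_homologyMap_of_near {E F : CochainComplex X.Modules ℤ} (φ : E ⟶ F) (i : ℤ)
    (h₁ : IsIso (φ.f (i - 1))) (h₂ : IsIso (φ.f i)) (h₃ : IsIso (φ.f (i + 1))) :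
    IsIso (HomologicalComplex.homologyMap φ i) := by
  have hp : (ComplexShape.up ℤ).prev i = i - 1 := by simp
  have hn : (ComplexShape.up ℤ).next i = i + 1 := by simp
  let m := (HomologicalComplex.shortComplexFunctor X.Modules (ComplexShape.up ℤ) i).map φ
  haveI : IsIso m.τ₁ := by
    show IsIso (φ.f ((ComplexShape.up ℤ).prev i))
    rw [hp]; exact h₁
  haveI : IsIso m.τ₂ := h₂
  haveI : IsIso m.τ₃ := by
    show IsIso (φ.f ((ComplexShape.up ℤ).next i))
    rw [hn]; exact h₃
  haveI : IsIso m := ShortComplex.isIso_of_isIso m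
  exact inferInstanceAs (IsIso (ShortComplex.homologyMap m))

/-- Pseudo-coherent objects with bounded cohomology have models with terms in `L(X)`. -/
theorem exists_pseudoCoherent_model (hL : KSix.IsAmpleFamily L) (K : DCoh.D X)
    (hK : ∀ k : ℤ, DCoh.IsPseudoCoherentD k K) (a b : ℤ) [K.IsGE a] [K.IsLE b] :
    ∃ (E : CochainComplex X.Modules ℤ) (c : ℤ), (∀ i, c < i → IsZero (E.X i)) ∧
      (∀ i, KSix.InAddL L (E.X i)) ∧ Nonempty (DCoh.toD X E ≅ K) := by
  haveI := hL.1
  haveI := hL.2.1
  have hX := hasResolutionProperty hL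
  let b' : ℤ := a - 1 + ((b - (a - 1)).toNat : ℕ)
  have hle : K.IsLE b' := (DerivedCategory.isLE_iff K _).2 fun i hi =>
    (DerivedCategory.isLE_iff K b).1 inferInstance i (by omega)
  obtain ⟨F, -, hFq, ⟨e⟩⟩ := Groth.Lead.ResD.exists_qcoh_rep (Groth.Lead.ResD.affineHom_ι hX) a
    (b - (a - 1)).toNat K (PCQCoh.isQCohD_of_pc hK) inferInstance hle
  have hF : ∀ m, DCoh.IsPseudoCoherentD m (DCoh.toD X F) := fun m => isPseudoCoherentD_of_iso e.symm (hK m)
  let S : ℕ → Type (u + 1) := fun k =>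
    { p : Σ E : CochainComplex X.Modules ℤ, E ⟶ F // IsStage L p.2 b (b + 1 - (k : ℤ)) }
  have hstep : ∀ (k : ℕ) (s : S k), ∃ (s' : S (k + 1)) (j : s.1.1 ⟶ s'.1.1),
      j ≫ s'.1.2 = s.1.2 ∧ ∀ i, i ≠ b - k → IsIso (j.f i) := by
    rintro k ⟨⟨E, φ⟩, hs⟩
    obtain ⟨E', φ', h', j, hj, hjiso⟩ := isStage_succ hL hFq hF φ (by omega) hs
    rw [show b + 1 - (k : ℤ) - 1 = b + 1 - ((k + 1 : ℕ) : ℤ) by push_cast; ring] at h'
    exact ⟨⟨⟨E', φ'⟩, h'⟩, j, hj, fun i hi => hjiso i (by omega)⟩
  choose next j hj hjiso using hstep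
  have hz0 : ∀ i, IsZero ((0 : CochainComplex X.Modules ℤ).X i) := fun i =>
    (HomologicalComplex.eval _ _ i).map_isZero (Limits.isZero_zero _)
  have h0 : IsStage L (0 : (0 : CochainComplex X.Modules ℤ) ⟶ F) b (b + 1 - ((0 : ℕ) : ℤ)) := by
    refine ⟨fun i _ => hz0 i, fun i => inAddL_of_isZero (hz0 i), fun i hi => ?_⟩
    haveI : IsIso (DerivedCategory.Q.map (mappingCone.inr (0 : (0 : CochainComplex X.Modules ℤ) ⟶ F))) := by
      have h := DerivedCategory.mappingCone_triangle_distinguished (0 : (0 : CochainComplex X.Modules ℤ) ⟶ F)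
      exact (Triangle.isZero₁_iff_isIso₂ _ h).1 (DerivedCategory.Q.map_isZero (Limits.isZero_zero _))
    rw [HomologicalComplex.exactAt_iff_isZero_homology]
    have hi' : IsZero (DCoh.HD (DCoh.toD X F) i) :=
      ((DerivedCategory.isLE_iff K b).1 inferInstance i (by omega)).of_iso
        ((DerivedCategory.homologyFunctor _ i).mapIso e)
    exact (hi'.of_iso ((DerivedCategory.homologyFunctor _ i).mapIso (asIso (DerivedCategory.Q.map
      (mappingCone.inr (0 : (0 : CochainComplex X.Modules ℤ) ⟶ F)))).symm)).of_iso (hdIso _ i).symm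
  let st : ∀ k, S k := fun k => Nat.rec (motive := S) ⟨⟨0, 0⟩, h0⟩ next k
  let G : ℕ ⥤ CochainComplex X.Modules ℤ := Functor.ofSequence (X := fun k => (st k).1.1) fun k => j k (st k)
  let c : Cocone G :=
    { pt := F
      ι := NatTrans.ofSequence
        (fun k => (st k).1.2) fun k => by
          simp only [G, Functor.const_obj_map, Category.comp_id, Functor.ofSequence_map_homOfLE_succ]
          exact hj k (st k) }
  let Einf := colimit G
  have hev : ∀ (i : ℤ) (k₀ : ℕ), b - i < k₀ →
      (G ⋙ HomologicalComplex.eval _ _ i).IsEventuallyConstantFrom k₀ := by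
    intro i k₀ hk₀ l f
    obtain ⟨d, rfl⟩ := Nat.exists_eq_add_of_le (leOfHom f)
    induction d with
    | zero =>
      rw [Subsingleton.elim f (𝟙 k₀)]
      infer_instance
    | succ d ih =>
      rw [Subsingleton.elim f (homOfLE (Nat.le_add_right k₀ d) ≫ homOfLE (Nat.le_succ (k₀ + d))), Functor.map_comp]
      haveI := ih (homOfLE (Nat.le_add_right k₀ d))
      haveI : IsIso ((G ⋙ HomologicalComplex.eval _ _ i).map (homOfLE (Nat.le_succ (k₀ + d)))) := by
        show IsIso ((G.map (homOfLE (Nat.le_succ (k₀ + d)))).f i)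
        simp only [G, Functor.ofSequence_map_homOfLE_succ]
        exact hjiso _ _ i (by push_cast; omega)
      exact IsIso.comp_isIso
  have hι : ∀ (i : ℤ) (k : ℕ), b - i < k → IsIso ((colimit.ι G k).f i) := fun i k hk =>
    (hev i k hk).isIso_ι_of_isColimit' (isColimitOfPreserves (HomologicalComplex.eval _ _ i) (colimit.isColimit G))
      k (𝟙 k)
  let φ : Einf ⟶ F := colimit.desc G c
  haveI : QuasiIso φ := ⟨fun i => by
    rw [quasiIsoAt_iff_isIso_homologyMap]
    obtain ⟨k, hk⟩ : ∃ k : ℕ, b + 2 - i ≤ (k : ℤ) := ⟨(b + 2 - i).toNat, by omega⟩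
    haveI h1 := isIso_homologyMap_of_near (colimit.ι G k) i (hι _ k (by omega)) (hι _ k (by omega))
      (hι _ k (by omega))
    have hfac : colimit.ι G k ≫ φ = (st k).1.2 := (colimit.ι_desc c k).trans rfl
    have h2 := isIso_homologyMap_of_cone ((st k).1.2) i ((st k).2.2.2 _ (by omega)) ((st k).2.2.2 _ (by omega))
    rw [← hfac, HomologicalComplex.homologyMap_comp] at h2
    exact IsIso.of_isIso_comp_left (HomologicalComplex.homologyMap (colimit.ι G k) i) _⟩
  haveI : IsIso (DerivedCategory.Q.map φ) := (DerivedCategory.isIso_Q_map_iff_quasiIso _ _).2 inferInstance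
  refine ⟨Einf, b, fun i hi => ?_, fun i => ?_, ⟨asIso (DerivedCategory.Q.map φ) ≪≫ e⟩⟩
  · haveI := hι i 0 (by omega)
    exact ((st 0).2.1 i (Or.inr hi)).of_iso (asIso ((colimit.ι G 0).f i)).symm
  · haveI := hι i ((b - i).toNat + 1) (by omega)
    exact inAddL_of_iso (asIso ((colimit.ι G ((b - i).toNat + 1)).f i)) ((st ((b - i).toNat + 1)).2.2.1 i)

end Groth.L19.AmpleRes
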