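import Groth.Agent.L03.SurfAmple.Zero
import Groth.Agent.L21.Mero.Zero
import Groth.Agent.L19.SchDense
import Groth.Agent.L18.AmpleAvoid
import Groth.Agent.L18.AmpleLocal
import Groth.Agent.L00.TensorMod
import Mathlib.RingTheory.Ideal.AssociatedPrime.Finiteness

/-!
# Invertible modules as differences of effective Cartier divisors avoiding finitely many points
-/

set_option autoImplicit false
set_option backward.isDefEq.respectTransparency false
set_option linter.style.haveILetI false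
set_option linter.unusedSectionVars false

universe u

open CategoryTheory AlgebraicGeometry TopologicalSpace Opposite

noncomputable section

namespace Groth.L19.DivisorDifference

open Groth.L18.Frame (rs ro rs_rs rs_self rs_smul ro_ro ro_self ro_mul IsFrame)
open Groth.L18.GenLoc (secOf tens tens_rs tens_smul_left tens_smul_right isFrame_tens isFrame_genLocus genLocus_inf_eq)
open Groth.L18.Ample (tw it pw it_rs)

/-- The associated points of a scheme. -/
def assPts (X : Scheme.{u}) : Set X :=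
  {x | IsAssociatedPrime (IsLocalRing.maximalIdeal (X.presheaf.stalk x)) (X.presheaf.stalk x)}

theorem finite_assPts (X : Scheme.{u}) [IsNoetherian X] : (assPts X).Finite := by
  obtain ⟨t, ht⟩ := (isCompact_univ (X := X)).elim_finite_subcover (fun U : X.affineOpens => (U.1 : Set X))
    (fun U => U.1.2) (fun x _ => by
      obtain ⟨U, hU, hxU, -⟩ := exists_isAffineOpen_mem_and_subset (x := x) (U := ⊤) trivial
      exact Set.mem_iUnion.mpr ⟨⟨U, hU⟩, hxU⟩)
  refine Set.Finite.subset (Set.Finite.biUnion t.finite_toSet (fun U (_ : U ∈ (t : Set _)) =>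
    haveI : IsNoetherianRing Γ(X, U.1) := IsLocallyNoetherian.component_noetherian U
    ((associatedPrimes.finite Γ(X, U.1) Γ(X, U.1)).preimage
      (f := fun p : PrimeSpectrum Γ(X, U.1) => p.asIdeal) (fun a _ b _ h => PrimeSpectrum.ext h)).image U.2.fromSpec)) ?_
  intro x hx
  obtain ⟨U, hUt, hxU⟩ := Set.mem_iUnion₂.mp (ht (Set.mem_univ x))
  refine Set.mem_iUnion₂.mpr ⟨U, hUt, U.2.primeIdealOf ⟨x, hxU⟩, ?_, U.2.fromSpec_primeIdealOf ⟨x, hxU⟩⟩
  exact (Groth.Agent.L19.SchDense.isAssociatedPrime_stalk_iff U.2 x hxU).1 hx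

variable {X : Scheme.{u}} {L : X.Modules}

/-- All affine coefficients of a section are nonzerodivisors. -/
def IsReg (s : Coh.structureModule X ⟶ L) : Prop :=
  ∀ (W : X.Opens), IsAffineOpen W → ∀ (e : Γ(L, W)) (c : Γ(X, W)), IsFrame L W e →
    c • e = rs L le_top (secOf s) → c ∈ nonZeroDivisors Γ(X, W)

theorem isReg_of_assPts_subset [IsLocallyNoetherian X] {s : Coh.structureModule X ⟶ L}
    (h : assPts X ⊆ CohB1.genLocus L s) : IsReg s := by
  intro W hW e c he hc
  haveI : IsNoetherianRing Γ(X, W) := IsLocallyNoetherian.component_noetherian ⟨W, hW⟩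
  by_contra hn
  have hz : c ∈ {r : Γ(X, W) | ∃ a : Γ(X, W), a ≠ 0 ∧ r • a = 0} := by
    rw [mem_nonZeroDivisors_iff_right] at hn
    push Not at hn
    obtain ⟨a, ha, ha0⟩ := hn
    exact ⟨a, ha0, by rwa [smul_eq_mul, mul_comm]⟩
  rw [← biUnion_associatedPrimes_eq_zero_divisors] at hz
  obtain ⟨p, hp, hcp⟩ := Set.mem_iUnion₂.mp hz
  haveI := hp.isPrime
  let q : PrimeSpectrum Γ(X, W) := ⟨p, inferInstance⟩
  have hxW : hW.fromSpec q ∈ W := hW.range_fromSpec.le ⟨q, rfl⟩
  have hpq : (hW.primeIdealOf ⟨_, hxW⟩) = q :=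
    hW.fromSpec.isOpenEmbedding.injective (hW.fromSpec_primeIdealOf ⟨_, hxW⟩)
  have hx : hW.fromSpec q ∈ assPts X :=
    (Groth.Agent.L19.SchDense.isAssociatedPrime_stalk_iff hW _ hxW).2 (by rw [hpq]; exact hp)
  have hb : hW.fromSpec q ∈ X.basicOpen c := (genLocus_inf_eq s he hc).le ⟨h hx, hxW⟩
  have h2 : q ∈ hW.fromSpec ⁻¹ᵁ X.basicOpen c := hb
  rw [hW.fromSpec_preimage_basicOpen] at h2
  exact h2 hcp

theorem exists_isUnit_mul {R : Type*} [CommRing R] {g c : R} (hc : c ∈ nonZeroDivisors R)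
    (h : Ideal.span {g} = Ideal.span {c}) : ∃ v, IsUnit v ∧ v * g = c := by
  obtain ⟨v, hv⟩ := Ideal.mem_span_singleton'.mp (h.ge (Ideal.mem_span_singleton_self c))
  obtain ⟨w, hw⟩ := Ideal.mem_span_singleton'.mp (h.le (Ideal.mem_span_singleton_self g))
  refine ⟨v, IsUnit.of_mul_eq_one w ?_, hv⟩
  rw [← sub_eq_zero]
  refine (mem_nonZeroDivisors_iff_right.mp hc) _ ?_
  rw [sub_mul, one_mul, mul_assoc, hw, hv, sub_self]

theorem isEffCartier_zeroScheme (hL : PicF.IsInvertible L) {s : Coh.structureModule X ⟶ L} (hreg : IsReg s) :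
    BlowUp.IsEffCartierIdeal (PicF2.zeroScheme L s) := fun x => by
  obtain ⟨U, e, hxU, -, he⟩ := Groth.L21.Mero.exists_frame_affine hL x (O := ⊤) trivial
  obtain ⟨a, ha⟩ := he.exists_coeff le_rfl (rs L (le_top : U.1 ≤ ⊤) (secOf s))
  rw [rs_self] at ha
  exact ⟨U, hxU, a, hreg U.1 U.2 e a he ha, Groth.L21.Mero.zeroScheme_ideal_frame hL s U he ha⟩

/-- The ideal of the zeros of a regular section is inverse to the module. -/
theorem nonempty_tensor_zeroScheme (hL : PicF.IsInvertible L) {s : Coh.structureModule X ⟶ L} (hreg : IsReg s) :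
    Nonempty (CohB1.tensorMod (ClSub.idealMod (PicF2.zeroScheme L s)) L ≅ Coh.structureModule X) := by
  set I := PicF2.zeroScheme L s
  set J := ClSub.idealMod I
  have hJ : PicF.IsInvertible J :=
    (Groth.Agent.L19.IdealInvertible.isEffCartier_iff I).2 (isEffCartier_zeroScheme hL hreg)
  let io : ∀ V : X.Opens, Γ(J, V) → Γ(X, V) := Groth.Agent.L19.IdealInvertible.io I
  have io_smul : ∀ (V : X.Opens) (a : Γ(X, V)) (m : Γ(J, V)), io V (a • m) = a * io V m := fun V a m =>
    Groth.Agent.L19.IdealInvertible.io_smul I a m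
  have io_rs : ∀ (V V' : X.Opens) (h : V' ≤ V) (m : Γ(J, V)), io V' (rs J h m) = ro h (io V m) :=
    fun V V' h m => Groth.Agent.L19.IdealInvertible.io_rs I h m
  have hcov : ∀ x : X, ∃ (W : X.Opens) (e : Γ(L, W)) (m : Γ(J, W)), x ∈ W ∧ IsFrame L W e ∧ IsFrame J W m ∧
      io W m • e = rs L le_top (secOf s) := by
    intro x
    obtain ⟨W₁, d, hW₁, hd⟩ := Groth.L18.Frame.exists_frame hL x
    obtain ⟨W₂, μ₀, hW₂, hμ₀⟩ := Groth.L18.Frame.exists_frame hJ x
    obtain ⟨W, hW, hxW, hWle⟩ :=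
      exists_isAffineOpen_mem_and_subset (x := x) (U := W₁ ⊓ W₂) ⟨hW₁, hW₂⟩
    have hle₁ : W ≤ W₁ := fun y hy => (hWle hy).1
    have hle₂ : W ≤ W₂ := fun y hy => (hWle hy).2
    have he := hd.mono hle₁
    have hμ := hμ₀.mono hle₂
    obtain ⟨c, hc⟩ := he.exists_coeff le_rfl (rs L le_top (secOf s))
    rw [rs_self] at hc
    have hspan := Groth.L21.Mero.zeroScheme_ideal_frame hL s ⟨W, hW⟩ he hc
    set μ := rs J hle₂ μ₀
    set g := io W μ
    have hgc : Ideal.span {g} = Ideal.span {c} := by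
      rw [← hspan]
      ext a
      rw [Groth.L18.IdealModule.mem_ideal_iff I hW, Ideal.mem_span_singleton']
      constructor
      · rintro ⟨b, rfl⟩
        exact ⟨b • μ, io_smul W b μ⟩
      · rintro ⟨n, rfl⟩
        obtain ⟨b, hb⟩ := hμ.exists_coeff le_rfl n
        rw [rs_self] at hb
        exact ⟨b, by rw [← io_smul, hb]⟩
    obtain ⟨v, hv, hgv⟩ := exists_isUnit_mul (hreg W hW _ c he hc) hgc
    exact ⟨W, rs L hle₁ d, v • μ, hxW, he, hμ.smul_unit hv, by rw [io_smul, hgv, hc]⟩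
  choose W e m hW he hm hme using hcov
  let T : ∀ i : X, Γ(CohB1.tensorMod J L, W i) := fun i => tens J L (W i) (m i) (e i)
  have hT : ∀ i j : X, rs (CohB1.tensorMod J L) (inf_le_left : W i ⊓ W j ≤ W i) (T i) =
      rs (CohB1.tensorMod J L) (inf_le_right : W i ⊓ W j ≤ W j) (T j) := by
    intro i j
    rw [tens_rs, tens_rs]
    obtain ⟨b, hb⟩ := ((he i).mono (inf_le_left : W i ⊓ W j ≤ W i)).exists_coeff le_rfl
      (rs L (inf_le_right : W i ⊓ W j ≤ W j) (e j))
    rw [rs_self] at hb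
    have h1 := congrArg (rs L (inf_le_left : W i ⊓ W j ≤ W i)) (hme i)
    have h2 := congrArg (rs L (inf_le_right : W i ⊓ W j ≤ W j)) (hme j)
    rw [rs_smul, rs_rs] at h1 h2
    rw [← hb, smul_smul, ← h1] at h2
    have h3 : ro (inf_le_right : W i ⊓ W j ≤ W j) (io _ (m j)) * b = ro (inf_le_left : W i ⊓ W j ≤ W i) (io _ (m i)) :=
      ((he i).mono (inf_le_left : W i ⊓ W j ≤ W i)).inj le_rfl (by rw [rs_self]; exact h2)
    have h4 : rs J (inf_le_left : W i ⊓ W j ≤ W i) (m i) = b • rs J (inf_le_right : W i ⊓ W j ≤ W j) (m j) := by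
      refine Groth.Agent.L19.IdealInvertible.io_inj I _ ?_
      show io _ (rs J _ (m i)) = io _ (b • rs J _ (m j))
      rw [io_smul, io_rs, io_rs, mul_comm]
      exact h3.symm
    rw [h4, ← hb, tens_smul_left, tens_smul_right]
  let OT : TopCat.Sheaf Ab.{u} X.toTopCat := ⟨(CohB1.tensorMod J L).presheaf, (CohB1.tensorMod J L).isSheaf⟩
  obtain ⟨τ, hτ, -⟩ := OT.existsUnique_gluing' W ⊤ (fun i => homOfLE le_top)
    (fun x _ => Opens.mem_iSup.2 ⟨x, hW x⟩) T fun i j => hT i j
  refine Groth.L08.Cube.nonempty_iso_of_frame_top (σ := τ)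
    (IsFrame.of_cover W (fun _ => le_top) (fun x _ => Opens.mem_iSup.2 ⟨x, hW x⟩) fun i => ?_)
  rw [show rs (CohB1.tensorMod J L) le_top τ = T i from hτ i]
  exact isFrame_tens (hm i) (he i)

theorem mem_genLocus_of_it {N M : X.Modules} (hM : PicF.IsInvertible M) (s : Coh.structureModule X ⟶ M)
    {W : X.Opens} {m : Γ(N, CohB1.genLocus M s)} (hW : W ≤ CohB1.genLocus M s)
    (hm : IsFrame N W (rs N hW m)) (k : ℕ) {t : Γ(tw N M k, ⊤)}
    (ht : rs (tw N M k) le_top t = it (secOf s) (CohB1.genLocus M s) m k) {x : X} (hx : x ∈ W) :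
    x ∈ CohB1.genLocus _ (Groth.L16.homOfSection (tw N M k) t) := by
  have hσ : IsFrame M W (rs M le_top (secOf s)) := by
    have := (isFrame_genLocus s).mono hW
    rwa [rs_rs] at this
  have hk : ∀ k : ℕ, IsFrame (tw N M k) W (it (secOf s) W (rs N hW m) k) := by
    intro k
    induction k with
    | zero => exact hm
    | succ k ih => exact isFrame_tens ih hσ
  have e : rs (tw N M k) le_top t = it (secOf s) W (rs N hW m) k := by
    rw [← it_rs _ hW m k, ← ht, rs_rs]
  have h := genLocus_inf_eq (Groth.L16.homOfSection (tw N M k) t) (hk k) (a := 1)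
    (by rw [one_smul, Groth.L18.GenLoc.secOf_homOfSection]; exact e.symm)
  rw [Scheme.basicOpen_of_isUnit _ isUnit_one] at h
  exact (h.ge hx).1

/-- For any invertible `N` there are inverse-twisted powers with sections avoiding given finitely many points. -/
theorem exists_difference [IsNoetherian X] (hL : CohB1.IsAmple L) {N : X.Modules} (hN : PicF.IsInvertible N)
    (E : Set X) (hE : E.Finite) :
    ∃ (K₁ K₂ : X.Modules) (_ : PicF.IsInvertible K₁) (_ : PicF.IsInvertible K₂)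
      (u : Coh.structureModule X ⟶ K₁) (v : Coh.structureModule X ⟶ K₂),
      E ⊆ CohB1.genLocus K₁ u ∧ E ⊆ CohB1.genLocus K₂ v ∧ Nonempty (CohB1.tensorMod N K₂ ≅ K₁) := by
  obtain ⟨N', hN', ⟨eN⟩⟩ := Groth.L08.Cube.exists_inverse hN
  obtain ⟨n, s, hEs, -, hGa⟩ := Groth.L18.Ample.exists_pow_genLocus_of_isAmple hL E hE ⊤ (fun _ _ => trivial)
  let M := CohB1.tensorPow L (n + 1)
  have hM : PicF.IsInvertible M := Groth.L18.Ample.isInvertible_tensorPow hL.1 _
  let G := CohB1.genLocus M s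
  haveI : IsAffine (G : Scheme.{u}) := hGa
  obtain ⟨m', -, hEm, -⟩ := Groth.L18.Ample.exists_genLocus_of_isQuasiAffine
    (Groth.L18.Ample.isInvertible_restrict hN' G) (G.ι ⁻¹' E) (hE.preimage G.ι.isOpenEmbedding.injective.injOn) ⊤
    (fun _ _ => trivial)
  let m : Γ(N', G) := rs N' G.ι_image_top.ge (secOf m')
  obtain ⟨k, t, ht⟩ := Groth.L18.Ample.exists_extend hM hN' s m
  have iso : ∀ k : ℕ, Nonempty (CohB1.tensorMod N (tw N' M k) ≅ CohB1.tensorPow M k) := fun k => by
    induction k with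
    | zero => exact ⟨eN⟩
    | succ k ih =>
      obtain ⟨e⟩ := ih
      exact ⟨(Groth.L00.Tensor.tensorAssoc N (tw N' M k) M).symm ≪≫ Groth.L00.Tensor.tensorIso e (Iso.refl M)⟩
  have inv : ∀ k : ℕ, PicF.IsInvertible (tw N' M k) := fun k => by
    induction k with
    | zero => exact hN'
    | succ k ih => exact Groth.L18.GenLoc.isInvertible_tensor ih hM
  refine ⟨CohB1.tensorPow M k, tw N' M k, Groth.L18.Ample.isInvertible_tensorPow hM _, inv k, pw s k,
    Groth.L16.homOfSection _ t, fun x hx => ?_, fun x hx => ?_, iso k⟩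
  · cases k with
    | zero => show x ∈ CohB1.genLocus _ (𝟙 _); rw [Groth.L18.Ample.genLocus_id]; trivial
    | succ k => rw [Groth.L18.Ample.genLocus_pw_succ hM]; exact hEs hx
  · have hy : (⟨x, hEs hx⟩ : (G : Scheme.{u})) ∈ CohB1.genLocus _ m' := hEm hx
    let V := CohB1.genLocus _ m'
    have hF : IsFrame (N'.restrict G.ι) V (rs _ le_top (secOf m')) := isFrame_genLocus m'
    have hW : G.ι ''ᵁ V ≤ G := fun z ⟨y, _, hz⟩ => hz ▸ y.2
    refine mem_genLocus_of_it hM s hW ?_ k ht (x := x) ⟨⟨x, hEs hx⟩, hy, rfl⟩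
    have := (Groth.L18.Ample.isFrame_restrict_iff N' G V _).1 hF
    rw [show rs N' hW m = rs N' (Scheme.Hom.image_mono G.ι le_top) (secOf m') from rs_rs _ _ _ _]
    exact this

/-- An invertible module is a difference of two effective Cartier divisors avoiding given finitely many points. -/
theorem exists_effCartier_pair [IsNoetherian X] (hL : CohB1.IsAmple L) {N : X.Modules} (hN : PicF.IsInvertible N)
    (E : Set X) (hE : E.Finite) :
    ∃ D D' : X.IdealSheafData, BlowUp.IsEffCartierIdeal D ∧ BlowUp.IsEffCartierIdeal D' ∧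
      Disjoint E (D.support : Set X) ∧ Disjoint E (D'.support : Set X) ∧
      Nonempty (CohB1.tensorMod N (ClSub.idealMod D) ≅ ClSub.idealMod D') := by
  obtain ⟨K₁, K₂, h₁, h₂, u, v, hu, hv, ⟨e⟩⟩ :=
    exists_difference hL hN (E ∪ assPts X) (hE.union (finite_assPts X))
  have hru : IsReg u := isReg_of_assPts_subset fun x hx => hu (Or.inr hx)
  have hrv : IsReg v := isReg_of_assPts_subset fun x hx => hv (Or.inr hx)
  refine ⟨PicF2.zeroScheme K₁ u, PicF2.zeroScheme K₂ v, isEffCartier_zeroScheme h₁ hru,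
    isEffCartier_zeroScheme h₂ hrv, ?_, ?_, ?_⟩
  · rw [Groth.L22.ZeroScheme.support_zeroScheme h₁, Set.disjoint_compl_right_iff_subset]
    exact fun x hx => hu (Or.inl hx)
  · rw [Groth.L22.ZeroScheme.support_zeroScheme h₂, Set.disjoint_compl_right_iff_subset]
    exact fun x hx => hv (Or.inl hx)
  obtain ⟨eJ⟩ := nonempty_tensor_zeroScheme h₁ hru
  obtain ⟨eJ'⟩ := nonempty_tensor_zeroScheme h₂ hrv
  set J := ClSub.idealMod (PicF2.zeroScheme K₁ u)
  set J' := ClSub.idealMod (PicF2.zeroScheme K₂ v)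
  open Groth.L00.Tensor in
  let e2 : CohB1.tensorMod (CohB1.tensorMod N J) K₂ ≅ Coh.structureModule X :=
    tensorIso (tensorComm N J) (Iso.refl K₂) ≪≫ tensorAssoc J N K₂ ≪≫ tensorIso (Iso.refl J) e ≪≫ eJ
  open Groth.L00.Tensor in
  exact ⟨(tensorUnitRight (CohB1.tensorMod N J)).symm ≪≫
    tensorIso (Iso.refl _) (eJ'.symm ≪≫ tensorComm J' K₂) ≪≫ (tensorAssoc _ K₂ J').symm ≪≫
    tensorIso e2 (Iso.refl J') ≪≫ tensorUnitLeft J'⟩

end Groth.L19.DivisorDifference
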