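import Groth.Agent.L19.Limit.CC
import Groth.Agent.L06.ProCons
import Groth.Agent.L20.ModStalk
import Groth.Prelude.Def_FDesc
import Mathlib.RingTheory.Flat.FaithfullyFlat.Basic
import Mathlib.RingTheory.LocalRing.ResidueField.Fiber

/-!
# Quasi-flat morphisms are generalizing
-/

set_option autoImplicit false
set_option linter.style.haveILetI false
set_option backward.isDefEq.respectTransparency.types false
set_option backward.isDefEq.respectTransparency false

universe u

open CategoryTheory CategoryTheory.Limits AlgebraicGeometry TopologicalSpace IsLocalRing TensorProduct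

noncomputable section

namespace Groth.L19.QFlat

/-- A nonzero finite module over a local `B`, flat over the local ring `A`, makes `Spec B → Spec A`
surjective. -/
theorem comap_surjective_of_flat {A B N : Type u} [CommRing A] [CommRing B] [IsLocalRing A]
    [IsLocalRing B] [Algebra A B] [IsLocalHom (algebraMap A B)] [AddCommGroup N] [Module A N]
    [Module B N] [IsScalarTower A B N] [Module.Finite B N] [Module.Flat A N] [Nontrivial N] :
    Function.Surjective (PrimeSpectrum.comap (algebraMap A B)) := by
  have hff : Module.FaithfullyFlat A N := by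
    refine { submodule_ne_top := fun m hm h => ?_ }
    rw [eq_maximalIdeal hm] at h
    have hmB : (maximalIdeal B) • (⊤ : Submodule B N) ≠ ⊤ := by
      intro h'
      obtain ⟨x, hx⟩ := exists_ne (0 : N)
      have h2 := Submodule.eq_bot_of_le_smul_of_le_jacobson_bot (maximalIdeal B) (⊤ : Submodule B N)
        Module.Finite.fg_top h'.ge (IsLocalRing.maximalIdeal_le_jacobson _)
      exact hx ((Submodule.mem_bot B).mp (h2 ▸ Submodule.mem_top))
    refine hmB (eq_top_iff.mpr fun x _ => ?_)
    have hx : x ∈ maximalIdeal A • (⊤ : Submodule A N) := h.ge Submodule.mem_top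
    refine Submodule.smul_induction_on hx (fun a ha n _ => ?_) fun a b => add_mem
    rw [← algebraMap_smul B a n]
    refine Submodule.smul_mem_smul ?_ Submodule.mem_top
    exact fun hu => ha (IsLocalHom.map_nonunit a hu)
  intro q
  refine (PrimeSpectrum.nontrivial_iff_mem_rangeComap q).mp ?_
  by_contra hn
  rw [not_nontrivial_iff_subsingleton] at hn
  have hNn : Nontrivial (q.asIdeal.ResidueField ⊗[A] N) := inferInstance
  refine not_subsingleton (q.asIdeal.ResidueField ⊗[A] N) ⟨fun a b => ?_⟩
  suffices h : ∀ z : q.asIdeal.ResidueField ⊗[A] N, z = 0 by rw [h a, h b]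
  intro z
  induction z using TensorProduct.induction_on with
  | zero => rfl
  | add a b ha hb => rw [ha, hb, add_zero]
  | tmul c n =>
    let g : B →ₗ[A] N := ((LinearMap.lsmul B N).flip n).restrictScalars A
    have h1 : c ⊗ₜ[A] n = LinearMap.lTensor q.asIdeal.ResidueField g (c ⊗ₜ 1) := by
      rw [LinearMap.lTensor_tmul]
      simp [g]
    rw [h1, Subsingleton.elim (c ⊗ₜ[A] (1 : B)) 0, map_zero]

variable {X Y : Scheme.{u}}

/-- A quasi-flat morphism is generalizing. -/
theorem generalizingMap (f : X ⟶ Y) (hf : FDesc.IsQuasiFlat f) : GeneralizingMap f := by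
  obtain ⟨M, hM, hflat, hne⟩ := hf
  haveI : Coh.IsQCoh M := hM.1
  intro x y hy
  obtain ⟨_, ⟨V, hV, rfl⟩, hxV, -⟩ :=
    X.isBasis_affineOpens.exists_subset_of_mem_open (Set.mem_univ x) isOpen_univ
  replace hV : IsAffineOpen V := hV
  letI := Groth.L20.ModStalk.stalkModule M hxV
  letI := X.presheaf.algebra_section_stalk ⟨x, hxV⟩
  have := hV.isLocalization_stalk ⟨x, hxV⟩
  have := Groth.L20.ModStalk.isLocalizedModule_germ M hV hxV
  have : IsScalarTower Γ(X, V) (X.presheaf.stalk x) (M.presheaf.stalk x) :=
    IsScalarTower.of_algebraMap_smul fun _ _ => rfl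
  haveI : Module.Finite Γ(X, V) Γ(M, V) := Groth.L20.ModStalk.finite_sections M hM hV
  haveI : Module.Finite (X.presheaf.stalk x) (M.presheaf.stalk x) :=
    Module.Finite.of_isLocalizedModule (hV.primeIdealOf ⟨x, hxV⟩).asIdeal.primeCompl
      (Groth.L20.ModStalk.germₗ M hxV)
  letI : Algebra (Y.presheaf.stalk (f x)) (X.presheaf.stalk x) := (f.stalkMap x).hom.toAlgebra
  letI := FlatMod.moduleStalkOver f M x
  haveI : IsScalarTower (Y.presheaf.stalk (f x)) (X.presheaf.stalk x) (M.presheaf.stalk x) :=
    IsScalarTower.of_algebraMap_smul fun _ _ => rfl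
  haveI : Module.Flat (Y.presheaf.stalk (f x)) (M.presheaf.stalk x) := hflat x
  haveI : IsLocalHom (algebraMap (Y.presheaf.stalk (f x)) (X.presheaf.stalk x)) :=
    inferInstanceAs (IsLocalHom (f.stalkMap x).hom)
  haveI := hne x
  obtain ⟨q, hq⟩ : y ∈ Set.range (Y.fromSpecStalk (f x)) := by
    rw [Scheme.range_fromSpecStalk]; exact hy
  obtain ⟨p, hp⟩ := comap_surjective_of_flat (A := Y.presheaf.stalk (f x)) (B := X.presheaf.stalk x)
    (N := M.presheaf.stalk x) q
  refine ⟨X.fromSpecStalk x p, ?_, ?_⟩
  · have : X.fromSpecStalk x p ∈ Set.range (X.fromSpecStalk x) := ⟨p, rfl⟩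
    rw [Scheme.range_fromSpecStalk] at this
    exact this
  · rw [← hq, ← hp, ← Scheme.Hom.comp_apply, ← Scheme.SpecMap_stalkMap_fromSpecStalk,
      Scheme.Hom.comp_apply]
    rfl

/-- Preimage commutes with closure for constructibly closed sets along generalizing maps. -/
theorem preimage_closure_eq (f : X ⟶ Y) (hf : GeneralizingMap f) {C : Set Y}
    (hC : Groth.L19.Limit.CC C) : f ⁻¹' closure C = closure (f ⁻¹' C) :=
  Set.Subset.antisymm (Groth.L19.Limit.preimage_closure_subset_of_generalizingMap hC f hf)
    (f.continuous.closure_preimage_subset C)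

/-- A quasi-compact surjective generalizing morphism is a quotient map. -/
theorem isQuotientMap (f : X ⟶ Y) [Surjective f] [QuasiCompact f] (hf : GeneralizingMap f) :
    Topology.IsQuotientMap f := by
  refine Topology.isQuotientMap_iff_isClosed.mpr ⟨f.surjective, fun Z =>
    ⟨fun h => h.preimage f.continuous, fun h => ?_⟩⟩
  have hcc : Groth.L19.Limit.CC Z := by
    rw [← Set.image_preimage_eq Z f.surjective]
    exact Groth.L06.ProCons.cc_image f (Groth.L19.Limit.cc_of_isClosed h)
  refine closure_subset_iff_isClosed.mp fun y hy => ?_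
  obtain ⟨x, rfl⟩ := f.surjective y
  have hx : x ∈ f ⁻¹' closure Z := hy
  rw [preimage_closure_eq f hf hcc, h.closure_eq] at hx
  exact hx

end Groth.L19.QFlat
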