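import Groth.Agent.L20.ModStalk
import Groth.Agent.L20.SmoothLocal.ProjLocal
import Groth.Agent.L16.AffineBC.Pullback

/-!
# Locally projective quasi-coherent modules
-/

set_option autoImplicit false
set_option linter.style.haveILetI false
universe u

open CategoryTheory CategoryTheory.Limits AlgebraicGeometry TopologicalSpace Opposite
open scoped TensorProduct

noncomputable section

namespace Groth.L19.LocProj

open Groth.L18.Frame (rs ro rs_smul)

variable {X Y : Scheme.{u}}

theorem congr_opens (M : X.Modules) {U V : X.Opens} (h : U = V)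
    [Module.Projective Γ(X, U) Γ(M, U)] : Module.Projective Γ(X, V) Γ(M, V) := by
  subst h; infer_instance

theorem projective_basicOpen (M : X.Modules) [Coh.IsQCoh M] {V : X.Opens} (hV : IsAffineOpen V) (g : Γ(X, V))
    [Module.Projective Γ(X, V) Γ(M, V)] : Module.Projective Γ(X, X.basicOpen g) Γ(M, X.basicOpen g) := by
  letI := Module.compHom Γ(M, X.basicOpen g) (X.presheaf.map (homOfLE (X.basicOpen_le g)).op).hom
  letI : Algebra Γ(X, V) Γ(X, X.basicOpen g) := (X.presheaf.map (homOfLE (X.basicOpen_le g)).op).hom.toAlgebra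
  haveI : IsScalarTower Γ(X, V) Γ(X, X.basicOpen g) Γ(M, X.basicOpen g) := IsScalarTower.of_algebraMap_smul fun _ _ => rfl
  haveI : IsLocalization.Away g Γ(X, X.basicOpen g) := hV.isLocalization_basicOpen g
  let res : Γ(M, V) →ₗ[Γ(X, V)] Γ(M, X.basicOpen g) :=
    { toFun := fun s => rs M (X.basicOpen_le g) s
      map_add' := fun a b => map_add _ a b
      map_smul' := fun a s => rs_smul M (X.basicOpen_le g) a s }
  haveI : IsLocalizedModule (Submonoid.powers g) res := Groth.L20.ModStalk.isLocalizedModule_res M hV g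
  exact Module.Projective.of_equiv'
    (IsLocalizedModule.isBaseChange (Submonoid.powers g) Γ(X, X.basicOpen g) res).equiv

/-- Projectivity of the sections over affine opens is local. -/
theorem projective_of_local (M : X.Modules) [Coh.IsQCoh M] {U : X.Opens} (hU : IsAffineOpen U)
    (h : ∀ x ∈ U, ∃ V : X.Opens, IsAffineOpen V ∧ x ∈ V ∧ Module.Projective Γ(X, V) Γ(M, V)) :
    Module.Projective Γ(X, U) Γ(M, U) := by
  classical
  have hloc : ∀ x : U, ∃ a : Γ(X, U), x.1 ∈ X.basicOpen a ∧
      Module.Projective Γ(X, X.basicOpen a) Γ(M, X.basicOpen a) := fun x => by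
    obtain ⟨V, hV, hxV, hp⟩ := h x.1 x.2
    obtain ⟨a, b, hab, hxa⟩ := exists_basicOpen_le_affine_inter hU hV x.1 ⟨x.2, hxV⟩
    haveI := projective_basicOpen M hV b
    exact ⟨a, hxa, congr_opens M hab.symm⟩
  choose a hxa hp using hloc
  obtain ⟨t, ht⟩ := hU.isCompact.elim_finite_subcover (fun x : U => (X.basicOpen (a x) : Set X))
    (fun x => (X.basicOpen (a x)).2) (fun x hx => Set.mem_iUnion.mpr ⟨⟨x, hx⟩, hxa _⟩)
  let e := t.equivFin
  let c : Fin t.card → Γ(X, U) := fun i => a (e.symm i).1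
  have hspan : Ideal.span (Set.range c) = ⊤ := hU.iSup_basicOpen_eq_self_iff.mp (by
    refine le_antisymm (iSup_le fun i => X.basicOpen_le _) fun x hx => ?_
    obtain ⟨y, hy, hxy⟩ := Set.mem_iUnion₂.mp (ht hx)
    refine Opens.mem_iSup.mpr ⟨⟨_, ⟨e ⟨y, hy⟩, rfl⟩⟩, ?_⟩
    show x ∈ X.basicOpen (a (e.symm (e ⟨y, hy⟩)).1)
    rw [Equiv.symm_apply_apply]
    exact hxy)
  letI alg : ∀ i, Algebra Γ(X, U) Γ(X, X.basicOpen (c i)) := fun i =>
    (X.presheaf.map (homOfLE (X.basicOpen_le (c i))).op).hom.toAlgebra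
  letI mod : ∀ i, Module Γ(X, U) Γ(M, X.basicOpen (c i)) := fun i =>
    Module.compHom _ (X.presheaf.map (homOfLE (X.basicOpen_le (c i))).op).hom
  haveI : ∀ i, IsLocalization.Away (c i) Γ(X, X.basicOpen (c i)) := fun i => hU.isLocalization_basicOpen (c i)
  let σ : ∀ i, Localization.Away (c i) ≃ₐ[Γ(X, U)] Γ(X, X.basicOpen (c i)) := fun i =>
    IsLocalization.algEquiv (Submonoid.powers (c i)) _ _
  letI mod' : ∀ i, Module (Localization.Away (c i)) Γ(M, X.basicOpen (c i)) := fun i =>
    Module.compHom _ ((σ i).toRingEquiv : Localization.Away (c i) →+* Γ(X, X.basicOpen (c i)))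
  haveI : ∀ i, IsScalarTower Γ(X, U) (Localization.Away (c i)) Γ(M, X.basicOpen (c i)) := fun i =>
    IsScalarTower.of_algebraMap_smul fun r m => congrArg (· • m) ((σ i).commutes r)
  let res : ∀ i, Γ(M, U) →ₗ[Γ(X, U)] Γ(M, X.basicOpen (c i)) := fun i =>
    { toFun := fun s => rs M (X.basicOpen_le (c i)) s
      map_add' := fun a b => map_add _ a b
      map_smul' := fun a s => rs_smul M (X.basicOpen_le (c i)) a s }
  haveI : ∀ i, IsLocalizedModule (Submonoid.powers (c i)) (res i) := fun i =>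
    Groth.L20.ModStalk.isLocalizedModule_res M hU (c i)
  haveI : ∀ i, Module.Projective (Localization.Away (c i)) Γ(M, X.basicOpen (c i)) := fun i => by
    haveI := hp (e.symm i).1
    letI := RingHomInvPair.of_ringEquiv (σ i).symm.toRingEquiv
    letI := RingHomInvPair.symm ((σ i).symm.toRingEquiv : Γ(X, X.basicOpen (c i)) →+* Localization.Away (c i))
      (((σ i).symm.toRingEquiv).symm : Localization.Away (c i) →+* Γ(X, X.basicOpen (c i)))
    exact Module.Projective.of_equiv
      ({ AddEquiv.refl _ with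
          map_smul' := fun r m => congrArg (· • m) ((σ i).apply_symm_apply r).symm } :
        Γ(M, X.basicOpen (c i)) ≃ₛₗ[((σ i).symm.toRingEquiv : Γ(X, X.basicOpen (c i)) →+* Localization.Away (c i))]
          Γ(M, X.basicOpen (c i)))
  exact Groth.L20.SmoothLocal.projective_of_cover c hspan res

/-- Pullbacks of locally projective modules are locally projective. -/
theorem projective_pullback (f : X ⟶ Y) (G : Y.Modules) [Coh.IsQCoh G]
    (hG : ∀ V : Y.Opens, IsAffineOpen V → Module.Projective Γ(Y, V) Γ(G, V)) {U : X.Opens} (hU : IsAffineOpen U) :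
    Module.Projective Γ(X, U) Γ((Scheme.Modules.pullback f).obj G, U) := by
  haveI := Groth.L16.AffineBC.isQCoh_pullback f G
  refine projective_of_local _ hU fun x _ => ?_
  obtain ⟨_, ⟨V, hV, rfl⟩, hxV, -⟩ :=
    Y.isBasis_affineOpens.exists_subset_of_mem_open (Set.mem_univ (f x)) isOpen_univ
  obtain ⟨_, ⟨W, hW, rfl⟩, hxW, hWV⟩ :=
    X.isBasis_affineOpens.exists_subset_of_mem_open (a := x) (show x ∈ f ⁻¹ᵁ V from hxV) (f ⁻¹ᵁ V).2
  refine ⟨W, hW, hxW, ?_⟩
  haveI := hG V hV
  letI : Algebra Γ(Y, V) Γ(X, W) := (f.appLE V W hWV).hom.toAlgebra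
  letI := Module.compHom Γ((Scheme.Modules.pullback f).obj G, W) (f.appLE V W hWV).hom
  haveI : IsScalarTower Γ(Y, V) Γ(X, W) Γ((Scheme.Modules.pullback f).obj G, W) :=
    IsScalarTower.of_algebraMap_smul fun _ _ => rfl
  exact Module.Projective.of_equiv' (Groth.L16.AffineBC.isBaseChange_pull f G hV hW hWV).equiv

end Groth.L19.LocProj
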