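import Mathlib.AlgebraicGeometry.AffineTransitionLimit
import Mathlib.AlgebraicGeometry.Morphisms.Flat
import Mathlib.RingTheory.Flat.EquationalCriterion
import Mathlib.CategoryTheory.Limits.Constructions.Over.Connected
import Mathlib.CategoryTheory.Comma.Over.Pullback
import Mathlib.AlgebraicGeometry.Morphisms.UnderlyingMap
import Mathlib.AlgebraicGeometry.ResidueField

/-!
# Cofiltered limits of affine faithfully flat morphisms
-/

set_option autoImplicit false
set_option linter.style.haveILetI false
set_option backward.isDefEq.respectTransparency.types false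
set_option backward.isDefEq.respectTransparency false

universe u

open CategoryTheory Limits AlgebraicGeometry

namespace Groth.L19.AffineLimitFF

variable {I : Type u} [SmallCategory I] [IsCofiltered I]

/-- Over an affine base, a cofiltered limit of flat affine schemes is affine and flat. -/
theorem isAffine_flat_of_isLimit_affine {X : Scheme.{u}} [IsAffine X] (D : I ⥤ Over X)
    [∀ i, IsAffine (D.obj i).left] (hflat : ∀ i, Flat (D.obj i).hom) (c : Cone D) (hc : IsLimit c) :
    IsAffine c.pt.left ∧ Flat c.pt.hom := by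
  haveI : ∀ i, IsAffine ((D ⋙ Over.forget _).obj i) := fun i => inferInstanceAs (IsAffine (D.obj i).left)
  have hl : IsLimit ((Over.forget _).mapCone c) := isLimitOfPreserves _ hc
  haveI : IsAffine c.pt.left := Scheme.isAffine_of_isLimit _ hl
  refine ⟨inferInstance, ?_⟩
  rw [HasRingHomProperty.iff_of_isAffine (P := @Flat)]
  letI : Algebra Γ(X, ⊤) Γ(c.pt.left, ⊤) := c.pt.hom.appTop.hom.toAlgebra
  show Module.Flat Γ(X, ⊤) Γ(c.pt.left, ⊤)
  refine Module.Flat.of_forall_isTrivialRelation fun {l f y} hfy => ?_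
  classical
  -- all the elements come from one stage
  obtain ⟨i, y', hy'⟩ : ∃ (i : I) (y' : Fin l → Γ((D.obj i).left, ⊤)),
      ∀ m, (c.π.app i).left.appTop.hom (y' m) = y m := by
    choose i t ht using fun m => exists_appTop_π_eq_of_isAffine_of_isLimit _ _ hl (y m)
    obtain ⟨i₀, hi₀⟩ := IsCofiltered.inf_objs_exists (Finset.univ.image i)
    refine ⟨i₀, fun m => (D.map (hi₀ (Finset.mem_image_of_mem i (Finset.mem_univ m))).some).left.appTop.hom (t m),
      fun m => ?_⟩
    rw [← RingHom.comp_apply, ← CommRingCat.hom_comp, ← Scheme.Hom.comp_appTop, ← Over.comp_left, c.w]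
    exact ht m
  have hw : ∀ (j : I) (r : Γ(X, ⊤)), (c.π.app j).left.appTop.hom ((D.obj j).hom.appTop.hom r) = c.pt.hom.appTop.hom r :=
    fun j r => by
      rw [← RingHom.comp_apply, ← CommRingCat.hom_comp, ← Scheme.Hom.comp_appTop, Over.w (c.π.app j)]
      rfl
  haveI : ∀ {j j' : I} (g : j ⟶ j'), IsAffineHom ((D ⋙ Over.forget _).map g) := fun {j j'} g => inferInstance
  let s : Γ((D.obj i).left, ⊤) := ∑ m, (D.obj i).hom.appTop.hom (f m) * y' m
  obtain ⟨j, g, hg⟩ := exists_app_map_eq_zero_of_isLimit _ _ hl (i := i)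
    (U := (⊤ : (D.obj i).left.Opens)) (isAffineOpen_top _).isCompact s (by
      show (c.π.app i).left.appTop.hom s = 0
      rw [map_sum, ← hfy]
      refine Finset.sum_congr rfl fun m _ => ?_
      rw [map_mul, hw, hy']
      rfl)
  have hg' : (D.map g).left.appTop.hom s = 0 := hg
  letI : Algebra Γ(X, ⊤) Γ((D.obj j).left, ⊤) := (D.obj j).hom.appTop.hom.toAlgebra
  haveI : Module.Flat Γ(X, ⊤) Γ((D.obj j).left, ⊤) := by
    haveI := hflat j
    exact (D.obj j).hom.flat_appTop
  have hz : ∑ m, f m • (D.map g).left.appTop.hom (y' m) = 0 := by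
    rw [← hg', map_sum]
    refine Finset.sum_congr rfl fun m _ => ?_
    show (D.obj j).hom.appTop.hom (f m) * (D.map g).left.appTop.hom (y' m) = _
    rw [map_mul, ← RingHom.comp_apply (D.map g).left.appTop.hom, ← CommRingCat.hom_comp, ← Scheme.Hom.comp_appTop,
      Over.w (D.map g)]
  obtain ⟨n, a, z, h₁, h₂⟩ := Module.Flat.isTrivialRelation_of_sum_smul_eq_zero (R := Γ(X, ⊤))
    (M := Γ((D.obj j).left, ⊤)) hz
  refine ⟨n, a, fun q => (c.π.app j).left.appTop.hom (z q), fun m => ?_, h₂⟩
  rw [← hy' m]
  have e := congrArg (c.π.app j).left.appTop.hom (h₁ m)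
  rw [← RingHom.comp_apply, ← CommRingCat.hom_comp, ← Scheme.Hom.comp_appTop, ← Over.comp_left, c.w, map_sum] at e
  refine e.trans (Finset.sum_congr rfl fun q _ => ?_)
  show (c.π.app j).left.appTop.hom ((D.obj j).hom.appTop.hom (a m q) * z q) = _
  rw [map_mul, hw]
  rfl

/-- A cofiltered limit of affine faithfully flat morphisms is affine and faithfully flat. -/
theorem affine_flat_surjective_of_isLimit {X : Scheme.{u}} (D : I ⥤ Over X)
    (haff : ∀ i, IsAffineHom (D.obj i).hom) (hflat : ∀ i, Flat (D.obj i).hom)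
    (hsurj : ∀ i, Surjective (D.obj i).hom) (c : Cone D) (hc : IsLimit c) :
    IsAffineHom c.pt.hom ∧ Flat c.pt.hom ∧ Surjective c.pt.hom := by
  have key : ∀ {U : Scheme.{u}} [IsAffine U] (j : U ⟶ X),
      IsAffine ((Over.pullback j).obj c.pt).left ∧ Flat ((Over.pullback j).obj c.pt).hom := by
    intro U _ j
    haveI : ∀ i, IsAffine ((D ⋙ Over.pullback j).obj i).left := fun i => by
      haveI := haff i
      haveI : IsAffineHom (pullback.snd (D.obj i).hom j) := MorphismProperty.pullback_snd (P := @IsAffineHom) _ _ ‹_›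
      exact isAffine_of_isAffineHom (pullback.snd (D.obj i).hom j)
    exact isAffine_flat_of_isLimit_affine (D ⋙ Over.pullback j)
      (fun i => MorphismProperty.pullback_snd (P := @Flat) _ _ (hflat i)) _ (isLimitOfPreserves (Over.pullback j) hc)
  refine ⟨?_, ?_, ?_⟩
  · refine (HasAffineProperty.iff_of_openCover (P := @IsAffineHom) X.affineCover).2 fun i => ?_
    exact (key (X.affineCover.f i)).1
  · exact (IsZariskiLocalAtTarget.iff_of_openCover (P := @Flat) X.affineCover).2 fun i => (key (X.affineCover.f i)).2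
  · refine ⟨fun x => ?_⟩
    let j := X.fromSpecResidueField x
    haveI : ∀ i, IsAffine ((D ⋙ Over.pullback j ⋙ Over.forget _).obj i) := fun i => by
      haveI := haff i
      haveI : IsAffineHom (pullback.snd (D.obj i).hom j) := MorphismProperty.pullback_snd (P := @IsAffineHom) _ _ ‹_›
      exact isAffine_of_isAffineHom (pullback.snd (D.obj i).hom j)
    haveI : ∀ {i i' : I} (g : i ⟶ i'), IsAffineHom ((D ⋙ Over.pullback j ⋙ Over.forget _).map g) :=
      fun {i i'} g => inferInstance
    haveI : ∀ i, CompactSpace ((D ⋙ Over.pullback j ⋙ Over.forget _).obj i) := fun i => inferInstance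
    haveI : ∀ i, Nonempty ((D ⋙ Over.pullback j ⋙ Over.forget _).obj i) := fun i => by
      haveI : Surjective (pullback.snd (D.obj i).hom j) := MorphismProperty.pullback_snd (P := @Surjective) _ _ (hsurj i)
      obtain ⟨z, -⟩ := (pullback.snd (D.obj i).hom j).surjective (IsLocalRing.closedPoint _)
      exact ⟨z⟩
    obtain ⟨z⟩ := Scheme.nonempty_of_isLimit _ _
      (isLimitOfPreserves (Over.pullback j ⋙ Over.forget _) hc)
    refine ⟨pullback.fst c.pt.hom j z, ?_⟩
    rw [← Scheme.Hom.comp_apply, pullback.condition, Scheme.Hom.comp_apply]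
    exact X.fromSpecResidueField_apply x _

end Groth.L19.AffineLimitFF
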