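import Groth.Prelude.Def_AGF
import Groth.Agent.L20.Chevalley.Reduction
import Groth.Agent.L19.GenericFinite
import Groth.Agent.L23.AffineMor
import Groth.Agent.L25.DescHom
import Groth.Agent.L25.HomScheme.Family
import Mathlib.AlgebraicGeometry.ZariskisMainTheorem
import Mathlib.CategoryTheory.Limits.Preserves.Shapes.Pullbacks

/-!
Quotients by subgroups with the same underlying space are related by finite surjective morphisms.
-/

universe u

open CategoryTheory CategoryTheory.Limits MonoidalCategory CartesianMonoidalCategory MonObj
open AlgebraicGeometry TopologicalSpace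

namespace Groth.L19.AffineQuotRed

set_option backward.isDefEq.respectTransparency.types false
set_option backward.isDefEq.respectTransparency false
set_option linter.style.haveILetI false

/-- A morphism of finite type with a surjective section is finite. -/
theorem isFinite_of_surjective_section {Y G : Scheme.{u}} (p : Y ⟶ G) [LocallyOfFiniteType p]
    (s : G ⟶ Y) [Surjective s] (hs : s ≫ p = 𝟙 G) : IsFinite p := by
  haveI : UniversallyInjective p := by
    rw [UniversallyInjective.iff_diagonal]
    haveI : Surjective (pullback.map (𝟙 G) (𝟙 G) p p s s (𝟙 G) (by rw [hs]; simp) (by rw [hs]; simp)) :=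
      MorphismProperty.pullback_map (P := @Surjective) inferInstance inferInstance hs.symm hs.symm
    have e : pullback.map (𝟙 G) (𝟙 G) p p s s (𝟙 G) (by rw [hs]; simp) (by rw [hs]; simp) =
        (pullback.fst (𝟙 G) (𝟙 G) ≫ s) ≫ pullback.diagonal p := by
      have h0 : pullback.fst (𝟙 G) (𝟙 G) = pullback.snd (𝟙 G) (𝟙 G) := by
        simpa using pullback.condition (f := 𝟙 G) (g := 𝟙 G)
      apply pullback.hom_ext <;> simp [h0]
    haveI : Surjective ((pullback.fst (𝟙 G) (𝟙 G) ≫ s) ≫ pullback.diagonal p) := e ▸ inferInstance
    exact Surjective.of_comp (pullback.fst (𝟙 G) (𝟙 G) ≫ s) _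
  haveI : UniversallyClosed (s ≫ p) := by rw [hs]; infer_instance
  haveI : UniversallyClosed p := UniversallyClosed.of_comp_surjective s p
  haveI : IsClosedImmersion (pullback.diagonal p) := by
    haveI : Surjective (pullback.diagonal p) := (UniversallyInjective.iff_diagonal p).1 inferInstance
    exact IsClosedImmersion.of_isPreimmersion _ ((Set.range_eq_univ.2 (pullback.diagonal p).surjective) ▸ isClosed_univ)
  haveI : IsSeparated p := ⟨inferInstance⟩
  haveI : LocallyQuasiFinite p := Groth.L19.GenericFinite.locallyQuasiFinite_of_forall p fun y =>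
    Groth.L19.GenericFinite.quasiFiniteAt_of_finite_fibre p y
      (Set.Subsingleton.finite fun a ha b hb => p.injective (ha.trans hb.symm))
  haveI : IsProper p := {}
  exact IsFinite.of_isProper_of_locallyQuasiFinite p

variable {k : Type u} [Field k] {G H H' : Over (Spec (CommRingCat.of k))} [GrpObj G] [GrpObj H] [GrpObj H']
  [LocallyOfFiniteType G.hom] [QuasiCompact G.hom]

theorem exists_finite_surjective (h : H ⟶ G) (h' : H' ⟶ H) [Surjective h'.left]
    {X X' : Over (Spec (CommRingCat.of k))} (a : AlgGrp.Action G X) (o : 𝟙_ _ ⟶ X)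
    (hX : AGF.IsQuotient h X a o) (a' : AlgGrp.Action G X') (o' : 𝟙_ _ ⟶ X')
    (hX' : AGF.IsQuotient (h' ≫ h) X' a' o') :
    ∃ f : X' ⟶ X, IsFinite f.left ∧ Surjective f.left := by
  obtain ⟨hXl, hπf, hπs, hsq⟩ := hX
  obtain ⟨hXl', hπf', hπs', hsq'⟩ := hX'
  set π := a.orbitMap o
  set π' := a'.orbitMap o'
  haveI : CompactSpace G.left := QuasiCompact.compactSpace_of_compactSpace G.hom
  haveI : IsLocallyNoetherian X.left := LocallyOfFiniteType.isLocallyNoetherian X.hom
  haveI : IsLocallyNoetherian X'.left := LocallyOfFiniteType.isLocallyNoetherian X'.hom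
  haveI : QuasiCompact π.left := quasiCompact_of_compactSpace π.left
  haveI : QuasiCompact π'.left := quasiCompact_of_compactSpace π'.left
  obtain ⟨f, hf⟩ := Groth.L27.Torsor.descend (Groth.L25.DescHom.cov_of_flat π') π (fun W b₁ b₂ e => by
    obtain ⟨w, hw₁, hw₂⟩ := hsq'.exists_lift b₁ b₂ e
    have hinv : fst G H' ≫ π = ((G ◁ (h' ≫ h)) ≫ μ[G]) ≫ π := by
      have := (G ◁ h') ≫= hsq.w
      simpa [MonoidalCategory.whiskerLeft_comp] using this
    rw [← hw₁, ← hw₂, Category.assoc, hinv, ← Category.assoc, ← Category.assoc])
  have hfl : π'.left ≫ f.left = π.left := congrArg CommaMorphism.left hf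
  haveI : Surjective (π'.left ≫ f.left) := hfl ▸ hπs
  haveI : Surjective f.left := Surjective.of_comp π'.left f.left
  refine ⟨f, ?_, inferInstance⟩
  let s : G.left ⟶ pullback π.left f.left := pullback.lift (𝟙 _) π'.left (by rw [Category.id_comp, hfl])
  haveI : Surjective s := by
    have hsqL := hsq.map (Over.forget _)
    simp only [Over.forget_obj, Over.forget_map] at hsqL
    let m : pullback π.left π.left ⟶ pullback π.left f.left :=
      pullback.map π.left π.left π.left f.left (𝟙 _) π'.left (𝟙 _) (by simp) (by simp [hfl])
    haveI : Surjective m := MorphismProperty.pullback_map (P := @Surjective) inferInstance inferInstance (Category.id_comp π.left).symm hfl.symm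
    haveI : Surjective (G ◁ h').left :=
      MorphismProperty.of_isPullback (Groth.L25.HomScheme.isPullback_whiskerLeft G h').flip ‹Surjective h'.left›
    have e : (G ◁ h').left ≫ hsqL.isoPullback.hom ≫ m = (fst G H').left ≫ s := by
      apply pullback.hom_ext
      · simp only [Category.assoc, m, s, pullback.lift_fst, Category.comp_id]
        rw [hsqL.isoPullback_hom_fst, ← Over.comp_left, whiskerLeft_fst]
      · simp only [Category.assoc, m, s, pullback.lift_snd]
        rw [hsqL.isoPullback_hom_snd_assoc, ← Over.comp_left, ← Over.comp_left, ← Over.comp_left]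
        refine congrArg CommaMorphism.left ?_
        rw [hsq'.w, MonoidalCategory.whiskerLeft_comp]
        simp only [Category.assoc]
    haveI : Surjective ((fst G H').left ≫ s) := e ▸ inferInstance
    exact Surjective.of_comp (fst G H').left s
  haveI : LocallyOfFiniteType (f.left ≫ X.hom) := by rw [Over.w f]; infer_instance
  haveI : LocallyOfFiniteType f.left := locallyOfFiniteType_of_comp f.left X.hom
  haveI : LocallyOfFiniteType (pullback.fst π.left f.left) := MorphismProperty.pullback_fst _ _ inferInstance
  have hfin : IsFinite (pullback.fst π.left f.left) :=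
    isFinite_of_surjective_section _ s (pullback.lift_fst _ _ _)
  exact MorphismProperty.of_isPullback_of_descendsAlong (P := @IsFinite)
    (Q := (@Surjective ⊓ @Flat ⊓ @QuasiCompact : MorphismProperty Scheme.{u}))
    (IsPullback.of_hasPullback π.left f.left) ⟨⟨hπs, hπf⟩, inferInstance⟩ hfin

end Groth.L19.AffineQuotRed
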