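import Mathlib.RingTheory.Flat.FaithfullyFlat.Basic
import Mathlib.RingTheory.Flat.FaithfullyFlat.Algebra
import Mathlib.LinearAlgebra.TensorProduct.Associator
import Mathlib.RingTheory.TensorProduct.Maps

/-!
# The Amitsur complex with coefficients, in degrees zero and one
-/

set_option autoImplicit false
set_option backward.isDefEq.respectTransparency.types false
universe u v

open TensorProduct

namespace Groth.L19.AmitsurLow

variable (R A : Type u) [CommRing R] [CommRing A] [Algebra R A]

/-- Multiplication of the first two factors. -/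
noncomputable def ctr (X : Type u) [AddCommGroup X] [Module R X] : A ⊗[R] (A ⊗[R] X) →ₗ[R] A ⊗[R] X :=
  (LinearMap.mul' R A).rTensor X ∘ₗ (TensorProduct.assoc R A A X).symm.toLinearMap

@[simp] theorem ctr_tmul (X : Type u) [AddCommGroup X] [Module R X] (a b : A) (x : X) :
    ctr R A X (a ⊗ₜ (b ⊗ₜ x)) = (a * b) ⊗ₜ x := by simp [ctr]

variable [Module.FaithfullyFlat R A]

theorem exact_zero (M : Type u) [AddCommGroup M] [Module R M] :
    Function.Exact (TensorProduct.mk R A M 1)
      (TensorProduct.mk R A (A ⊗[R] M) 1 - LinearMap.lTensor A (TensorProduct.mk R A M 1)) := by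
  rw [← Module.FaithfullyFlat.lTensor_exact_iff_exact R A]
  set δ := TensorProduct.mk R A (A ⊗[R] M) 1 - LinearMap.lTensor A (TensorProduct.mk R A M 1) with hδ
  have key : ∀ w, ctr R A (A ⊗[R] M) (δ.lTensor A w) + (TensorProduct.mk R A M 1).lTensor A (ctr R A M w) = w := by
    intro w
    induction w using TensorProduct.induction_on with
    | zero => simp
    | add u v hu hv => simp only [map_add]; rw [add_add_add_comm, hu, hv]
    | tmul b z =>
      induction z using TensorProduct.induction_on with
      | zero => simp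
      | add u v hu hv => simp only [tmul_add, map_add]; rw [add_add_add_comm, hu, hv]
      | tmul c m => simp [hδ, tmul_sub]
  intro w
  refine ⟨fun hw => ⟨ctr R A M w, ?_⟩, ?_⟩
  · have := key w
    rwa [hw, map_zero, zero_add] at this
  · rintro ⟨v, rfl⟩
    rw [← LinearMap.comp_apply, ← LinearMap.lTensor_comp,
      show δ ∘ₗ TensorProduct.mk R A M 1 = 0 from LinearMap.ext fun m => by simp [hδ],
      LinearMap.lTensor_zero, LinearMap.zero_apply]

/-- An element equalised by the two maps comes from the module. -/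
theorem exists_eq_one_tmul {M : Type u} [AddCommGroup M] [Module R M] (x : A ⊗[R] M)
    (hx : TensorProduct.mk R A (A ⊗[R] M) 1 x = LinearMap.lTensor A (TensorProduct.mk R A M 1) x) :
    ∃ m : M, (1 : A) ⊗ₜ[R] m = x :=
  ((exact_zero R A M) x).mp (by rw [LinearMap.sub_apply, hx, sub_self])

theorem exact_one (M : Type u) [AddCommGroup M] [Module R M] :
    Function.Exact
      (LinearMap.lTensor M (Algebra.TensorProduct.includeRight : A →ₐ[R] A ⊗[R] A).toLinearMap -
        LinearMap.lTensor M
          (Algebra.TensorProduct.includeLeft : A →ₐ[R] A ⊗[R] A).toLinearMap)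
      (LinearMap.lTensor M
          (Algebra.TensorProduct.includeRight : A ⊗[R] A →ₐ[R] A ⊗[R] (A ⊗[R] A)).toLinearMap -
        LinearMap.lTensor M
          (Algebra.TensorProduct.map (AlgHom.id R A)
            (Algebra.TensorProduct.includeRight : A →ₐ[R] A ⊗[R] A)).toLinearMap +
        LinearMap.lTensor M
          (Algebra.TensorProduct.map (AlgHom.id R A)
            (Algebra.TensorProduct.includeLeft : A →ₐ[R] A ⊗[R] A)).toLinearMap) := by
  set d₀ := LinearMap.lTensor M (Algebra.TensorProduct.includeRight : A →ₐ[R] A ⊗[R] A).toLinearMap -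
        LinearMap.lTensor M
          (Algebra.TensorProduct.includeLeft : A →ₐ[R] A ⊗[R] A).toLinearMap with hd₀
  set d₁ := LinearMap.lTensor M
          (Algebra.TensorProduct.includeRight : A ⊗[R] A →ₐ[R] A ⊗[R] (A ⊗[R] A)).toLinearMap -
        LinearMap.lTensor M
          (Algebra.TensorProduct.map (AlgHom.id R A)
            (Algebra.TensorProduct.includeRight : A →ₐ[R] A ⊗[R] A)).toLinearMap +
        LinearMap.lTensor M
          (Algebra.TensorProduct.map (AlgHom.id R A)
            (Algebra.TensorProduct.includeLeft : A →ₐ[R] A ⊗[R] A)).toLinearMap with hd₁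
  rw [← Module.FaithfullyFlat.lTensor_exact_iff_exact R A]
  let h₁ : A ⊗[R] (M ⊗[R] (A ⊗[R] A)) →ₗ[R] A ⊗[R] (M ⊗[R] A) :=
    ctr R A (M ⊗[R] A) ∘ₗ (TensorProduct.leftComm R M A A).toLinearMap.lTensor A
  let h₂ : A ⊗[R] (M ⊗[R] (A ⊗[R] (A ⊗[R] A))) →ₗ[R] A ⊗[R] (M ⊗[R] (A ⊗[R] A)) :=
    ctr R A (M ⊗[R] (A ⊗[R] A)) ∘ₗ (TensorProduct.leftComm R M A (A ⊗[R] A)).toLinearMap.lTensor A
  have key : ∀ w, d₀.lTensor A (h₁ w) + h₂ (d₁.lTensor A w) = w := by
    intro w
    induction w using TensorProduct.induction_on with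
    | zero => simp
    | add u v hu hv => simp only [map_add]; rw [add_add_add_comm, hu, hv]
    | tmul b z =>
      induction z using TensorProduct.induction_on with
      | zero => simp
      | add u v hu hv => simp only [tmul_add, map_add]; rw [add_add_add_comm, hu, hv]
      | tmul m q =>
        induction q using TensorProduct.induction_on with
        | zero => simp
        | add u v hu hv => simp only [tmul_add, map_add]; rw [add_add_add_comm, hu, hv]
        | tmul x y =>
          simp [h₁, h₂, hd₀, hd₁]
  have hcomp : d₁ ∘ₗ d₀ = 0 := TensorProduct.ext' fun m y => by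
    simp [hd₀, hd₁, Algebra.TensorProduct.one_def]
  intro w
  refine ⟨fun hw => ⟨h₁ w, ?_⟩, ?_⟩
  · have := key w
    rwa [hw, map_zero, add_zero] at this
  · rintro ⟨v, rfl⟩
    rw [← LinearMap.comp_apply, ← LinearMap.lTensor_comp, hcomp, LinearMap.lTensor_zero, LinearMap.zero_apply]

/-- Descent of linear maps. -/
theorem existsUnique_hom {M N : Type u} [AddCommGroup M] [Module R M] [AddCommGroup N] [Module R N]
    (f : A ⊗[R] M →ₗ[A] A ⊗[R] N)
    (hf : ∀ m : M,
      LinearMap.rTensor N (Algebra.TensorProduct.includeLeft : A →ₐ[R] A ⊗[R] A).toLinearMap (f (1 ⊗ₜ[R] m)) =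
        LinearMap.rTensor N (Algebra.TensorProduct.includeRight : A →ₐ[R] A ⊗[R] A).toLinearMap (f (1 ⊗ₜ[R] m))) :
    ∃! h : M →ₗ[R] N, h.baseChange A = f := by
  have hinj : Function.Injective (TensorProduct.mk R A N 1) :=
    Module.FaithfullyFlat.tensorProduct_mk_injective (A := R) (B := A) N
  have e1 : ∀ z, TensorProduct.assoc R A A N
      (LinearMap.rTensor N (Algebra.TensorProduct.includeLeft : A →ₐ[R] A ⊗[R] A).toLinearMap z) =
      LinearMap.lTensor A (TensorProduct.mk R A N 1) z := fun z => by
    induction z using TensorProduct.induction_on with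
    | zero => simp
    | add u v hu hv => simp only [map_add, hu, hv]
    | tmul a n => simp
  have e2 : ∀ z, TensorProduct.assoc R A A N
      (LinearMap.rTensor N (Algebra.TensorProduct.includeRight : A →ₐ[R] A ⊗[R] A).toLinearMap z) =
      TensorProduct.mk R A (A ⊗[R] N) 1 z := fun z => by
    induction z using TensorProduct.induction_on with
    | zero => simp
    | add u v hu hv => simp only [map_add, hu, hv]
    | tmul a n => simp
  have hex : ∀ m, ∃ n, (1 : A) ⊗ₜ[R] n = f (1 ⊗ₜ[R] m) := fun m => exists_eq_one_tmul R A _ (by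
    rw [← e1, ← e2, hf])
  choose h hh using hex
  let h' : M →ₗ[R] N :=
    { toFun := h
      map_add' := fun a b => hinj (by simp only [TensorProduct.mk_apply, tmul_add, hh, map_add])
      map_smul' := fun r a => hinj (by
        simp only [TensorProduct.mk_apply, RingHom.id_apply, tmul_smul, hh, LinearMap.map_smul_of_tower]) }
  refine ⟨h', TensorProduct.AlgebraTensorModule.ext fun a m => ?_, fun g hg => LinearMap.ext fun m => hinj ?_⟩
  · rw [LinearMap.baseChange_tmul, show a ⊗ₜ[R] h' m = a • ((1 : A) ⊗ₜ[R] h m) by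
      rw [smul_tmul', smul_eq_mul, mul_one]; rfl, hh, ← map_smul, smul_tmul', smul_eq_mul, mul_one]
  · show (1 : A) ⊗ₜ[R] g m = (1 : A) ⊗ₜ[R] h m
    rw [hh, ← hg, LinearMap.baseChange_tmul]

end Groth.L19.AmitsurLow
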