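import Groth.Agent.Lead.ResD
import Groth.Agent.L18.AmpleFamilyQuot
import Groth.Agent.L19.InvOfTensor
import Groth.Agent.L19.LimMod.Zero
import Groth.Agent.L18.LocFreeFP
import Groth.Agent.L29.DCoh.TensorPerfect

/-!
# Global resolutions by negative powers of an ample family
-/

set_option autoImplicit false
set_option linter.style.haveILetI false
set_option backward.defeqAttrib.useBackward true
set_option backward.isDefEq.respectTransparency false

universe u

open CategoryTheory CategoryTheory.Limits AlgebraicGeometry CochainComplex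
  CategoryTheory.Pretriangulated TopologicalSpace

attribute [local instance] HasDerivedCategory.standard

noncomputable section

namespace Groth.L19.AmpleRes

open Groth.L29.DC Groth.Lead.ResProp
open scoped ZeroObject

variable {X : Scheme.{u}} {ι : Type u} {L : ι → X.Modules}

theorem inAddL_of_iso {M M' : X.Modules} (e : M ≅ M') (h : KSix.InAddL L M) : KSix.InAddL L M' := by
  obtain ⟨k, N, hN, ⟨e'⟩⟩ := h
  exact ⟨k, N, hN, ⟨e.symm ≪≫ e'⟩⟩

theorem inAddL_of_isZero {M : X.Modules} (h : IsZero M) : KSix.InAddL L M :=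
  ⟨0, fun j => Fin.elim0 j, fun j => Fin.elim0 j, ⟨h.iso (IsZero.of_iso (Limits.isZero_zero _)
    { hom := 0, inv := 0, hom_inv_id := biproduct.hom_ext _ _ fun j => Fin.elim0 j,
      inv_hom_id := (Limits.isZero_zero _).eq_of_src _ _ })⟩⟩

theorem isFinLocFree_of_inAddL {M : X.Modules} (h : KSix.InAddL L M) : FlatMod.IsFinLocFree M := by
  obtain ⟨k, N, hN, ⟨e⟩⟩ := h
  refine Groth.L29.LocFree.of_iso (e ≪≫ biproduct.isoCoproduct N).symm
    (Groth.L29.DC.isFinLocFree_coprod_fin k N fun j => ?_)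
  obtain ⟨i, n, -, ⟨ei⟩⟩ := hN j
  exact Groth.L20.ResDescent.isFinLocFree_of_isInvertible (Groth.L19.InvOfTensor.isInvertible ei)

theorem hasResolutionProperty (hL : KSix.IsAmpleFamily L) : PerfAux.HasResolutionProperty X := fun M hq hft => by
  obtain ⟨P, π, hP, hπ⟩ := Groth.L18.AmpleFamilyQuot.exists_epi L hL M hq hft
  exact ⟨P, π, isFinLocFree_of_inAddL hP, hπ⟩

/-- Surjections onto modules of finite type are hit by objects of `L(X)`. -/
theorem exists_epi_lift (hL : KSix.IsAmpleFamily L)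
    {M H : X.Modules} (hM : Coh.IsQCoh M) (hH : Coh.IsQCoh H) (hft : CohB1.IsFT H) (p : M ⟶ H) [Epi p] :
    ∃ (G : X.Modules) (s : G ⟶ M), KSix.InAddL L G ∧ Epi (s ≫ p) := by
  haveI := hL.1
  haveI := hL.2.1
  obtain ⟨G, s, hG, hs⟩ := Groth.Lead.ResProp.exists_epi_lift (hasResolutionProperty hL) hM hH hft p
  haveI := hs
  obtain ⟨P, π, hP, hπ⟩ := Groth.L18.AmpleFamilyQuot.exists_epi L hL G (PCQCoh.isQCoh_of_isFinLocFree hG)
    (Groth.L19.LimMod.isFT_of_isFP (Groth.L18.LFP.isFP_of_isFinLocFree G hG))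
  haveI := hπ
  exact ⟨P, π ≫ s, hP, by rw [Category.assoc]; exact epi_comp _ _⟩

variable (L) in
/-- The state of the construction in degree `n`. -/
def St (F : CochainComplex X.Modules ℤ) (b n : ℤ) : Prop :=
  ∃ (E : CochainComplex X.Modules ℤ) (φ : E ⟶ F), (∀ i, i < n ∨ b < i → IsZero (E.X i)) ∧
    (∀ i, KSix.InAddL L (E.X i)) ∧ ∀ i, n ≤ i → (mappingCone φ).ExactAt i

theorem isStrictlyPerfect_of_terms {E : CochainComplex X.Modules ℤ} {n b : ℤ}
    (hz : ∀ i, i < n ∨ b < i → IsZero (E.X i)) (h : ∀ i, KSix.InAddL L (E.X i)) : DCoh.IsStrictlyPerfect E :=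
  ⟨⟨n, b, hz⟩, fun i => isFinLocFree_of_inAddL (h i)⟩

theorem st_start (F : CochainComplex X.Modules ℤ) (b : ℤ) (hb : ∀ i, b < i → IsZero (DCoh.HD (DCoh.toD X F) i)) :
    St L F b (b + 1) := by
  have hz : ∀ i, IsZero ((0 : CochainComplex X.Modules ℤ).X i) := fun i =>
    (HomologicalComplex.eval _ _ i).map_isZero (Limits.isZero_zero _)
  refine ⟨0, 0, fun i _ => hz i, fun i => inAddL_of_isZero (hz i), fun i hi => ?_⟩
  haveI : IsIso (DerivedCategory.Q.map (mappingCone.inr (0 : (0 : CochainComplex X.Modules ℤ) ⟶ F))) := by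
    have h := DerivedCategory.mappingCone_triangle_distinguished (0 : (0 : CochainComplex X.Modules ℤ) ⟶ F)
    exact (Triangle.isZero₁_iff_isIso₂ _ h).1 (DerivedCategory.Q.map_isZero (Limits.isZero_zero _))
  rw [HomologicalComplex.exactAt_iff_isZero_homology]
  exact ((hb i (by omega)).of_iso
    ((DerivedCategory.homologyFunctor _ i).mapIso (asIso (DerivedCategory.Q.map
      (mappingCone.inr (0 : (0 : CochainComplex X.Modules ℤ) ⟶ F)))).symm)).of_iso (hdIso _ i).symm

theorem st_succ (hL : KSix.IsAmpleFamily L) (F : CochainComplex X.Modules ℤ) (hFq : ∀ i, Coh.IsQCoh (F.X i))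
    (hF : DCoh.IsPerfect (DCoh.toD X F)) {b n : ℤ} (hn : n - 1 ≤ b) (h : St L F b n) : St L F b (n - 1) := by
  obtain ⟨E, φ, hEz, hEL, hex⟩ := h
  have hE := isStrictlyPerfect_of_terms hEz hEL
  let C := mappingCone φ
  have hCq : ∀ i, Coh.IsQCoh (C.X i) := fun i =>
    isQCoh_cone φ (fun j => PCQCoh.isQCoh_of_isFinLocFree (hE.2 j)) hFq i
  have hft : CohB1.IsFT (C.homology (n - 1)) := by
    have h := TopCoh.isFT_top (m := n - 1) (n := n - 1) le_rfl (pc_of_perfect (isPerfect_cone φ hE hF) _)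
      (fun i hi => ((HomologicalComplex.exactAt_iff_isZero_homology _ _).1 (hex i (by omega))).of_iso (hdIso C i))
    haveI : Epi (hdIso C (n - 1)).hom := inferInstance
    exact Groth.L17.Approx.isFT_of_epi (hdIso C (n - 1)).hom h
  obtain ⟨G, s₀, hG, hs₀⟩ := exists_epi_lift hL (PCQCoh.isQCoh_cycles hCq (n - 1))
    (PCQCoh.isQCoh_homology hCq (n - 1)) hft (C.homologyπ (n - 1))
  have hprev : (ComplexShape.up ℤ).prev (n - 1) = n - 2 := by simp; omega
  obtain ⟨E', φ', h1, h2, h3, h4, -⟩ := Groth.Lead.ResStep.exists_step φ n (fun i hi => hEz i (Or.inl hi)) hex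
    (s₀ ≫ C.iCycles (n - 1))
    (by rw [Category.assoc, HomologicalComplex.iCycles_d, comp_zero]) (fun T z hz => by
      let z' := C.liftCycles z n (by simp) hz
      obtain ⟨T₁, e₁, he₁, x, hx⟩ := surjective_up_to_refinements_of_epi (s₀ ≫ C.homologyπ (n - 1))
        (z' ≫ C.homologyπ (n - 1))
      have h : (e₁ ≫ z') ≫ C.homologyπ (n - 1) = (x ≫ s₀) ≫ C.homologyπ (n - 1) := by
        simpa only [Category.assoc] using hx
      obtain ⟨T₂, e₂, he₂, w, hw⟩ := (C.comp_homologyπ_eq_iff_up_to_refinements (n - 2) (n - 1) hprev _ _).1 h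
      refine ⟨T₂, e₂ ≫ e₁, epi_comp _ _, e₂ ≫ x, w, ?_⟩
      have hw' := congrArg (· ≫ C.iCycles (n - 1)) hw
      simpa [z', C, Preadditive.add_comp] using hw')
  refine ⟨E', φ', fun i hi => ?_, fun i => ?_, h4⟩
  · rcases hi with hi | hi
    · exact h1 i hi
    · exact (hEz i (Or.inr hi)).of_iso (h2 i (by omega)).some
  · by_cases hi : i = n - 1
    · subst hi
      exact inAddL_of_iso h3.some.symm hG
    · exact inAddL_of_iso (h2 i hi).some.symm (hEL i)

theorem st_all (hL : KSix.IsAmpleFamily L) (F : CochainComplex X.Modules ℤ) (hFq : ∀ i, Coh.IsQCoh (F.X i))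
    (hF : DCoh.IsPerfect (DCoh.toD X F)) (b : ℤ) (hb : ∀ i, b < i → IsZero (DCoh.HD (DCoh.toD X F) i)) (k : ℕ) :
    St L F b (b + 1 - k) := by
  induction k with
  | zero => simpa using st_start F b hb
  | succ k ih =>
    have h := st_succ hL F hFq hF (by omega) ih
    rwa [show b + 1 - ((k + 1 : ℕ) : ℤ) = b + 1 - k - 1 by push_cast; ring]

/-- Near a point the bottom cycles of the cone are finite locally free. -/
theorem isFinLocFree_bottom_aux {E F : CochainComplex X.Modules ℤ} (φ : E ⟶ F) (hE : DCoh.IsStrictlyPerfect E)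
    (n : ℤ) (hEz : ∀ i, i < n → IsZero (E.X i)) (hFz : ∀ i, i < n - 1 → IsZero (F.X i))
    (hex : ∀ i, n ≤ i → (mappingCone φ).ExactAt i) (P : CochainComplex X.Modules ℤ) (hP : DCoh.IsStrictlyPerfect P)
    (hPz : ∀ i, i < n - 1 → IsZero (P.X i)) (β : E ⟶ P) (e : DCoh.toD X F ≅ DCoh.toD X P)
    (hβ : DerivedCategory.Q.map φ ≫ e.hom = DerivedCategory.Q.map β) :
    FlatMod.IsFinLocFree ((mappingCone φ).cycles (n - 1)) := by
  have hz : ∀ {K : CochainComplex X.Modules ℤ} (ψ : E ⟶ K), (∀ i, i < n - 1 → IsZero (K.X i)) →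
      ∀ i, i < n - 1 → IsZero ((mappingCone ψ).X i) := fun ψ hK i hi =>
    ((biprod_isZero_iff _ _).2 ⟨hEz (i + 1) (by omega), hK i hi⟩).of_iso
      (HomologicalComplex.homotopyCofiber.XIsoBiprod ψ i (i + 1) rfl)
  obtain ⟨eT, -, -⟩ := exists_iso_of_arrow_iso _ _ (DerivedCategory.mappingCone_triangle_distinguished φ)
    (DerivedCategory.mappingCone_triangle_distinguished β) (Arrow.isoMk (Iso.refl _) e (by
      simp only [Iso.refl_hom]
      exact (Category.id_comp _).trans hβ.symm))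
  let eQ : DCoh.toD X (mappingCone φ) ≅ DCoh.toD X (mappingCone β) := Triangle.π₃.mapIso eT
  let eH : ∀ i, (mappingCone φ).homology i ≅ (mappingCone β).homology i := fun i =>
    (hdIso _ i).symm ≪≫ (DerivedCategory.homologyFunctor _ i).mapIso eQ ≪≫ hdIso _ i
  obtain ⟨⟨a, b, hv⟩, hf⟩ := isStrictlyPerfect_cone β hE hP
  have hexβ : ∀ i, n - 1 < i → (mappingCone β).ExactAt i := fun i hi => by
    rw [HomologicalComplex.exactAt_iff_isZero_homology]
    exact ((HomologicalComplex.exactAt_iff_isZero_homology _ _).1 (hex i (by omega))).of_iso (eH i).symm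
  obtain ⟨-, hlf, -⟩ := isStrictlyPerfect_truncLE a b (n - 1) hv hf hexβ
  let eφ := (mappingCone φ).isoHomologyπ (n - 1 - 1) (n - 1) (by simp)
    ((hz φ hFz (n - 1 - 1) (by omega)).eq_of_src _ _)
  let eβ := (mappingCone β).isoHomologyπ (n - 1 - 1) (n - 1) (by simp)
    ((hz β hPz (n - 1 - 1) (by omega)).eq_of_src _ _)
  exact Groth.L29.LocFree.of_iso ((mappingCone β).truncLEXIsoCycles (n - 1) ≪≫ eβ ≪≫ (eH (n - 1)).symm ≪≫ eφ.symm)
    (hlf (n - 1))

/-- The bottom cycles of the cone are finite locally free. -/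
theorem isFinLocFree_bottom {E F : CochainComplex X.Modules ℤ} (φ : E ⟶ F) (hE : DCoh.IsStrictlyPerfect E)
    (n : ℤ) (hEz : ∀ i, i < n → IsZero (E.X i)) (hFz : ∀ i, i < n - 1 → IsZero (F.X i))
    (hex : ∀ i, n ≤ i → (mappingCone φ).ExactAt i)
    (hw : ∀ x : X, ∃ (V : X.Opens) (P : CochainComplex (V : Scheme.{u}).Modules ℤ), x ∈ V ∧
      DCoh.IsStrictlyPerfect P ∧ (∀ i, i < n - 1 → IsZero (P.X i)) ∧
      Nonempty ((resD V).obj (DCoh.toD X F) ≅ DCoh.toD _ P)) :
    FlatMod.IsFinLocFree ((mappingCone φ).cycles (n - 1)) := by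
  refine isFinLocFree_of_local fun x => ?_
  obtain ⟨V, P, hxV, hP, hPz, ⟨e⟩⟩ := hw x
  refine ⟨V, hxV, ?_⟩
  obtain ⟨ec⟩ := nonempty_cycles_restrict φ V (n - 1)
  refine Groth.L29.LocFree.of_iso ec ?_
  let φV := (DCoh.restrictCx V).map φ
  have hEV : DCoh.IsStrictlyPerfect ((DCoh.restrictCx V).obj E) := isStrictlyPerfect_restrict V.ι hE
  refine isFinLocFree_of_local fun y => ?_
  let eV : DCoh.toD _ ((DCoh.restrictCx V).obj F) ≅ DCoh.toD _ P := (resQIso V F).symm ≪≫ e
  obtain ⟨W, β, hyW, hβ⟩ := exists_local_chainMap hEV (DerivedCategory.Q.map φV ≫ eV.hom) y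
  refine ⟨W, hyW, ?_⟩
  obtain ⟨ec'⟩ := nonempty_cycles_restrict φV W (n - 1)
  refine Groth.L29.LocFree.of_iso ec' ?_
  let φW := (DCoh.restrictCx W).map φV
  refine isFinLocFree_bottom_aux φW (isStrictlyPerfect_restrict W.ι hEV) n
    (fun i hi => (Scheme.Modules.restrictFunctor W.ι).map_isZero
      ((Scheme.Modules.restrictFunctor V.ι).map_isZero (hEz i hi)))
    (fun i hi => (Scheme.Modules.restrictFunctor W.ι).map_isZero
      ((Scheme.Modules.restrictFunctor V.ι).map_isZero (hFz i hi)))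
    (fun i hi => exactAt_cone_restrict φV W (exactAt_cone_restrict φ V (hex i hi)))
    ((DCoh.restrictCx W).obj P) (isStrictlyPerfect_restrict W.ι hP)
    (fun i hi => (Scheme.Modules.restrictFunctor W.ι).map_isZero (hPz i hi)) β
    ((resQIso W _).symm ≪≫ (resD W).mapIso eV ≪≫ resQIso W P) ?_
  let η := (Scheme.Modules.restrictFunctor W.ι).mapDerivedCategoryFactors
  have hn : (resD W).map (DerivedCategory.Q.map φV) ≫ η.hom.app _ =
      η.hom.app _ ≫ DerivedCategory.Q.map φW := η.hom.naturality φV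
  simp only [Iso.trans_hom, Iso.symm_hom, Functor.mapIso_hom]
  rw [← cancel_epi (resQIso W ((DCoh.restrictCx V).obj E)).hom]
  change η.hom.app _ ≫ DerivedCategory.Q.map φW ≫ η.inv.app _ ≫ (resD W).map eV.hom ≫ η.hom.app _ = _
  rw [← reassoc_of% hn, Iso.hom_inv_id_app_assoc, ← Functor.map_comp_assoc, hβ]
  change (_ ≫ _ ≫ η.inv.app _) ≫ η.hom.app _ = _
  simp

/-- Perfect objects of amplitude in `[m, n]` have global models with terms in `L(X)` above the bottom. -/
theorem exists_perfect_model (hL : KSix.IsAmpleFamily L) (K : DCoh.D X) (m n : ℤ)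
    (hK : KSix.HasPerfectAmplitudeIn m n K) :
    ∃ E : CochainComplex X.Modules ℤ, DCoh.VanishesOutside E m n ∧ (∀ i, m < i → KSix.InAddL L (E.X i)) ∧
      FlatMod.IsFinLocFree (E.X m) ∧ Nonempty (DCoh.toD X E ≅ K) := by
  haveI := hL.1
  haveI := hL.2.1
  have hX := hasResolutionProperty hL
  have hloc := (hasPerfectAmplitudeIn_iff_local K m n).1 hK
  have hperf : DCoh.IsPerfect K := (isPerfect_iff K).2 fun x => by
    obtain ⟨V, hx, P, hv, hf, e⟩ := hloc x
    exact ⟨V, hx, P, ⟨⟨m, n, hv⟩, hf⟩, e⟩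
  have hz : ∀ i, i < m ∨ n < i → IsZero (DCoh.HD K i) := fun i hi => isZero_HD_of_local K i fun x => by
    obtain ⟨V, hx, P, hv, -, ⟨e⟩⟩ := hloc x
    refine ⟨V, hx, IsZero.of_iso ?_ ((DerivedCategory.homologyFunctor _ i).mapIso e)⟩
    refine IsZero.of_iso ?_ (hdIso P i)
    rw [← HomologicalComplex.exactAt_iff_isZero_homology]
    exact HomologicalComplex.ExactAt.of_isZero (hv i hi)
  rcases lt_or_ge n m with hmn | hmn
  · have hzX : ∀ i, IsZero ((0 : CochainComplex X.Modules ℤ).X i) := fun i =>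
      (HomologicalComplex.eval _ _ i).map_isZero (Limits.isZero_zero _)
    exact ⟨0, fun i _ => hzX i, fun i _ => inAddL_of_isZero (hzX i), Groth.L29.LocFree.of_isZero (hzX m),
      ⟨(DerivedCategory.Q.map_isZero (Limits.isZero_zero _)).iso (isZero_of_hd fun i => hz i (by omega))⟩⟩
  have hge : K.IsGE m := (DerivedCategory.isGE_iff K m).2 fun i hi => hz i (Or.inl hi)
  have hle : K.IsLE (m - 1 + ((n - (m - 1)).toNat : ℕ)) := (DerivedCategory.isLE_iff K _).2 fun i hi =>
    hz i (Or.inr (by omega))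
  obtain ⟨F, hFz, hFq, ⟨e⟩⟩ := Groth.Lead.ResD.exists_qcoh_rep (Groth.Lead.ResD.affineHom_ι hX) m
    (n - (m - 1)).toNat K (PCQCoh.isQCohD_of_perfect hperf) hge hle
  have hF : DCoh.IsPerfect (DCoh.toD X F) := isPerfect_of_iso e.symm hperf
  have hb : ∀ i, n < i → IsZero (DCoh.HD (DCoh.toD X F) i) := fun i hi =>
    (hz i (Or.inr hi)).of_iso ((DerivedCategory.homologyFunctor _ i).mapIso e)
  obtain ⟨E, φ, hEz, hEL, hex⟩ := st_all (L := L) hL F hFq hF n hb (n - m).toNat
  rw [show n + 1 - ((n - m).toNat : ℤ) = m + 1 by omega] at hEz hex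
  have hE := isStrictlyPerfect_of_terms hEz hEL
  let C := mappingCone φ
  have hG : FlatMod.IsFinLocFree (C.cycles (m + 1 - 1)) :=
    isFinLocFree_bottom φ hE (m + 1) (fun i hi => hEz i (Or.inl hi)) (fun i hi => hFz i (by omega)) hex fun x => by
      obtain ⟨V, hx, P, hv, hf, ⟨eP⟩⟩ := hloc x
      exact ⟨V, P, hx, ⟨⟨m, n, hv⟩, hf⟩, fun i hi => hv i (Or.inl (by omega)),
        ⟨(resD V).mapIso e ≪≫ eP⟩⟩
  obtain ⟨E', φ', h1, h2, h3, -, h5⟩ := Groth.Lead.ResStep.exists_step φ (m + 1) (fun i hi => hEz i (Or.inl hi)) hex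
    (C.iCycles (m + 1 - 1))
    (HomologicalComplex.iCycles_d _ _ _) (fun T z hz => ⟨T, 𝟙 T, inferInstance, C.liftCycles z (m + 1) (by simp) hz, 0,
      by simp [C]⟩)
  have hacy : ∀ i, (mappingCone φ').ExactAt i := h5 inferInstance fun i hi =>
    ((biprod_isZero_iff _ _).2 ⟨hEz (i + 1) (Or.inl (by omega)), hFz i (by omega)⟩).of_iso
      (HomologicalComplex.homotopyCofiber.XIsoBiprod φ i (i + 1) rfl)
  haveI : IsIso (DerivedCategory.Q.map φ') :=
    (Triangle.isZero₃_iff_isIso₁ _ (DerivedCategory.mappingCone_triangle_distinguished φ')).1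
      (isZero_of_hd fun i => ((HomologicalComplex.exactAt_iff_isZero_homology _ _).1 (hacy i)).of_iso (hdIso _ i))
  refine ⟨E', fun i hi => ?_, fun i hi => ?_, ?_, ⟨asIso (DerivedCategory.Q.map φ') ≪≫ e⟩⟩
  · rcases hi with hi | hi
    · exact h1 i (by omega)
    · exact (hEz i (Or.inr hi)).of_iso (h2 i (by omega)).some
  · exact inAddL_of_iso (h2 i (by omega)).some.symm (hEL i)
  · have h := Groth.L29.LocFree.of_iso h3.some.symm hG
    rwa [show m + 1 - 1 = m by ring] at h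

end Groth.L19.AmpleRes
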