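import Groth.Agent.L26.AV.FormalRigidity
import Groth.Agent.L08.Albanese.Descent
import Groth.Agent.L25.Actions
import Groth.Agent.L18.DominatingDVR
import Mathlib.AlgebraicGeometry.SpreadingOut
import Mathlib.AlgebraicGeometry.AlgClosed.Basic

/-!
# Rigidity for anti-affine schemes near a point of a locally Noetherian scheme
(variant of `Groth.L08.AntiAffRigid` without finite type hypotheses on the second factor)
-/

set_option autoImplicit false
set_option backward.isDefEq.respectTransparency.types false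
set_option linter.style.haveILetI false

universe u

open CategoryTheory CategoryTheory.Limits MonoidalCategory CartesianMonoidalCategory MonObj AlgebraicGeometry

noncomputable section

namespace Groth.L19.AntiAffRigidNoeth

variable {k : Type u} [Field k] {X Y Z : Over (Spec (CommRingCat.of k))}

/-- Constant on one fibre implies constant near it. -/
theorem exists_nhd [CompactSpace X.left] [QuasiSeparatedSpace X.left] [IsLocallyNoetherian Y.left] [IsSeparated Z.hom]
    (hX : Function.Surjective X.hom.appTop.hom) (x₀ : 𝟙_ (Over (Spec (CommRingCat.of k))) ⟶ X)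
    (y₀ : 𝟙_ (Over (Spec (CommRingCat.of k))) ⟶ Y) (f : X ⊗ Y ⟶ Z)
    (hf : (X ◁ y₀) ≫ f = (X ◁ y₀) ≫ snd X Y ≫ lift (toUnit Y ≫ x₀) (𝟙 Y) ≫ f) :
    ∃ V : Y.left.Opens, y₀.left (IsLocalRing.closedPoint k) ∈ V ∧
      (X ◁ (Over.homMk V.ι rfl : Over.mk (V.ι ≫ Y.hom) ⟶ Y)) ≫ f =
        (X ◁ (Over.homMk V.ι rfl : Over.mk (V.ι ≫ Y.hom) ⟶ Y)) ≫ snd X Y ≫ lift (toUnit Y ≫ x₀) (𝟙 Y) ≫ f := by
  let pt : ↥(Spec (CommRingCat.of k)) := IsLocalRing.closedPoint k
  let y : Y.left := y₀.left pt
  obtain ⟨V, hyV, hV, hinj⟩ := Y.left.exists_germ_injective y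
  refine ⟨V, hyV, ?_⟩
  let g : Y ⟶ Z := lift (toUnit Y ≫ x₀) (𝟙 Y) ≫ f
  let G : X ⊗ Y ⟶ Z := snd X Y ≫ g
  let z₀ : Z.left := g.left y
  have hx₀ : x₀.left ≫ X.hom = 𝟙 (Spec (CommRingCat.of k)) := Over.w x₀
  have hP : IsPullback (X ◁ y₀).left (snd X (𝟙_ _)).left (snd X Y).left y₀.left := by
    refine IsPullback.of_right (h₁₂ := (fst X Y).left) ?_ ?_ (IsPullback.of_hasPullback X.hom Y.hom)
    · rw [← Over.comp_left, whiskerLeft_fst, Over.w y₀]
      exact IsPullback.of_hasPullback X.hom (𝟙_ (Over (Spec (CommRingCat.of k)))).hom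
    · rw [← Over.comp_left, whiskerLeft_snd, Over.comp_left]
  have keyg : ∀ p : (X ⊗ Y).left, (snd X Y).left p = y → G.left p = z₀ := fun p hp => congrArg g.left hp
  have keyf : ∀ p : (X ⊗ Y).left, (snd X Y).left p = y → f.left p = z₀ := by
    intro p hp
    obtain ⟨z, hz, hz'⟩ := Scheme.Pullback.exists_preimage_pullback p pt hp
    have hx : (X ◁ y₀).left (hP.isoPullback.inv z) = p := by
      rw [← hz]
      exact congrArg (fun φ => φ z) hP.isoPullback_inv_fst
    rw [← keyg p hp, ← hx]
    exact congr(($hf).left (hP.isoPullback.inv z))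
  -- agreement over the local ring at the point
  let A := Y.left.presheaf.stalk y
  let φ : CommRingCat.of k ⟶ A := Spec.preimage (Y.left.fromSpecStalk y ≫ Y.hom)
  have hφ : Spec.map φ = Y.left.fromSpecStalk y ≫ Y.hom := Spec.map_preimage _
  let mA : pullback X.hom (Spec.map φ) ⟶ (X ⊗ Y).left :=
    pullback.lift (pullback.fst _ _) (pullback.snd _ _ ≫ Y.left.fromSpecStalk y)
      (by rw [Category.assoc, ← hφ, pullback.condition])
  have hA : mA ≫ f.left = mA ≫ G.left := by
    refine Groth.Agent.AV.eq_of_collapse' (A := A) X.hom hX x₀.left hx₀ φ _ _ Z.hom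
      (by simp only [Category.assoc, Over.w f, Over.w G]) ?_ z₀ (fun p hp => ?_) (fun p hp => ?_)
    · let σ := pullback.lift (f := X.hom) (g := Spec.map φ) (Spec.map φ ≫ x₀.left) (𝟙 _)
        (by rw [Category.assoc, hx₀, Category.comp_id, Category.id_comp])
      have hσ : σ ≫ mA = Y.left.fromSpecStalk y ≫ (lift (toUnit Y ≫ x₀) (𝟙 Y)).left := by
        apply pullback.hom_ext
        · show (σ ≫ mA) ≫ pullback.fst X.hom Y.hom = (_ ≫ _) ≫ (fst X Y).left
          rw [Category.assoc, pullback.lift_fst, pullback.lift_fst, Category.assoc, ← Over.comp_left, lift_fst,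
            Over.comp_left, Over.toUnit_left, hφ, Category.assoc]
        · show (σ ≫ mA) ≫ pullback.snd X.hom Y.hom = (_ ≫ _) ≫ (snd X Y).left
          rw [Category.assoc, pullback.lift_snd, pullback.lift_snd_assoc, Category.id_comp, Category.assoc,
            ← Over.comp_left, lift_snd, Over.id_left, Category.comp_id]
      show σ ≫ mA ≫ f.left = σ ≫ mA ≫ G.left
      rw [reassoc_of% hσ, reassoc_of% hσ, ← Over.comp_left, ← Over.comp_left]
      simp only [G, g, lift_snd_assoc, Category.id_comp]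
    · refine keyf _ ?_
      show (mA ≫ pullback.snd X.hom Y.hom) p = y
      rw [pullback.lift_snd, Scheme.Hom.comp_apply, hp]
      exact Scheme.fromSpecStalk_closedPoint
    · refine keyg _ ?_
      show (mA ≫ pullback.snd X.hom Y.hom) p = y
      rw [pullback.lift_snd, Scheme.Hom.comp_apply, hp]
      exact Scheme.fromSpecStalk_closedPoint
  let φV : CommRingCat.of k ⟶ Γ(Y.left, V) := Spec.preimage (hV.fromSpec ≫ Y.hom)
  have hφV : Spec.map φV = hV.fromSpec ≫ Y.hom := Spec.map_preimage _
  let gV : Γ(Y.left, V) ⟶ A := Y.left.presheaf.germ V y hyV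
  let mV : pullback X.hom (Spec.map φV) ⟶ (X ⊗ Y).left :=
    pullback.map _ _ _ _ (𝟙 _) hV.fromSpec (𝟙 _) (by simp) (by simp [hφV])
  have hVeq : mV ≫ f.left = mV ≫ G.left := by
    refine Groth.Agent.AV.eq_of_injective_extension' (R := Γ(Y.left, V)) (K := A) X.hom φV gV hinj _ _ Z.hom
      (by simp only [Category.assoc, Over.w f, Over.w G]) fun {T} u v w => ?_
    have hK : Spec.map gV ≫ hV.fromSpec = Y.left.fromSpecStalk y := by
      rw [← IsAffineOpen.fromSpecStalk_eq_fromSpecStalk hV hyV]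
      rfl
    let l : T ⟶ pullback X.hom (Spec.map φ) := pullback.lift u v
        (by rw [hφ, ← reassoc_of% hK, w, Category.assoc, hφV])
    have hl : pullback.lift u (v ≫ Spec.map gV) w ≫ mV = l ≫ mA := by
      apply pullback.hom_ext
      · rw [Category.assoc, pullback.lift_fst, Category.comp_id, pullback.lift_fst, Category.assoc]
        erw [pullback.lift_fst, pullback.lift_fst]
      · rw [Category.assoc, pullback.lift_snd, pullback.lift_snd_assoc, Category.assoc, Category.assoc, hK]
        erw [pullback.lift_snd, pullback.lift_snd_assoc]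
    have h1 := congrArg (· ≫ f.left) hl
    have h2 := congrArg (· ≫ G.left) hl
    simp only [Category.assoc] at h1 h2
    exact h1.trans ((congrArg (l ≫ ·) hA).trans h2.symm)
  let U : Over (Spec (CommRingCat.of k)) := Over.mk (V.ι ≫ Y.hom)
  let i : U ⟶ Y := Over.homMk V.ι rfl
  let θ : (X ⊗ U).left ⟶ pullback X.hom (Spec.map φV) :=
    pullback.map X.hom (V.ι ≫ Y.hom) X.hom (Spec.map φV) (𝟙 _) hV.isoSpec.hom (𝟙 _) (by simp)
      (by rw [hφV, Category.comp_id, IsAffineOpen.isoSpec_hom_fromSpec_assoc])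
  have hθ : θ ≫ mV = (X ◁ i).left := by
    apply pullback.hom_ext
    · show (θ ≫ mV) ≫ pullback.fst X.hom Y.hom = (X ◁ i).left ≫ (fst X Y).left
      rw [← Over.comp_left, whiskerLeft_fst, Category.assoc, pullback.lift_fst, Category.comp_id]
      erw [pullback.lift_fst, Category.comp_id]
      rfl
    · show (θ ≫ mV) ≫ pullback.snd X.hom Y.hom = (X ◁ i).left ≫ (snd X Y).left
      rw [← Over.comp_left, whiskerLeft_snd, Category.assoc, pullback.lift_snd]
      erw [pullback.lift_snd_assoc]
      rw [Category.assoc, IsAffineOpen.isoSpec_hom_fromSpec]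
      rfl
  show (X ◁ i) ≫ f = (X ◁ i) ≫ G
  ext1
  rw [Over.comp_left, Over.comp_left, ← hθ, Category.assoc, Category.assoc, hVeq]

/-- Equality on a dense piece of an integral factor is equality. -/
theorem eq_of_dense [IsIntegral Y.left] [IsLocallyNoetherian Y.left] [IsSeparated Z.hom] (V : Y.left.Opens)
    (hV : (V : Set Y.left).Nonempty) (a b : X ⊗ Y ⟶ Z)
    (h : (X ◁ (Over.homMk V.ι rfl : Over.mk (V.ι ≫ Y.hom) ⟶ Y)) ≫ a =
      (X ◁ (Over.homMk V.ι rfl : Over.mk (V.ι ≫ Y.hom) ⟶ Y)) ≫ b) : a = b := by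
  let i : Over.mk (V.ι ≫ Y.hom) ⟶ Y := Over.homMk V.ι rfl
  haveI : IsDominant V.ι := ⟨by
    rw [DenseRange, V.range_ι]; exact V.2.dense hV⟩
  haveI : IsSchemeTheoreticallyDominant V.ι := IsSchemeTheoreticallyDominant.of_isDominant _
  haveI : IsSchemeTheoreticallyDominant i.left := ‹IsSchemeTheoreticallyDominant V.ι›
  haveI : QuasiCompact i.left := inferInstanceAs (QuasiCompact V.ι)
  haveI : Flat (snd X Y).left := inferInstanceAs (Flat (pullback.snd X.hom Y.hom))
  have hP : IsPullback (X ◁ i).left (snd X _).left (snd X Y).left i.left := by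
    refine IsPullback.of_right (h₁₂ := (fst X Y).left) ?_ ?_ (IsPullback.of_hasPullback X.hom Y.hom)
    · rw [← Over.comp_left, whiskerLeft_fst, Over.w i]
      exact IsPullback.of_hasPullback X.hom (V.ι ≫ Y.hom)
    · rw [← Over.comp_left, whiskerLeft_snd, Over.comp_left]
  haveI : IsSchemeTheoreticallyDominant (X ◁ i).left := IsSchemeTheoreticallyDominant.of_isPullback hP.flip
  let δ : Z ⟶ Z ⊗ Z := lift (𝟙 Z) (𝟙 Z)
  haveI : IsClosedImmersion δ.left := by
    show IsClosedImmersion (pullback.diagonal Z.hom)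
    infer_instance
  obtain ⟨w, hw⟩ := Groth.L08.Albanese.exists_factor_dominant (X ◁ i).left (lift a b).left δ.left
    ((X ◁ i) ≫ a).left (by
      rw [← Over.comp_left, ← Over.comp_left, comp_lift, comp_lift, Category.comp_id, h])
  have h1 := congrArg (· ≫ (fst Z Z).left) hw
  have h2 := congrArg (· ≫ (snd Z Z).left) hw
  simp only [δ, Category.assoc, ← Over.comp_left, lift_fst, lift_snd, Over.id_left, Category.comp_id] at h1 h2
  exact Over.OverMorphism.ext (h1.symm.trans h2)

end Groth.L19.AntiAffRigidNoeth
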