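import Groth.Prelude.Def_ChGrp
import Groth.Agent.L28.Ext.Basic
import Groth.Agent.L19.FpqcCover
import Groth.Agent.L23.Descent

/-!
# The fixed locus of a central element in a balanced product
-/

set_option autoImplicit false
set_option linter.style.haveILetI false
set_option backward.isDefEq.respectTransparency.types false
set_option backward.isDefEq.respectTransparency false

universe u

open CategoryTheory MonoidalCategory CartesianMonoidalCategory MonObj AlgebraicGeometry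

namespace Groth.L19.BalFixed

open Groth.L28.Ext (Cov cov_of_isLocallyTrivialFor descend cancel)

variable {S : Scheme.{u}}

theorem cov_pullback {X Y T : Over S} {q : X ⟶ Y} (hq : Cov q) (t : T ⟶ Y) :
    Cov (Limits.pullback.fst t q) := by
  refine Scheme.fppfTopology.superset_covering ?_ (Scheme.fppfTopology.pullback_stable t.left hq)
  rintro U g ⟨_, s, _, ⟨⟩, hs⟩
  let U' : Over S := Over.mk (g ≫ T.hom)
  let a : U' ⟶ T := Over.homMk g
  let b : U' ⟶ X := Over.homMk s (by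
    change s ≫ X.hom = g ≫ T.hom
    rw [← Over.w q, ← Category.assoc, hs, Category.assoc, Over.w t])
  have e : a ≫ t = b ≫ q := by ext1; exact hs.symm
  exact ⟨_, (Limits.pullback.lift a b e).left, (Limits.pullback.fst t q).left, Presieve.singleton_self _,
    congrArg CommaMorphism.left (Limits.pullback.lift_fst a b e)⟩

theorem cov_comp {X Y Z : Over S} {q : X ⟶ Y} {r : Y ⟶ Z} (hq : Cov q) (hr : Cov r) : Cov (q ≫ r) := by
  refine Scheme.fppfTopology.transitive hr _ fun T f hf => ?_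
  obtain ⟨_, s, _, ⟨⟩, hs⟩ := hf
  refine Scheme.fppfTopology.superset_covering ?_ (Scheme.fppfTopology.pullback_stable s hq)
  rintro T' g ⟨_, s', _, ⟨⟩, hs'⟩
  refine ⟨X.left, s', (q ≫ r).left, Presieve.singleton_self _, ?_⟩
  rw [Over.comp_left, ← Category.assoc, hs', Category.assoc, hs]

variable {Q G X Xh Y Y' : Over S} [GrpObj Q] [GrpObj G]

section BalProd

variable {i : G ⟶ Q} [IsMonHom i] {a : AlgGrp.Action G X} {aY : AlgGrp.Action Q Y} {j : Q ⊗ X ⟶ Y}
  (hY : ChGrp.IsBalProd Scheme.fppfPrecoverage i a aY j)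

include hY

theorem act_j {T : Over S} (q₀ q : T ⟶ Q) (x : T ⟶ X) :
    lift q₀ (lift q x ≫ j) ≫ aY.act = lift (q₀ * q) x ≫ j := by
  have e := lift q₀ (lift q x) ≫= hY.1
  rw [AlgGrp.Action.lift_prod_act_assoc, AlgGrp.Action.lift_trivial_act, lift_whiskerLeft_assoc] at e
  exact e.symm.trans (congrArg (fun m => lift m x ≫ j) (Hom.mul_def q₀ q).symm)

theorem twist_j {T : Over S} (g : T ⟶ G) (q : T ⟶ Q) (x : T ⟶ X) :
    lift (q * (g ≫ i)⁻¹) (lift g x ≫ a.act) ≫ j = lift q x ≫ j := by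
  have e := lift g (lift q x) ≫= hY.2.1.w
  rwa [ChGrp.lift_twist_act_assoc, lift_snd_assoc] at e

theorem exists_of_j_eq {T : Over S} {q q' : T ⟶ Q} {x x' : T ⟶ X} (e : lift q x ≫ j = lift q' x' ≫ j) :
    ∃ g : T ⟶ G, q' * (g ≫ i)⁻¹ = q ∧ lift g x' ≫ a.act = x := by
  obtain ⟨l, h₁, h₂⟩ := hY.2.1.exists_lift (lift q x) (lift q' x') e
  rw [← lift_comp_fst_snd l, h₂, ChGrp.lift_twist_act] at h₁
  have e₁ := congrArg (· ≫ fst Q X) h₁
  have e₂ := congrArg (· ≫ snd Q X) h₁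
  simp only [lift_fst, lift_snd] at e₁ e₂
  exact ⟨_, e₁, e₂⟩

theorem cov_j : Cov j := cov_of_isLocallyTrivialFor j hY.2.2

end BalProd

section

variable {i : G ⟶ Q} [IsMonHom i] {h : 𝟙_ (Over S) ⟶ G} {a : AlgGrp.Action G X} {incl : Xh ⟶ X}
  {aXh : AlgGrp.Action G Xh} {aY : AlgGrp.Action Q Y} {j : Q ⊗ X ⟶ Y} {aY' : AlgGrp.Action Q Y'}
  {j' : Q ⊗ Xh ⟶ Y'} {m : Y' ⟶ Y}
  (hcent : ∀ (T : Over S) (q : T ⟶ Q), q * (toUnit T ≫ h ≫ i) = (toUnit T ≫ h ≫ i) * q)
  (hincl : AlgGrp.Action.IsEquivariant aXh a incl)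
  (hY : ChGrp.IsBalProd Scheme.fppfPrecoverage i a aY j)
  (hY' : ChGrp.IsBalProd Scheme.fppfPrecoverage i aXh aY' j')
  (hm : j' ≫ m = (Q ◁ incl) ≫ j)

include hcent hY in
theorem act_h {T : Over S} (q : T ⟶ Q) (x : T ⟶ X) :
    lift (toUnit T ≫ h ≫ i) (lift q x ≫ j) ≫ aY.act = lift q (lift (toUnit T ≫ h) x ≫ a.act) ≫ j := by
  rw [act_j hY, ← hcent, ← twist_j hY (toUnit T ≫ h), Category.assoc, mul_inv_cancel_right]

include hY' hm in
theorem comp_m {T : Over S} (q : T ⟶ Q) (x : T ⟶ Xh) : lift q x ≫ j' ≫ m = lift q (x ≫ incl) ≫ j := by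
  rw [hm, lift_whiskerLeft_assoc]

include hincl hY hY' hm in
theorem eq_of_comp_m [Mono incl] {T : Over S} (p p' : T ⟶ Q ⊗ Xh) (e : p ≫ j' ≫ m = p' ≫ j' ≫ m) :
    p ≫ j' = p' ≫ j' := by
  rw [← lift_comp_fst_snd p, ← lift_comp_fst_snd p'] at e ⊢
  rw [comp_m hY' hm, comp_m hY' hm] at e
  obtain ⟨g, hg₁, hg₂⟩ := exists_of_j_eq hY e
  have hx : lift g (p' ≫ snd Q Xh) ≫ aXh.act = p ≫ snd Q Xh := by
    rw [← cancel_mono incl, Category.assoc, show aXh.act ≫ incl = _ from hincl, lift_whiskerLeft_assoc, hg₂]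
  rw [← hg₁, ← hx, twist_j hY']

include hincl hY hY' hm in
theorem mono_m [Mono incl] : Mono m := by
  constructor
  intro T u v e
  apply cancel (cov_comp (cov_pullback (cov_j hY') (Limits.pullback.fst u j' ≫ v))
    (cov_pullback (cov_j hY') u))
  have hu : (Limits.pullback.fst (Limits.pullback.fst u j' ≫ v) j' ≫ Limits.pullback.snd u j') ≫ j' =
      Limits.pullback.fst (Limits.pullback.fst u j' ≫ v) j' ≫ Limits.pullback.fst u j' ≫ u := by
    rw [Category.assoc, Limits.pullback.condition]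
  have hv : Limits.pullback.snd (Limits.pullback.fst u j' ≫ v) j' ≫ j' =
      Limits.pullback.fst (Limits.pullback.fst u j' ≫ v) j' ≫ Limits.pullback.fst u j' ≫ v :=
    Limits.pullback.condition.symm
  rw [Category.assoc, Category.assoc, ← hu, ← hv]
  apply eq_of_comp_m hincl hY hY' hm
  rw [← Category.assoc, hu, ← Category.assoc (Limits.pullback.snd _ _), hv]
  simp only [Category.assoc, e]

include hcent hincl hY hY' hm in
theorem comp_m_iff [Mono incl] [Mono i]
    (hXh : ∀ (T : Over S) (x : T ⟶ X), (∃ y : T ⟶ Xh, y ≫ incl = x) ↔ lift (toUnit T ≫ h) x ≫ a.act = x)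
    {T : Over S} (y : T ⟶ Y) :
    (∃ y' : T ⟶ Y', y' ≫ m = y) ↔ lift (toUnit T ≫ h ≫ i) y ≫ aY.act = y := by
  haveI := mono_m hincl hY hY' hm
  constructor
  · rintro ⟨y', rfl⟩
    apply cancel (cov_pullback (cov_j hY') y')
    obtain ⟨p, hp⟩ : ∃ p, p = Limits.pullback.snd y' j' := ⟨_, rfl⟩
    have e : Limits.pullback.fst y' j' ≫ y' ≫ m = lift (p ≫ fst Q Xh) ((p ≫ snd Q Xh) ≫ incl) ≫ j := by
      rw [← comp_m hY' hm, lift_comp_fst_snd, hp, Limits.pullback.condition_assoc]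
    rw [comp_lift_assoc, comp_toUnit_assoc, e, act_h hcent hY, (hXh _ _).1 ⟨_, rfl⟩]
  · intro hy
    have hc := cov_pullback (cov_j hY) y
    obtain ⟨p, hp⟩ : ∃ p, p = Limits.pullback.snd y j := ⟨_, rfl⟩
    have e : lift (p ≫ fst Q X) (p ≫ snd Q X) ≫ j = Limits.pullback.fst y j ≫ y := by
      rw [lift_comp_fst_snd, hp, Limits.pullback.condition]
    have e' := Limits.pullback.fst y j ≫= hy
    rw [comp_lift_assoc, comp_toUnit_assoc, ← e, act_h hcent hY] at e'
    obtain ⟨g, hg₁, hg₂⟩ := exists_of_j_eq hY e'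
    have hg : g = 1 := by
      rw [← cancel_mono i, one_comp]
      exact inv_eq_one.1 (mul_eq_left.1 hg₁)
    rw [hg, AlgGrp.Action.lift_one_act] at hg₂
    obtain ⟨x', hx'⟩ := (hXh _ _).2 hg₂.symm
    obtain ⟨d, hd⟩ : ∃ d : Limits.pullback y j ⟶ Y', d = lift (p ≫ fst Q X) x' ≫ j' := ⟨_, rfl⟩
    have hdm : d ≫ m = Limits.pullback.fst y j ≫ y := by
      rw [hd, Category.assoc, comp_m hY' hm, hx', e]
    obtain ⟨y', hy'⟩ := descend hc d (fun U a b hab => by
      rw [← cancel_mono m, Category.assoc, Category.assoc, hdm, ← Category.assoc, hab, Category.assoc])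
    exact ⟨y', cancel hc (by rw [← Category.assoc, hy', hdm])⟩

include hcent hincl hY hY' hm in
theorem isPullback_m [Mono incl] [Mono i]
    (hXh : ∀ (T : Over S) (x : T ⟶ X), (∃ y : T ⟶ Xh, y ≫ incl = x) ↔ lift (toUnit T ≫ h) x ≫ a.act = x) :
    IsPullback j' (Q ◁ incl) m j := by
  haveI := mono_m hincl hY hY' hm
  refine IsPullback.mk' hm (fun T u v _ e => ?_) (fun T y' p e => ?_)
  · have e₁ := congrArg (· ≫ fst Q X) e
    have e₂ := congrArg (· ≫ snd Q X) e
    simp only [Category.assoc, whiskerLeft_fst, whiskerLeft_snd] at e₁ e₂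
    simp only [← Category.assoc, cancel_mono] at e₂
    exact CartesianMonoidalCategory.hom_ext _ _ e₁ e₂
  · have hy := (comp_m_iff hcent hincl hY hY' hm hXh (y' ≫ m)).1 ⟨y', rfl⟩
    have e' : lift (p ≫ fst Q X) (p ≫ snd Q X) ≫ j = y' ≫ m := by rw [lift_comp_fst_snd, e]
    rw [← e', act_h hcent hY] at hy
    obtain ⟨g, hg₁, hg₂⟩ := exists_of_j_eq hY hy
    have hg : g = 1 := by
      rw [← cancel_mono i, one_comp]
      exact inv_eq_one.1 (mul_eq_left.1 hg₁)
    rw [hg, AlgGrp.Action.lift_one_act] at hg₂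
    obtain ⟨x', hx'⟩ := (hXh _ _).2 hg₂.symm
    refine ⟨lift (p ≫ fst Q X) x', ?_, ?_⟩
    · rw [← cancel_mono m, Category.assoc, comp_m hY' hm, hx', e']
    · rw [lift_whiskerLeft, hx', lift_comp_fst_snd]

omit [GrpObj Q] in
theorem isPullback_whiskerLeft {A B : Over S} (f : A ⟶ B) :
    IsPullback (snd Q A) (Q ◁ f) f (snd Q B) := by
  refine IsPullback.mk' (whiskerLeft_snd Q f).symm (fun T u v e₁ e₂ => ?_) (fun T u v e => ?_)
  · have e₃ := congrArg (· ≫ fst Q B) e₂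
    simp only [Category.assoc, whiskerLeft_fst] at e₃
    exact CartesianMonoidalCategory.hom_ext _ _ e₃ e₁
  · refine ⟨lift (v ≫ fst Q B) u, lift_snd _ _, ?_⟩
    rw [lift_whiskerLeft, e, lift_comp_fst_snd]

include hcent hincl hY hY' hm in
theorem isClosedImmersion_m [Mono incl] [Mono i]
    (hXh : ∀ (T : Over S) (x : T ⟶ X), (∃ y : T ⟶ Xh, y ≫ incl = x) ↔ lift (toUnit T ≫ h) x ≫ a.act = x)
    [IsClosedImmersion incl.left] : IsClosedImmersion m.left := by
  have sq := (isPullback_m hcent hincl hY hY' hm hXh).map (Over.forget S)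
  have hQ : IsClosedImmersion (Q ◁ incl).left :=
    MorphismProperty.of_isPullback (P := @IsClosedImmersion)
      ((isPullback_whiskerLeft (Q := Q) incl).map (Over.forget S)) ‹IsClosedImmersion incl.left›
  obtain ⟨R, hR, hsec⟩ := hY.2.2
  obtain ⟨𝒰, rfl⟩ := Precoverage.mem_iff_exists_zeroHypercover.mp hR
  refine Groth.L19.of_fpqc @IsClosedImmersion inferInstance m.left (g := 𝒰.f)
    (Scheme.fppfPrecoverage_le_fpqcPrecoverage _ hR) fun k => ?_
  obtain ⟨s, hs⟩ := hsec (𝒰.f k) ⟨k⟩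
  have hs' : s ≫ j.left = 𝒰.f k := hs
  have sq₁ : IsPullback (Limits.pullback.fst (Q ◁ incl).left s ≫ j'.left)
      (Limits.pullback.snd (Q ◁ incl).left s) m.left (𝒰.f k) :=
    hs' ▸ (IsPullback.of_hasPullback (Q ◁ incl).left s).paste_horiz sq
  rw [← sq₁.isoPullback_inv_snd]
  exact (MorphismProperty.cancel_left_of_respectsIso @IsClosedImmersion _ _).2
    (MorphismProperty.pullback_snd (P := @IsClosedImmersion) _ _ hQ)

end

end Groth.L19.BalFixed
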