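import Groth.Prelude.Def_ChGrp
import Groth.Prelude.Def_ActBC
import Mathlib.AlgebraicGeometry.Sites.Fpqc

/-!
# The global stabilizer over a conjugacy class as a balanced product
-/

set_option autoImplicit false
set_option linter.style.haveILetI false
set_option backward.isDefEq.respectTransparency.types false
set_option backward.isDefEq.respectTransparency false

universe u

open CategoryTheory MonoidalCategory CartesianMonoidalCategory MonObj AlgebraicGeometry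

namespace Groth.L19.BalancedStab

variable {S : Scheme.{u}} {G X Z Ψ Xh SΨ : Over S} [GrpObj G] [GrpObj Z]

theorem isBalProd
    (a : AlgGrp.Action G X) (h : 𝟙_ (Over S) ⟶ G)
    (i : Z ⟶ G) [IsMonHom i]
    (ψ : Ψ ⟶ G) [Mono ψ] (aΨ : AlgGrp.Action G Ψ)
    (hψ : aΨ.act ≫ ψ = fst G Ψ * (snd G Ψ ≫ ψ) * (fst G Ψ)⁻¹)
    (o : 𝟙_ (Over S) ⟶ Ψ) (ho : o ≫ ψ = h)
    (hhom : ChGrp.IsHomog Scheme.fppfPrecoverage i aΨ o)
    (incl : Xh ⟶ X) [Mono incl]
    (hXh : ∀ (T : Over S) (x : T ⟶ X), (∃ y : T ⟶ Xh, y ≫ incl = x) ↔ lift (toUnit T ≫ h) x ≫ a.act = x)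
    (aXh : AlgGrp.Action Z Xh) (hincl : AlgGrp.Action.IsEquivariant aXh (a.restrict i) incl)
    (σ : SΨ ⟶ G ⊗ X) [Mono σ]
    (hSΨ : ∀ (T : Over S) (g : T ⟶ G) (x : T ⟶ X),
      (∃ q : T ⟶ SΨ, q ≫ σ = lift g x) ↔ ((∃ y : T ⟶ Ψ, y ≫ ψ = g) ∧ lift g x ≫ a.act = x))
    (aS : AlgGrp.Action G SΨ)
    (hσ : aS.act ≫ σ = lift (fst G SΨ * (snd G SΨ ≫ σ ≫ fst G X) * (fst G SΨ)⁻¹)
      (lift (fst G SΨ) (snd G SΨ ≫ σ ≫ snd G X) ≫ a.act))
    (Φ : G ⊗ Xh ⟶ SΨ)
    (hΦ : Φ ≫ σ = lift (fst G Xh * (toUnit (G ⊗ Xh) ≫ h) * (fst G Xh)⁻¹)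
      (lift (fst G Xh) (snd G Xh ≫ incl) ≫ a.act)) :
    ChGrp.IsBalProd Scheme.fppfPrecoverage i aXh aS Φ := by
  obtain ⟨-, sq, hloc⟩ := hhom
  have hπ : ∀ {T : Over S} (g : T ⟶ G), (g ≫ aΨ.orbitMap o) ≫ ψ = g * (toUnit T ≫ h) * g⁻¹ := by
    intro T g
    rw [AlgGrp.Action.comp_orbitMap, Category.assoc, hψ, MonObj.comp_mul, MonObj.comp_mul, GrpObj.comp_inv,
      lift_fst, lift_snd_assoc, Category.assoc, ho]
  have hP : ∀ {T : Over S} (g : T ⟶ G) (y : T ⟶ Xh), lift g y ≫ Φ ≫ σ =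
      lift (g * (toUnit T ≫ h) * g⁻¹) (lift g (y ≫ incl) ≫ a.act) := by
    intro T g y
    rw [hΦ, comp_lift, comp_lift_assoc, MonObj.comp_mul, MonObj.comp_mul, GrpObj.comp_inv, lift_fst,
      lift_snd_assoc, ← Category.assoc (lift g y) (toUnit _), toUnit_unique (lift g y ≫ toUnit _) (toUnit T)]
  have hS : ∀ {T : Over S} (g : T ⟶ G) (q : T ⟶ SΨ), lift g q ≫ aS.act ≫ σ =
      lift (g * (q ≫ σ ≫ fst G X) * g⁻¹) (lift g (q ≫ σ ≫ snd G X) ≫ a.act) := by
    intro T g q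
    rw [hσ, comp_lift, comp_lift_assoc, MonObj.comp_mul, MonObj.comp_mul, GrpObj.comp_inv, lift_fst,
      lift_snd_assoc, lift_snd_assoc]
  have hy : ∀ {T : Over S} (z : T ⟶ Z) (y : T ⟶ Xh),
      (lift z y ≫ aXh.act) ≫ incl = lift (z ≫ i) (y ≫ incl) ≫ a.act := by
    intro T z y
    rw [Category.assoc, show aXh.act ≫ incl = _ from hincl, lift_whiskerLeft_assoc,
      AlgGrp.Action.lift_restrict_act]
  -- `i` centralises `h`
  have hcent : ∀ {T : Over S} (z : T ⟶ Z), (z ≫ i) * (toUnit T ≫ h) * (z ≫ i)⁻¹ = toUnit T ≫ h := by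
    intro T z
    have e := lift (1 : T ⟶ G) z ≫= sq.w
    rw [lift_fst_assoc, ← Category.assoc (lift _ z), lift_whiskerLeft_assoc, ← Hom.mul_def, _root_.one_mul] at e
    have e' := congrArg (· ≫ ψ) e
    simp only [hπ] at e'
    rw [_root_.one_mul, inv_one, _root_.mul_one] at e'
    exact e'.symm
  have hpair : ∀ {T : Over S} (p : T ⟶ G ⊗ Xh), lift (p ≫ fst G Xh) (p ≫ snd G Xh) = p := fun p => by
    apply CartesianMonoidalCategory.hom_ext <;> simp
  refine ⟨?_, ?_, ?_⟩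
  · apply AlgGrp.Action.hom_ext_lift₂
    intro T g p
    rw [← cancel_mono σ]
    simp only [Category.assoc]
    rw [← hpair p, ← Category.assoc (lift g _), AlgGrp.Action.lift_prod_act]
    rw [lift_whiskerLeft_assoc, hS]
    rw [show lift g (p ≫ fst G Xh) ≫ (NonAbH1.trivialAction G).act = g * (p ≫ fst G Xh) from
      (Hom.mul_def g (p ≫ fst G Xh)).symm, AlgGrp.Action.lift_trivial_act, hP]
    have e := hP (p ≫ fst G Xh) (p ≫ snd G Xh)
    have eg := congrArg (· ≫ fst G X) e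
    have ex := congrArg (· ≫ snd G X) e
    simp only [Category.assoc, lift_fst, lift_snd] at eg ex ⊢
    rw [eg, ex, ← AlgGrp.Action.lift_mul_act]
    congr 1
    group
  · -- the cartesian square
    have hw : (ChGrp.twist i aXh).act ≫ Φ = snd Z (G ⊗ Xh) ≫ Φ := by
      apply AlgGrp.Action.hom_ext_lift₂
      intro T z p
      rw [← cancel_mono σ]
      simp only [Category.assoc]
      rw [← hpair p, ChGrp.lift_twist_act_assoc, lift_snd_assoc, hP, hP, hy, ← AlgGrp.Action.lift_mul_act,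
        inv_mul_cancel_right]
      congr 1
      have hc : (z ≫ i)⁻¹ * (toUnit T ≫ h) * (z ≫ i) = toUnit T ≫ h := by
        conv_lhs => rw [← hcent z]
        group
      conv_rhs => rw [← hc]
      group
    refine IsPullback.mk' hw (fun T u v e₁ e₂ => ?_) (fun T p₁ p₂ e => ?_)
    · have hsn : u ≫ snd Z _ ≫ fst G Xh = v ≫ snd Z _ ≫ fst G Xh := by rw [reassoc_of% e₂]
      have d : ∀ w : T ⟶ Z ⊗ (G ⊗ Xh), (w ≫ (ChGrp.twist i aXh).act) ≫ fst G Xh =
          (w ≫ snd Z _ ≫ fst G Xh) * ((w ≫ fst Z _) ≫ i)⁻¹ := fun w => by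
        conv_lhs => rw [← lift_comp_fst_snd w, ← hpair (w ≫ snd Z (G ⊗ Xh))]
        rw [ChGrp.lift_twist_act, lift_fst, Category.assoc]
      have ei : (u ≫ fst Z _) ≫ i = (v ≫ fst Z _) ≫ i := by
        have := congrArg (· ≫ fst G Xh) e₁
        simp only [d, hsn] at this
        exact inv_injective (mul_left_cancel this)
      have ez : u ≫ fst Z _ = v ≫ fst Z _ := by
        have h' : lift (1 : T ⟶ G) (u ≫ fst Z _) = lift 1 (v ≫ fst Z _) := sq.hom_ext (by simp) (by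
          rw [lift_whiskerLeft_assoc, lift_whiskerLeft_assoc, ei])
        simpa using congrArg (· ≫ snd G Z) h'
      exact CartesianMonoidalCategory.hom_ext _ _ ez e₂
    · have e' := congrArg (· ≫ σ) e
      simp only [Category.assoc] at e'
      rw [← hpair p₁, ← hpair p₂, hP, hP] at e'
      have eg := congrArg (· ≫ fst G X) e'
      have ex := congrArg (· ≫ snd G X) e'
      simp only [lift_fst, lift_snd] at eg ex
      have eπ : (p₁ ≫ fst G Xh) ≫ aΨ.orbitMap o = (p₂ ≫ fst G Xh) ≫ aΨ.orbitMap o := by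
        rw [← cancel_mono ψ, hπ, hπ, eg]
      let w := sq.lift _ _ eπ
      obtain ⟨z, hz⟩ : ∃ z : T ⟶ Z, p₂ ≫ fst G Xh = (p₁ ≫ fst G Xh) * (z ≫ i) := by
        refine ⟨w ≫ snd G Z, (sq.lift_snd _ _ eπ).symm.trans ?_⟩
        conv_rhs => rw [← sq.lift_fst _ _ eπ]
        rw [Hom.mul_def, ← Category.assoc _ (G ◁ i)]
        congr 1
        apply CartesianMonoidalCategory.hom_ext <;> simp [w]
      refine ⟨lift z p₂, ?_, lift_snd _ _⟩
      conv_lhs => rw [← hpair p₂]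
      conv_rhs => rw [← hpair p₁]
      rw [ChGrp.lift_twist_act]
      congr 1
      · rw [hz, mul_inv_cancel_right]
      · rw [← cancel_mono incl, hy]
        rw [hz, AlgGrp.Action.lift_mul_act] at ex
        have ex' := congrArg (fun m => lift (p₁ ≫ fst G Xh)⁻¹ m ≫ a.act) ex
        simp only [← AlgGrp.Action.lift_mul_act, inv_mul_cancel, AlgGrp.Action.lift_one_act, inv_mul_cancel_left] at ex'
        exact ex'.symm
  · -- local sections
    obtain ⟨⟨e, he⟩, hfix⟩ := (hSΨ SΨ (σ ≫ fst G X) (σ ≫ snd G X)).1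
      ⟨𝟙 _, by rw [Category.id_comp, ← comp_lift, lift_fst_snd, Category.comp_id]⟩
    obtain ⟨R, hR, hsec⟩ := NonAbH1.isLocallyTrivialFor_bc e.left Scheme.fppfPrecoverage hloc
    refine ⟨R, hR, fun T f hf => ?_⟩
    obtain ⟨s, hs⟩ := hsec f hf
    have hs' : (s ≫ Limits.pullback.fst (aΨ.orbitMap o).left e.left) ≫ (aΨ.orbitMap o).left = f ≫ e.left := by
      rw [Category.assoc, Limits.pullback.condition, ← Category.assoc]
      exact congrArg (· ≫ e.left) hs
    let T' : Over S := Over.mk (f ≫ SΨ.hom)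
    let q : T' ⟶ SΨ := Over.homMk f
    let γ : T' ⟶ G := Over.homMk (s ≫ Limits.pullback.fst (aΨ.orbitMap o).left e.left) (by
      have hh := congrArg (· ≫ Ψ.hom) hs'
      simp only [Category.assoc, Over.w] at hh
      exact (Category.assoc _ _ _).trans hh)
    have hγ : γ ≫ aΨ.orbitMap o = q ≫ e := Over.OverMorphism.ext hs'
    let g : T' ⟶ G := q ≫ σ ≫ fst G X
    let x : T' ⟶ X := q ≫ σ ≫ snd G X
    have hg : γ * (toUnit T' ≫ h) * γ⁻¹ = g := by rw [← hπ, hγ, Category.assoc, he]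
    have hgx : lift g x ≫ a.act = x := by
      have := q ≫= hfix
      rwa [comp_lift_assoc] at this
    obtain ⟨y, hy'⟩ := (hXh T' (lift γ⁻¹ x ≫ a.act)).2 (by
      rw [← AlgGrp.Action.lift_mul_act]
      conv_rhs => rw [← hgx, ← AlgGrp.Action.lift_mul_act, ← hg]
      congr 2
      group)
    have hfin : lift γ y ≫ Φ = q := by
      rw [← cancel_mono σ, Category.assoc, hP, hg, hy', ← AlgGrp.Action.lift_mul_act, mul_inv_cancel,
        AlgGrp.Action.lift_one_act]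
      apply CartesianMonoidalCategory.hom_ext <;> simp [g, x]
    exact ⟨(lift γ y).left, congrArg CommaMorphism.left hfin⟩

end Groth.L19.BalancedStab
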