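import Groth.Agent.L16.RatMapExt
import Mathlib.AlgebraicGeometry.Birational.Birational

/-!
# Birationality from an isomorphism of local rings
-/

set_option autoImplicit false
set_option backward.isDefEq.respectTransparency.types false
set_option backward.isDefEq.respectTransparency false

universe u

open CategoryTheory AlgebraicGeometry TopologicalSpace

namespace Groth.L19.BiratStalk

variable {X Y S : Scheme.{u}}

theorem fromSpecStalkOfMem_homOfLE {U U' : X.Opens} (h : U' ≤ U) {x : X} (hx : x ∈ U') :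
    U'.fromSpecStalkOfMem x hx ≫ X.homOfLE h = U.fromSpecStalkOfMem x (h hx) := by
  rw [← cancel_mono U.ι]
  simp

theorem fromSpecStalkOfMem_closedPoint {U : X.Opens} {x : X} (hx : x ∈ U) :
    U.fromSpecStalkOfMem x hx (IsLocalRing.closedPoint _) = ⟨x, hx⟩ := by
  apply Subtype.ext
  show U.ι (U.fromSpecStalkOfMem x hx _) = x
  rw [← Scheme.Hom.comp_apply, Scheme.Opens.fromSpecStalkOfMem_ι, Scheme.fromSpecStalk_closedPoint]

theorem specMap_iso_closedPoint {A B : CommRingCat.{u}} [IsLocalRing A] [IsLocalRing B] (e : A ≅ B) :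
    Spec.map e.hom (IsLocalRing.closedPoint B) = IsLocalRing.closedPoint A := by
  have : IsLocalHom e.hom.hom := (inferInstance : IsLocalHom e.hom.hom)
  exact IsLocalRing.comap_closedPoint (S := B) e.hom.hom

theorem exists_eq_near (sX : X ⟶ S) (sY : Y ⟶ S) [LocallyOfFiniteType sY] {U : X.Opens}
    (f g : U.toScheme ⟶ Y) (hf : f ≫ sY = U.ι ≫ sX) (hg : g ≫ sY = U.ι ≫ sX) {x : X} (hx : x ∈ U)
    (e : U.fromSpecStalkOfMem x hx ≫ f = U.fromSpecStalkOfMem x hx ≫ g) :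
    ∃ (U' : X.Opens) (h : U' ≤ U), x ∈ U' ∧ X.homOfLE h ≫ f = X.homOfLE h ≫ g := by
  simp only [Scheme.Opens.fromSpecStalkOfMem, Category.assoc, cancel_epi] at e
  obtain ⟨W, hW, hWeq⟩ :=
    Groth.L16.spread_out_unique_of_locallyOfFiniteType (U.ι ≫ sX) sY f g hf hg ⟨x, hx⟩ e
  refine ⟨U.ι ''ᵁ W, U.ι_image_le W, ⟨⟨x, hx⟩, hW, rfl⟩, ?_⟩
  rw [← cancel_epi (U.ι.isoImage W).hom, ← Category.assoc, ← Category.assoc,
    show (U.ι.isoImage W).hom ≫ X.homOfLE (U.ι_image_le W) = W.ι by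
      rw [← cancel_mono U.ι, Category.assoc, Scheme.homOfLE_ι, Scheme.Hom.isoImage_hom_ι]]
  exact hWeq

variable (sX : X ⟶ S) (sY : Y ⟶ S)

theorem exists_round [LocallyOfFiniteType sX] {x : X} {y : Y}
    (e : X.presheaf.stalk x ≅ Y.presheaf.stalk y)
    {U : X.Opens} (hx : x ∈ U) (f : U.toScheme ⟶ Y)
    (hf : U.fromSpecStalkOfMem x hx ≫ f = Spec.map e.inv ≫ Y.fromSpecStalk y)
    (hfS : f ≫ sY = U.ι ≫ sX)
    {V : Y.Opens} (hy : y ∈ V) (g : V.toScheme ⟶ X)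
    (hg : V.fromSpecStalkOfMem y hy ≫ g = Spec.map e.hom ≫ X.fromSpecStalk x)
    (hgS : g ≫ sX = V.ι ≫ sY) :
    ∃ (U'' : X.Opens) (h : U'' ≤ U) (k : U''.toScheme ⟶ V.toScheme),
      x ∈ U'' ∧ k ≫ V.ι = X.homOfLE h ≫ f ∧ k ≫ g = U''.ι := by
  have hfx : f ⟨x, hx⟩ = y := by
    rw [← fromSpecStalkOfMem_closedPoint hx, ← Scheme.Hom.comp_apply, hf, Scheme.Hom.comp_apply,
      ← Iso.symm_hom, specMap_iso_closedPoint, Scheme.fromSpecStalk_closedPoint]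
  let U' : X.Opens := U.ι ''ᵁ (f ⁻¹ᵁ V)
  have hU' : U' ≤ U := U.ι_image_le _
  have hxU' : x ∈ U' := ⟨⟨x, hx⟩, by show f ⟨x, hx⟩ ∈ V; rw [hfx]; exact hy, rfl⟩
  have hrange : Set.range (X.homOfLE hU' ≫ f) ⊆ Set.range V.ι := by
    rintro _ ⟨u, rfl⟩
    obtain ⟨u', hu', hu''⟩ := u.2
    rw [Scheme.Opens.range_ι, Scheme.Hom.comp_apply]
    have : X.homOfLE hU' u = u' := Subtype.ext ((Scheme.homOfLE_apply ..).trans hu''.symm)
    rw [this]
    exact hu'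
  let k := IsOpenImmersion.lift V.ι (X.homOfLE hU' ≫ f) hrange
  have hk : k ≫ V.ι = X.homOfLE hU' ≫ f := IsOpenImmersion.lift_fac ..
  have hkS : (k ≫ g) ≫ sX = U'.ι ≫ sX := by
    rw [Category.assoc, hgS, ← Category.assoc, hk, Category.assoc, hfS, Scheme.homOfLE_ι_assoc]
  have heq : U'.fromSpecStalkOfMem x hxU' ≫ (k ≫ g) = U'.fromSpecStalkOfMem x hxU' ≫ U'.ι := by
    have : U'.fromSpecStalkOfMem x hxU' ≫ k = Spec.map e.inv ≫ V.fromSpecStalkOfMem y hy := by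
      rw [← cancel_mono V.ι, Category.assoc, hk, ← Category.assoc, fromSpecStalkOfMem_homOfLE, hf,
        Category.assoc, Scheme.Opens.fromSpecStalkOfMem_ι]
    rw [← Category.assoc, this, Category.assoc, hg, Scheme.Opens.fromSpecStalkOfMem_ι,
      ← Category.assoc, ← Spec.map_comp, Iso.hom_inv_id, Spec.map_id, Category.id_comp]
  obtain ⟨U'', h, hxU'', he⟩ := exists_eq_near sX sX (k ≫ g) U'.ι hkS rfl hxU' heq
  refine ⟨U'', h.trans hU', X.homOfLE h ≫ k, hxU'', ?_, ?_⟩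
  · rw [Category.assoc, hk, Scheme.homOfLE_homOfLE_assoc]
  · rw [Category.assoc, he, Scheme.homOfLE_ι]

/-- Mutually inverse germs of morphisms give isomorphic neighbourhoods. -/
theorem exists_iso_nhds [LocallyOfFiniteType sX] [LocallyOfFiniteType sY] {x : X} {y : Y}
    (e : X.presheaf.stalk x ≅ Y.presheaf.stalk y)
    {U : X.Opens} (hx : x ∈ U) (f : U.toScheme ⟶ Y)
    (hf : U.fromSpecStalkOfMem x hx ≫ f = Spec.map e.inv ≫ Y.fromSpecStalk y)
    (hfS : f ≫ sY = U.ι ≫ sX)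
    {V : Y.Opens} (hy : y ∈ V) (g : V.toScheme ⟶ X)
    (hg : V.fromSpecStalkOfMem y hy ≫ g = Spec.map e.hom ≫ X.fromSpecStalk x)
    (hgS : g ≫ sX = V.ι ≫ sY) :
    ∃ (U₁ : X.Opens) (V₁ : Y.Opens) (i : U₁.toScheme ≅ V₁.toScheme),
      x ∈ U₁ ∧ y ∈ V₁ ∧ i.hom ≫ V₁.ι ≫ sY = U₁.ι ≫ sX := by
  obtain ⟨U₂, hU₂, k, hxU₂, hk, hkg⟩ := exists_round sX sY e hx f hf hfS hy g hg hgS
  obtain ⟨V₂, hV₂, l, hyV₂, hl, hlf⟩ := exists_round sY sX e.symm hy g hg hgS hx f hf hfS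
  let U₁ : X.Opens := U₂.ι ''ᵁ ((k ≫ V.ι) ⁻¹ᵁ V₂)
  let V₁ : Y.Opens := V₂.ι ''ᵁ ((l ≫ U.ι) ⁻¹ᵁ U₂)
  have hU₁ : U₁ ≤ U₂ := U₂.ι_image_le _
  have hV₁ : V₁ ≤ V₂ := V₂.ι_image_le _
  have hkl : ∀ (u : U₂.toScheme) (hu : (k ≫ V.ι) u ∈ V₂), (l ≫ U.ι) ⟨_, hu⟩ = u.1 := by
    intro u hu
    have h1 : (l ≫ U.ι) ⟨_, hu⟩ = g (Y.homOfLE hV₂ ⟨_, hu⟩) := congr($hl ⟨_, hu⟩)
    have h2 : Y.homOfLE hV₂ ⟨_, hu⟩ = k u := Subtype.ext (Scheme.homOfLE_apply ..)
    exact h1.trans ((congrArg g h2).trans congr($hkg u))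
  have hlk : ∀ (v : V₂.toScheme) (hv : (l ≫ U.ι) v ∈ U₂), (k ≫ V.ι) ⟨_, hv⟩ = v.1 := by
    intro v hv
    have h1 : (k ≫ V.ι) ⟨_, hv⟩ = f (X.homOfLE hU₂ ⟨_, hv⟩) := congr($hk ⟨_, hv⟩)
    have h2 : X.homOfLE hU₂ ⟨_, hv⟩ = l v := Subtype.ext (Scheme.homOfLE_apply ..)
    exact h1.trans ((congrArg f h2).trans congr($hlf v))
  have hkr : Set.range (X.homOfLE hU₁ ≫ k ≫ V.ι) ⊆ Set.range V₁.ι := by
    rintro _ ⟨w, rfl⟩
    obtain ⟨u, hu, huw⟩ := w.2
    rw [Scheme.Opens.range_ι, Scheme.Hom.comp_apply,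
      show X.homOfLE hU₁ w = u from Subtype.ext ((Scheme.homOfLE_apply ..).trans huw.symm)]
    exact ⟨⟨_, hu⟩, by show (l ≫ U.ι) ⟨_, hu⟩ ∈ U₂; rw [hkl u hu]; exact u.2, rfl⟩
  have hlr : Set.range (Y.homOfLE hV₁ ≫ l ≫ U.ι) ⊆ Set.range U₁.ι := by
    rintro _ ⟨w, rfl⟩
    obtain ⟨v, hv, hvw⟩ := w.2
    rw [Scheme.Opens.range_ι, Scheme.Hom.comp_apply,
      show Y.homOfLE hV₁ w = v from Subtype.ext ((Scheme.homOfLE_apply ..).trans hvw.symm)]
    exact ⟨⟨_, hv⟩, by show (k ≫ V.ι) ⟨_, hv⟩ ∈ V₂; rw [hlk v hv]; exact v.2, rfl⟩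
  let p := IsOpenImmersion.lift V₁.ι (X.homOfLE hU₁ ≫ k ≫ V.ι) hkr
  let q := IsOpenImmersion.lift U₁.ι (Y.homOfLE hV₁ ≫ l ≫ U.ι) hlr
  have hp : p ≫ V₁.ι = X.homOfLE hU₁ ≫ k ≫ V.ι := IsOpenImmersion.lift_fac ..
  have hq : q ≫ U₁.ι = Y.homOfLE hV₁ ≫ l ≫ U.ι := IsOpenImmersion.lift_fac ..
  have hp' : p ≫ Y.homOfLE (hV₁.trans hV₂) = X.homOfLE hU₁ ≫ k := by
    rw [← cancel_mono V.ι, Category.assoc, Scheme.homOfLE_ι, hp, Category.assoc]
  have hq' : q ≫ X.homOfLE (hU₁.trans hU₂) = Y.homOfLE hV₁ ≫ l := by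
    rw [← cancel_mono U.ι, Category.assoc, Scheme.homOfLE_ι, hq, Category.assoc]
  have hpq : p ≫ q = 𝟙 _ := by
    rw [← cancel_mono U₁.ι, Category.assoc, hq, hl, Scheme.homOfLE_homOfLE_assoc, ← Category.assoc,
      hp', Category.assoc, hkg, Scheme.homOfLE_ι, Category.id_comp]
  have hqp : q ≫ p = 𝟙 _ := by
    rw [← cancel_mono V₁.ι, Category.assoc, hp, hk, Scheme.homOfLE_homOfLE_assoc, ← Category.assoc,
      hq', Category.assoc, hlf, Scheme.homOfLE_ι, Category.id_comp]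
  refine ⟨U₁, V₁, ⟨p, q, hpq, hqp⟩, ?_, ?_, ?_⟩
  · refine ⟨⟨x, hxU₂⟩, ?_, rfl⟩
    show (k ≫ V.ι) ⟨x, hxU₂⟩ ∈ V₂
    have : f ⟨x, hx⟩ = y := by
      rw [← fromSpecStalkOfMem_closedPoint hx, ← Scheme.Hom.comp_apply, hf, Scheme.Hom.comp_apply,
        ← Iso.symm_hom, specMap_iso_closedPoint, Scheme.fromSpecStalk_closedPoint]
    rw [hk, Scheme.Hom.comp_apply,
      show X.homOfLE hU₂ ⟨x, hxU₂⟩ = ⟨x, hx⟩ from Subtype.ext (Scheme.homOfLE_apply ..), this]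
    exact hyV₂
  · refine ⟨⟨y, hyV₂⟩, ?_, rfl⟩
    show (l ≫ U.ι) ⟨y, hyV₂⟩ ∈ U₂
    have : g ⟨y, hy⟩ = x := by
      rw [← fromSpecStalkOfMem_closedPoint hy, ← Scheme.Hom.comp_apply, hg, Scheme.Hom.comp_apply,
        specMap_iso_closedPoint, Scheme.fromSpecStalk_closedPoint]
    rw [hl, Scheme.Hom.comp_apply,
      show Y.homOfLE hV₂ ⟨y, hyV₂⟩ = ⟨y, hy⟩ from Subtype.ext (Scheme.homOfLE_apply ..), this]
    exact hxU₂
  · show p ≫ V₁.ι ≫ sY = _
    rw [← Category.assoc, hp, hk, Category.assoc, Category.assoc, hfS, Scheme.homOfLE_ι_assoc,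
      Scheme.homOfLE_ι_assoc]

/-- The compatibility with the base, on stalks and on `Spec`. -/
theorem stalkMap_comp_eq_iff {x : X} {y : Y} (hs : sX x = sY y)
    (a : X.presheaf.stalk x ⟶ Y.presheaf.stalk y) :
    sX.stalkMap x ≫ a = eqToHom (congrArg S.presheaf.stalk hs) ≫ sY.stalkMap y ↔
      Spec.map a ≫ X.fromSpecStalk x ≫ sX = Y.fromSpecStalk y ≫ sY := by
  have key : ∀ (s t : S) (h : s = t), Spec.map (eqToHom (congrArg S.presheaf.stalk h)) ≫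
      S.fromSpecStalk s = S.fromSpecStalk t := by
    rintro s t rfl
    simp
  rw [← Scheme.SpecMap_stalkMap_fromSpecStalk sX, ← Scheme.SpecMap_stalkMap_fromSpecStalk sY,
    ← key _ _ hs, ← Spec.map_comp_assoc, ← Spec.map_comp_assoc, cancel_mono,
    Spec.map_inj]

/-- An `S`-birational pair has isomorphic generic local rings. -/
theorem exists_stalkIso_of_birationalOver [IrreducibleSpace X] [IrreducibleSpace Y]
    (h : Scheme.BirationalOver sX sY) :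
    ∃ (hs : sX (genericPoint X) = sY (genericPoint Y))
      (e : X.presheaf.stalk (genericPoint X) ≅ Y.presheaf.stalk (genericPoint Y)),
      sX.stalkMap (genericPoint X) ≫ e.hom =
        eqToHom (congrArg S.presheaf.stalk hs) ≫ sY.stalkMap (genericPoint Y) := by
  obtain ⟨⟨U, hU, V, hV, i⟩, hi⟩ := h
  have hxU : genericPoint X ∈ U :=
    (genericPoint_specializes _).mem_open U.2 hU.nonempty.choose_spec
  have hyV : genericPoint Y ∈ V :=
    (genericPoint_specializes _).mem_open V.2 hV.nonempty.choose_spec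
  let v : V.toScheme := i.hom ⟨genericPoint X, hxU⟩
  have hv : v.1 = genericPoint Y := by
    have hgen : ∀ w : V.toScheme, v ⤳ w := fun w => by
      have h1 : (⟨genericPoint X, hxU⟩ : U.toScheme) ⤳ i.inv w :=
        U.ι.isOpenEmbedding.isInducing.specializes_iff.1 (genericPoint_specializes _)
      have h2 := h1.map i.hom.continuous
      rwa [← Scheme.Hom.comp_apply, i.inv_hom_id] at h2
    have h3 : v.1 ⤳ genericPoint Y := (hgen ⟨_, hyV⟩).map V.ι.continuous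
    exact (h3.antisymm (genericPoint_specializes _)).eq
  have hs : sX (genericPoint X) = sY (genericPoint Y) := by
    have := congr($hi ⟨genericPoint X, hxU⟩)
    rw [← hv]
    exact this.symm
  let e : X.presheaf.stalk (genericPoint X) ≅ Y.presheaf.stalk (genericPoint Y) :=
    (U.stalkIso ⟨genericPoint X, hxU⟩).symm ≪≫ (asIso (i.hom.stalkMap ⟨genericPoint X, hxU⟩)).symm ≪≫
      V.stalkIso v ≪≫ eqToIso (congrArg Y.presheaf.stalk hv)
  refine ⟨hs, e, (stalkMap_comp_eq_iff sX sY hs e.hom).2 ?_⟩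
  have keyY : ∀ (s t : Y) (h : s = t), Spec.map (eqToHom (congrArg Y.presheaf.stalk h)) ≫
      Y.fromSpecStalk s = Y.fromSpecStalk t := by
    rintro s t rfl
    simp
  have h1 : Spec.map e.inv ≫ Y.fromSpecStalk (genericPoint Y) ≫ sY =
      X.fromSpecStalk (genericPoint X) ≫ sX := by
    rw [← keyY _ _ hv, Category.assoc, ← Spec.map_comp_assoc]
    simp only [e, Iso.trans_inv, eqToIso.inv, Iso.symm_inv, asIso_hom, Category.assoc,
      eqToHom_refl, Category.id_comp, eqToHom_trans_assoc]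
    rw [← Scheme.Opens.fromSpecStalkOfMem_ι U _ hxU, Category.assoc, ← hi,
      Scheme.Opens.fromSpecStalkOfMem, Category.assoc, Spec.map_comp, Spec.map_comp]
    simp only [Category.assoc]
    rw [Scheme.Opens.stalkIso_inv]
    have hUi : (U.stalkIso ⟨genericPoint X, hxU⟩).hom = inv (U.ι.stalkMap ⟨genericPoint X, hxU⟩) :=
      IsIso.eq_inv_of_hom_inv_id (by
        rw [← Scheme.Opens.stalkIso_inv]; exact Iso.inv_hom_id _)
    rw [hUi]
    congr 1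
    exact (congrArg (Spec.map (i.hom.stalkMap ⟨genericPoint X, hxU⟩) ≫ ·)
      (Scheme.SpecMap_stalkMap_fromSpecStalk_assoc V.ι (x := v) sY)).trans
      (Scheme.SpecMap_stalkMap_fromSpecStalk_assoc i.hom (x := ⟨genericPoint X, hxU⟩) (V.ι ≫ sY))
  rw [← h1, ← Spec.map_comp_assoc, Iso.inv_hom_id, Spec.map_id, Category.id_comp]

/-- Germs of morphisms in both directions between irreducible schemes give birationality. -/
theorem birationalOver_of_spread [IrreducibleSpace X] [IrreducibleSpace Y]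
    [LocallyOfFiniteType sX] [LocallyOfFiniteType sY] (hs : sX (genericPoint X) = sY (genericPoint Y))
    (e : X.presheaf.stalk (genericPoint X) ≅ Y.presheaf.stalk (genericPoint Y))
    (h : sX.stalkMap (genericPoint X) ≫ e.hom =
      eqToHom (congrArg S.presheaf.stalk hs) ≫ sY.stalkMap (genericPoint Y))
    (spX : ∀ (φ : Spec (X.presheaf.stalk (genericPoint X)) ⟶ Y)
      (_ : φ ≫ sY = X.fromSpecStalk (genericPoint X) ≫ sX),
      ∃ (U : X.Opens) (hxU : genericPoint X ∈ U) (f : U.toScheme ⟶ Y),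
        φ = U.fromSpecStalkOfMem (genericPoint X) hxU ≫ f ∧ f ≫ sY = U.ι ≫ sX)
    (spY : ∀ (φ : Spec (Y.presheaf.stalk (genericPoint Y)) ⟶ X)
      (_ : φ ≫ sX = Y.fromSpecStalk (genericPoint Y) ≫ sY),
      ∃ (U : Y.Opens) (hxU : genericPoint Y ∈ U) (f : U.toScheme ⟶ X),
        φ = U.fromSpecStalkOfMem (genericPoint Y) hxU ≫ f ∧ f ≫ sX = U.ι ≫ sY) :
    Scheme.BirationalOver sX sY := by
  have hY := (stalkMap_comp_eq_iff sX sY hs e.hom).1 h
  have hX : Spec.map e.inv ≫ Y.fromSpecStalk (genericPoint Y) ≫ sY =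
      X.fromSpecStalk (genericPoint X) ≫ sX := by
    rw [← hY, ← Spec.map_comp_assoc, Iso.hom_inv_id, Spec.map_id, Category.id_comp]
  obtain ⟨U, hx, f, hf, hfS⟩ := spX _ (by rw [Category.assoc]; exact hX)
  obtain ⟨V, hy, g, hg, hgS⟩ := spY _ (by rw [Category.assoc]; exact hY)
  obtain ⟨U₁, V₁, i, hxU₁, hyV₁, hi⟩ :=
    exists_iso_nhds sX sY e hx f hf.symm hfS hy g hg.symm hgS
  exact ⟨⟨U₁, U₁.2.dense ⟨_, hxU₁⟩, V₁, V₁.2.dense ⟨_, hyV₁⟩, i⟩, hi⟩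

end Groth.L19.BiratStalk
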