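import Groth.Agent.L22.Ideal
import Groth.Prelude.Def_CInt
import Mathlib.AlgebraicGeometry.Morphisms.Proper
import Mathlib.RingTheory.Polynomial.ScaleRoots
import Mathlib.RingTheory.IntegralClosure.IntegrallyClosed

/-!
Effective Cartier divisors on a normal scheme are determined by their pullback along a proper,
scheme theoretically dominant morphism.
-/

universe u

open CategoryTheory CategoryTheory.Limits AlgebraicGeometry TopologicalSpace Opposite Polynomial

namespace Groth.L19.CartierComap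

set_option backward.isDefEq.respectTransparency.types false
set_option backward.isDefEq.respectTransparency false
set_option linter.style.haveILetI false

theorem mem_span_of_eval_scaleRoots {R : Type u} [CommRing R] [IsDomain R] [IsIntegrallyClosed R]
    {g h : R} (hg : g ≠ 0) {p : R[X]} (hp : p.Monic) (he : (p.scaleRoots g).eval h = 0) :
    h ∈ Ideal.span ({g} : Set R) := by
  let K := FractionRing R
  let ψ : R →+* K := algebraMap R K
  have hψ : Function.Injective ψ := IsFractionRing.injective R K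
  have hψg : ψ g ≠ 0 := fun e => hg (hψ (e.trans (map_zero ψ).symm))
  have h1 : eval₂ ψ (ψ g * (ψ h / ψ g)) (p.scaleRoots g) = 0 := by
    rw [mul_div_cancel₀ _ hψg, eval₂_at_apply, he, map_zero]
  rw [scaleRoots_eval₂_mul] at h1
  have h2 : IsIntegral R (ψ h / ψ g) :=
    ⟨p, hp, (mul_eq_zero.1 h1).resolve_left (pow_ne_zero _ hψg)⟩
  obtain ⟨a, ha⟩ := IsIntegrallyClosed.isIntegral_iff.1 h2
  refine Ideal.mem_span_singleton'.2 ⟨a, hψ ?_⟩
  rw [map_mul]
  show ψ a * ψ g = ψ h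
  rw [show ψ a = ψ h / ψ g from ha, div_mul_cancel₀ _ hψg]

variable {S S' : Scheme.{u}}

theorem res_res {P Q W : S'.Opens} (h₁ : P ≤ Q) (h₂ : Q ≤ W) (s : Γ(S', W)) :
    S'.presheaf.map (homOfLE h₁).op (S'.presheaf.map (homOfLE h₂).op s) =
      S'.presheaf.map (homOfLE (h₁.trans h₂)).op s :=
  (CommRingCat.comp_apply _ _ s).symm.trans (by rw [← Functor.map_comp, ← op_comp]; rfl)

/-- Generators of ideals with equal pullback divide each other. -/
theorem mem_span_of_comap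
    (hnorm : ∀ x : S, IsDomain (S.presheaf.stalk x) ∧ IsIntegrallyClosed (S.presheaf.stalk x))
    (f : S' ⟶ S) [IsProper f] (hdom : f.ker = ⊥)
    (U : S.Opens) (hU' : CInt.IsSchematicallyDense (f ⁻¹ᵁ U))
    (D E : S.IdealSheafData) (hDU : (D.support : Set S) ⊆ (U : Set S)ᶜ)
    (hle : E.comap f ≤ D.comap f)
    (V : S.affineOpens) (g h : Γ(S, V.1)) (hgn : g ∈ nonZeroDivisors Γ(S, V.1))
    (hD : D.ideal V = Ideal.span {g}) (hE : E.ideal V = Ideal.span {h}) :
    h ∈ Ideal.span ({g} : Set Γ(S, V.1)) := by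
  classical
  let W : S'.Opens := f ⁻¹ᵁ V.1
  let φ : Γ(S, V.1) ⟶ Γ(S', W) := f.app V.1
  have hgU : V.1 ⊓ U ≤ S.basicOpen g := by
    intro y hy
    by_contra hy'
    refine hDU ((Scheme.IdealSheafData.mem_support_iff_of_mem hy.1).2 ?_) hy.2
    rw [Scheme.mem_zeroLocus_iff, hD]
    intro a ha hya
    obtain ⟨c, rfl⟩ := Ideal.mem_span_singleton'.1 ha
    exact hy' ((S.basicOpen_mul c g ▸ hya : y ∈ S.basicOpen c ⊓ S.basicOpen g)).2
  have hnzd : ∀ (P : S'.Opens) (hP : P ≤ W) (b : Γ(S', P)),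
      b * S'.presheaf.map (homOfLE hP).op (φ g) = 0 → b = 0 := by
    intro P hP b hb
    apply hU' P
    rw [map_zero]
    have hle2 : P ⊓ f ⁻¹ᵁ U ≤ S'.basicOpen (φ g) := fun z hz => by
      rw [← Scheme.preimage_basicOpen]
      exact hgU ⟨hP hz.1, hz.2⟩
    have hu : IsUnit (S'.presheaf.map (homOfLE (inf_le_left.trans hP : P ⊓ f ⁻¹ᵁ U ≤ W)).op (φ g)) := by
      have h1 := (S'.toRingedSpace.isUnit_res_basicOpen (φ g)).map
        (S'.presheaf.map (homOfLE hle2).op).hom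
      exact (res_res hle2 (S'.basicOpen_le (φ g)) (φ g)) ▸ h1
    have h2 := congrArg (S'.presheaf.map (homOfLE (inf_le_left : P ⊓ f ⁻¹ᵁ U ≤ P)).op) hb
    rw [map_mul, map_zero, res_res] at h2
    exact hu.mul_left_eq_zero.1 h2
  -- local quotients
  have hloc : ∀ z : W, ∃ (Q : S'.Opens) (hQ : Q ≤ W) (b : Γ(S', Q)), z.1 ∈ Q ∧
      S'.presheaf.map (homOfLE hQ).op (φ h) = b * S'.presheaf.map (homOfLE hQ).op (φ g) := by
    intro z
    obtain ⟨_, ⟨Q, hQ, rfl⟩, hzQ, hQW⟩ :=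
      S'.isBasis_affineOpens.exists_subset_of_mem_open z.2 W.2
    have h1 := hle ⟨Q, hQ⟩
    rw [Groth.L22.Ideals.comap_ideal f E V ⟨Q, hQ⟩ hQW,
      Groth.L22.Ideals.comap_ideal f D V ⟨Q, hQ⟩ hQW, hD, hE, Ideal.map_span, Ideal.map_span,
      Set.image_singleton, Set.image_singleton, Ideal.span_singleton_le_iff_mem,
      Ideal.mem_span_singleton'] at h1
    obtain ⟨b, hb⟩ := h1
    exact ⟨Q, hQW, b, hzQ, hb.symm⟩
  choose Q hQ b hzQ hb using hloc
  have hcomp : TopCat.Presheaf.IsCompatible S'.presheaf Q b := by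
    intro i j
    refine sub_eq_zero.1 (hnzd (Q i ⊓ Q j) (inf_le_left.trans (hQ i)) _ ?_)
    have e1 := congrArg (S'.presheaf.map (homOfLE (inf_le_left : Q i ⊓ Q j ≤ Q i)).op) (hb i)
    have e2 := congrArg (S'.presheaf.map (homOfLE (inf_le_right : Q i ⊓ Q j ≤ Q j)).op) (hb j)
    rw [map_mul, res_res, res_res] at e1 e2
    rw [sub_mul]
    exact sub_eq_zero.2 (e1.symm.trans e2)
  obtain ⟨(u : Γ(S', W)), hu, -⟩ := S'.sheaf.existsUnique_gluing' Q W (fun z => homOfLE (hQ z))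
    (fun z hz => Opens.mem_iSup.2 ⟨⟨z, hz⟩, hzQ ⟨z, hz⟩⟩) b hcomp
  have hug : φ h = u * φ g := by
    refine S'.sheaf.eq_of_locally_eq' Q W (fun z => homOfLE (hQ z))
      (fun z hz => Opens.mem_iSup.2 ⟨⟨z, hz⟩, hzQ ⟨z, hz⟩⟩) _ _ fun z => ?_
    show S'.presheaf.map _ _ = S'.presheaf.map _ _
    rw [map_mul, hb z]
    exact congrArg (· * _) (hu z).symm
  -- integrality
  haveI : IsAffine V.1.toScheme := V.2
  have hint : φ.hom.IsIntegral := by
    have e : ∀ (A : S.Opens) (_ : A = V.1) (B : S'.Opens) (_ : B = W) (le : B ≤ f ⁻¹ᵁ A),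
        (f.appLE A B le).hom.IsIntegral → φ.hom.IsIntegral := by
      rintro _ rfl _ rfl le hi
      rwa [← Scheme.Hom.app_eq_appLE] at hi
    have hi := isIntegral_appTop_of_universallyClosed (f ∣_ V.1)
    rw [Scheme.Hom.appTop, morphismRestrict_app'] at hi
    exact e _ V.1.ι_image_top _ (f ⁻¹ᵁ V.1).ι_image_top _ hi
  have hinj : Function.Injective φ.hom := by
    rw [RingHom.injective_iff_ker_eq_bot, ← Scheme.Hom.ker_apply f V, hdom]
    rfl
  obtain ⟨p, hp, hpu⟩ := hint u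
  have he : (p.scaleRoots g).eval h = 0 := by
    refine hinj ?_
    rw [map_zero, ← eval₂_at_apply, show φ.hom h = φ.hom g * u from hug.trans (mul_comm _ _),
      scaleRoots_eval₂_mul, hpu, mul_zero]
  rw [V.2.mem_ideal_iff]
  intro x hx
  rw [Ideal.map_span, Set.image_singleton]
  letI : Algebra Γ(S, V.1) (S.presheaf.stalk x) :=
    TopCat.Presheaf.algebra_section_stalk S.presheaf ⟨x, hx⟩
  haveI := V.2.isLocalization_stalk ⟨x, hx⟩
  haveI := (hnorm x).1
  haveI := (hnorm x).2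
  let γ : Γ(S, V.1) →+* S.presheaf.stalk x := (S.presheaf.germ V.1 x hx).hom
  have hg0 : γ g ≠ 0 := fun e => by
    obtain ⟨⟨s, hs⟩, hsg⟩ := (IsLocalization.map_eq_zero_iff (V.2.primeIdealOf ⟨x, hx⟩).asIdeal.primeCompl
      (S.presheaf.stalk x) g).1 e
    exact hs (by rw [(mem_nonZeroDivisors_iff_right.1 hgn) s hsg]; exact Submodule.zero_mem _)
  refine mem_span_of_eval_scaleRoots (R := S.presheaf.stalk x) (g := γ g) (h := γ h) hg0
    (p := p.map γ) (hp.map γ) ?_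
  rw [← map_scaleRoots p g γ (by rw [hp.leadingCoeff, map_one]; exact one_ne_zero), eval_map,
    eval₂_at_apply, he, map_zero]

theorem eq_of_comap_eq
    (hnorm : ∀ x : S, IsDomain (S.presheaf.stalk x) ∧ IsIntegrallyClosed (S.presheaf.stalk x))
    (f : S' ⟶ S) [IsProper f] (hdom : f.ker = ⊥)
    (U : S.Opens) (hU' : CInt.IsSchematicallyDense (f ⁻¹ᵁ U))
    (D E : S.IdealSheafData)
    (hD : BlowUp.IsEffCartierIdeal D) (hE : BlowUp.IsEffCartierIdeal E)
    (hDU : (D.support : Set S) ⊆ (U : Set S)ᶜ) (hEU : (E.support : Set S) ⊆ (U : Set S)ᶜ)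
    (h : D.comap f = E.comap f) : D = E := by
  choose U1 hx1 g hg hg' hD' using fun x => Groth.L22.Ideals.exists_generator hD x
  choose U2 hx2 g2 hg2 hg2' hE' using fun x => Groth.L22.Ideals.exists_generator hE x
  have hB : ∀ x : S, ∃ V : S.affineOpens, x ∈ V.1 ∧ V.1 ≤ (U1 x).1 ∧ V.1 ≤ (U2 x).1 := fun x => by
    obtain ⟨_, ⟨V, hV, rfl⟩, hxV, hle⟩ := S.isBasis_affineOpens.exists_subset_of_mem_open
      (show x ∈ (U1 x).1 ⊓ (U2 x).1 from ⟨hx1 x, hx2 x⟩) ((U1 x).1 ⊓ (U2 x).1).2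
    exact ⟨⟨V, hV⟩, hxV, fun y hy => (hle hy).1, fun y hy => (hle hy).2⟩
  choose V hxV hV1 hV2 using hB
  refine Scheme.IdealSheafData.ext_of_iSup_eq_top V
    (eq_top_iff.2 fun x _ => Opens.mem_iSup.2 ⟨x, hxV x⟩) fun x => ?_
  obtain ⟨hn1, he1⟩ := hD' x (V x) (hV1 x)
  obtain ⟨hn2, he2⟩ := hE' x (V x) (hV2 x)
  rw [he1, he2]
  refine le_antisymm ((Ideal.span_singleton_le_iff_mem _).2 ?_) ((Ideal.span_singleton_le_iff_mem _).2 ?_)
  · exact mem_span_of_comap hnorm f hdom U hU' E D hEU h.le (V x) _ _ hn2 he2 he1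
  · exact mem_span_of_comap hnorm f hdom U hU' D E hDU h.ge (V x) _ _ hn1 he1 he2

end Groth.L19.CartierComap
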