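import Mathlib.RingTheory.AlgebraicIndependent.TranscendenceBasis
import Mathlib.RingTheory.AlgebraicIndependent.Adjoin
import Mathlib.FieldTheory.IsAlgClosed.AlgebraicClosure
import Mathlib.RingTheory.Localization.FractionRing
import Mathlib.Algebra.MvPolynomial.Rename

/-! Any set of field extensions of a field embeds into one extension field. -/

set_option autoImplicit false
set_option linter.style.haveILetI false
set_option backward.isDefEq.respectTransparency false
universe u

namespace Groth.L19.CommonField

theorem exists_algHom_all (k : Type u) [Field k] {ι : Type u} (F : ι → Type u)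
    [∀ i, Field (F i)] [∀ i, Algebra k (F i)] :
    ∃ (L : Type u) (_ : Field L) (_ : Algebra k L), ∀ i, Nonempty (F i →ₐ[k] L) := by
  let K := FractionRing (MvPolynomial (Σ i, F i) k)
  refine ⟨AlgebraicClosure K, inferInstance, inferInstance, fun i => ?_⟩
  obtain ⟨s, hs⟩ := exists_isTranscendenceBasis k (F i)
  let x : s → F i := Subtype.val
  let M := IntermediateField.adjoin k (Set.range x)
  have halg : Algebra.IsAlgebraic M (F i) := hs.isAlgebraic_field
  let ρ : MvPolynomial s k →ₐ[k] MvPolynomial (Σ i, F i) k :=
    MvPolynomial.rename fun a : s => (⟨i, a.1⟩ : Σ i, F i)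
  have hρ : Function.Injective ρ :=
    MvPolynomial.rename_injective _ fun a b h => Subtype.ext (by simpa using h)
  let ψ : MvPolynomial s k →ₐ[k] AlgebraicClosure K :=
    ((IsScalarTower.toAlgHom k K (AlgebraicClosure K)).comp
      (IsScalarTower.toAlgHom k (MvPolynomial (Σ i, F i) k) K)).comp ρ
  have hψ : Function.Injective ψ :=
    ((algebraMap K (AlgebraicClosure K)).injective.comp
      (IsFractionRing.injective (MvPolynomial (Σ i, F i) k) K)).comp hρ
  let ψK : FractionRing (MvPolynomial s k) →ₐ[k] AlgebraicClosure K :=
    IsFractionRing.liftAlgHom hψ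
  let φ : M →ₐ[k] AlgebraicClosure K := ψK.comp hs.1.aevalEquivField.symm.toAlgHom
  letI : Algebra M (AlgebraicClosure K) := φ.toRingHom.toAlgebra
  haveI : IsScalarTower k M (AlgebraicClosure K) :=
    IsScalarTower.of_algebraMap_eq fun r => (φ.commutes r).symm
  exact ⟨(IsAlgClosed.lift (R := M) (S := F i) (M := AlgebraicClosure K)).restrictScalars k⟩

end Groth.L19.CommonField
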