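import Groth.Prelude.Def_ChGrp
import Groth.Agent.L25.GrpDeriv
import Groth.Agent.L26.AV.SmoothField
import Groth.Agent.S0353
import Mathlib.AlgebraicGeometry.Morphisms.Finite
import Mathlib.AlgebraicGeometry.Morphisms.UnderlyingMap
import Mathlib.AlgebraicGeometry.ResidueField
import Mathlib.RingTheory.Nilpotent.Lemmas
import Mathlib.RingTheory.Artinian.Module
import Mathlib.Algebra.CharP.Algebra
import Mathlib.Algebra.CharP.Lemmas
import Mathlib.LinearAlgebra.TensorProduct.Basis
import Mathlib.Topology.Separation.Connected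
import Mathlib.RingTheory.Artinian.Ring

/-!
# Torsors under finite connected group schemes split over `K^{1/p^n}`
-/

set_option autoImplicit false
set_option linter.style.haveILetI false
set_option backward.isDefEq.respectTransparency.types false
set_option backward.isDefEq.respectTransparency false

universe u

open CategoryTheory MonoidalCategory CartesianMonoidalCategory MonObj AlgebraicGeometry TensorProduct

namespace Groth.L19.ConnTorsorInsep

section Algebra

variable {K : Type u} [Field K] {A B L : Type u} [CommRing A] [Algebra K A] [CommRing B] [Algebra K B]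
  [Field L] [Algebra K L]

theorem exists_uniform (p : ℕ) [hp : ExpChar K p] [Module.Finite K A] [Subsingleton (PrimeSpectrum A)]
    [Nontrivial A] (ε : A →ₐ[K] K) (hred : p = 1 → _root_.IsReduced A) :
    ∃ n, ∀ a : A, a ^ p ^ n = algebraMap K A (ε a ^ p ^ n) := by
  have hnil : ∀ a : A, IsNilpotent (a - algebraMap K A (ε a)) := fun a => by
    rw [nilpotent_iff_mem_prime]
    intro P hP
    have hker : (RingHom.ker ε.toRingHom).IsPrime := RingHom.ker_isPrime _
    have := Subsingleton.elim (⟨P, hP⟩ : PrimeSpectrum A) ⟨_, hker⟩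
    rw [show P = RingHom.ker ε.toRingHom from congrArg PrimeSpectrum.asIdeal this, RingHom.mem_ker]
    simp
  rcases eq_or_ne p 1 with h1 | h1
  · haveI := hred h1
    refine ⟨0, fun a => ?_⟩
    simpa [sub_eq_zero] using (hnil a).eq_zero
  · haveI : Fact p.Prime := ⟨(expChar_is_prime_or_one K p).resolve_right h1⟩
    haveI : IsArtinianRing A := IsArtinianRing.of_finite K A
    obtain ⟨N, hN⟩ := IsArtinianRing.isNilpotent_nilradical (R := A)
    haveI : ExpChar A p := expChar_of_injective_algebraMap (RingHom.injective (algebraMap K A)) p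
    refine ⟨N, fun a => ?_⟩
    have hle : N ≤ p ^ N := (Nat.lt_pow_self (Fact.out : p.Prime).one_lt).le
    have h0 : (a - algebraMap K A (ε a)) ^ p ^ N = 0 := by
      refine pow_eq_zero_of_le hle ?_
      have := Ideal.pow_mem_pow (mem_nilradical.2 (hnil a)) N
      rwa [hN, Ideal.zero_eq_bot, Ideal.mem_bot] at this
    rwa [sub_pow_expChar_pow, sub_eq_zero, ← map_pow] at h0

variable (p n : ℕ) [ExpChar K p] (ε : A →ₐ[K] K) (hn : ∀ a : A, a ^ p ^ n = algebraMap K A (ε a ^ p ^ n))

include ε in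
theorem nontrivial_tensor : Nontrivial (A ⊗[K] L) :=
  (Algebra.TensorProduct.lift ((Algebra.ofId K L).comp ε) (AlgHom.id K L) fun _ _ => Commute.all _ _).toRingHom.domain_nontrivial

include hn in
theorem tensor_pow (z : A ⊗[K] L) : ∃ l : L, z ^ p ^ n = Algebra.TensorProduct.includeRight l := by
  haveI : Nontrivial (A ⊗[K] L) := nontrivial_tensor ε
  haveI : ExpChar (A ⊗[K] L) p := expChar_of_injective_algebraMap (RingHom.injective (algebraMap K _)) p
  induction z using TensorProduct.induction_on with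
  | zero => exact ⟨0, by simp [zero_pow (pow_ne_zero n (expChar_ne_zero K p))]⟩
  | tmul a l => exact ⟨(ε a ^ p ^ n) • l ^ p ^ n, by
      rw [Algebra.TensorProduct.tmul_pow, hn, Algebra.algebraMap_eq_smul_one, TensorProduct.smul_tmul]
      rfl⟩
  | add x y hx hy =>
    obtain ⟨l, hl⟩ := hx
    obtain ⟨l', hl'⟩ := hy
    exact ⟨l + l', by rw [add_pow_expChar_pow, hl, hl', map_add]⟩

include hn in
theorem subsingleton_spec : Subsingleton (PrimeSpectrum (A ⊗[K] L)) := by
  haveI : Nontrivial (A ⊗[K] L) := nontrivial_tensor ε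
  have key : ∀ P Q : PrimeSpectrum (A ⊗[K] L), P.asIdeal ≤ Q.asIdeal := fun P Q z hz => by
    obtain ⟨l, hl⟩ := tensor_pow p n ε hn z
    have hl0 : l = 0 := by
      by_contra h0
      exact P.isPrime.ne_top (Ideal.eq_top_of_isUnit_mem _ (hl ▸ P.asIdeal.pow_mem_of_mem hz _ (Nat.pos_of_ne_zero (pow_ne_zero n (expChar_ne_zero K p))))
        ((IsUnit.mk0 l h0).map Algebra.TensorProduct.includeRight))
    rw [hl0, map_zero] at hl
    exact Q.isPrime.mem_of_pow_mem _ (hl ▸ Q.asIdeal.zero_mem)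
  exact ⟨fun P Q => PrimeSpectrum.ext (le_antisymm (key P Q) (key Q P))⟩

include hn in
theorem exists_frobenius_hom (h : B ⊗[K] L →+* A ⊗[K] L) (hinj : Function.Injective h)
    (hr : ∀ l : L, h (Algebra.TensorProduct.includeRight l) = Algebra.TensorProduct.includeRight l) :
    ∃ φ : B →+* K, φ.comp (algebraMap K B) = iterateFrobenius K p n := by
  haveI : Nontrivial (A ⊗[K] L) := nontrivial_tensor ε
  haveI : Nontrivial (B ⊗[K] L) := h.domain_nontrivial
  haveI : Nontrivial B := (Algebra.TensorProduct.includeLeft (R := K) (S := K) (A := B) (B := L)).toRingHom.domain_nontrivial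
  haveI : ExpChar B p := expChar_of_injective_algebraMap (RingHom.injective (algebraMap K B)) p
  have hb : ∀ b : B, ∃ c : K, b ^ p ^ n = algebraMap K B c := fun b => by
    obtain ⟨l, hl⟩ := tensor_pow p n ε hn (h (b ⊗ₜ[K] (1 : L)))
    have e : (b ^ p ^ n) ⊗ₜ[K] (1 : L) = (1 : B) ⊗ₜ[K] l := by
      apply hinj
      rw [← hr] at hl
      rw [← one_pow (M := L) (p ^ n), ← Algebra.TensorProduct.tmul_pow, map_pow, hl]
      rfl
    obtain ⟨ι', hι⟩ := (Algebra.linearMap K L).exists_leftInverse_of_injective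
      (LinearMap.ker_eq_bot.2 (RingHom.injective (algebraMap K L)))
    refine ⟨ι' l, ?_⟩
    have e' := congrArg ((TensorProduct.rid K B).toLinearMap ∘ₗ LinearMap.lTensor B ι') e
    have h1 : ι' (1 : L) = 1 := by
      have := LinearMap.congr_fun hι 1
      simpa using this
    simpa [h1, Algebra.algebraMap_eq_smul_one] using e'
  choose c hc using hb
  have inj := RingHom.injective (algebraMap K B)
  refine ⟨⟨⟨⟨c, inj ?_⟩, fun x y => inj ?_⟩, inj ?_, fun x y => inj ?_⟩, RingHom.ext fun r => inj ?_⟩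
  · rw [← hc, one_pow, map_one]
  · simp only [map_mul, ← hc, mul_pow]
  · simp only [map_zero, ← hc, zero_pow (pow_ne_zero n (expChar_ne_zero K p))]
  · simp only [map_add, ← hc, add_pow_expChar_pow]
  · change algebraMap K B (c (algebraMap K B r)) = algebraMap K B (iterateFrobenius K p n r)
    rw [← hc, iterateFrobenius_def, map_pow]

end Algebra

theorem result (K : Type u) [Field K] (p : ℕ) [ExpChar K p] (G : Over (Spec (CommRingCat.of K))) [GrpObj G]
    [IsFinite G.hom] [ConnectedSpace G.left] :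
    ∃ n : ℕ, ∀ (X : Over (Spec (CommRingCat.of K))) (a : AlgGrp.Action G X),
      NonAbH1.IsTorsorFor Scheme.fppfPrecoverage a →
      NonAbH1.HasSectionOver X (Spec.map (CommRingCat.ofHom (iterateFrobenius K p n))) := by
  haveI : IsAffine G.left := isAffine_of_isAffineHom G.hom
  let A := Γ(G.left, ⊤)
  obtain ⟨α, hα⟩ : ∃ α : CommRingCat.of K ⟶ A, Spec.map α = G.left.isoSpec.inv ≫ G.hom :=
    ⟨Spec.preimage _, Spec.map_preimage _⟩
  letI : Algebra K A := α.hom.toAlgebra
  have hαalg : CommRingCat.ofHom (algebraMap K A) = α := rfl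
  haveI : Module.Finite K A := by
    have : IsFinite (Spec.map α) := by rw [hα]; infer_instance
    exact (IsFinite.SpecMap_iff α).1 this
  obtain ⟨ε₀, hε₀⟩ : ∃ ε₀ : A ⟶ CommRingCat.of K, Spec.map ε₀ = (η[G]).left ≫ G.left.isoSpec.hom :=
    ⟨Spec.preimage _, Spec.map_preimage _⟩
  have hε₁ : α ≫ ε₀ = 𝟙 _ := by
    apply Spec.map_injective
    rw [Spec.map_comp, hε₀, hα, Category.assoc, Iso.hom_inv_id_assoc, Spec.map_id]
    exact Over.w η[G]
  let ε : A →ₐ[K] K := { ε₀.hom with commutes' := fun r => congrArg (fun f => f.hom r) hε₁ }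
  haveI : Nontrivial A := ε.toRingHom.domain_nontrivial
  haveI : Subsingleton (PrimeSpectrum A) := by
    haveI : IsArtinianRing A := IsArtinianRing.of_finite K A
    haveI : DiscreteTopology (PrimeSpectrum A) := inferInstance
    haveI : DiscreteTopology ↥(Spec A) := ‹DiscreteTopology (PrimeSpectrum A)›
    haveI : DiscreteTopology G.left := G.left.isoSpec.hom.homeomorph.symm.discreteTopology
    haveI : Subsingleton G.left := PreconnectedSpace.trivial_of_discrete
    exact G.left.isoSpec.inv.homeomorph.injective.subsingleton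
  obtain ⟨n, hn⟩ := exists_uniform p ε (fun h1 => by
    subst h1
    haveI : CharZero K := charZero_of_expChar_one' K
    haveI : Smooth G.hom := Groth.Agent.S0353.result K G
    haveI : AlgebraicGeometry.IsReduced G.left := Groth.Agent.AV.isReduced_of_smooth_field G.hom
    exact inferInstanceAs (_root_.IsReduced Γ(G.left, ⊤)))
  refine ⟨n, fun X a ⟨hτ, R, hR, hsec⟩ => ?_⟩
  haveI : IsIso (lift a.act (snd G X)) := hτ
  -- a field-valued point
  obtain ⟨𝒰, rfl⟩ := Precoverage.mem_iff_exists_zeroHypercover.mp hR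
  obtain ⟨k₀, z, -⟩ := ((Scheme.ofArrows_mem_precoverage_iff _).mp 𝒰.mem₀).1 (IsLocalRing.closedPoint K)
  obtain ⟨s, hs⟩ := hsec (𝒰.f k₀) ⟨k₀⟩
  let L := (𝒰.X k₀).residueField z
  obtain ⟨θ₀, hθ₀⟩ : ∃ θ₀ : CommRingCat.of K ⟶ L, Spec.map θ₀ = (𝒰.X k₀).fromSpecResidueField z ≫ 𝒰.f k₀ :=
    ⟨Spec.preimage _, Spec.map_preimage _⟩
  letI : Algebra K L := θ₀.hom.toAlgebra
  let T : Over (Spec (CommRingCat.of K)) := Over.mk (Spec.map (CommRingCat.ofHom (algebraMap K L)))
  let x : T ⟶ X := Over.homMk ((𝒰.X k₀).fromSpecResidueField z ≫ s) (by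
    rw [Category.assoc, hs, ← hθ₀]
    rfl)
  -- the trivialisation over `T`
  let τ := lift a.act (snd G X)
  have hsnd : inv τ ≫ snd G X = snd X X := by
    rw [IsIso.inv_comp_eq, lift_snd]
  let Φ : G ⊗ T ⟶ X ⊗ T := lift ((G ◁ x) ≫ a.act) (snd G T)
  let Ψ : X ⊗ T ⟶ G ⊗ T := lift ((X ◁ x) ≫ inv τ ≫ fst G X) (snd X T)
  have h12 : Φ ≫ Ψ = 𝟙 _ := by
    apply AlgGrp.Action.hom_ext_lift₂
    intro W g t
    rw [Category.comp_id, ← Category.assoc, show lift g t ≫ Φ = lift (lift g (t ≫ x) ≫ a.act) t by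
      rw [comp_lift, lift_whiskerLeft_assoc, lift_snd], comp_lift, lift_whiskerLeft_assoc, lift_snd]
    congr 1
    have : lift (lift g (t ≫ x) ≫ a.act) (t ≫ x) = lift g (t ≫ x) ≫ τ := by
      rw [comp_lift, lift_snd]
    rw [this, Category.assoc, IsIso.hom_inv_id_assoc, lift_fst]
  have h21 : Ψ ≫ Φ = 𝟙 _ := by
    apply AlgGrp.Action.hom_ext_lift₂
    intro W y t
    rw [Category.comp_id, ← Category.assoc, show lift y t ≫ Ψ = lift (lift y (t ≫ x) ≫ inv τ ≫ fst G X) t by
      rw [comp_lift, lift_whiskerLeft_assoc, lift_snd], comp_lift, lift_whiskerLeft_assoc, lift_snd]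
    congr 1
    have : lift (lift y (t ≫ x) ≫ inv τ ≫ fst G X) (t ≫ x) = lift y (t ≫ x) ≫ inv τ := by
      apply CartesianMonoidalCategory.hom_ext <;> simp [hsnd]
    rw [this, Category.assoc, show inv τ ≫ a.act = fst X X by rw [IsIso.inv_comp_eq, lift_fst], lift_fst]
  let Φi : G ⊗ T ≅ X ⊗ T := ⟨Φ, Ψ, h12, h21⟩
  let ψ : (G ⊗ T).left ≅ (X ⊗ T).left := (Over.forget _).mapIso Φi
  have hψ : ψ.hom ≫ (snd X T).left = (snd G T).left := by
    rw [show ψ.hom = Φ.left from rfl, ← Over.comp_left, lift_snd]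
  -- `G ⊗ T` is one point
  let eG : Limits.pullback G.hom T.hom ≅ Spec (CommRingCat.of (A ⊗[K] L)) :=
    Limits.pullback.congrHom (show G.hom = G.left.isoSpec.hom ≫ Spec.map (CommRingCat.ofHom (algebraMap K A)) by
      rw [hαalg, hα, Iso.hom_inv_id_assoc]) rfl ≪≫
    asIso (Limits.pullback.map (G.left.isoSpec.hom ≫ Spec.map (CommRingCat.ofHom (algebraMap K A))) T.hom
      (Spec.map (CommRingCat.ofHom (algebraMap K A))) T.hom G.left.isoSpec.hom (𝟙 _) (𝟙 _) (by simp) (by simp)) ≪≫
    pullbackSpecIso K A L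
  haveI : Subsingleton (PrimeSpectrum (A ⊗[K] L)) := subsingleton_spec p n ε hn
  haveI : Subsingleton ↥(Spec (CommRingCat.of (A ⊗[K] L))) := ‹Subsingleton (PrimeSpectrum (A ⊗[K] L))›
  haveI : Subsingleton (G ⊗ T).left := eG.hom.homeomorph.injective.subsingleton
  haveI : Subsingleton (X ⊗ T).left := ψ.inv.homeomorph.injective.subsingleton
  haveI : Surjective T.hom := ⟨fun q => ⟨IsLocalRing.closedPoint L, Subsingleton.elim (α := PrimeSpectrum K) _ _⟩⟩
  haveI : Subsingleton X.left := by
    have hsurj : Surjective (Limits.pullback.fst X.hom T.hom) := MorphismProperty.pullback_fst _ _ ‹_›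
    haveI : Subsingleton ↥(Limits.pullback X.hom T.hom) := ‹Subsingleton (X ⊗ T).left›
    exact hsurj.1.subsingleton
  haveI : IsAffine X.left := by
    obtain ⟨_, ⟨U, hU, rfl⟩, hxU, -⟩ :=
      X.left.isBasis_affineOpens.exists_subset_of_mem_open (Set.mem_univ (x.left (IsLocalRing.closedPoint L))) isOpen_univ
    have : U = ⊤ := top_unique fun y _ => Subsingleton.elim (x.left (IsLocalRing.closedPoint L)) y ▸ hxU
    subst this
    haveI : IsAffine ((⊤ : X.left.Opens) : Scheme.{u}) := hU
    exact IsAffine.of_isIso X.left.topIso.inv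
  let B := Γ(X.left, ⊤)
  obtain ⟨β, hβ⟩ : ∃ β : CommRingCat.of K ⟶ B, Spec.map β = X.left.isoSpec.inv ≫ X.hom :=
    ⟨Spec.preimage _, Spec.map_preimage _⟩
  letI : Algebra K B := β.hom.toAlgebra
  have hβalg : CommRingCat.ofHom (algebraMap K B) = β := rfl
  let eX : Limits.pullback X.hom T.hom ≅ Spec (CommRingCat.of (B ⊗[K] L)) :=
    Limits.pullback.congrHom (show X.hom = X.left.isoSpec.hom ≫ Spec.map (CommRingCat.ofHom (algebraMap K B)) by
      rw [hβalg, hβ, Iso.hom_inv_id_assoc]) rfl ≪≫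
    asIso (Limits.pullback.map (X.left.isoSpec.hom ≫ Spec.map (CommRingCat.ofHom (algebraMap K B))) T.hom
      (Spec.map (CommRingCat.ofHom (algebraMap K B))) T.hom X.left.isoSpec.hom (𝟙 _) (𝟙 _) (by simp) (by simp)) ≪≫
    pullbackSpecIso K B L
  obtain ⟨h, hh⟩ : ∃ h : CommRingCat.of (B ⊗[K] L) ⟶ CommRingCat.of (A ⊗[K] L),
      Spec.map h = eG.inv ≫ ψ.hom ≫ eX.hom := ⟨Spec.preimage _, Spec.map_preimage _⟩
  haveI : IsIso (Spec.map h) := by rw [hh]; infer_instance
  haveI : IsIso h := by
    haveI : IsIso (Scheme.Spec.map h.op) := ‹IsIso (Spec.map h)›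
    haveI : IsIso h.op := isIso_of_reflects_iso h.op Scheme.Spec
    exact isIso_of_op h
  have hsG : eG.hom ≫ Spec.map (CommRingCat.ofHom (Algebra.TensorProduct.includeRight (R := K) (A := A) (B := L)).toRingHom) =
      Limits.pullback.snd G.hom T.hom := by
    simp [eG, Limits.pullback.congrHom]
    exact (Category.assoc _ _ _).symm.trans (by simp [Limits.pullback.map, T])
  have hsX : eX.hom ≫ Spec.map (CommRingCat.ofHom (Algebra.TensorProduct.includeRight (R := K) (A := B) (B := L)).toRingHom) =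
      Limits.pullback.snd X.hom T.hom := by
    simp [eX, Limits.pullback.congrHom]
    exact (Category.assoc _ _ _).symm.trans (by simp [Limits.pullback.map, T])
  have hr : CommRingCat.ofHom (Algebra.TensorProduct.includeRight (R := K) (A := B) (B := L)).toRingHom ≫ h =
      CommRingCat.ofHom (Algebra.TensorProduct.includeRight (R := K) (A := A) (B := L)).toRingHom := by
    apply Spec.map_injective
    rw [Spec.map_comp, hh, Category.assoc, Category.assoc, hsX]
    show eG.inv ≫ ψ.hom ≫ (snd X T).left = _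
    rw [hψ, Iso.inv_comp_eq]
    exact hsG.symm
  obtain ⟨φ, hφ⟩ := exists_frobenius_hom p n ε hn h.hom
    (ConcreteCategory.bijective_of_isIso h).1 (fun l => congrArg (fun f => f.hom l) hr)
  refine ⟨Spec.map (CommRingCat.ofHom φ) ≫ X.left.isoSpec.inv, ?_⟩
  rw [Category.assoc, ← hβ, ← Spec.map_comp, ← hφ]
  rfl

end Groth.L19.ConnTorsorInsep
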