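import Groth.Agent.L18.ValCrit2
import Mathlib.AlgebraicGeometry.Morphisms.FiniteType
import Mathlib.AlgebraicGeometry.Morphisms.Proper

/-!
Valuative criteria for discrete valuation rings tested at the generic points, or through a dominant
morphism of finite type.
-/

noncomputable section

set_option backward.isDefEq.respectTransparency.types false
set_option backward.isDefEq.respectTransparency false

namespace Groth.L19.DVR

open CategoryTheory AlgebraicGeometry Limits IsLocalRing

universe u

/-- A discrete valuation ring extends along a finitely generated field extension. -/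
theorem exists_extension {k K : Type u} [Field k] [Field K] (e : k →+* K) {S : Set K} (hS : S.Finite)
    (hgen : Subfield.closure (Set.range e ∪ S) = ⊤) (R : ValuationSubring k)
    (hR : IsDiscreteValuationRing R) :
    ∃ R' : ValuationSubring K, IsDiscreteValuationRing R' ∧ R'.comap e = R := by
  let _ : Algebra R K := (e.comp R.subtype).toAlgebra
  have hgen' : Subfield.closure (Set.range (algebraMap R K) ∪ S) = ⊤ := by
    refine top_unique (hgen.ge.trans ?_)
    rw [Subfield.closure_le]
    rintro _ (⟨a, rfl⟩ | hs)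
    · rcases R.mem_or_inv_mem a with ha | ha
      · exact Subfield.subset_closure (Or.inl ⟨⟨a, ha⟩, rfl⟩)
      · have h1 : e a⁻¹ ∈ Subfield.closure (Set.range (algebraMap R K) ∪ S) :=
          Subfield.subset_closure (Or.inl ⟨⟨a⁻¹, ha⟩, rfl⟩)
        have h2 := inv_mem h1
        rwa [← map_inv₀, inv_inv] at h2
    · exact Subfield.subset_closure (Or.inr hs)
  have hinj : Function.Injective (algebraMap R K) :=
    e.injective.comp Subtype.val_injective
  have hker : RingHom.ker (algebraMap R K) ≠ maximalIdeal R := by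
    rw [(RingHom.injective_iff_ker_eq_bot _).mp hinj]
    exact (IsDiscreteValuationRing.not_a_field R).symm
  obtain ⟨R', hR', hmem, hlt⟩ :=
    Groth.L18.exists_isDiscreteValuationRing_dominating hS hgen' hker
  refine ⟨R', hR', le_antisymm (fun a ha => ?_) fun a ha => hmem ⟨a, ha⟩⟩
  by_contra hna
  have hinv : a⁻¹ ∈ R := (R.mem_or_inv_mem a).resolve_left hna
  have hm : (⟨a⁻¹, hinv⟩ : R) ∈ maximalIdeal R := by
    rintro hu
    obtain ⟨⟨b, hb⟩, hab⟩ := hu.exists_right_inv
    have h1 : a⁻¹ * b = 1 := congrArg Subtype.val hab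
    have h2 : b = a := by
      have ha0 : a ≠ 0 := fun h0 => by rw [h0, inv_zero, zero_mul] at h1; exact zero_ne_one h1
      field_simp at h1
      exact h1
    exact hna (h2 ▸ hb)
  have h1 : R'.valuation (e a⁻¹) < 1 := hlt _ hm
  have h2 : R'.valuation (e a) ≤ 1 := (R'.valuation_le_one_iff _).mpr ha
  have ha0 : e a ≠ 0 := fun h0 => hna (by
    rw [e.injective (h0.trans (map_zero e).symm)]; exact zero_mem R)
  rw [map_inv₀ e, map_inv₀, inv_lt_one₀ (zero_lt_iff.mpr ((map_ne_zero _).mpr ha0))] at h1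
  exact absurd h2 (not_le.mpr h1)

variable {X S U : Scheme.{u}}

/-- The residue field at a point of a scheme locally of finite type over `X` is finitely generated. -/
theorem exists_generators (p : U ⟶ X) [LocallyOfFiniteType p] (z : U) :
    ∃ t : Set (U.residueField z), t.Finite ∧
      Subfield.closure (Set.range (p.residueFieldMap z).hom ∪ t) = ⊤ := by
  obtain ⟨_, ⟨W, hW, rfl⟩, hxW, -⟩ :=
    X.isBasis_affineOpens.exists_subset_of_mem_open (Set.mem_univ (p z)) isOpen_univ
  replace hW : IsAffineOpen W := hW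
  obtain ⟨_, ⟨V, hV, rfl⟩, hzV, hVW⟩ :=
    U.isBasis_affineOpens.exists_subset_of_mem_open (show z ∈ p ⁻¹ᵁ W from hxW) (p ⁻¹ᵁ W).2
  replace hV : IsAffineOpen V := hV
  obtain ⟨t, ht, hgen⟩ := Groth.L18.exists_finite_generating p hV hzV hW hVW
  refine ⟨t, ht, top_unique (hgen.ge.trans ?_)⟩
  rw [Subfield.closure_le]
  rintro _ (⟨a, rfl⟩ | hs)
  · refine Subfield.subset_closure (Or.inl ⟨(X.evaluation W (p z) hxW).hom a, ?_⟩)
    have h1 : X.evaluation W (p z) hxW ≫ p.residueFieldMap z =
        p.appLE W V hVW ≫ U.evaluation V z hzV := by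
      rw [Scheme.evaluation_naturality, Scheme.Hom.appLE, Category.assoc,
        ← Scheme.germ_residue (X := U) z hzV, TopCat.Presheaf.germ_res_assoc]
      rfl
    exact congr($h1 a)
  · exact Subfield.subset_closure (Or.inr hs)

variable (f : X ⟶ S)

/-- At most one lift for discrete valuation rings in a field mapping to `X`. -/
def UniqueAt {K : Type u} [Field K] (m : Spec (CommRingCat.of K) ⟶ X) : Prop :=
  ∀ R : ValuationSubring K, IsDiscreteValuationRing R → ∀ g₁ g₂ : Spec (CommRingCat.of R) ⟶ X,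
    g₁ ≫ f = g₂ ≫ f → Spec.map (CommRingCat.ofHom R.subtype) ≫ g₁ = m →
    Spec.map (CommRingCat.ofHom R.subtype) ≫ g₂ = m → g₁ = g₂

/-- Existence of lifts for discrete valuation rings in a field mapping to `X`. -/
def LiftAt {K : Type u} [Field K] (m : Spec (CommRingCat.of K) ⟶ X) : Prop :=
  ∀ R : ValuationSubring K, IsDiscreteValuationRing R → ∀ φ : Spec (CommRingCat.of R) ⟶ S,
    Spec.map (CommRingCat.ofHom R.subtype) ≫ φ = m ≫ f →
    ∃ l : Spec (CommRingCat.of R) ⟶ X,
      l ≫ f = φ ∧ Spec.map (CommRingCat.ofHom R.subtype) ≫ l = m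

theorem liftAt_image (p : U ⟶ X) [LocallyOfFiniteType p] (z : U)
    (H : LiftAt f (U.fromSpecResidueField z ≫ p)) : LiftAt f (X.fromSpecResidueField (p z)) := by
  intro R hR φ w
  obtain ⟨t, ht, hgen⟩ := exists_generators p z
  set e := (p.residueFieldMap z).hom
  obtain ⟨R', hR', hc⟩ := exists_extension e ht hgen R hR
  let ρ : R →+* R' := (e.comp R.subtype).codRestrict R'.toSubring fun v =>
    (SetLike.ext_iff.mp hc v.1).mpr v.2
  have hρ : ∀ v, R'.subtype (ρ v) = e v.1 := fun _ => rfl
  have hV : ∀ a, e a ∈ R'.subtype.range → a ∈ R := by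
    rintro a ⟨r, hr⟩
    rw [← hc]
    exact ValuationSubring.mem_comap.mpr (hr ▸ r.2)
  have hm : Spec.map (CommRingCat.ofHom e) ≫ X.fromSpecResidueField (p z) =
      U.fromSpecResidueField z ≫ p :=
    Scheme.Hom.SpecMap_residueFieldMap_fromSpecResidueField p z
  have hsq : Spec.map (CommRingCat.ofHom R'.subtype) ≫ Spec.map (CommRingCat.ofHom ρ) =
      Spec.map (CommRingCat.ofHom e) ≫ Spec.map (CommRingCat.ofHom R.subtype) := by
    rw [← Spec.map_comp, ← Spec.map_comp]; rfl
  obtain ⟨φ', h1, h2⟩ := H R' hR' (Spec.map (CommRingCat.ofHom ρ) ≫ φ)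
    (by rw [reassoc_of% hsq, w, reassoc_of% hm, Category.assoc])
  obtain ⟨l, ⟨hl, hlgen⟩, -⟩ := Groth.L18.existsUnique_descend R'.subtype e R ρ
    Subtype.val_injective hρ hV (X.fromSpecResidueField (p z)) φ' (by rw [h2, hm])
  refine ⟨l, (Groth.L18.existsUnique_descend R'.subtype e R ρ Subtype.val_injective hρ hV
    (X.fromSpecResidueField (p z) ≫ f) (Spec.map (CommRingCat.ofHom ρ) ≫ φ)
    (by rw [reassoc_of% hsq, w])).unique ⟨?_, ?_⟩ ⟨rfl, w⟩, hlgen⟩
  · rw [reassoc_of% hl, h1]
  · rw [reassoc_of% hlgen]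

theorem uniqueAt_image (p : U ⟶ X) [LocallyOfFiniteType p] (z : U)
    (H : UniqueAt f (U.fromSpecResidueField z ≫ p)) :
    UniqueAt f (X.fromSpecResidueField (p z)) := by
  intro R hR g₁ g₂ hf h₁ h₂
  obtain ⟨t, ht, hgen⟩ := exists_generators p z
  set e := (p.residueFieldMap z).hom
  obtain ⟨R', hR', hc⟩ := exists_extension e ht hgen R hR
  let ρ : R →+* R' := (e.comp R.subtype).codRestrict R'.toSubring fun v =>
    (SetLike.ext_iff.mp hc v.1).mpr v.2
  have hρ : ∀ v, R'.subtype (ρ v) = e v.1 := fun _ => rfl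
  have hV : ∀ a, e a ∈ R'.subtype.range → a ∈ R := by
    rintro a ⟨r, hr⟩
    rw [← hc]
    exact ValuationSubring.mem_comap.mpr (hr ▸ r.2)
  have hm : Spec.map (CommRingCat.ofHom e) ≫ X.fromSpecResidueField (p z) =
      U.fromSpecResidueField z ≫ p :=
    Scheme.Hom.SpecMap_residueFieldMap_fromSpecResidueField p z
  have hsq : Spec.map (CommRingCat.ofHom R'.subtype) ≫ Spec.map (CommRingCat.ofHom ρ) =
      Spec.map (CommRingCat.ofHom e) ≫ Spec.map (CommRingCat.ofHom R.subtype) := by
    rw [← Spec.map_comp, ← Spec.map_comp]; rfl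
  have heq := H R' hR' (Spec.map (CommRingCat.ofHom ρ) ≫ g₁) (Spec.map (CommRingCat.ofHom ρ) ≫ g₂)
    (by rw [Category.assoc, Category.assoc, hf]) (by rw [reassoc_of% hsq, h₁, hm])
    (by rw [reassoc_of% hsq, h₂, hm])
  exact (Groth.L18.existsUnique_descend R'.subtype e R ρ Subtype.val_injective hρ hV
    (X.fromSpecResidueField (p z)) (Spec.map (CommRingCat.ofHom ρ) ≫ g₁)
    (by rw [reassoc_of% hsq, h₁])).unique ⟨rfl, h₁⟩ ⟨heq.symm, h₂⟩

/-- Two morphisms from a valuation ring over a separated morphism agreeing at the field are equal. -/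
theorem ext_of_isSeparated [IsSeparated f] {K : Type u} [Field K] {R : ValuationSubring K}
    (g₁ g₂ : Spec (CommRingCat.of R) ⟶ X) (hg : g₁ ≫ f = g₂ ≫ f)
    (h : Spec.map (CommRingCat.ofHom R.subtype) ≫ g₁ = Spec.map (CommRingCat.ofHom R.subtype) ≫ g₂) :
    g₁ = g₂ := by
  have := IsSeparated.valuativeCriterion f
    { R := R
      K := K
      i₁ := Spec.map (CommRingCat.ofHom R.subtype) ≫ g₁
      i₂ := g₁ ≫ f
      commSq := ⟨by rw [Category.assoc]; rfl⟩ }
  exact congrArg CommSq.LiftStruct.l
    (Subsingleton.elim (α := CommSq.LiftStruct _) ⟨g₁, rfl, rfl⟩ ⟨g₂, h.symm, hg.symm⟩)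

variable [IsLocallyNoetherian S] [LocallyOfFiniteType f]

/-- Uniqueness for discrete valuation rings at a point gives uniqueness for all valuation rings. -/
theorem ext_of_uniqueAt {x : X} (H : UniqueAt f (X.fromSpecResidueField x))
    (V : ValuationSubring (X.residueField x)) (g₁ g₂ : Spec (CommRingCat.of V) ⟶ X)
    (hf : g₁ ≫ f = g₂ ≫ f)
    (h₁ : Spec.map (CommRingCat.ofHom V.subtype) ≫ g₁ = X.fromSpecResidueField x)
    (h₂ : Spec.map (CommRingCat.ofHom V.subtype) ≫ g₂ = X.fromSpecResidueField x) : g₁ = g₂ := by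
  have : IsLocallyNoetherian X := LocallyOfFiniteType.isLocallyNoetherian f
  have : IsLocallyNoetherian (pullback f f) :=
    LocallyOfFiniteType.isLocallyNoetherian (pullback.fst f f)
  have : QuasiSeparated f := .of_comp f (terminal.from S)
  obtain ⟨l, hl, -⟩ := Groth.L18.exists_lift_of_dvr (pullback.diagonal f) (x := x)
    (fun R hR h hh => ⟨h ≫ pullback.fst f f, by
      have h1 : h ≫ pullback.fst f f = h ≫ pullback.snd f f := by
        refine H R hR _ _ ?_ ?_ ?_
        · simp only [Category.assoc, pullback.condition]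
        · simp only [← Category.assoc, hh]; simp
        · simp only [← Category.assoc, hh]; simp
      ext <;> simp [h1], by simp only [← Category.assoc, hh]; simp⟩)
    V (pullback.lift g₁ g₂ hf) (by ext <;> simp [h₁, h₂])
  have e1 := congr($hl ≫ pullback.fst f f)
  have e2 := congr($hl ≫ pullback.snd f f)
  simp only [Category.assoc, pullback.diagonal_fst, pullback.diagonal_snd, Category.comp_id,
    pullback.lift_fst, pullback.lift_snd] at e1 e2
  rw [← e1, ← e2]

/-- Uniqueness for discrete valuation rings at points generalizing every point gives separatedness. -/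
theorem isSeparated_of_uniqueAt
    (H : ∀ y : X, ∃ x : X, x ⤳ y ∧ UniqueAt f (X.fromSpecResidueField x)) : IsSeparated f := by
  have : IsLocallyNoetherian X := LocallyOfFiniteType.isLocallyNoetherian f
  have : QuasiSeparated f := .of_comp f (terminal.from S)
  refine .of_valuativeCriterion f (Groth.L18.uniqueness_of_residueField f fun y V l₁ l₂ hl h₁ h₂ => ?_)
  obtain ⟨x, hx, hu⟩ := H y
  exact Groth.L18.ext_of_refined (𝟙 X) f (z := x) hx (fun R φ₁ φ₂ a b c =>
    ext_of_uniqueAt f hu R φ₁ φ₂ c (a.trans (Category.comp_id _)) (b.trans (Category.comp_id _)))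
    V l₁ l₂ hl h₁ h₂

/-- For a separated morphism of finite type, lifts for discrete valuation rings at points generalizing
every point give properness. -/
theorem isProper_of_liftAt [QuasiCompact f] [IsSeparated f]
    (H : ∀ y : X, ∃ x : X, x ⤳ y ∧ LiftAt f (X.fromSpecResidueField x)) : IsProper f := by
  refine .of_valuativeCriterion f (ValuativeCriterion.iff.mpr
    ⟨Groth.L18.existence_of_residueField f fun y V φ w => ?_, IsSeparated.valuativeCriterion f⟩)
  obtain ⟨x, hx, hu⟩ := H y
  refine Groth.L18.exists_lift_of_refined (𝟙 X) f (z := x) hx (fun R φ' w' => ?_)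
    (fun R φ₁ φ₂ a b c => ext_of_uniqueAt f (fun R' _ g₁ g₂ hg h₁ h₂ => ?_) R φ₁ φ₂ c
      (a.trans (Category.comp_id _)) (b.trans (Category.comp_id _))) V φ w
  · obtain ⟨l, hl, hl'⟩ := Groth.L18.exists_lift_of_dvr f hu R φ' (by rw [w', Category.id_comp])
    exact ⟨l, by rw [hl', Category.comp_id], hl⟩
  · exact ext_of_isSeparated f g₁ g₂ hg (h₁.trans h₂.symm)

/-- Every point has a generalization which is the generic point of an irreducible component. -/
theorem exists_generic (y : X) : ∃ η : X, η ⤳ y ∧ closure {η} ∈ irreducibleComponents (X : Type u) := by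
  have h := (isIrreducible_irreducibleComponent (x := y))
  refine ⟨h.genericPoint, ?_, ?_⟩
  · exact (h.isGenericPoint_genericPoint isClosed_irreducibleComponent).specializes
      mem_irreducibleComponent
  · rw [h.closure_genericPoint isClosed_irreducibleComponent]
    exact irreducibleComponent_mem_irreducibleComponents y

variable {f}

omit [IsLocallyNoetherian S] [LocallyOfFiniteType f] in
/-- The lifting property through `p` in the form with fraction rings. -/
theorem liftAt_of_fractionRing {Z : Scheme.{u}} (p : Z ⟶ X)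
    (H : ∀ (A : Type u) [CommRing A] [IsDomain A] [IsDiscreteValuationRing A]
      (u : Spec (CommRingCat.of (FractionRing A)) ⟶ Z) (y : Spec (CommRingCat.of A) ⟶ S),
      u ≫ p ≫ f = Spec.map (CommRingCat.ofHom (algebraMap A (FractionRing A))) ≫ y →
        ∃ l : Spec (CommRingCat.of A) ⟶ X, l ≫ f = y ∧
          Spec.map (CommRingCat.ofHom (algebraMap A (FractionRing A))) ≫ l = u ≫ p)
    {K : Type u} [Field K] (m : Spec (CommRingCat.of K) ⟶ Z) : LiftAt f (m ≫ p) := by
  intro R hR φ w
  obtain ⟨l, hl, hl'⟩ := H R (Spec.map (Groth.L18.fractionRingIso R).inv ≫ m) φ (by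
    rw [Groth.L18.SpecMap_algebraMap_eq, Category.assoc, Category.assoc, w, Category.assoc])
  refine ⟨l, hl, ?_⟩
  rw [Groth.L18.SpecMap_subtype_eq, Category.assoc, hl']
  simp only [← Category.assoc, ← Spec.map_comp, Iso.inv_hom_id, Spec.map_id, Category.id_comp]

omit [IsLocallyNoetherian S] [LocallyOfFiniteType f] in
/-- The uniqueness property through `p` in the form with fraction rings. -/
theorem uniqueAt_of_fractionRing {Z : Scheme.{u}} (p : Z ⟶ X)
    (H : ∀ (A : Type u) [CommRing A] [IsDomain A] [IsDiscreteValuationRing A]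
      (u : Spec (CommRingCat.of (FractionRing A)) ⟶ Z) (y : Spec (CommRingCat.of A) ⟶ S),
      u ≫ p ≫ f = Spec.map (CommRingCat.ofHom (algebraMap A (FractionRing A))) ≫ y →
        ∀ l₁ l₂ : Spec (CommRingCat.of A) ⟶ X, l₁ ≫ f = y →
          Spec.map (CommRingCat.ofHom (algebraMap A (FractionRing A))) ≫ l₁ = u ≫ p → l₂ ≫ f = y →
          Spec.map (CommRingCat.ofHom (algebraMap A (FractionRing A))) ≫ l₂ = u ≫ p → l₁ = l₂)
    {K : Type u} [Field K] (m : Spec (CommRingCat.of K) ⟶ Z) : UniqueAt f (m ≫ p) := by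
  intro R hR g₁ g₂ hg h₁ h₂
  refine H R (Spec.map (Groth.L18.fractionRingIso R).inv ≫ m) (g₁ ≫ f) ?_ g₁ g₂ rfl ?_ hg.symm ?_
  · rw [Groth.L18.SpecMap_algebraMap_eq, Category.assoc, Category.assoc, reassoc_of% h₁]
  · rw [Groth.L18.SpecMap_algebraMap_eq, Category.assoc, Category.assoc, h₁]
  · rw [Groth.L18.SpecMap_algebraMap_eq, Category.assoc, Category.assoc, h₂]

end Groth.L19.DVR
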