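import Groth.Agent.L06.EqIntDescent
import Groth.Agent.L02.Canon.DescInvertible

/-!
`f_* O = O` descends along faithfully flat quasi-compact morphisms.
-/

set_option autoImplicit false
set_option linter.style.haveILetI false
set_option backward.isDefEq.respectTransparency.types false
set_option backward.isDefEq.respectTransparency false

universe u

open CategoryTheory CategoryTheory.Limits AlgebraicGeometry

namespace Groth.L19.DescAppBij

open Groth.L18.GITFppf (app_eq_of_eq appLE_appLE)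
open Groth.Agent.AbDualLib (appLE_app)

variable {X S X' S' : Scheme.{u}} {f : X ⟶ S} {g : S' ⟶ S} {f' : X' ⟶ S'} {g' : X' ⟶ X}
  [IsSeparated f] [QuasiCompact f] [Flat g] [Surjective g] [QuasiCompact g]

theorem bijective_app_of_descent (pb : IsPullback g' f' f g)
    (hf' : ∀ V : S'.Opens, Function.Bijective (f'.app V)) (U : S.Opens) : Function.Bijective (f.app U) := by
  haveI : Flat g' := MorphismProperty.of_isPullback pb.flip ‹Flat g›
  haveI : IsSeparated f' := MorphismProperty.of_isPullback pb ‹IsSeparated f›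
  haveI : QuasiCompact f' := MorphismProperty.of_isPullback pb ‹QuasiCompact f›
  have hle : g' ⁻¹ᵁ f ⁻¹ᵁ U = f' ⁻¹ᵁ g ⁻¹ᵁ U := by
    rw [← Scheme.Hom.comp_preimage, pb.w, Scheme.Hom.comp_preimage]
  have hcomm : ∀ d : Γ(S, U), g'.appLE (f ⁻¹ᵁ U) (f' ⁻¹ᵁ g ⁻¹ᵁ U) hle.ge (f.app U d) = f'.app (g ⁻¹ᵁ U) (g.app U d) :=
    fun d => by
      rw [appLE_app, app_eq_of_eq _ _ pb.w U (f' ⁻¹ᵁ g ⁻¹ᵁ U) _ le_rfl d, ← appLE_app f' g U _ le_rfl,
        ← Scheme.Hom.app_eq_appLE]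
  haveI : Surjective g' := MorphismProperty.of_isPullback pb.flip ‹Surjective g›
  constructor
  · intro d d' h
    refine Groth.L06.BddFibDeg.app_injective g U ((hf' (g ⁻¹ᵁ U)).1 ?_)
    rw [← hcomm, ← hcomm, h]
  · intro c
    obtain ⟨a, ha⟩ := (hf' (g ⁻¹ᵁ U)).2 (g'.appLE (f ⁻¹ᵁ U) (f' ⁻¹ᵁ g ⁻¹ᵁ U) hle.ge c)
    obtain ⟨d, hd⟩ := Groth.L06.EqIntDescent.exists_fun_desc g U a (by
      -- the universal pair of lifts
      let p₁ := pullback.fst g g
      let p₂ := pullback.snd g g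
      have hp : p₁ ≫ g = p₂ ≫ g := pullback.condition
      let O₀ := p₁ ⁻¹ᵁ g ⁻¹ᵁ U
      have hO₂ : O₀ ≤ p₂ ⁻¹ᵁ g ⁻¹ᵁ U := by
        simp only [O₀, ← Scheme.Hom.comp_preimage, hp, le_refl]
      have h12 : p₁.appLE _ O₀ le_rfl a = p₂.appLE _ O₀ hO₂ a := by
        haveI : Flat p₁ := MorphismProperty.pullback_fst g g ‹Flat g›
        let f₀ := pullback.snd f' p₁
        let q₁ := pullback.fst f' p₁
        have pb₀ : IsPullback q₁ f₀ f' p₁ := IsPullback.of_hasPullback f' p₁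
        let q₂ : pullback f' p₁ ⟶ X' := pb.lift (q₁ ≫ g') (f₀ ≫ p₂)
          (by rw [Category.assoc, pb.w, pb₀.w_assoc, Category.assoc, ← hp])
        have hb := Groth.L02.Canon.DescInvertible.bijective_app_of_flat pb₀ hf' O₀
        refine hb.1 ?_
        set O₁ := f₀ ⁻¹ᵁ O₀
        have hq₁ : O₁ ≤ q₁ ⁻¹ᵁ f' ⁻¹ᵁ g ⁻¹ᵁ U := by
          simp only [O₁, O₀, ← Scheme.Hom.comp_preimage, ← Category.assoc, ← pb₀.w]
          exact le_rfl
        have hq₂ : O₁ ≤ q₂ ⁻¹ᵁ f' ⁻¹ᵁ g ⁻¹ᵁ U := by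
          simp only [O₁, O₀, ← Scheme.Hom.comp_preimage, ← Category.assoc, q₂, pb.lift_snd]
          rw [Category.assoc, Category.assoc, hp]
        show f₀.app O₀ _ = f₀.app O₀ _
        rw [Scheme.Hom.app_eq_appLE, appLE_appLE, appLE_appLE]
        rw [app_eq_of_eq (f₀ ≫ p₁) (q₁ ≫ f') pb₀.w.symm _ _ _ (hq₁.trans (le_of_eq rfl)),
          ← appLE_app q₁ f' (g ⁻¹ᵁ U) O₁ hq₁, ha,
          app_eq_of_eq (f₀ ≫ p₂) (q₂ ≫ f') (pb.lift_snd _ _ _).symm _ _ _ (hq₂.trans (le_of_eq rfl)),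
          ← appLE_app q₂ f' (g ⁻¹ᵁ U) O₁ hq₂, ha, appLE_appLE, appLE_appLE]
        exact app_eq_of_eq _ _ (pb.lift_fst _ _ _).symm _ _ _ _ _
      intro P l l' O h h' hll
      let m := pullback.lift l l' hll
      have hm : O ≤ m ⁻¹ᵁ O₀ := by
        simp only [O₀, m, ← Scheme.Hom.comp_preimage, p₁, pullback.lift_fst_assoc] at h ⊢
        exact h
      have e1 : m.appLE O₀ O hm (p₁.appLE _ O₀ le_rfl a) = l.appLE _ O h a :=
        (appLE_appLE _ _ _ _ _).trans (app_eq_of_eq _ _ (pullback.lift_fst _ _ _) _ _ _ _ _)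
      have e2 : m.appLE O₀ O hm (p₂.appLE _ O₀ hO₂ a) = l'.appLE _ O h' a :=
        (appLE_appLE _ _ _ _ _).trans (app_eq_of_eq _ _ (pullback.lift_snd _ _ _) _ _ _ _ _)
      rw [← e1, ← e2, h12])
    refine ⟨d, Groth.L06.BddFibDeg.app_injective g' (f ⁻¹ᵁ U) ?_⟩
    have h1 := hcomm d
    rw [hd, ha] at h1
    have e : ∀ z : Γ(X, f ⁻¹ᵁ U), g'.app (f ⁻¹ᵁ U) z =
        X'.presheaf.map (homOfLE hle.le).op (g'.appLE (f ⁻¹ᵁ U) (f' ⁻¹ᵁ g ⁻¹ᵁ U) hle.ge z) := fun z => by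
      rw [← ConcreteCategory.comp_apply, Scheme.Hom.appLE_map, Scheme.Hom.app_eq_appLE]
    rw [e, e, h1]

end Groth.L19.DescAppBij
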