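import Mathlib.Algebra.DualNumber
import Mathlib.RingTheory.Kaehler.Basic
import Mathlib.RingTheory.Unramified.Basic
import Mathlib.RingTheory.Jacobson.Ring
import Mathlib.RingTheory.Nakayama
import Mathlib.FieldTheory.IsAlgClosed.Basic
import Mathlib.LinearAlgebra.Dual.Lemmas
import Mathlib.RingTheory.Nullstellensatz

/-! Unramifiedness over an algebraically closed field tested on dual numbers. -/

set_option autoImplicit false
set_option linter.style.haveILetI false
set_option backward.isDefEq.respectTransparency false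
set_option backward.isDefEq.respectTransparency.types false
universe u

namespace Groth.L19.DualNumberUnram

theorem formallyUnramified (k : Type u) [Field k] [IsAlgClosed k] (A : Type u) [CommRing A]
    [Algebra k A] [Algebra.FiniteType k A]
    (H : ∀ g₁ g₂ : A →ₐ[k] DualNumber k,
      (∀ a, TrivSqZeroExt.fst (g₁ a) = TrivSqZeroExt.fst (g₂ a)) → g₁ = g₂) :
    Algebra.FormallyUnramified k A := by
  rw [Algebra.formallyUnramified_iff]
  let Ω := KaehlerDifferential k A
  have hm : ∀ m : Ideal A, m.IsMaximal → m • (⊤ : Submodule A Ω) = ⊤ := by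
    intro m hm
    letI : Field (A ⧸ m) := Ideal.Quotient.field m
    haveI : Module.Finite k (A ⧸ m) := finite_of_finite_type_of_isJacobsonRing k (A ⧸ m)
    let e : k ≃ₐ[k] A ⧸ m := AlgEquiv.ofBijective (Algebra.ofId k (A ⧸ m))
      IsAlgClosed.algebraMap_bijective_of_isIntegral
    let φ : A →ₐ[k] k := e.symm.toAlgHom.comp (Ideal.Quotient.mkₐ k m)
    by_contra hne
    obtain ⟨v, hv⟩ : ∃ v : Ω ⧸ m • (⊤ : Submodule A Ω), v ≠ 0 := by
      by_contra hcon
      push Not at hcon
      exact hne (eq_top_iff.2 fun w _ => (Submodule.Quotient.mk_eq_zero _).1 (hcon _))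
    obtain ⟨ℓ, hℓ⟩ : ∃ ℓ : Module.Dual (A ⧸ m) (Ω ⧸ m • (⊤ : Submodule A Ω)), ℓ v ≠ 0 := by
      by_contra hcon
      push Not at hcon
      exact hv ((Module.forall_dual_apply_eq_zero_iff (A ⧸ m) v).1 hcon)
    let D : A → k := fun a =>
      e.symm (ℓ ((m • (⊤ : Submodule A Ω)).mkQ (KaehlerDifferential.D k A a)))
    have hsm : ∀ (a : A) w, ℓ (a • w) = Ideal.Quotient.mk m a * ℓ w := by
      intro a w
      have h1 : a • w = (Ideal.Quotient.mk m a) • w := rfl
      rw [h1, map_smul, smul_eq_mul]
    have hDmul : ∀ a b, D (a * b) = φ a * D b + φ b * D a := fun a b => by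
      simp only [D, Derivation.leibniz, map_add, map_smul, hsm, map_mul]
      rfl
    let g₁ : A →ₐ[k] DualNumber k := (TrivSqZeroExt.inlAlgHom k k k).comp φ
    let g₂ : A →ₐ[k] DualNumber k :=
      { toFun := fun a => TrivSqZeroExt.inl (φ a) + TrivSqZeroExt.inr (D a)
        map_one' := by simp [D]
        map_zero' := by simp [D]
        map_add' := fun a b => TrivSqZeroExt.ext (by simp) (by simp [D])
        map_mul' := fun a b => TrivSqZeroExt.ext (by simp)
          (by simp [hDmul, mul_comm])
        commutes' := fun r => TrivSqZeroExt.ext (by simp [TrivSqZeroExt.algebraMap_eq_inl])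
          (by simp [D, TrivSqZeroExt.algebraMap_eq_inl]) }
    have hEQ := H g₁ g₂ fun a => by simp [g₁, g₂]
    have hD : ∀ a, ℓ ((m • (⊤ : Submodule A Ω)).mkQ (KaehlerDifferential.D k A a)) = 0 := by
      intro a
      have h0 := congrArg TrivSqZeroExt.snd (AlgHom.congr_fun hEQ a)
      simp [g₁, g₂] at h0
      exact e.symm.injective (h0.symm.trans (map_zero _).symm)
    obtain ⟨w, rfl⟩ := Submodule.mkQ_surjective _ v
    apply hℓ
    clear hℓ hv
    induction (KaehlerDifferential.span_range_derivation k A).symm ▸ (Submodule.mem_top : w ∈ ⊤)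
      using Submodule.span_induction with
    | mem w hw =>
      obtain ⟨b, rfl⟩ := hw
      exact hD b
    | zero => simp
    | add u v _ _ hu hv => rw [map_add, map_add, hu, hv, add_zero]
    | smul r u _ hu => rw [map_smul, hsm, hu, mul_zero]
  have hann : Module.annihilator A Ω = ⊤ := by
    by_contra hne
    obtain ⟨m, hmax, hle⟩ := Ideal.exists_le_maximal _ hne
    obtain ⟨r, hr1, hr⟩ := Submodule.exists_sub_one_mem_and_smul_eq_zero_of_fg_of_le_smul m
      (⊤ : Submodule A Ω) Module.Finite.fg_top (hm m hmax).ge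
    have hrm : r ∈ m := hle (Module.mem_annihilator.2 fun w => hr w trivial)
    exact hmax.ne_top ((Ideal.eq_top_iff_one m).2 (by simpa using sub_mem hrm hr1))
  refine ⟨fun a b => ?_⟩
  have h : ∀ w : Ω, w = 0 := fun w => by
    have h1 : (1 : A) ∈ Module.annihilator A Ω := hann ▸ Submodule.mem_top
    simpa using Module.mem_annihilator.1 h1 w
  exact (h a).trans (h b).symm

end Groth.L19.DualNumberUnram
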