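import Mathlib.AlgebraicGeometry.Morphisms.Etale
import Mathlib.AlgebraicGeometry.ResidueField
import Mathlib.RingTheory.Etale.Field
import Mathlib.RingTheory.Unramified.Finite

/-! Residue field extensions of etale morphisms are etale. -/

set_option autoImplicit false
set_option linter.style.haveILetI false
set_option backward.isDefEq.respectTransparency false
set_option backward.isDefEq.respectTransparency.types false
universe u

open CategoryTheory CategoryTheory.Limits AlgebraicGeometry

namespace Groth.L19.EtaleResidue

theorem etale_residueFieldMap {X Y : Scheme.{u}} (f : X ⟶ Y) [Etale f] (x : X) :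
    Etale (Spec.map (f.residueFieldMap x)) := by
  letI : Algebra (Y.residueField (f x)) (X.residueField x) := (f.residueFieldMap x).hom.toAlgebra
  have hsep : Algebra.IsSeparable (Y.residueField (f x)) (X.residueField x) := inferInstance
  have h1 : (f.residueFieldMap x).hom.comp (Y.residue (f x)).hom =
      (X.residue x).hom.comp (f.stalkMap x).hom := by
    rw [← CommRingCat.hom_comp, ← CommRingCat.hom_comp, Scheme.residue_residueFieldMap f x]
  haveI : Algebra.EssFiniteType (Y.residueField (f x)) (X.residueField x) := by
    letI := (Y.residue (f x)).hom.toAlgebra
    letI : Algebra (Y.presheaf.stalk (f x)) (X.residueField x) :=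
      ((X.residue x).hom.comp (f.stalkMap x).hom).toAlgebra
    haveI : IsScalarTower (Y.presheaf.stalk (f x)) (Y.residueField (f x)) (X.residueField x) :=
      IsScalarTower.of_algebraMap_eq' h1.symm
    haveI : Algebra.EssFiniteType (Y.presheaf.stalk (f x)) (X.residueField x) := by
      rw [← RingHom.essFiniteType_algebraMap, RingHom.algebraMap_toAlgebra]
      exact (LocallyOfFiniteType.stalkMap f x).comp
        (RingHom.FiniteType.of_surjective _ (X.residue_surjective x)).essFiniteType
    exact Algebra.EssFiniteType.of_comp (Y.presheaf.stalk (f x)) _ _
  haveI hE : Algebra.FormallyEtale (Y.residueField (f x)) (X.residueField x) :=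
    Algebra.FormallyEtale.of_isSeparable _ _
  haveI : Module.Finite (Y.residueField (f x)) (X.residueField x) :=
    Algebra.FormallyUnramified.finite_of_free _ _
  haveI : Algebra.FinitePresentation (Y.residueField (f x)) (X.residueField x) :=
    Algebra.FinitePresentation.of_finiteType.1 inferInstance
  rw [HasRingHomProperty.Spec_iff (P := @Etale)]
  exact (⟨hE, inferInstance⟩ : Algebra.Etale (Y.residueField (f x)) (X.residueField x))

end Groth.L19.EtaleResidue
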