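import Groth.Agent.L02.SchDom.Apply
import Mathlib.Combinatorics.Nullstellensatz
import Mathlib.RingTheory.Etale.Basic
import Mathlib.RingTheory.RingHom.StandardSmooth
import Mathlib.AlgebraicGeometry.Morphisms.Smooth
import Mathlib.AlgebraicGeometry.Morphisms.Etale
import Mathlib.AlgebraicGeometry.Morphisms.Immersion
import Mathlib.FieldTheory.IsAlgClosed.AlgebraicClosure
import Mathlib.FieldTheory.Separable
import Mathlib.RingTheory.TensorProduct.MvPolynomial
import Mathlib.RingTheory.Noetherian.Basic
import Mathlib.RingTheory.Polynomial.Basic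

/-!
# Étale slices of affine space: `A[1/d][x]/(x_i^d - 1)`

These subschemes are étale over `A` and form a schematically dominant family in affine space.
-/

universe u

open TensorProduct MvPolynomial

namespace Groth.L19.EtaleSlices

variable (n : ℕ) (A : Type u) [CommRing A]

/-- The relations `d v = 1` and `x_i ^ d = 1`. -/
noncomputable def rel (d : ℕ) : Option (Fin n) → MvPolynomial (Option (Fin n)) A
  | none => (d : MvPolynomial (Option (Fin n)) A) * X none - 1
  | some i => X (some i) ^ d - 1

/-- The slice ring. -/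
abbrev Ring (d : ℕ) : Type u :=
  MvPolynomial (Option (Fin n)) A ⧸ Ideal.span (Set.range (rel n A d))

variable {n A}

/-- The coordinate `x_i`. -/
noncomputable def coord (d : ℕ) (i : Fin n) : Ring n A d := Ideal.Quotient.mk _ (X (some i))

/-- The inverse of `d`. -/
noncomputable def inv (d : ℕ) : Ring n A d := Ideal.Quotient.mk _ (X none)

lemma natCast_mul_inv (d : ℕ) : (d : Ring n A d) * inv d = 1 := by
  have h : Ideal.Quotient.mk (Ideal.span (Set.range (rel n A d))) (rel n A d none) = 0 :=
    Ideal.Quotient.eq_zero_iff_mem.mpr (Ideal.subset_span (Set.mem_range_self _))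
  simpa [rel, sub_eq_zero, inv] using h

lemma coord_pow (d : ℕ) (i : Fin n) : coord (A := A) d i ^ d = 1 := by
  have h : Ideal.Quotient.mk (Ideal.span (Set.range (rel n A d))) (rel n A d (some i)) = 0 :=
    Ideal.Quotient.eq_zero_iff_mem.mpr (Ideal.subset_span (Set.mem_range_self _))
  simpa [rel, sub_eq_zero, coord] using h

variable {B : Type*} [CommRing B] [Algebra A B]

/-- The universal property. -/
noncomputable def desc (d : ℕ) (a : Fin n → B) (v : B) (hv : (d : B) * v = 1)
    (ha : ∀ i, a i ^ d = 1) : Ring n A d →ₐ[A] B :=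
  Ideal.Quotient.liftₐ _ (aeval (fun o => o.elim v a)) <| by
    intro x hx
    have : Ideal.span (Set.range (rel n A d)) ≤
        RingHom.ker (aeval (R := A) (fun o => o.elim v a)) := by
      rw [Ideal.span_le]
      rintro - ⟨o, rfl⟩
      rcases o with _ | i
      · simp [rel, hv]
      · simp [rel, ha i]
    exact this hx

@[simp] lemma desc_coord (d : ℕ) (a : Fin n → B) (v : B) (hv : (d : B) * v = 1)
    (ha : ∀ i, a i ^ d = 1) (i : Fin n) : desc (A := A) d a v hv ha (coord d i) = a i := by
  simp [desc, coord]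

lemma hom_ext {d : ℕ} {f g : Ring n A d →ₐ[A] B} (h : ∀ i, f (coord d i) = g (coord d i)) :
    f = g := by
  have hv : f (inv d) = g (inv d) := by
    have h1 : (d : B) * f (inv d) = 1 := by rw [← map_natCast f, ← map_mul, natCast_mul_inv, map_one]
    have h2 : (d : B) * g (inv d) = 1 := by rw [← map_natCast g, ← map_mul, natCast_mul_inv, map_one]
    exact left_inv_eq_right_inv (by rwa [mul_comm]) h2
  refine Ideal.Quotient.algHom_ext _ (MvPolynomial.algHom_ext fun o => ?_)
  rcases o with _ | i
  · exact hv
  · exact h i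

lemma one_add_pow_of_sq_zero {R : Type*} [CommRing R] (e : R) (he : e * e = 0) (m : ℕ) :
    (1 + e) ^ m = 1 + (m : R) * e := by
  induction m with
  | zero => simp
  | succ m ih => rw [pow_succ, ih]; push_cast; linear_combination (m : R) * he

instance formallyEtale (d : ℕ) : Algebra.FormallyEtale A (Ring n A d) := by
  rw [Algebra.FormallyEtale.iff_comp_bijective]
  intro B _ _ I hI
  have hI' : ∀ x ∈ I, ∀ y ∈ I, x * y = 0 := fun x hx y hy => by
    have : x * y ∈ I ^ 2 := by rw [pow_two]; exact Ideal.mul_mem_mul hx hy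
    rwa [hI, Ideal.mem_bot] at this
  constructor
  · intro f g hfg
    refine hom_ext fun i => ?_
    have hsub : f (coord d i) - g (coord d i) ∈ I :=
      Ideal.Quotient.eq.mp (DFunLike.congr_fun hfg (coord d i))
    set b := g (coord d i) with hb
    set e := f (coord d i) - b with he
    have hgb : b ^ d = 1 := by rw [hb, ← map_pow, coord_pow, map_one]
    have hfb : (b + e) ^ d = 1 := by
      rw [show b + e = f (coord d i) by rw [he]; ring, ← map_pow, coord_pow, map_one]
    have hv : (d : B) * f (inv d) = 1 := by rw [← map_natCast f, ← map_mul, natCast_mul_inv, map_one]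
    rcases Nat.eq_zero_or_pos d with h0 | h0
    · have h10 : (0 : B) = 1 := by simpa [h0] using hv
      exact eq_of_zero_eq_one h10 _ _
    · obtain ⟨m, rfl⟩ := Nat.exists_eq_add_of_le h0
      have hbu : b * b ^ m = 1 := by rw [← pow_succ', add_comm]; simpa [add_comm] using hgb
      have h1 : b + e = b * (1 + b ^ m * e) := by linear_combination (-e) * hbu
      rw [h1, mul_pow, hgb, one_mul, one_add_pow_of_sq_zero] at hfb
      · have h2 : ((1 + m : ℕ) : B) * (b ^ m * e) = 0 := by linear_combination hfb
        have h3 : b ^ m * e = 0 := by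
          linear_combination (f (inv (1 + m))) * h2 - (b ^ m * e) * hv
        have h4 : e = 0 := by linear_combination b * h3 - e * hbu
        exact sub_eq_zero.mp h4
      · linear_combination (b ^ m * b ^ m) * hI' e hsub e hsub
  · intro f
    obtain ⟨v₀, hv₀⟩ := Ideal.Quotient.mk_surjective (f (inv d))
    have hj : (d : B) * v₀ - 1 ∈ I := by
      rw [← Ideal.Quotient.eq_zero_iff_mem, map_sub, map_mul, hv₀, map_natCast, map_one,
        ← map_natCast f, ← map_mul, natCast_mul_inv, map_one, sub_self]
    set j := (d : B) * v₀ - 1 with hjdef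
    have hv : (d : B) * (v₀ * (1 - j)) = 1 := by
      linear_combination (-1 : B) * hI' j hj j hj - (1 - j) * hjdef
    choose a₀ ha₀ using fun i => Ideal.Quotient.mk_surjective (f (coord d i))
    have hi : ∀ i, a₀ i ^ d - 1 ∈ I := fun i => by
      rw [← Ideal.Quotient.eq_zero_iff_mem, map_sub, map_pow, ha₀, ← map_pow, coord_pow, map_one,
        map_one, sub_self]
    set v := v₀ * (1 - j)
    let a : Fin n → B := fun i => a₀ i * (1 + (-(a₀ i ^ d - 1) * v))
    have ha : ∀ i, a i ^ d = 1 := fun i => by
      simp only [a]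
      rw [mul_pow, one_add_pow_of_sq_zero]
      · linear_combination -((a₀ i ^ d - 1) * a₀ i ^ d) * hv - hI' _ (hi i) _ (hi i)
      · linear_combination (v * v) * hI' _ (hi i) _ (hi i)
    refine ⟨desc d a v hv ha, hom_ext fun i => ?_⟩
    change Ideal.Quotient.mkₐ A I (desc d a v hv ha (coord d i)) = f (coord d i)
    rw [desc_coord, ← ha₀ i, Ideal.Quotient.mkₐ_eq_mk, Ideal.Quotient.eq]
    have : a i - a₀ i = -(a₀ i * v) * (a₀ i ^ d - 1) := by simp only [a]; ring
    rw [this]
    exact Ideal.mul_mem_left _ _ (hi i)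

instance finitePresentation (d : ℕ) : Algebra.FinitePresentation A (Ring n A d) :=
  Algebra.FinitePresentation.quotient (Submodule.fg_span (Set.finite_range _))

instance etale (d : ℕ) : Algebra.Etale A (Ring n A d) where

variable (n A)

/-- The map from the polynomial ring. -/
noncomputable def proj (d : ℕ) : MvPolynomial (Fin n) A →ₐ[A] Ring n A d := aeval (coord d)

open CategoryTheory AlgebraicGeometry in
lemma isImmersion_proj (d : ℕ) :
    IsImmersion (Spec.map (CommRingCat.ofHom (proj n A d).toRingHom)) := by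
  let P := MvPolynomial (Fin n) A
  let L := Localization.Away (d : P)
  have hu : IsUnit ((proj n A d).toRingHom (d : P)) := by
    rw [map_natCast]
    exact IsUnit.of_mul_eq_one _ (natCast_mul_inv (A := A) (n := n) d)
  let ψ : L →+* Ring n A d := IsLocalization.Away.lift (d : P) hu
  have hψ : ψ.comp (algebraMap P L) = (proj n A d).toRingHom := IsLocalization.Away.lift_comp _ hu
  have hψ' : ∀ x, ψ (algebraMap P L x) = proj n A d x := fun x => DFunLike.congr_fun hψ x
  have hsurj : Function.Surjective ψ := by
    intro z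
    obtain ⟨z, rfl⟩ := Ideal.Quotient.mk_surjective z
    change z ∈ ψ.range.comap (Ideal.Quotient.mk _)
    induction z using MvPolynomial.induction_on with
    | C a => exact ⟨algebraMap P L (C a), by rw [hψ']; simp [proj]; rfl⟩
    | add p q hp hq => exact Subring.add_mem _ hp hq
    | mul_X p o hp =>
      refine Subring.mul_mem _ hp ?_
      rcases o with _ | i
      · refine ⟨IsLocalization.Away.invSelf (d : P), ?_⟩
        have h1 : (d : Ring n A d) * ψ (IsLocalization.Away.invSelf (d : P)) = 1 := by
          rw [← map_natCast (proj n A d), ← hψ', ← map_mul, IsLocalization.Away.mul_invSelf, map_one]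
        exact (left_inv_eq_right_inv (by rw [mul_comm]; exact natCast_mul_inv d) h1).symm
      · exact ⟨algebraMap P L (X i), by rw [hψ']; simp [proj, coord]⟩
  rw [← hψ, CommRingCat.ofHom_comp, Spec.map_comp]
  haveI : IsClosedImmersion (Spec.map (CommRingCat.ofHom ψ)) :=
    IsClosedImmersion.spec_of_surjective _ hsurj
  haveI : IsOpenImmersion (Spec.map (CommRingCat.ofHom (algebraMap P L))) :=
    IsOpenImmersion.of_isLocalization (S := L) (d : P)
  infer_instance

open Groth.L02.SchDom in
lemma locSep_fibre (A₀ : Type u) [CommRing A₀] (k : Type u) [Field k] [Algebra A₀ k] :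
    LocSep (B := k ⊗[A₀] MvPolynomial (Fin n) A₀)
      (C := fun d : ULift.{u} ℕ => k ⊗[A₀] Ring n A₀ d.down) fun d =>
      (Algebra.TensorProduct.map (AlgHom.id A₀ k) (proj n A₀ d.down)).toRingHom := by
  intro h x hx
  let e := MvPolynomial.algebraTensorAlgEquiv (σ := Fin n) A₀ k
  set P := e (h * x) with hP
  obtain ⟨d, hdeg, hdk⟩ : ∃ d : ℕ, P.totalDegree < d ∧ (d : k) ≠ 0 := by
    by_cases h0 : ((P.totalDegree + 1 : ℕ) : k) = 0
    · refine ⟨P.totalDegree + 1 + 1, by omega, ?_⟩
      rw [Nat.cast_add, h0]
      simp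
    · exact ⟨_, by omega, h0⟩
  let K := AlgebraicClosure k
  have hdK : (d : K) ≠ 0 := by
    rw [← map_natCast (algebraMap k K)]
    exact (map_ne_zero _).mpr hdk
  have hd0 : 0 < d := by omega
  classical
  let q : Polynomial K := Polynomial.X ^ d - Polynomial.C 1
  let S := q.roots.toFinset
  have hq : q.Separable := Polynomial.separable_X_pow_sub_C 1 hdK one_ne_zero
  have hS : S.card = d := by
    rw [Multiset.toFinset_card_of_nodup (Polynomial.nodup_roots hq),
      IsAlgClosed.card_roots_eq_natDegree, Polynomial.natDegree_X_pow_sub_C]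
  have hroot : ∀ y ∈ S, y ^ d = 1 := fun y hy => by
    have := (Polynomial.mem_roots'.mp (Multiset.mem_toFinset.mp hy)).2
    simpa [q, sub_eq_zero] using this
  have key : ∀ y : Fin n → K, (∀ i, y i ∈ S) → aeval y P = 0 := by
    intro y hy
    let ev : Ring n A₀ d →ₐ[A₀] K := desc d y ((d : K)⁻¹) (mul_inv_cancel₀ hdK)
      fun i => hroot _ (hy i)
    let L : k ⊗[A₀] Ring n A₀ d →ₐ[k] K :=
      Algebra.TensorProduct.lift (Algebra.ofId k K) ev fun _ _ => Commute.all _ _
    have hev : ∀ b, ev (proj n A₀ d b) = aeval y b := by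
      intro b
      rw [← AlgHom.comp_apply, proj, comp_aeval]
      simp [ev]
    have hcomm : ∀ z, L (Algebra.TensorProduct.map (AlgHom.id A₀ k) (proj n A₀ d) z) =
        aeval y (e z) := by
      intro z
      induction z with
      | zero => simp
      | tmul r b =>
        simp only [Algebra.TensorProduct.map_tmul, AlgHom.id_apply, L,
          Algebra.TensorProduct.lift_tmul, hev, e, MvPolynomial.algebraTensorAlgEquiv_tmul]
        rw [map_smul, MvPolynomial.aeval_map_algebraMap, Algebra.smul_def]
        rfl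
      | add a b ha hb => simp only [map_add, ha, hb]
    obtain ⟨m, hm⟩ := hx ⟨d⟩
    have hm' := congrArg L hm
    change L (Algebra.TensorProduct.map (AlgHom.id A₀ k) (proj n A₀ d) (h ^ m * x)) = L 0 at hm'
    rw [hcomm, map_zero, map_mul, map_pow, map_mul, map_pow] at hm'
    rw [hP, map_mul, map_mul]
    rcases mul_eq_zero.mp hm' with h' | h'
    · rw [eq_zero_of_pow_eq_zero h', zero_mul]
    · rw [h', mul_zero]
  have hP0 : MvPolynomial.map (algebraMap k K) P = 0 := by
    refine MvPolynomial.eq_zero_of_eval_zero_at_prod_finset _ (fun _ => S) (fun i => ?_) fun y hy => ?_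
    · rw [hS]
      have h1 := MvPolynomial.degreeOf_le_totalDegree (MvPolynomial.map (algebraMap k K) P) i
      have h2 : (MvPolynomial.map (algebraMap k K) P).totalDegree ≤ P.totalDegree :=
        Finset.sup_mono (MvPolynomial.support_map_subset _ _)
      omega
    · rw [MvPolynomial.eval_map, ← MvPolynomial.aeval_def]
      exact key y hy
  refine ⟨1, ?_⟩
  rw [pow_one]
  refine e.injective ?_
  rw [map_zero]
  exact MvPolynomial.map_injective (algebraMap k K) (algebraMap k K).injective
    (by rw [hP0, map_zero])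

open Groth.L02.SchDom in
set_option maxSynthPendingDepth 3 in
set_option synthInstance.maxHeartbeats 200000 in
/-- The slices separate `A[x]`. -/
theorem locSep_of_noetherian (A₀ : Type u) [CommRing A₀] [IsNoetherianRing A₀] [Algebra A₀ A] :
    LocSep fun d : ULift.{u} ℕ => (proj n A d.down).toRingHom := by
  have H := LocSep.baseChange_of_fibrewise (B := MvPolynomial (Fin n) A₀)
    (fun d : ULift.{u} ℕ => proj n A₀ d.down) (fun p _ => locSep_fibre n A₀ p.ResidueField) A
  intro h x hx
  let e := MvPolynomial.algebraTensorAlgEquiv (σ := Fin n) A₀ A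
  obtain ⟨m, hm⟩ := H (e.symm h) (e.symm x) fun d => by
    obtain ⟨m, hm⟩ := hx d
    refine ⟨m, ?_⟩
    let inc : Ring n A₀ d.down →ₐ[A₀] A ⊗[A₀] Ring n A₀ d.down :=
      Algebra.TensorProduct.includeRight
    have hv : ((d.down : ℕ) : A ⊗[A₀] Ring n A₀ d.down) * inc (inv d.down) = 1 := by
      rw [← map_natCast inc, ← map_mul, natCast_mul_inv, map_one]
    have ha : ∀ i, inc (coord d.down i) ^ d.down = 1 := fun i => by
      rw [← map_pow, coord_pow, map_one]
    let ψ : Ring n A d.down →ₐ[A] A ⊗[A₀] Ring n A₀ d.down :=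
      desc d.down (fun i => inc (coord d.down i)) (inc (inv d.down)) hv ha
    have hc : ∀ z, Algebra.TensorProduct.map (AlgHom.id A A) (proj n A₀ d.down) (e.symm z) =
        ψ (proj n A d.down z) := by
      suffices hh : (Algebra.TensorProduct.map (AlgHom.id A A) (proj n A₀ d.down)).comp
          e.symm.toAlgHom = ψ.comp (proj n A d.down) from fun z => DFunLike.congr_fun hh z
      refine MvPolynomial.algHom_ext fun i => ?_
      simp [e, ψ, proj, inc]
    have hm' := congrArg ψ hm
    change ψ (proj n A d.down (h ^ m * x)) = ψ 0 at hm'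
    rw [← hc, map_zero, map_mul, map_pow] at hm'
    exact hm'
  refine ⟨m, ?_⟩
  have := congrArg e hm
  simpa using this

open Groth.L02.SchDom in
/-- The slices separate `A[x]`, for every ring `A`. -/
theorem locSep : LocSep fun d : ULift.{u} ℕ => (proj n A d.down).toRingHom := by
  letI : Algebra (ULift.{u} ℤ) A :=
    ((Int.castRingHom A).comp ULift.ringEquiv.toRingHom).toAlgebra
  haveI : IsNoetherianRing (ULift.{u} ℤ) := isNoetherianRing_of_ringEquiv ℤ ULift.ringEquiv.symm
  exact locSep_of_noetherian n A (ULift.{u} ℤ)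

end Groth.L19.EtaleSlices

namespace Groth.L19.EtaleSlices

open CategoryTheory Limits AlgebraicGeometry Groth.L02.SchDom

/-- Locally on the source of a smooth morphism there is a schematically dominant family of immersed
subschemes which are étale over the base. -/
theorem exists_chart {X S : Scheme.{u}} (p : X ⟶ S) [Smooth p] (x : X) :
    ∃ (P : Scheme.{u}) (b : P ⟶ X) (Z : ULift.{u} ℕ → Scheme.{u}) (j : ∀ d, Z d ⟶ P),
      IsOpenImmersion b ∧ x ∈ Set.range b.base ∧ Dom j ∧
      ∀ d, IsImmersion (j d ≫ b) ∧ Etale ((j d ≫ b) ≫ p) := by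
  obtain ⟨W, hW, U, hU, hxU, hle, hs⟩ := Smooth.exists_isStandardSmooth p x
  obtain ⟨n, φ, hφC, hφ⟩ := hs.exists_etale_mvPolynomial
  let R : CommRingCat.{u} := CommRingCat.of (MvPolynomial (Fin n) Γ(S, W))
  let e : Spec Γ(X, U) ⟶ Spec R := Spec.map (CommRingCat.ofHom φ)
  haveI : Etale e := (HasRingHomProperty.Spec_iff (P := @Etale)).mpr hφ
  haveI : Flat e := inferInstance
  haveI : LocallyOfFinitePresentation e := inferInstance
  let f : ∀ d : ULift.{u} ℕ, Spec (CommRingCat.of (Ring n Γ(S, W) d.down)) ⟶ Spec R :=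
    fun d => Spec.map (CommRingCat.ofHom (proj n Γ(S, W) d.down).toRingHom)
  have hf : Dom f :=
    (dom_spec_iff (fun d : ULift.{u} ℕ => CommRingCat.ofHom (proj n Γ(S, W) d.down).toRingHom)).mpr
      (locSep n Γ(S, W))
  refine ⟨Spec Γ(X, U), hU.fromSpec, fun d => pullback (f d) e, fun d => pullback.snd (f d) e,
    inferInstance, by rw [hU.range_fromSpec]; exact hxU, hf.pullback_flat_lfp e, fun d => ?_⟩
  haveI : IsImmersion (f d) := isImmersion_proj n _ d.down
  haveI : IsImmersion (pullback.snd (f d) e) := MorphismProperty.pullback_snd _ _ inferInstance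
  refine ⟨inferInstance, ?_⟩
  have h1 : hU.fromSpec ≫ p = e ≫ Spec.map (CommRingCat.ofHom MvPolynomial.C) ≫ hW.fromSpec := by
    rw [← hW.SpecMap_appLE_fromSpec p hU hle, ← Category.assoc, ← Spec.map_comp,
      ← CommRingCat.ofHom_comp, hφC]
    rfl
  have h2 : f d ≫ Spec.map (CommRingCat.ofHom MvPolynomial.C) =
      Spec.map (CommRingCat.ofHom (algebraMap Γ(S, W) (Ring n Γ(S, W) d.down))) := by
    rw [← Spec.map_comp, ← CommRingCat.ofHom_comp]
    exact congrArg (fun r => Spec.map (CommRingCat.ofHom r)) (proj n Γ(S, W) d.down).comp_algebraMap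
  rw [Category.assoc, h1, ← Category.assoc, ← pullback.condition, Category.assoc, ← Category.assoc (f d),
    h2]
  haveI : Etale (pullback.fst (f d) e) := MorphismProperty.pullback_fst _ _ inferInstance
  haveI : Etale (Spec.map (CommRingCat.ofHom
      (algebraMap Γ(S, W) (Ring n Γ(S, W) d.down)))) :=
    (HasRingHomProperty.Spec_iff (P := @Etale)).mpr (RingHom.etale_algebraMap.mpr inferInstance)
  infer_instance

/-- Immersions étale over the base are schematically dominant after flat base change of finite
presentation. -/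
theorem eq_zero_of_forall_baseChange {S S' B' : Scheme.{u}} (g : S' ⟶ S) [Smooth g]
    (q : B' ⟶ S') [Flat q] [LocallyOfFinitePresentation q] (V : B'.Opens) (t : Γ(B', V))
    (h : ∀ (Z : Scheme.{u}) (j : Z ⟶ S'), IsImmersion j → Etale (j ≫ g) →
      (pullback.snd j q).app V t = 0) : t = 0 := by
  choose P b Z j hb hx hj hm using fun s : S' => exists_chart g s
  haveI : ∀ s, IsOpenImmersion (b s) := hb
  refine eq_zero_of_openImmersions t (fun s => pullback.snd (b s) q) (fun x _ => ⟨q x, ?_⟩)
    fun s => ?_
  · obtain ⟨y, hy⟩ := hx (q x)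
    obtain ⟨z, -, hz⟩ := Scheme.Pullback.exists_preimage_pullback y x hy
    exact ⟨z, hz⟩
  haveI : Flat (pullback.fst (b s) q) := MorphismProperty.pullback_fst _ _ inferInstance
  haveI : LocallyOfFinitePresentation (pullback.fst (b s) q) :=
    MorphismProperty.pullback_fst _ _ inferInstance
  refine (hj s).pullback_flat_lfp (pullback.fst (b s) q) _ _ fun d => ?_
  let l : pullback (j s d) (pullback.fst (b s) q) ⟶ pullback (j s d ≫ b s) q :=
    pullback.lift (pullback.fst _ _) (pullback.snd _ _ ≫ pullback.snd (b s) q)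
      (by rw [pullback.condition_assoc, pullback.condition, Category.assoc])
  have hl : l ≫ pullback.snd (j s d ≫ b s) q = pullback.snd _ _ ≫ pullback.snd (b s) q :=
    pullback.lift_snd _ _ _
  have h1 : (pullback.snd (j s d) (pullback.fst (b s) q) ≫ pullback.snd (b s) q).app V t = 0 ↔
      (l ≫ pullback.snd (j s d ≫ b s) q).app V t = 0 := by rw [hl]
  refine h1.mpr ?_
  change l.app _ ((pullback.snd (j s d ≫ b s) q).app V t) = 0
  rw [h _ _ (hm s d).1 (hm s d).2, map_zero]

end Groth.L19.EtaleSlices
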