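import Groth.Agent.L19.ExtendStep
import Groth.Agent.L19.AmpleResInf
import Groth.Agent.L29.DCoh.Gen.Affine
import Groth.Agent.L29.DCoh.TildeD
import Groth.Agent.L18.AffineApps
import Groth.Agent.L16.CohKernel

/-!
# Extending pseudo-coherent objects from quasi-compact opens of affine schemes by finite free complexes
-/

set_option autoImplicit false
set_option linter.style.haveILetI false
set_option backward.defeqAttrib.useBackward true
set_option backward.isDefEq.respectTransparency false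

universe u

open CategoryTheory CategoryTheory.Limits AlgebraicGeometry CochainComplex
  CategoryTheory.Pretriangulated TopologicalSpace

attribute [local instance] HasDerivedCategory.standard

noncomputable section

namespace Groth.L19.ExtendFree

open Groth.L29.DC Groth.Lead.ResProp
open Groth.L18.Frame (rs ro rs_rs rs_smul rs_self ro_ro)
open Groth.L19.AmpleRes (isIso_homologyMap_of_cone isIso_homologyMap_of_near)
open scoped ZeroObject

variable {X : Scheme.{u}}

/-- Finite free modules. -/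
def InFree (M : X.Modules) : Prop := ∃ n : ℕ, Nonempty (M ≅ FlatMod.freeMod X n)

theorem inFree_of_iso {M M' : X.Modules} (e : M ≅ M') (h : InFree M) : InFree M' := by
  obtain ⟨n, ⟨e'⟩⟩ := h
  exact ⟨n, ⟨e.symm ≪≫ e'⟩⟩

theorem inFree_of_isZero {M : X.Modules} (h : IsZero M) : InFree M :=
  ⟨0, ⟨h.iso ((IsZero.iff_id_eq_zero _).2 (Sigma.hom_ext _ _ fun j => Fin.elim0 j))⟩⟩

theorem isFinLocFree_of_inFree {M : X.Modules} (h : InFree M) : FlatMod.IsFinLocFree M := by
  obtain ⟨n, ⟨e⟩⟩ := h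
  exact Groth.L29.LocFree.of_iso e.symm (Groth.L29.DC.isFinLocFree_coprod_fin n _ fun _ =>
    Groth.L20.ResDescent.isFinLocFree_of_isInvertible fun _ => ⟨⊤, trivial,
      ⟨(Scheme.Modules.restrictFunctorIsoPullback (⊤ : X.Opens).ι).app _ ≪≫
        Groth.L29.LocFree.pullbackUnitIso _⟩⟩)

/-- On an affine scheme a quotient which is of finite type over a quasi-compact open is hit there by a
finite free module. -/
theorem exists_free_hit [IsAffine X] (U : X.Opens) (hU : IsCompact (U : Set X)) {M H : X.Modules}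
    (hM : Coh.IsQCoh M) (hH : Coh.IsQCoh H) (p : M ⟶ H) [Epi p]
    (hft : CohB1.IsFT (H.restrict U.ι)) :
    ∃ (G : X.Modules) (s : G ⟶ M), InFree G ∧ Epi ((Scheme.Modules.restrictFunctor U.ι).map (s ≫ p)) := by
  classical
  haveI := hM
  haveI := hH
  have hb : ∀ x : U, ∃ g : Γ(X, ⊤), X.basicOpen g ≤ U ∧ x.1 ∈ X.basicOpen g := fun x => by
    obtain ⟨_, ⟨_, ⟨g, rfl⟩, rfl⟩, hxg, hgU⟩ := (isBasis_basicOpen X).exists_subset_of_mem_open x.2 U.2
    exact ⟨g, hgU, hxg⟩
  choose g hgU hxg using hb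
  obtain ⟨T, hT⟩ := hU.elim_finite_subcover (fun x : U => (X.basicOpen (g x) : Set X))
    (fun x => (X.basicOpen (g x)).2) (fun x hx => Set.mem_iUnion.2 ⟨⟨x, hx⟩, hxg _⟩)
  have haff : ∀ x : U, IsAffineOpen (X.basicOpen (g x)) := fun x => (isAffineOpen_top X).basicOpen _
  haveI : Coh.IsQCoh (H.restrict U.ι) := Scheme.Modules.isQuasicoherent_restrictFunctor _ H
  have hfin : ∀ x : U, Module.Finite Γ((U : Scheme.{u}), U.ι ⁻¹ᵁ X.basicOpen (g x))
      Γ(H.restrict U.ι, U.ι ⁻¹ᵁ X.basicOpen (g x)) := fun x =>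
    Groth.L20.ModStalk.finite_sections (H.restrict U.ι) ⟨‹_›, hft⟩
      ((U.ι.isAffineOpen_iff_of_isOpenImmersion).1 (by
        rw [Scheme.Hom.image_preimage_eq_opensRange_inf, Scheme.Opens.opensRange_ι, inf_eq_right.2 (hgU x)]
        exact haff x))
  choose m t ht using fun x : U => (hfin x).exists_fin
  let O : U → X.Opens := fun x => U.ι ''ᵁ (U.ι ⁻¹ᵁ X.basicOpen (g x))
  have hO : ∀ x, O x = X.basicOpen (g x) := fun x => by
    simp only [O]
    rw [Scheme.Hom.image_preimage_eq_opensRange_inf, Scheme.Opens.opensRange_ι, inf_eq_right.2 (hgU x)]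
  choose n c hc using fun (x : U) (q : Fin (m x)) =>
    Groth.L16.QCohSect.exists_pow_smul_eq_res (isAffineOpen_top X) H (g x)
      (rs H (hO x).ge (show Γ(H, O x) from t x q))
  choose d hd using fun (x : U) (q : Fin (m x)) =>
    Groth.L18.AffineCrit.surjective_app_of_epi_affine p (isAffineOpen_top X) (c x q)
  obtain ⟨N, ⟨e⟩⟩ := Finite.exists_equiv_fin (Σ x : T, Fin (m x.1))
  let s : FlatMod.freeMod X N ⟶ M :=
    Sigma.desc fun k => Groth.L16.homOfSection M (d (e.symm k).1.1 (e.symm k).2)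
  refine ⟨FlatMod.freeMod X N, s, ⟨N, ⟨Iso.refl _⟩⟩, ?_⟩
  let R := Scheme.Modules.restrictFunctor U.ι
  haveI : Coh.IsQCoh (R.obj (FlatMod.freeMod X N)) :=
    haveI := PCQCoh.isQCoh_of_isFinLocFree (isFinLocFree_of_inFree (M := FlatMod.freeMod X N) ⟨N, ⟨Iso.refl _⟩⟩)
    Scheme.Modules.isQuasicoherent_restrictFunctor _ _
  refine Groth.L17.Approx.epi_of_surjective_cover (R.map (s ≫ p)) (ι := {x : U // x ∈ T})
    (fun x => U.ι ⁻¹ᵁ X.basicOpen (g x.1)) (fun x => (U.ι.isAffineOpen_iff_of_isOpenImmersion).1 (by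
      rw [Scheme.Hom.image_preimage_eq_opensRange_inf, Scheme.Opens.opensRange_ι, inf_eq_right.2 (hgU x.1)]
      exact haff x.1)) (fun y => ?_) fun x h => ?_
  · obtain ⟨z, hz, hy⟩ := Set.mem_iUnion₂.1 (hT y.2)
    exact ⟨⟨z, hz⟩, hy⟩
  obtain ⟨x, hx⟩ := x
  show h ∈ Set.range ((s ≫ p).app (O x))
  induction (show h ∈ Submodule.span _ (Set.range (t x)) from (ht x).ge Submodule.mem_top) using
      Submodule.span_induction with
  | mem z hz =>
    obtain ⟨q, rfl⟩ := hz
    let k := e ⟨⟨x, hx⟩, q⟩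
    let one : Γ(Coh.structureModule X, ⊤) := (1 : Γ(X, ⊤))
    let v : Γ(FlatMod.freeMod X N, ⊤) := (Sigma.ι (fun _ : Fin N => Coh.structureModule X) k).app ⊤ one
    have hv : (s ≫ p).app ⊤ v = c x q := by
      have h1 : (Sigma.ι (fun _ : Fin N => Coh.structureModule X) k ≫ s).app ⊤ one = d x q := by
        have key : ∀ i : Σ x : T, Fin (m x.1), e.symm k = i →
            (Sigma.ι (fun _ : Fin N => Coh.structureModule X) k ≫ s).app ⊤ one = d i.1.1 i.2 := by
          rintro i rfl
          rw [Sigma.ι_desc]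
          exact Groth.L18.GenLoc.secOf_homOfSection _
        exact key _ (e.symm_apply_apply ⟨⟨x, hx⟩, q⟩)
      refine Eq.trans ?_ (hd x q)
      show p.app ⊤ (s.app ⊤ v) = p.app ⊤ (d x q)
      exact congrArg (p.app ⊤) h1
    have hu : IsUnit (ro (le_top : O x ≤ ⊤) (g x) ^ n x q) := by
      refine IsUnit.pow _ ?_
      have := RingedSpace.isUnit_res_basicOpen _ (g x)
      have h2 := this.map (X.presheaf.map (homOfLE (hO x).le).op).hom
      have h3 : (X.presheaf.map (homOfLE (hO x).le).op).hom (ro (X.basicOpen_le (g x)) (g x)) =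
          ro (le_top : O x ≤ ⊤) (g x) := ro_ro _ _ _
      rw [← h3]
      exact h2
    refine ⟨(↑hu.unit⁻¹ : Γ(X, O x)) • rs (FlatMod.freeMod X N) le_top v, ?_⟩
    rw [Scheme.Modules.Hom.app_smul, Groth.L19.ProjBdl.app_rs, hv]
    have h4 := congrArg (rs H (hO x).le) (hc x q)
    simp only [rs_rs, rs_smul, Groth.L16.QcqsPush.ro_pow, ro_ro, rs_self] at h4
    rw [h4]
    exact (mul_smul _ _ _).symm.trans (by rw [IsUnit.val_inv_mul, one_smul])
  | zero => exact ⟨0, map_zero _⟩
  | add a b _ _ ha hb =>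
    obtain ⟨a', rfl⟩ := ha
    obtain ⟨b', rfl⟩ := hb
    exact ⟨a' + b', map_add _ _ _⟩
  | smul r a _ ha =>
    obtain ⟨a', rfl⟩ := ha
    exact ⟨(show Γ(X, O x) from (U.ι.appIso (U.ι ⁻¹ᵁ X.basicOpen (g x))).inv r) • a',
      Scheme.Modules.Hom.app_smul (s ≫ p) _ a'⟩

/-- A stage: finite free terms in degrees `[n, b]`, cone acyclic on `U` from `n` on. -/
def IsStage (U : X.Opens) {E F : CochainComplex X.Modules ℤ} (φ : E ⟶ F) (b n : ℤ) : Prop :=
  (∀ i, i < n ∨ b < i → IsZero (E.X i)) ∧ (∀ i, InFree (E.X i)) ∧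
    ∀ i, n ≤ i → (mappingCone ((DCoh.restrictCx U).map φ)).ExactAt i

theorem isStage_succ [IsAffine X] (U : X.Opens) (hU : IsCompact (U : Set X)) {E F : CochainComplex X.Modules ℤ}
    (hFq : ∀ i, Coh.IsQCoh (F.X i))
    (hF : ∀ m, DCoh.IsPseudoCoherentD m (DCoh.toD _ ((DCoh.restrictCx U).obj F))) (φ : E ⟶ F) {b n : ℤ}
    (hn : n - 1 ≤ b) (h : IsStage U φ b n) :
    ∃ (E' : CochainComplex X.Modules ℤ) (φ' : E' ⟶ F), IsStage U φ' b (n - 1) ∧
      ∃ j : E ⟶ E', j ≫ φ' = φ ∧ ∀ i, i ≠ n - 1 → IsIso (j.f i) := by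
  obtain ⟨hEz, hEL, hex⟩ := h
  let R := Scheme.Modules.restrictFunctor U.ι
  let C := mappingCone φ
  let CU := (R.mapHomologicalComplex (ComplexShape.up ℤ)).obj C
  let eC : CU ≅ mappingCone ((DCoh.restrictCx U).map φ) := mappingCone.mapHomologicalComplexIso φ R
  have hexU : ∀ i, n ≤ i → CU.ExactAt i := fun i hi => by
    rw [HomologicalComplex.exactAt_iff_isZero_homology]
    exact ((HomologicalComplex.exactAt_iff_isZero_homology _ _).1 (hex i hi)).of_iso
      ((HomologicalComplex.homologyFunctor _ _ i).mapIso eC)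
  have hCq : ∀ i, Coh.IsQCoh (C.X i) := fun i =>
    isQCoh_cone φ (fun j => PCQCoh.isQCoh_of_isFinLocFree (isFinLocFree_of_inFree (hEL j))) hFq i
  have hpc : DCoh.IsPseudoCoherentD (n - 1) (DCoh.toD _ (mappingCone ((DCoh.restrictCx U).map φ))) :=
    (pc_two_out_of_three (DerivedCategory.mappingCone_triangle_distinguished _) (n - 1)).1
      (pc_of_perfect (Groth.L29.DC.PushPerfect.isPerfect_of_strictly (isStrictlyPerfect_restrict U.ι
        ⟨⟨n, b, hEz⟩, fun i => isFinLocFree_of_inFree (hEL i)⟩)) _) (hF _)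
  have hft : CohB1.IsFT ((C.homology (n - 1)).restrict U.ι) := by
    have h := TopCoh.isFT_top (m := n - 1) (n := n - 1) le_rfl hpc
      (fun i hi => ((HomologicalComplex.exactAt_iff_isZero_homology _ _).1 (hex i (by omega))).of_iso
        (hdIso _ i))
    let e : DCoh.HD (DCoh.toD _ (mappingCone ((DCoh.restrictCx U).map φ))) (n - 1) ≅ R.obj (C.homology (n - 1)) :=
      hdIso _ (n - 1) ≪≫ (HomologicalComplex.homologyFunctor _ _ (n - 1)).mapIso eC.symm ≪≫
        (C.sc (n - 1)).mapHomologyIso R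
    exact Groth.L17.Approx.isFT_of_epi e.hom h
  obtain ⟨G, s₀, hG, hs₀⟩ := exists_free_hit U hU (PCQCoh.isQCoh_cycles hCq (n - 1))
    (PCQCoh.isQCoh_homology hCq (n - 1)) (C.homologyπ (n - 1)) hft
  obtain ⟨E', φ', h1, h2, h3, hj, J, w, hJm, hJi, hwd⟩ := Groth.L19.ExtendStep.exists_data φ n
    (fun i hi => hEz i (Or.inl hi)) (s₀ ≫ C.iCycles (n - 1))
    (by rw [Category.assoc, HomologicalComplex.iCycles_d, comp_zero])
  refine ⟨E', φ', ⟨fun i hi => ?_, fun i => ?_, ?_⟩, hj⟩
  · rcases hi with hi | hi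
    · exact h1 i hi
    · exact (hEz i (Or.inr hi)).of_iso (h2 i (by omega)).some
  · by_cases hi : i = n - 1
    · subst hi
      exact inFree_of_iso h3.some.symm hG
    · exact inFree_of_iso (h2 i hi).some.symm (hEL i)
  · have hprev : (ComplexShape.up ℤ).prev (n - 1) = n - 2 := by simp; omega
    have key := Groth.L19.ExtendStep.exactAt_of_data n ((R.mapHomologicalComplex (ComplexShape.up ℤ)).map J)
      (fun i => haveI := hJm i; inferInstanceAs (Mono (R.map (J.f i))))
      (fun i hi => haveI := hJi i hi; inferInstanceAs (IsIso (R.map (J.f i))))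
      (R.map (s₀ ≫ C.iCycles (n - 1))) (R.map w)
      (by
        show R.map w ≫ R.map _ = -(R.map _ ≫ R.map (J.f (n - 1)))
        rw [← R.map_comp, ← R.map_comp, hwd, R.map_neg])
      hexU (fun T z hz => by
        let eZ := (C.sc (n - 1)).mapCyclesIso R
        let eH := (C.sc (n - 1)).mapHomologyIso R
        let z' := CU.liftCycles z n (by simp) hz
        have hπ : CU.homologyπ (n - 1) ≫ eH.hom = eZ.hom ≫ R.map (C.homologyπ (n - 1)) := by
          show ((C.sc (n - 1)).map R).homologyπ ≫ eH.hom = eZ.hom ≫ R.map (C.sc (n - 1)).homologyπ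
          simp only [eH, eZ]
          rw [(C.sc (n - 1)).leftHomologyData.mapHomologyIso_eq, (C.sc (n - 1)).leftHomologyData.mapCyclesIso_eq]
          simp only [Iso.trans_hom, Category.assoc, Functor.mapIso_hom, Iso.symm_hom,
            ShortComplex.LeftHomologyData.homologyπ_comp_homologyIso_hom_assoc,
            ShortComplex.LeftHomologyData.map_π, ← Functor.map_comp,
            ShortComplex.LeftHomologyData.π_comp_homologyIso_inv]
        have hi : eZ.inv ≫ CU.iCycles (n - 1) = R.map (C.iCycles (n - 1)) := by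
          rw [Iso.inv_comp_eq]
          show ((C.sc (n - 1)).map R).iCycles = eZ.hom ≫ R.map (C.sc (n - 1)).iCycles
          exact ((C.sc (n - 1)).mapCyclesIso_hom_iCycles R).symm
        obtain ⟨T₁, e₁, he₁, x, hx⟩ := surjective_up_to_refinements_of_epi (R.map (s₀ ≫ C.homologyπ (n - 1)))
          (z' ≫ CU.homologyπ (n - 1) ≫ eH.hom)
        have h : (e₁ ≫ z') ≫ CU.homologyπ (n - 1) = (x ≫ R.map s₀ ≫ eZ.inv) ≫ CU.homologyπ (n - 1) := by
          rw [← cancel_mono eH.hom]
          simp only [Category.assoc, hπ, Iso.inv_hom_id_assoc]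
          rw [Functor.map_comp] at hx
          simpa only [Category.assoc, hπ] using hx
        obtain ⟨T₂, e₂, he₂, w', hw⟩ := (CU.comp_homologyπ_eq_iff_up_to_refinements (n - 2) (n - 1) hprev _ _).1 h
        refine ⟨T₂, e₂ ≫ e₁, epi_comp _ _, e₂ ≫ x, w', ?_⟩
        have hw' := congrArg (· ≫ CU.iCycles (n - 1)) hw
        simp only [Preadditive.add_comp, Category.assoc, hi, HomologicalComplex.toCycles_i, z',
          HomologicalComplex.liftCycles_i] at hw'
        simpa only [Category.assoc, Functor.map_comp] using hw')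
    intro i hi
    rw [HomologicalComplex.exactAt_iff_isZero_homology]
    exact ((HomologicalComplex.exactAt_iff_isZero_homology _ _).1 (key i hi)).of_iso
      ((HomologicalComplex.homologyFunctor _ _ i).mapIso (mappingCone.mapHomologicalComplexIso φ' R).symm)

/-- A complex of quasi-coherent modules on the affine scheme restricting to a given object. -/
theorem exists_qcoh_extension [IsAffine X] (U : X.Opens) (hU : IsCompact (U : Set X))
    (E : DCoh.D (U : Scheme.{u})) (hE : DCoh.IsQCohD E) :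
    ∃ F : CochainComplex X.Modules ℤ, (∀ i, Coh.IsQCoh (F.X i)) ∧
      Nonempty (DCoh.toD _ ((DCoh.restrictCx U).obj F) ≅ E) := by
  let R : CommRingCat.{u} := Γ(X, ⊤)
  let e := X.isoSpec.hom
  haveI : PreservesFiniteLimits (tilde.functor R) := Groth.L18.TildeF.tilde_preservesFiniteLimits (R := R)
  let k := U.ι ≫ e
  haveI : CompactSpace (U : Scheme.{u}) := isCompact_iff_compactSpace.1 hU
  haveI : QuasiCompact k := (quasiCompact_iff_compactSpace k).2 inferInstance
  haveI : QuasiSeparatedSpace (U : Scheme.{u}) := k.isOpenEmbedding.quasiSeparatedSpace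
  haveI := RpushQC.hasRpush k
  haveI := QRlim.enoughKInj (U : Scheme.{u})
  let ad := Cpt.restrictRpushAdj k
  obtain ⟨L, ⟨eL⟩⟩ := (TildeD.isQCohD_iff _).1 (RpushQC.isQCohD_Rpush k E hE)
  let N := DerivedCategory.Q.objPreimage L
  let F₀ := ((tilde.functor R).mapHomologicalComplex (ComplexShape.up ℤ)).obj N
  let Re := Scheme.Modules.restrictFunctor e
  refine ⟨(Re.mapHomologicalComplex (ComplexShape.up ℤ)).obj F₀, fun i => ?_, ⟨?_⟩⟩
  · haveI : Coh.IsQCoh (F₀.X i) := (TildeD.isQCoh_iff_essImage _).2 ⟨_, ⟨Iso.refl _⟩⟩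
    exact Scheme.Modules.isQuasicoherent_restrictFunctor e (F₀.X i)
  · exact (resQIso U _).symm ≪≫ (resD U).mapIso (Re.mapDerivedCategoryFactors.app F₀).symm ≪≫
      (resTransD e U.ι k rfl).app _ ≪≫ (DCoh.restrictD k).mapIso
        (((tilde.functor R).mapDerivedCategoryFactors.app N).symm ≪≫
          (DCoh.tildeD R).mapIso (DerivedCategory.Q.objObjPreimageIso L) ≪≫ eL) ≪≫ asIso (ad.counit.app E)

/-- Pseudo-coherent objects on a quasi-compact open of an affine scheme extend to finite free complexes. -/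
theorem exists_free_extension [IsAffine X] (U : X.Opens) (hU : IsCompact (U : Set X))
    (E : DCoh.D (U : Scheme.{u})) (hE : ∀ m : ℤ, DCoh.IsPseudoCoherentD m E) :
    ∃ (G : CochainComplex X.Modules ℤ) (b : ℤ), (∀ i : ℤ, b < i → IsZero (G.X i)) ∧
      (∀ i : ℤ, InFree (G.X i)) ∧ Nonempty (DerivedCategory.Q.obj ((DCoh.restrictCx U).obj G) ≅ E) := by
  haveI : CompactSpace (U : Scheme.{u}) := isCompact_iff_compactSpace.1 hU
  obtain ⟨F, hFq, ⟨e⟩⟩ := exists_qcoh_extension U hU E (PCQCoh.isQCohD_of_pc hE)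
  have hF : ∀ m, DCoh.IsPseudoCoherentD m (DCoh.toD _ ((DCoh.restrictCx U).obj F)) := fun m =>
    isPseudoCoherentD_of_iso e.symm (hE m)
  obtain ⟨N, hN⟩ := Groth.L29.DC.TildeAlg.exists_isZero (hF 0)
  let b := N - 1
  let S : ℕ → Type (u + 1) := fun k =>
    { p : Σ G : CochainComplex X.Modules ℤ, G ⟶ F // IsStage U p.2 b (b + 1 - (k : ℤ)) }
  have hstep : ∀ (k : ℕ) (s : S k), ∃ (s' : S (k + 1)) (j : s.1.1 ⟶ s'.1.1),
      j ≫ s'.1.2 = s.1.2 ∧ ∀ i, i ≠ b - k → IsIso (j.f i) := by
    rintro k ⟨⟨G, φ⟩, hs⟩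
    obtain ⟨G', φ', h', j, hj, hjiso⟩ := isStage_succ U hU hFq hF φ (by omega) hs
    rw [show b + 1 - (k : ℤ) - 1 = b + 1 - ((k + 1 : ℕ) : ℤ) by push_cast; ring] at h'
    exact ⟨⟨⟨G', φ'⟩, h'⟩, j, hj, fun i hi => hjiso i (by omega)⟩
  choose next j hj hjiso using hstep
  have hz0 : ∀ i, IsZero ((0 : CochainComplex X.Modules ℤ).X i) := fun i =>
    (HomologicalComplex.eval _ _ i).map_isZero (Limits.isZero_zero _)
  have h0 : IsStage U (0 : (0 : CochainComplex X.Modules ℤ) ⟶ F) b (b + 1 - ((0 : ℕ) : ℤ)) := by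
    refine ⟨fun i _ => hz0 i, fun i => inFree_of_isZero (hz0 i), fun i hi => ?_⟩
    let φ0 := (DCoh.restrictCx U).map (0 : (0 : CochainComplex X.Modules ℤ) ⟶ F)
    haveI : IsIso (DerivedCategory.Q.map (mappingCone.inr φ0)) := by
      have h := DerivedCategory.mappingCone_triangle_distinguished φ0
      exact (Triangle.isZero₁_iff_isIso₂ _ h).1 (DerivedCategory.Q.map_isZero
        ((DCoh.restrictCx U).map_isZero (Limits.isZero_zero _)))
    rw [HomologicalComplex.exactAt_iff_isZero_homology]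
    exact ((hN i (by omega)).of_iso ((DerivedCategory.homologyFunctor _ i).mapIso
      (asIso (DerivedCategory.Q.map (mappingCone.inr φ0))).symm)).of_iso (hdIso _ i).symm
  let st : ∀ k, S k := fun k => Nat.rec (motive := S) ⟨⟨0, 0⟩, h0⟩ next k
  let D : ℕ ⥤ CochainComplex X.Modules ℤ := Functor.ofSequence (X := fun k => (st k).1.1) fun k => j k (st k)
  let c : Cocone D :=
    { pt := F
      ι := NatTrans.ofSequence
        (fun k => (st k).1.2) fun k => by
          simp only [D, Functor.const_obj_map, Category.comp_id, Functor.ofSequence_map_homOfLE_succ]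
          exact hj k (st k) }
  let Ginf := colimit D
  have hev : ∀ (i : ℤ) (k₀ : ℕ), b - i < k₀ →
      (D ⋙ HomologicalComplex.eval _ _ i).IsEventuallyConstantFrom k₀ := by
    intro i k₀ hk₀ l f
    obtain ⟨d, rfl⟩ := Nat.exists_eq_add_of_le (leOfHom f)
    induction d with
    | zero =>
      rw [Subsingleton.elim f (𝟙 k₀)]
      infer_instance
    | succ d ih =>
      rw [Subsingleton.elim f (homOfLE (Nat.le_add_right k₀ d) ≫ homOfLE (Nat.le_succ (k₀ + d))), Functor.map_comp]
      haveI := ih (homOfLE (Nat.le_add_right k₀ d))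
      haveI : IsIso ((D ⋙ HomologicalComplex.eval _ _ i).map (homOfLE (Nat.le_succ (k₀ + d)))) := by
        show IsIso ((D.map (homOfLE (Nat.le_succ (k₀ + d)))).f i)
        simp only [D, Functor.ofSequence_map_homOfLE_succ]
        exact hjiso _ _ i (by push_cast; omega)
      exact IsIso.comp_isIso
  have hι : ∀ (i : ℤ) (k : ℕ), b - i < k → IsIso ((colimit.ι D k).f i) := fun i k hk =>
    (hev i k hk).isIso_ι_of_isColimit' (isColimitOfPreserves (HomologicalComplex.eval _ _ i) (colimit.isColimit D))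
      k (𝟙 k)
  let φ : Ginf ⟶ F := colimit.desc D c
  haveI : QuasiIso ((DCoh.restrictCx U).map φ) := ⟨fun i => by
    rw [quasiIsoAt_iff_isIso_homologyMap]
    obtain ⟨k, hk⟩ : ∃ k : ℕ, b + 2 - i ≤ (k : ℤ) := ⟨(b + 2 - i).toNat, by omega⟩
    have hR : ∀ q : ℤ, b - q < k → IsIso (((DCoh.restrictCx U).map (colimit.ι D k)).f q) := fun q hq =>
      haveI := hι q k hq
      inferInstanceAs (IsIso ((Scheme.Modules.restrictFunctor U.ι).map ((colimit.ι D k).f q)))
    haveI h1 := isIso_homologyMap_of_near ((DCoh.restrictCx U).map (colimit.ι D k)) i (hR _ (by omega))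
      (hR _ (by omega)) (hR _ (by omega))
    have hfac : colimit.ι D k ≫ φ = (st k).1.2 := (colimit.ι_desc c k).trans rfl
    have h2 := isIso_homologyMap_of_cone ((DCoh.restrictCx U).map (st k).1.2) i ((st k).2.2.2 _ (by omega))
      ((st k).2.2.2 _ (by omega))
    rw [← hfac, Functor.map_comp, HomologicalComplex.homologyMap_comp] at h2
    exact IsIso.of_isIso_comp_left (HomologicalComplex.homologyMap ((DCoh.restrictCx U).map (colimit.ι D k)) i) _⟩
  haveI : IsIso (DerivedCategory.Q.map ((DCoh.restrictCx U).map φ)) :=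
    (DerivedCategory.isIso_Q_map_iff_quasiIso _ _).2 inferInstance
  refine ⟨Ginf, b, fun i hi => ?_, fun i => ?_, ⟨asIso (DerivedCategory.Q.map ((DCoh.restrictCx U).map φ)) ≪≫ e⟩⟩
  · haveI := hι i 0 (by omega)
    exact ((st 0).2.1 i (Or.inr hi)).of_iso (asIso ((colimit.ι D 0).f i)).symm
  · haveI := hι i ((b - i).toNat + 1) (by omega)
    exact inFree_of_iso (asIso ((colimit.ι D ((b - i).toNat + 1)).f i)) ((st ((b - i).toNat + 1)).2.2.1 i)

end Groth.L19.ExtendFree
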