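import Groth.Agent.L19.ExtendFree
import Mathlib.Algebra.Homology.DerivedCategory.FullyFaithful

/-!
# Perfect objects on quasi-compact opens of affine schemes extend after adding a shifted bundle
-/

set_option autoImplicit false
set_option linter.style.haveILetI false
set_option backward.defeqAttrib.useBackward true
set_option backward.isDefEq.respectTransparency false

universe u

open CategoryTheory CategoryTheory.Limits AlgebraicGeometry CochainComplex
  CategoryTheory.Pretriangulated TopologicalSpace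

attribute [local instance] HasDerivedCategory.standard

noncomputable section

namespace Groth.L19.ExtendFree

open Groth.L29.DC Groth.Lead.ResProp
open scoped ZeroObject

variable {X : Scheme.{u}}

/-- The cone of a map which is an isomorphism above `r` and onto in degree `r` is acyclic from `r` on. -/
theorem exactAt_cone_of_approx {E F : CochainComplex X.Modules ℤ} (φ : E ⟶ F) (r : ℤ)
    (h : Approx (DerivedCategory.Q.map φ) r) (i : ℤ) (hi : r ≤ i) : (mappingCone φ).ExactAt i := by
  rw [HomologicalComplex.exactAt_iff_isZero_homology]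
  refine IsZero.of_iso ?_ (hdIso _ i).symm
  have hT := DerivedCategory.mappingCone_triangle_distinguished φ
  have h₁ : Epi ((DerivedCategory.homologyFunctor X.Modules i).map (DerivedCategory.Q.map φ)) := by
    rcases eq_or_lt_of_le hi with rfl | hlt
    · exact h.2
    · haveI := h.1 i hlt
      infer_instance
  have h₂ : Mono ((DerivedCategory.homologyFunctor X.Modules (i + 1)).map (DerivedCategory.Q.map φ)) := by
    haveI := h.1 (i + 1) (by omega)
    infer_instance
  exact (DerivedCategory.HomologySequence.exact₃ _ hT i (i + 1) rfl).isZero_of_both_zeros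
    ((DerivedCategory.HomologySequence.epi_homologyMap_mor₁_iff _ hT i).1 h₁)
    ((DerivedCategory.HomologySequence.mono_homologyMap_mor₁_iff _ hT i (i + 1) rfl).1 h₂)

theorem exists_split_extension [IsAffine X] (U : X.Opens) (hU : IsCompact (U : Set X))
    (E : DCoh.D (U : Scheme.{u})) (hE : DCoh.IsPerfect E) :
    ∃ (r : ℤ) (F : (U : Scheme.{u}).Modules) (G : CochainComplex X.Modules ℤ), FlatMod.IsFinLocFree F ∧
      DCoh.IsPerfect (DCoh.toD X G) ∧
      Nonempty (DerivedCategory.Q.obj ((DCoh.restrictCx U).obj G) ≅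
        (DCoh.inD (U : Scheme.{u}) F)⟦-r⟧ ⊞ E) := by
  haveI : CompactSpace (U : Scheme.{u}) := isCompact_iff_compactSpace.1 hU
  haveI : QuasiSeparatedSpace (U : Scheme.{u}) := U.ι.isOpenEmbedding.quasiSeparatedSpace
  obtain ⟨P, b, hb, hfree, ⟨e⟩⟩ := exists_free_extension U hU E (fun m => pc_of_perfect hE m)
  let PU := (DCoh.restrictCx U).obj P
  obtain ⟨a, -, hge, -⟩ := Groth.Lead.ResD.exists_cohBounds hE
  obtain ⟨a₀, -, -, hloc⟩ := Groth.Lead.ResProp.exists_bounds PU (isPerfect_of_iso e.symm hE)
  obtain ⟨c, hc⟩ := Cpt.exists_hom_zero hE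
  let r := min (min a₀ a) (c + 1)
  haveI : (DCoh.toD _ PU).IsGE r := (DerivedCategory.isGE_iff _ r).2 fun i hi =>
    ((DerivedCategory.isGE_iff E a).1 hge i (by omega)).of_iso ((DerivedCategory.homologyFunctor _ i).mapIso e)
  haveI : PU.IsGE r := (CochainComplex.isGE_iff PU r).2 fun i hi =>
    (HomologicalComplex.exactAt_iff_isZero_homology _ _).2
      (((DerivedCategory.isGE_iff (DCoh.toD _ PU) r).1 inferInstance i hi).of_iso (hdIso PU i).symm)
  haveI : IsIso (DerivedCategory.Q.map (PU.πTruncGE r)) :=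
    (DerivedCategory.isIso_Q_map_iff_quasiIso _ _).2 ((CochainComplex.quasiIso_πTruncGE_iff PU r).2 inferInstance)
  let G := brutal P r
  have hGz : ∀ i, i < r ∨ b < i → IsZero (G.X i) := fun i hi => by
    by_cases hir : i < r
    · exact isZero_brutal_X P r hir
    · haveI := isIso_brutalι P r (not_lt.1 hir)
      exact (hb i (by omega)).of_iso (asIso ((brutalι P r).f i))
  have hG : DCoh.IsStrictlyPerfect G := ⟨⟨r, b, hGz⟩, fun i => by
    by_cases hir : i < r
    · exact Groth.L29.LocFree.of_isZero (isZero_brutal_X P r hir)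
    · haveI := isIso_brutalι P r (not_lt.1 hir)
      exact Groth.L29.LocFree.of_iso (asIso ((brutalι P r).f i)).symm (isFinLocFree_of_inFree (hfree i))⟩
  let GU := (DCoh.restrictCx U).obj G
  have hGU : DCoh.IsStrictlyPerfect GU := isStrictlyPerfect_restrict U.ι hG
  let φ : GU ⟶ PU.truncGE r := (DCoh.restrictCx U).map (brutalι P r) ≫ PU.πTruncGE r
  have hA : Approx (DerivedCategory.Q.map φ) r := by
    rw [Functor.map_comp]
    refine Approx.comp ?_ (Approx.of_isIso _ _)
    refine approx_congr (resQIso U G) (resQIso U P) ?_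
      (Approx.map_exact (Scheme.Modules.restrictFunctor U.ι) (approx_brutalι P r))
    exact (Scheme.Modules.restrictFunctor U.ι).mapDerivedCategoryFactors.hom.naturality (brutalι P r)
  have hex : ∀ i, r ≤ i → (mappingCone φ).ExactAt i := exactAt_cone_of_approx φ r hA
  have hzF : ∀ i, i < r → IsZero ((PU.truncGE r).X i) := fun i hi =>
    CochainComplex.isZero_of_isStrictlyGE _ r i hi
  have hzG : ∀ i, i < r → IsZero (GU.X i) := fun i hi =>
    (Scheme.Modules.restrictFunctor U.ι).map_isZero (hGz i (Or.inl hi))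
  let eT : DCoh.toD _ (PU.truncGE r) ≅ E := (asIso (DerivedCategory.Q.map (PU.πTruncGE r))).symm ≪≫ e
  have hF : FlatMod.IsFinLocFree ((mappingCone φ).cycles (r - 1)) :=
    Groth.L19.AmpleRes.isFinLocFree_bottom φ hGU r hzG (fun i hi => hzF i (by omega)) hex fun x => by
      obtain ⟨V, Q, hx, hQ, hQz, ⟨eQ⟩⟩ := hloc r (by omega) x
      exact ⟨V, Q, hx, hQ, fun i hi => hQz i (by omega),
        ⟨(resD V).mapIso (asIso (DerivedCategory.Q.map (PU.πTruncGE r))).symm ≪≫ eQ⟩⟩
  have hzC : ∀ i, i < r - 1 → IsZero ((mappingCone φ).X i) := fun i hi =>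
    ((biprod_isZero_iff _ _).2 ⟨hzG (i + 1) (by omega), hzF i (by omega)⟩).of_iso
      (HomologicalComplex.homotopyCofiber.XIsoBiprod φ i (i + 1) rfl)
  let C := DCoh.toD _ (mappingCone φ)
  haveI : C.IsGE (r - 1) := (DerivedCategory.isGE_iff C _).2 fun i hi =>
    (ShortComplex.isZero_homology_of_isZero_X₂ ((mappingCone φ).sc i) (hzC i hi)).of_iso (hdIso _ i)
  haveI : C.IsLE (r - 1) := (DerivedCategory.isLE_iff C _).2 fun i hi =>
    ((HomologicalComplex.exactAt_iff_isZero_homology _ _).1 (hex i (by omega))).of_iso (hdIso _ i)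
  obtain ⟨Y, ⟨eY⟩⟩ := DerivedCategory.exists_iso_singleFunctor_obj_of_isGE_of_isLE C (r - 1)
  let eH : (mappingCone φ).cycles (r - 1) ≅ Y :=
    (mappingCone φ).isoHomologyπ (r - 1 - 1) (r - 1) (by simp) ((hzC _ (by omega)).eq_of_src _ _) ≪≫
      (hdIso _ (r - 1)).symm ≪≫ (DerivedCategory.homologyFunctor _ (r - 1)).mapIso eY ≪≫
      (DerivedCategory.singleFunctorCompHomologyFunctorIso _ (r - 1)).app Y
  have hY : FlatMod.IsFinLocFree Y := Groth.L29.LocFree.of_iso eH hF
  have hT := DerivedCategory.mappingCone_triangle_distinguished φ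
  let T := CategoryTheory.Pretriangulated.Triangle.mk (DerivedCategory.Q.map φ)
    (DerivedCategory.Q.map (mappingCone.inr φ))
    (DerivedCategory.Q.mapTriangle.obj (CochainComplex.mappingCone.triangle φ)).mor₃
  have hCq : DCoh.IsQCohD C := PCQCoh.isQCohD_of_perfect
    ((perfect_two_out_of_three hT).1 (Groth.L29.DC.PushPerfect.isPerfect_of_strictly hGU)
      (isPerfect_of_iso eT.symm hE))
  have hcle : C.IsLE c := (DerivedCategory.isLE_iff C c).2 fun i hi =>
    (DerivedCategory.isLE_iff C (r - 1)).1 inferInstance i (by omega)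
  have h2 : DerivedCategory.Q.map (mappingCone.inr φ) = 0 := by
    have := hc C hCq hcle (eT.inv ≫ DerivedCategory.Q.map (mappingCone.inr φ))
    rw [← cancel_epi eT.inv, this, comp_zero]
  have hT' : T.invRotate ∈ distTriang _ := inv_rot_of_distTriang _ hT
  obtain ⟨es, -, -⟩ := exists_iso_binaryBiproduct_of_distTriang _ hT' (by
    change DerivedCategory.Q.map (mappingCone.inr φ) ≫ _ = 0
    rw [h2, zero_comp])
  refine ⟨r, Y, G, hY, Groth.L29.DC.PushPerfect.isPerfect_of_strictly hG, ⟨es ≪≫ biprod.mapIso ?_ eT⟩⟩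
  exact (CategoryTheory.shiftFunctor _ (-1 : ℤ)).mapIso eY ≪≫
    ((DerivedCategory.singleFunctors (U : Scheme.{u}).Modules).shiftIso (-1) r (r - 1) (by omega)).app Y ≪≫
    (((DerivedCategory.singleFunctors (U : Scheme.{u}).Modules).shiftIso (-r) r 0 (by omega)).app Y).symm

end Groth.L19.ExtendFree
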