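import Groth.Agent.Lead.ResStep

/-!
One step of extending a complex over a given one, with exactness tested after an exact functor.
-/

set_option autoImplicit false
set_option linter.style.haveILetI false
set_option backward.defeqAttrib.useBackward true
set_option backward.isDefEq.respectTransparency false

universe v v' u u'

open CategoryTheory CategoryTheory.Limits CochainComplex CochainComplex.HomComplex

namespace Groth.L19.ExtendStep

variable {C : Type u} [Category.{v} C] [Abelian C]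

/-- adjoin a term in degree `n - 1`; the data of the construction -/
theorem exists_data {E F : CochainComplex C ℤ} (φ : E ⟶ F) (n : ℤ) (hE : ∀ i, i < n → IsZero (E.X i))
    {G : C} (s : G ⟶ (mappingCone φ).X (n - 1))
    (hs : s ≫ (mappingCone φ).d (n - 1) n = 0) :
    ∃ (E' : CochainComplex C ℤ) (φ' : E' ⟶ F), (∀ i, i < n - 1 → IsZero (E'.X i)) ∧
      (∀ i, i ≠ n - 1 → Nonempty (E'.X i ≅ E.X i)) ∧ Nonempty (E'.X (n - 1) ≅ G) ∧
      (∃ j : E ⟶ E', j ≫ φ' = φ ∧ ∀ i, i ≠ n - 1 → IsIso (j.f i)) ∧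
      ∃ (J : mappingCone φ ⟶ mappingCone φ') (w : G ⟶ (mappingCone φ').X (n - 2)),
        (∀ i, Mono (J.f i)) ∧ (∀ i, i ≠ n - 2 → IsIso (J.f i)) ∧
        w ≫ (mappingCone φ').d (n - 2) (n - 1) = -(s ≫ J.f (n - 1)) := by
  let u : G ⟶ E.X n := s ≫ (mappingCone.fst φ).1.v (n - 1) n (by omega)
  let v : G ⟶ F.X (n - 1) := s ≫ (mappingCone.snd φ).v (n - 1) (n - 1) (add_zero _)
  have hu : ∀ k, (ComplexShape.up ℤ).Rel n k → u ≫ E.d n k = 0 := fun k hk => by
    obtain rfl : n + 1 = k := hk
    have h := congrArg (s ≫ ·) (mappingCone.d_fst_v φ (n - 1) n (n + 1) (by omega) rfl)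
    simp only [reassoc_of% hs, zero_comp, Preadditive.neg_comp, Preadditive.comp_neg] at h
    simpa [u] using h.symm
  let ψ : (CochainComplex.singleFunctor C n).obj G ⟶ E := HomologicalComplex.mkHomFromSingle u hu
  have huv : u ≫ φ.f n + v ≫ F.d (n - 1) n = 0 := by
    have h := congrArg (s ≫ ·) (mappingCone.d_snd_v φ (n - 1) n (by omega))
    simp only [reassoc_of% hs, zero_comp, Preadditive.comp_add] at h
    simpa [u, v] using h.symm
  let α : Cochain ((CochainComplex.singleFunctor C n).obj G) F (-1) :=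
    Cochain.fromSingleMk (-v) (show n + (-1) = n - 1 by omega)
  have hα : δ (-1) 0 α = Cochain.ofHom (ψ ≫ φ) := by
    change δ (-1) 0 (Cochain.fromSingleMk (-v) _) = _
    rw [Cochain.δ_fromSingleMk (-v) (show n + (-1) = n - 1 by omega) 0 n (by omega)]
    apply Cochain.ext₀
    intro p
    rcases eq_or_ne p n with rfl | hp
    · rw [Cochain.fromSingleMk_v, Cochain.ofHom_v, HomologicalComplex.comp_f]
      change _ = (HomologicalComplex.mkHomFromSingle u hu).f p ≫ φ.f p
      rw [HomologicalComplex.mkHomFromSingle_f, Category.assoc, Preadditive.neg_comp]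
      exact congrArg (_ ≫ ·) (neg_eq_of_add_eq_zero_left huv)
    · rw [Cochain.fromSingleMk_v_eq_zero _ _ _ _ _ hp]
      exact ((HomologicalComplex.isZero_single_obj_X (ComplexShape.up ℤ) n G p hp).eq_of_src _ _)
  let E' := mappingCone ψ
  let φ' : E' ⟶ F := mappingCone.desc ψ α φ hα
  have hjc : φ ≫ 𝟙 F = mappingCone.inr ψ ≫ φ' := by
    rw [Category.comp_id]
    ext i : 1
    simp [φ']
  let J : mappingCone φ ⟶ mappingCone φ' := mappingCone.map φ φ' (mappingCone.inr ψ) (𝟙 F) hjc
  have hz : ∀ i, i ≠ n - 1 → IsZero (((CochainComplex.singleFunctor C n).obj G).X (i + 1)) := fun i hi =>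
    HomologicalComplex.isZero_single_obj_X (ComplexShape.up ℤ) n G (i + 1) (by omega)
  -- the inclusion is an isomorphism away from `n - 1`
  have hinr : ∀ i, i ≠ n - 1 → IsIso ((mappingCone.inr ψ).f i) := fun i hi => by
    refine ⟨(mappingCone.snd ψ).v i i (add_zero i), by simp, ?_⟩
    have h := mappingCone.id_X ψ i (i + 1) rfl
    rwa [(hz i hi).eq_of_tgt ((mappingCone.fst ψ).1.v i (i + 1) rfl) 0, zero_comp, zero_add] at h
  have hJinl : ∀ i j (hij : j + (-1) = i), (mappingCone.inl φ).v j i hij ≫ J.f i =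
      (mappingCone.inr ψ).f j ≫ (mappingCone.inl φ').v j i hij := fun i j hij => by
    simp [J, mappingCone.map]
  have hJinr : ∀ i, (mappingCone.inr φ).f i ≫ J.f i = (mappingCone.inr φ').f i := fun i => by
    simp [J, mappingCone.map]
  have hJfst : ∀ i j (hij : i + 1 = j), J.f i ≫ (mappingCone.fst φ').1.v i j hij =
      (mappingCone.fst φ).1.v i j hij ≫ (mappingCone.inr ψ).f j := fun i j hij => by
    refine mappingCone.ext_from φ j i hij ?_ ?_
    · simp [reassoc_of% hJinl, E']
    · simp [reassoc_of% hJinr, E']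
  have hJsnd : ∀ i, J.f i ≫ (mappingCone.snd φ').v i i (add_zero i) = (mappingCone.snd φ).v i i (add_zero i) :=
    fun i => by
      refine mappingCone.ext_from φ (i + 1) i rfl ?_ ?_
      · simp [reassoc_of% hJinl, E']
      · simp [reassoc_of% hJinr, E']
  have hJmono : ∀ i, Mono (J.f i) := fun i => by
    refine Preadditive.mono_of_cancel_zero _ fun {T} g hg => ?_
    refine mappingCone.ext_to φ i (i + 1) rfl ?_ ?_
    · have h := congrArg (· ≫ (mappingCone.fst φ').1.v i (i + 1) rfl) hg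
      simp only [Category.assoc, hJfst, zero_comp] at h
      have h2 := congrArg (· ≫ (mappingCone.snd ψ).v (i + 1) (i + 1) (add_zero _)) h
      simpa using h2
    · have h := congrArg (· ≫ (mappingCone.snd φ').v i i (add_zero i)) hg
      simpa [Category.assoc, hJsnd] using h
  have hJepi : ∀ i, i ≠ n - 2 → IsIso (J.f i) := fun i hi => by
    haveI := hinr (i + 1) (by omega)
    haveI := hJmono i
    haveI : Epi (J.f i) := by
      refine Preadditive.epi_of_cancel_zero _ fun {T} g hg => ?_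
      refine mappingCone.ext_from φ' (i + 1) i rfl ?_ ?_
      · have h := congrArg ((mappingCone.inl φ).v (i + 1) i (by omega) ≫ ·) hg
        simp only [reassoc_of% hJinl, comp_zero] at h
        rw [comp_zero]
        exact (cancel_epi ((mappingCone.inr ψ).f (i + 1))).1 (h.trans comp_zero.symm)
      · have h := congrArg ((mappingCone.inr φ).f i ≫ ·) hg
        simpa [reassoc_of% hJinr] using h
    exact isIso_of_mono_of_epi _
  let w : G ⟶ (mappingCone φ').X (n - 2) := (HomologicalComplex.singleObjXSelf (ComplexShape.up ℤ) n G).inv ≫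
    (mappingCone.inl ψ).v n (n - 1) (by omega) ≫ (mappingCone.inl φ').v (n - 1) (n - 2) (by omega)
  have hu' : (HomologicalComplex.singleObjXSelf (ComplexShape.up ℤ) n G).inv ≫ ψ.f n = u := by
    change _ ≫ (HomologicalComplex.mkHomFromSingle u hu).f n = u
    rw [HomologicalComplex.mkHomFromSingle_f, Iso.inv_hom_id_assoc]
  have hv' : (HomologicalComplex.singleObjXSelf (ComplexShape.up ℤ) n G).inv ≫
      (mappingCone.inl ψ).v n (n - 1) (by omega) ≫ φ'.f (n - 1) = -v := by
    simp [φ', α]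
  have hsJ : s ≫ J.f (n - 1) = u ≫ (mappingCone.inr ψ).f n ≫ (mappingCone.inl φ').v n (n - 1) (by omega) +
      v ≫ (mappingCone.inr φ').f (n - 1) := by
    have h := congrArg (fun t => s ≫ t ≫ J.f (n - 1)) (mappingCone.id_X φ (n - 1) n (by omega))
    simp only [Category.id_comp, Preadditive.add_comp, Preadditive.comp_add, Category.assoc, hJinl, hJinr] at h
    simpa [u, v] using h.symm
  have hwd : w ≫ (mappingCone φ').d (n - 2) (n - 1) = -(s ≫ J.f (n - 1)) := by
    have hd : (HomologicalComplex.singleObjXSelf (ComplexShape.up ℤ) n G).inv ≫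
        (mappingCone.inl ψ).v n (n - 1) (by omega) ≫ E'.d (n - 1) n = u ≫ (mappingCone.inr ψ).f n := by
      change _ ≫ _ ≫ (mappingCone ψ).d (n - 1) n = _
      rw [mappingCone.inl_v_d ψ n (n - 1) (n + 1) (by omega) (by omega)]
      simp [reassoc_of% hu']
    simp only [w, Category.assoc]
    rw [mappingCone.inl_v_d φ' (n - 1) (n - 2) n (by omega) (by omega), hsJ]
    simp only [Preadditive.comp_sub, reassoc_of% hv', reassoc_of% hd, Preadditive.neg_comp]
    abel
  refine ⟨E', φ', fun i hi => ?_, fun i hi => ?_, ?_, ⟨mappingCone.inr ψ, by simpa using hjc.symm, hinr⟩, J, w, hJmono, hJepi, hwd⟩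
  · exact ((biprod_isZero_iff _ _).2 ⟨hz i (by omega), hE i (by omega)⟩).of_iso
      (HomologicalComplex.homotopyCofiber.XIsoBiprod ψ i (i + 1) rfl)
  · haveI := hinr i hi
    exact ⟨(asIso ((mappingCone.inr ψ).f i)).symm⟩
  · refine ⟨{ hom := (mappingCone.fst ψ).1.v (n - 1) n (by omega) ≫
        (HomologicalComplex.singleObjXSelf (ComplexShape.up ℤ) n G).hom
              inv := (HomologicalComplex.singleObjXSelf (ComplexShape.up ℤ) n G).inv ≫
        (mappingCone.inl ψ).v n (n - 1) (by omega)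
              hom_inv_id := ?_, inv_hom_id := by simp }⟩
    simp only [Category.assoc, Iso.hom_inv_id_assoc]
    have h := mappingCone.id_X ψ (n - 1) n (by omega)
    rwa [(hE (n - 1) (by omega)).eq_of_tgt ((mappingCone.snd ψ).v (n - 1) (n - 1) (add_zero _)) 0, zero_comp,
      add_zero] at h

variable {C' : Type u'} [Category.{v'} C'] [Abelian C']

/-- exactness from `n - 1` on of the enlarged cone -/
theorem exactAt_of_data {M M' : CochainComplex C' ℤ} (n : ℤ) (J : M ⟶ M') (hJmono : ∀ i, Mono (J.f i))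
    (hJepi : ∀ i, i ≠ n - 2 → IsIso (J.f i)) {G : C'} (s : G ⟶ M.X (n - 1)) (w : G ⟶ M'.X (n - 2))
    (hwd : w ≫ M'.d (n - 2) (n - 1) = -(s ≫ J.f (n - 1)))
    (hex : ∀ i, n ≤ i → M.ExactAt i)
    (hsurj : ∀ ⦃T : C'⦄ (z : T ⟶ M.X (n - 1)), z ≫ M.d (n - 1) n = 0 →
      ∃ (T' : C') (π : T' ⟶ T) (_ : Epi π) (a : T' ⟶ G) (y : T' ⟶ M.X (n - 2)),
        π ≫ z = a ≫ s + y ≫ M.d (n - 2) (n - 1)) :
    ∀ i, n - 1 ≤ i → M'.ExactAt i := by
  intro i hi
  rw [HomologicalComplex.exactAt_iff_exact_up_to_refinements _ (i - 1) i (i + 1) (by simp) (by simp)]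
  intro T x hx
  haveI := hJepi i (by omega)
  haveI := hJmono (i + 1)
  have hx0 : (x ≫ inv (J.f i)) ≫ M.d i (i + 1) = 0 := by
    rw [← cancel_mono (J.f (i + 1)), Category.assoc, Category.assoc, ← J.comm, IsIso.inv_hom_id_assoc, hx,
      zero_comp]
  rcases eq_or_lt_of_le hi with hi' | hi'
  · subst hi'
    obtain ⟨T', π, hπ, a, y, h⟩ := hsurj (x ≫ inv (J.f (n - 1))) (by
      exact (show ∀ j, n - 1 + 1 = j → (x ≫ inv (J.f (n - 1))) ≫ M.d (n - 1) j = 0 by
        rintro j rfl; exact hx0) n (by omega))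
    obtain ⟨k, hk⟩ : ∃ k, k = n - 1 - 1 := ⟨_, rfl⟩
    rw [← hk]
    obtain rfl : k = n - 2 := by omega
    refine ⟨T', π, hπ, y ≫ J.f (n - 2) - a ≫ w, ?_⟩
    have h2 := congrArg (· ≫ J.f (n - 1)) h
    simp only [Category.assoc, IsIso.inv_hom_id, Category.comp_id, Preadditive.add_comp] at h2
    rw [Preadditive.sub_comp, Category.assoc, Category.assoc, hwd, J.comm, h2, Preadditive.comp_neg]
    abel
  · obtain ⟨T', π, hπ, y, h⟩ := (M.exactAt_iff_exact_up_to_refinements (i - 1) i (i + 1)
      (by simp) (by simp)).1 (hex i (by omega)) _ hx0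
    refine ⟨T', π, hπ, y ≫ J.f (i - 1), ?_⟩
    have h2 := congrArg (· ≫ J.f i) h
    simp only [Category.assoc, IsIso.inv_hom_id, Category.comp_id] at h2
    rw [h2, Category.assoc, J.comm]

end Groth.L19.ExtendStep
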