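import Mathlib.Algebra.Category.Ring.FilteredColimits
import Mathlib.Algebra.Category.Ring.Colimits
import Mathlib.RingTheory.FinitePresentation
import Mathlib.CategoryTheory.Limits.Types.Filtered
import Mathlib.CategoryTheory.Limits.Preserves.Basic
import Mathlib.RingTheory.Ideal.Quotient.Operations
import Mathlib.Data.Finset.Lattice.Basic
import Mathlib.CategoryTheory.Category.Preorder

/-!
# Algebras through which the identity factors along every directed system are finitely presented
-/

set_option autoImplicit false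
set_option backward.isDefEq.respectTransparency.types false
set_option backward.isDefEq.respectTransparency false
set_option linter.style.haveILetI false
universe u

open CategoryTheory Limits

namespace Groth.L19.FPColimit

/-- A criterion for a cocone on a directed system of rings to be a colimit. -/
theorem nonempty_isColimit {J : Type u} [Preorder J] [IsDirected J (· ≤ ·)] [Nonempty J]
    {F : J ⥤ CommRingCat.{u}} (c : Cocone F)
    (hsurj : ∀ b : c.pt, ∃ j x, c.ι.app j x = b)
    (hinj : ∀ (j : J) (x y : F.obj j), c.ι.app j x = c.ι.app j y →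
      ∃ (k : J) (g : j ⟶ k), F.map g x = F.map g y) : Nonempty (IsColimit c) := by
  have : ReflectsColimitsOfShape J (forget CommRingCat.{u}) :=
    reflectsColimitsOfShape_of_reflectsIsomorphisms
  refine ⟨isColimitOfReflects (forget CommRingCat.{u}) (Types.FilteredColimit.isColimitOf _ _ ?_ ?_)⟩
  · intro b
    obtain ⟨j, x, hx⟩ := hsurj b
    exact ⟨j, x, hx.symm⟩
  · intro i j xi xj h
    obtain ⟨k, hik, hjk⟩ := directed_of (α := J) (· ≤ ·) i j
    obtain ⟨l, g, hg⟩ := hinj k (F.map (homOfLE hik) xi) (F.map (homOfLE hjk) xj) (by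
      rw [← CommRingCat.comp_apply, ← CommRingCat.comp_apply, c.w, c.w]
      exact h)
    exact ⟨l, homOfLE hik ≫ g, homOfLE hjk ≫ g, by
      show F.map _ xi = F.map _ xj
      rw [Functor.map_comp, Functor.map_comp, CommRingCat.comp_apply, CommRingCat.comp_apply]
      exact hg⟩

/-- The ideal spanned by a finite set of relations. -/
def relSpan {P : Type u} [CommRing P] {I : Ideal P} (t : Finset I) : Ideal P :=
  Ideal.span ((fun r : I => (r : P)) '' (t : Set I))

theorem relSpan_mono {P : Type u} [CommRing P] {I : Ideal P} {s t : Finset I} (h : s ≤ t) :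
    relSpan s ≤ relSpan t :=
  Ideal.span_mono (Set.image_mono (Finset.coe_subset.mpr h))

theorem relSpan_le {P : Type u} [CommRing P] {I : Ideal P} (t : Finset I) : relSpan t ≤ I :=
  Ideal.span_le.mpr (by rintro _ ⟨r, -, rfl⟩; exact r.2)

/-- The system of quotients by finitely many of the relations. -/
noncomputable def relSys {P : Type u} [CommRing P] (I : Ideal P) : Finset I ⥤ CommRingCat.{u} where
  obj t := CommRingCat.of (P ⧸ relSpan t)
  map g := CommRingCat.ofHom (Ideal.Quotient.factor (relSpan_mono (leOfHom g)))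
  map_id t := CommRingCat.hom_ext (Ideal.Quotient.ringHom_ext (RingHom.ext fun _ => rfl))
  map_comp _ _ := CommRingCat.hom_ext (Ideal.Quotient.ringHom_ext (RingHom.ext fun _ => rfl))

/-- The structure maps of the system of quotients. -/
noncomputable def relBase {A : CommRingCat.{u}} {P : Type u} [CommRing P] (φ : A →+* P) (I : Ideal P) :
    (Functor.const (Finset I)).obj A ⟶ relSys I where
  app t := CommRingCat.ofHom ((Ideal.Quotient.mk (relSpan t)).comp φ)
  naturality _ _ _ := CommRingCat.hom_ext (RingHom.ext fun _ => rfl)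

/-- The projection of the system of quotients. -/
noncomputable def relProj {B : CommRingCat.{u}} {P : Type u} [CommRing P] {I : Ideal P} (π : P →+* B)
    (h : I ≤ RingHom.ker π) : relSys I ⟶ (Functor.const (Finset I)).obj B where
  app t := CommRingCat.ofHom (Ideal.Quotient.lift (relSpan t) π fun r hr => h (relSpan_le t hr))
  naturality _ _ _ := CommRingCat.hom_ext (Ideal.Quotient.ringHom_ext (RingHom.ext fun _ => rfl))

theorem nonempty_isColimit_relProj {B : CommRingCat.{u}} {P : Type u} [CommRing P] (π : P →+* B)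
    (hπ : Function.Surjective π) :
    Nonempty (IsColimit (Cocone.mk B (relProj (I := RingHom.ker π) π le_rfl))) := by
  classical
  refine nonempty_isColimit _ (fun b => ?_) (fun t x y h => ?_)
  · obtain ⟨p, rfl⟩ := hπ b
    exact ⟨∅, Ideal.Quotient.mk _ p, rfl⟩
  · obtain ⟨p, rfl⟩ := Ideal.Quotient.mk_surjective (I := relSpan t) x
    obtain ⟨q, rfl⟩ := Ideal.Quotient.mk_surjective (I := relSpan t) y
    have h' : π p = π q := h
    have hpq : p - q ∈ RingHom.ker π := by rw [RingHom.mem_ker, map_sub, h', sub_self]
    refine ⟨insert ⟨p - q, hpq⟩ t, homOfLE (Finset.subset_insert _ _), ?_⟩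
    exact Ideal.Quotient.eq.mpr
      (Ideal.subset_span ⟨⟨p - q, hpq⟩, Finset.mem_coe.mpr (Finset.mem_insert_self _ _), rfl⟩)

section
variable {A B : CommRingCat.{u}} (f : A ⟶ B)
    (H : ∀ (J : Type u) [Preorder J] [IsDirected J (· ≤ ·)] [Nonempty J] (F : J ⥤ CommRingCat.{u})
      (a : (Functor.const J).obj A ⟶ F) (ι : F ⟶ (Functor.const J).obj B),
      Nonempty (IsColimit (Cocone.mk B ι)) → (∀ j, a.app j ≫ ι.app j = f) →
      ∃ (j : J) (σ : B ⟶ F.obj j), f ≫ σ = a.app j ∧ σ ≫ ι.app j = 𝟙 B)
include H

theorem finiteType_of_factor :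
    letI := f.hom.toAlgebra
    Algebra.FiniteType A B := by
  classical
  letI := f.hom.toAlgebra
  let S : Finset B → Subalgebra A B := fun s => Algebra.adjoin A (s : Set B)
  have hS : Monotone S := fun s t h => Algebra.adjoin_mono (Finset.coe_subset.mpr h)
  let F : Finset B ⥤ CommRingCat.{u} :=
    { obj := fun s => CommRingCat.of (S s)
      map := fun g => CommRingCat.ofHom (Subalgebra.inclusion (hS (leOfHom g))).toRingHom
      map_id := fun _ => rfl
      map_comp := fun _ _ => rfl }
  let a : (Functor.const (Finset B)).obj A ⟶ F :=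
    { app := fun s => CommRingCat.ofHom (algebraMap A (S s))
      naturality := fun _ _ _ => rfl }
  let ι : F ⟶ (Functor.const (Finset B)).obj B :=
    { app := fun s => CommRingCat.ofHom (S s).val.toRingHom
      naturality := fun _ _ _ => rfl }
  obtain ⟨j, σ, -, hσ⟩ := H (Finset B) F a ι (nonempty_isColimit _
    (fun b => ⟨{b}, ⟨b, Algebra.subset_adjoin (by simp)⟩, rfl⟩)
    (fun s x y h => ⟨s, 𝟙 s, congrArg (F.map (𝟙 s)) (Subtype.ext h : x = y)⟩)) (fun _ => rfl)
  refine ⟨⟨j, eq_top_iff.mpr fun b _ => ?_⟩⟩
  have := congrArg (fun φ : B ⟶ B => φ b) hσ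
  exact (show (σ b).1 = b from this) ▸ (σ b).2

omit H in
theorem fg_span_stage {P : Type u} [CommRing P] {I : Ideal P} (t : Finset I) : (relSpan t).FG :=
  Submodule.fg_span (t.finite_toSet.image _)

theorem exists_section {P : Type u} [CommRing P] :
    letI := f.hom.toAlgebra
    ∀ [Algebra A P] (π : P →ₐ[A] B), Function.Surjective π →
    ∃ (J : Ideal P) (hJ : ∀ r ∈ J, π r = 0) (_ : J.FG) (σ : B →ₐ[A] P ⧸ J),
      ∀ b, Ideal.Quotient.liftₐ J π hJ (σ b) = b := by
  classical
  letI := f.hom.toAlgebra
  intro _ π hπ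
  obtain ⟨t, σ, hσf, hσ⟩ := H (Finset (RingHom.ker π.toRingHom)) (relSys (RingHom.ker π.toRingHom))
    (relBase (algebraMap A P) (RingHom.ker π.toRingHom)) (relProj (I := RingHom.ker π.toRingHom) π.toRingHom le_rfl)
    (nonempty_isColimit_relProj π.toRingHom hπ)
    (fun t => CommRingCat.hom_ext (RingHom.ext fun x => by
      rw [CommRingCat.comp_apply]
      exact π.commutes x))
  have hJ : ∀ r ∈ relSpan t, π r = 0 := fun r hr => relSpan_le t hr
  have hσ1 : ∀ x : A, σ (f x) = Ideal.Quotient.mk (relSpan t) (algebraMap A P x) := fun x => by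
    rw [← CommRingCat.comp_apply, hσf]; rfl
  refine ⟨relSpan t, hJ, fg_span_stage t, { σ.hom with commutes' := hσ1 }, fun b => ?_⟩
  have := congrArg (fun φ : B ⟶ B => φ b) hσ
  exact this

omit H in
theorem finitePresentation_of_retract {R S C : Type u} [CommRing R] [CommRing S] [CommRing C]
    [Algebra R S] [Algebra R C] [Algebra.FinitePresentation R C] (q : C →ₐ[R] S) (σ : S →ₐ[R] C)
    (hqσ : ∀ b, q (σ b) = b) : Algebra.FinitePresentation R S := by
  classical
  obtain ⟨n, m, hm⟩ := Algebra.FiniteType.iff_quotient_mvPolynomial''.mp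
    (inferInstance : Algebra.FiniteType R C)
  let M : Ideal C := Ideal.span (Set.range fun i => m (MvPolynomial.X i) - σ (q (m (MvPolynomial.X i))))
  have hM : RingHom.ker q.toRingHom = M := by
    refine le_antisymm (fun y hy => ?_) (Ideal.span_le.mpr ?_)
    · have e : (Ideal.Quotient.mkₐ R M).comp m = (((Ideal.Quotient.mkₐ R M).comp σ).comp q).comp m :=
        MvPolynomial.algHom_ext fun i => Ideal.Quotient.eq.mpr (Ideal.subset_span ⟨i, rfl⟩)
      obtain ⟨z, rfl⟩ := hm y
      have h0 : Ideal.Quotient.mkₐ R M (m z) = 0 := by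
        rw [← AlgHom.comp_apply, e]
        simp only [AlgHom.comp_apply]
        rw [show q (m z) = 0 from hy, map_zero, map_zero]
      exact Ideal.Quotient.eq_zero_iff_mem.mp h0
    · rintro _ ⟨i, rfl⟩
      show q (_ - _) = 0
      rw [map_sub, hqσ, sub_self]
  exact Algebra.FinitePresentation.of_surjective (f := q) (fun b => ⟨σ b, hqσ b⟩)
    (hM ▸ Submodule.fg_span (Set.finite_range _))

theorem finitePresentation_of_presentation
    (hft : letI := f.hom.toAlgebra; Algebra.FiniteType A B) :
    letI := f.hom.toAlgebra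
    Algebra.FinitePresentation A B := by
  letI := f.hom.toAlgebra
  obtain ⟨n, π, hπ⟩ := Algebra.FiniteType.iff_quotient_mvPolynomial''.mp hft
  obtain ⟨J, hJ, hJfg, σ, hσ⟩ := exists_section f H π hπ
  have : Algebra.FinitePresentation A (MvPolynomial (Fin n) A ⧸ J) :=
    Algebra.FinitePresentation.quotient hJfg
  exact finitePresentation_of_retract (Ideal.Quotient.liftₐ J π hJ) σ hσ

/-- If the identity of `B` factors through some stage of every directed system of `A`-algebras with
colimit `B`, then `B` is of finite presentation over `A`. -/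
theorem finitePresentation_of_factor : f.hom.FinitePresentation :=
  finitePresentation_of_presentation f H (finiteType_of_factor f H)

end

end Groth.L19.FPColimit
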