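import Groth.Agent.L17.FlatPair.Flat
import Groth.Agent.L18.FiberStalk
import Groth.Agent.L00.PullStalk
import Mathlib.RingTheory.Flat.FaithfullyFlat.Algebra
import Mathlib.RingTheory.Ideal.Quotient.Operations
import Mathlib.AlgebraicGeometry.Morphisms.Flat

/-!
# Modules faithfully flat relative to a base
-/

set_option autoImplicit false
set_option linter.style.haveILetI false
set_option backward.isDefEq.respectTransparency false
set_option backward.isDefEq.respectTransparency.types false

universe u

open CategoryTheory CategoryTheory.Limits AlgebraicGeometry TensorProduct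

noncomputable section

namespace Groth.L19.FaithOver

section Algebra

variable {A B C : Type u} [CommRing A] [CommRing B] [CommRing C] [Algebra A B]
  (M : Type u) [AddCommGroup M] [Module B M] [Module A M] [IsScalarTower A B M]

/-- `J • M = M` for the extended ideal. -/
theorem map_smul_top_eq_top_iff (I : Ideal A) :
    (I.map (algebraMap A B)) • (⊤ : Submodule B M) = ⊤ ↔ I • (⊤ : Submodule A M) = ⊤ := by
  constructor
  · intro h
    rw [eq_top_iff]
    intro m _
    have hm : m ∈ (I.map (algebraMap A B)) • (⊤ : Submodule B M) := h.ge Submodule.mem_top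
    refine Submodule.smul_induction_on hm (fun b hb n _ => ?_) fun x y hx hy => add_mem hx hy
    induction hb using Submodule.span_induction generalizing n with
    | mem x hx =>
      obtain ⟨a, ha, rfl⟩ := hx
      rw [algebraMap_smul]
      exact Submodule.smul_mem_smul ha Submodule.mem_top
    | zero => rw [zero_smul]; exact zero_mem _
    | add x y _ _ hx hy => rw [add_smul]; exact add_mem (hx n Submodule.mem_top) (hy n Submodule.mem_top)
    | smul c x _ hx =>
      rw [smul_eq_mul, mul_comm, mul_smul]
      exact hx _ Submodule.mem_top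
  · intro h
    rw [eq_top_iff]
    intro m _
    have hm : m ∈ I • (⊤ : Submodule A M) := h.ge Submodule.mem_top
    refine Submodule.smul_induction_on hm (fun a ha n _ => ?_) fun x y hx hy => add_mem hx hy
    rw [← algebraMap_smul B a n]
    exact Submodule.smul_mem_smul (Ideal.mem_map_of_mem _ ha) Submodule.mem_top

variable [Algebra B C]

theorem subsingleton_tensor_iff (hs : Function.Surjective (algebraMap B C)) (I : Ideal A)
    (hk : RingHom.ker (algebraMap B C) = I.map (algebraMap A B)) :
    Subsingleton (C ⊗[B] M) ↔ I • (⊤ : Submodule A M) = ⊤ := by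
  rw [← map_smul_top_eq_top_iff (B := B) M I, ← hk]
  let e : (B ⧸ RingHom.ker (algebraMap B C)) ≃ₗ[B] C :=
    (Ideal.quotientKerAlgEquivOfSurjective (f := Algebra.ofId B C) hs).toLinearEquiv
  rw [((TensorProduct.congr e (LinearEquiv.refl B M)).symm.trans
      (TensorProduct.quotTensorEquivQuotSMul M (RingHom.ker (algebraMap B C)))).toEquiv.subsingleton_congr,
    Submodule.Quotient.subsingleton_iff]

/-- Flatness of an algebra is detected by a faithfully flat module. -/
theorem flat_of_module [Module.Flat A M] [Module.FaithfullyFlat B M] : Module.Flat A B := by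
  rw [Module.Flat.iff_rTensor_preserves_injective_linearMap]
  intro N N' _ _ _ _ f hf
  let g : B ⊗[A] N →ₗ[B] B ⊗[A] N' := f.baseChange B
  have hgM : Function.Injective (g.lTensor M) := by
    let eN := TensorProduct.AlgebraTensorModule.cancelBaseChange A B B M N
    let eN' := TensorProduct.AlgebraTensorModule.cancelBaseChange A B B M N'
    have hc : ∀ w, f.lTensor M (eN w) = eN' (g.lTensor M w) := by
      intro w
      induction w using TensorProduct.induction_on with
      | zero => simp
      | tmul x y =>
        induction y using TensorProduct.induction_on with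
        | zero => simp
        | tmul s m => simp [eN, eN', g]
        | add x y hx hy => simp only [TensorProduct.tmul_add, map_add, hx, hy]
      | add x y hx hy => simp only [map_add, hx, hy]
    intro a b hab
    apply eN.injective
    apply Module.Flat.lTensor_preserves_injective_linearMap (M := M) f hf
    rw [hc, hc, hab]
  have hg : Function.Injective g := by
    rw [← LinearMap.ker_eq_bot, ← Submodule.subsingleton_iff_eq_bot]
    haveI : Subsingleton (M ⊗[B] LinearMap.ker g) := by
      refine subsingleton_of_forall_eq 0 fun w => ?_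
      apply Module.Flat.lTensor_preserves_injective_linearMap (M := M) (LinearMap.ker g).subtype
        (Submodule.injective_subtype _)
      apply hgM
      rw [map_zero, map_zero, ← LinearMap.lTensor_comp_apply, LinearMap.comp_ker_subtype, LinearMap.lTensor_zero,
        LinearMap.zero_apply]
    exact Module.FaithfullyFlat.lTensor_reflects_triviality B M _
  intro a b hab
  apply (TensorProduct.comm A N B).injective
  apply hg
  have hcomm : ∀ w, g (TensorProduct.comm A N B w) = TensorProduct.comm A N' B (f.rTensor B w) := by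
    intro w
    induction w using TensorProduct.induction_on with
    | zero => simp
    | tmul x y => simp [g]
    | add x y hx hy => simp only [map_add, hx, hy]
  rw [hcomm, hcomm, hab]

end Algebra

variable {X Y Z : Scheme.{u}}

/-- `F_x ⊗ κ(f x) ≠ 0`. -/
def FaithAt (f : X ⟶ Y) (F : X.Modules) (x : X) : Prop :=
  letI := FlatMod.moduleStalkOver f F x
  IsLocalRing.maximalIdeal (Y.presheaf.stalk (f x)) •
    (⊤ : Submodule (Y.presheaf.stalk (f x)) (F.presheaf.stalk x)) ≠ ⊤

/-- The criterion through the fibre. -/
theorem faithAt_iff (f : X ⟶ Y) (F : X.Modules) (s : Y) (y : f.fiber s) :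
    FaithAt f F (f.fiberι s y) ↔
      ¬ Subsingleton ((Groth.L00.Stk.F _ y).obj ((Scheme.Modules.pullback (f.fiberι s)).obj F)) := by
  obtain ⟨h1, h2⟩ := Groth.L18.stalkMap_fiberι f s y
  refine Iff.trans ?_ (not_congr
    ((Groth.L00.PullStalk.stalkIso (f.fiberι s) y).app F).toLinearEquiv.toEquiv.subsingleton_congr).symm
  let x := f.fiberι s y
  let M := (Groth.L00.Stk.F X x).obj F
  letI := (f.stalkMap x).hom.toAlgebra
  letI : Module (Y.presheaf.stalk (f x)) M := Module.compHom M (f.stalkMap x).hom
  haveI : IsScalarTower (Y.presheaf.stalk (f x)) (X.presheaf.stalk x) M :=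
    IsScalarTower.of_algebraMap_smul fun _ _ => rfl
  letI : Algebra (X.presheaf.stalk x) ((f.fiber s).presheaf.stalk y) := ((f.fiberι s).stalkMap y).hom.toAlgebra
  exact (subsingleton_tensor_iff (C := (f.fiber s).presheaf.stalk y) M h1
    (IsLocalRing.maximalIdeal (Y.presheaf.stalk (f x))) h2).symm.not

/-- Nonzero stalks stay nonzero along flat morphisms. -/
theorem not_subsingleton_pullback (π : X ⟶ Z) [Flat π] (N : Z.Modules) (x : X)
    (h : ¬ Subsingleton ((Groth.L00.Stk.F Z (π x)).obj N)) :
    ¬ Subsingleton ((Groth.L00.Stk.F X x).obj ((Scheme.Modules.pullback π).obj N)) := by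
  intro hsub0
  have hsub := ((Groth.L00.PullStalk.stalkIso π x).app N).toLinearEquiv.toEquiv.subsingleton_congr.mp hsub0
  letI := (Groth.L00.PullStalk.φ π x).toAlgebra
  have hfl : Module.Flat (Z.presheaf.stalk (π x)) (X.presheaf.stalk x) := Flat.stalkMap π x
  haveI : IsLocalHom (algebraMap (Z.presheaf.stalk (π x)) (X.presheaf.stalk x)) :=
    inferInstanceAs (IsLocalHom (π.stalkMap x).hom)
  haveI : Module.FaithfullyFlat (Z.presheaf.stalk (π x)) (X.presheaf.stalk x) :=
    Module.FaithfullyFlat.of_flat_of_isLocalHom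
  haveI : Subsingleton (TensorProduct (Z.presheaf.stalk (π x)) (X.presheaf.stalk x)
      ((Groth.L00.Stk.F Z (π x)).obj N)) := hsub
  exact h (Module.FaithfullyFlat.lTensor_reflects_triviality (Z.presheaf.stalk (π x)) (X.presheaf.stalk x) _)

/-- The faithful condition survives base change. -/
theorem exists_faithAt_pullback {Y' : Scheme.{u}} (f : X ⟶ Y) (g : Y' ⟶ Y) (F : X.Modules) (y' : Y') (x : X)
    (hx : f x = g y') (h : FaithAt f F x) :
    ∃ x' : ↥(pullback f g), pullback.snd f g x' = y' ∧
      FaithAt (pullback.snd f g) ((Scheme.Modules.pullback (pullback.fst f g)).obj F) x' := by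
  obtain ⟨xb, rfl⟩ : ∃ xb : f.fiber (g y'), f.fiberι (g y') xb = x :=
    ⟨(f.fiberHomeo (g y')).symm ⟨x, hx⟩, f.fiberι_fiberHomeo_symm _ _⟩
  let f' := pullback.snd f g
  let p := pullback.fst f g
  let k := Spec.map (g.residueFieldMap y')
  haveI : Flat k := by
    rw [Flat.SpecMap_iff]
    letI := (g.residueFieldMap y').hom.toAlgebra
    exact (inferInstance : Module.Flat (Y.residueField (g y')) (Y'.residueField y'))
  haveI : Surjective k := (surjective_iff _).mpr fun z => by
    have : Subsingleton (PrimeSpectrum (Y.residueField (g y'))) := inferInstance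
    exact ⟨(show PrimeSpectrum (Y'.residueField y') from default), Subsingleton.elim _ _⟩
  let π : f'.fiber y' ⟶ f.fiber (g y') :=
    pullback.lift (f'.fiberι y' ≫ p) (f'.fiberToSpecResidueField y' ≫ k) (by
      rw [Category.assoc, Category.assoc, Scheme.Hom.SpecMap_residueFieldMap_fromSpecResidueField,
        pullback.condition, ← Category.assoc, ← Category.assoc]
      exact congrArg (· ≫ g) (pullback.condition (f := f') (g := Y'.fromSpecResidueField y')))
  have hπ1 : π ≫ f.fiberι (g y') = f'.fiberι y' ≫ p := pullback.lift_fst _ _ _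
  have hπ2 : π ≫ f.fiberToSpecResidueField (g y') = f'.fiberToSpecResidueField y' ≫ k := pullback.lift_snd _ _ _
  have hsq : IsPullback π (f'.fiberToSpecResidueField y') (f.fiberToSpecResidueField (g y')) k := by
    have big : IsPullback (π ≫ f.fiberι (g y')) (f'.fiberToSpecResidueField y') f
        (k ≫ Y.fromSpecResidueField (g y')) := by
      rw [hπ1, Scheme.Hom.SpecMap_residueFieldMap_fromSpecResidueField]
      exact (IsPullback.of_hasPullback f' (Y'.fromSpecResidueField y')).paste_horiz (IsPullback.of_hasPullback f g)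
    exact IsPullback.of_right big hπ2 (IsPullback.of_hasPullback f (Y.fromSpecResidueField (g y')))
  haveI : Flat π := MorphismProperty.of_isPullback (P := @Flat) hsq.flip inferInstance
  haveI : Surjective π := MorphismProperty.of_isPullback (P := @Surjective) hsq.flip inferInstance
  obtain ⟨z, rfl⟩ := π.surjective xb
  refine ⟨f'.fiberι y' z, ?_, ?_⟩
  · have h1 := Set.mem_range_self (f := fun a => f'.fiberι y' a) z
    rw [show (fun a => f'.fiberι y' a) = ⇑(f'.fiberι y') from rfl, Scheme.Hom.range_fiberι] at h1
    exact h1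
  rw [faithAt_iff] at h ⊢
  have e : (Scheme.Modules.pullback (f'.fiberι y')).obj ((Scheme.Modules.pullback p).obj F) ≅
      (Scheme.Modules.pullback π).obj ((Scheme.Modules.pullback (f.fiberι (g y'))).obj F) :=
    (Scheme.Modules.pullbackComp (f'.fiberι y') p).app F ≪≫ (Scheme.Modules.pullbackCongr hπ1.symm).app F ≪≫
      ((Scheme.Modules.pullbackComp π (f.fiberι (g y'))).app F).symm
  exact fun hs => not_subsingleton_pullback π _ z h
    (((Groth.L00.Stk.F _ z).mapIso e).toLinearEquiv.toEquiv.subsingleton_congr.mp hs)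

/-- Composites. -/
theorem comp_faithAt (f : X ⟶ Y) (g : Y ⟶ Z) (F : X.Modules) (x : X) (h : FaithAt f F x) :
    FaithAt (f ≫ g) F x := by
  intro h'
  apply h
  letI := FlatMod.moduleStalkOver f F x
  rw [eq_top_iff]
  intro m _
  letI : Module (Z.presheaf.stalk ((f ≫ g) x)) (F.presheaf.stalk x) := FlatMod.moduleStalkOver (f ≫ g) F x
  have hm : m ∈ IsLocalRing.maximalIdeal (Z.presheaf.stalk ((f ≫ g) x)) •
      (⊤ : Submodule (Z.presheaf.stalk ((f ≫ g) x)) (F.presheaf.stalk x)) := h'.ge Submodule.mem_top
  refine Submodule.smul_induction_on hm (fun a ha n _ => ?_) fun a b ha hb => add_mem ha hb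
  have he : a • n = ((g.stalkMap (f x)).hom a) • n := by
    show ((f ≫ g).stalkMap x).hom a • n = (f.stalkMap x).hom ((g.stalkMap (f x)).hom a) • n
    rw [Scheme.Hom.stalkMap_comp]
    rfl
  rw [he]
  exact Submodule.smul_mem_smul (map_nonunit (g.stalkMap (f x)).hom a ha) Submodule.mem_top

theorem isFlatOverAt_comp (f : X ⟶ Y) (g : Y ⟶ Z) [Flat g] (F : X.Modules) (x : X)
    (h : FlatMod.IsFlatOverAt f F x) : FlatMod.IsFlatOverAt (f ≫ g) F x := by
  letI := FlatMod.moduleStalkOver f F x
  letI : Algebra (Z.presheaf.stalk ((f ≫ g) x)) (Y.presheaf.stalk (f x)) := (g.stalkMap (f x)).hom.toAlgebra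
  letI : Module (Z.presheaf.stalk ((f ≫ g) x)) (F.presheaf.stalk x) := FlatMod.moduleStalkOver (f ≫ g) F x
  haveI : IsScalarTower (Z.presheaf.stalk ((f ≫ g) x)) (Y.presheaf.stalk (f x)) (F.presheaf.stalk x) :=
    IsScalarTower.of_algebraMap_smul fun a n => by
      show (f.stalkMap x).hom ((g.stalkMap (f x)).hom a) • n = ((f ≫ g).stalkMap x).hom a • n
      rw [Scheme.Hom.stalkMap_comp]
      rfl
  haveI : Module.Flat (Z.presheaf.stalk ((f ≫ g) x)) (Y.presheaf.stalk (f x)) := Flat.stalkMap g (f x)
  haveI : Module.Flat (Y.presheaf.stalk (f x)) (F.presheaf.stalk x) := h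
  exact Module.Flat.trans (Z.presheaf.stalk ((f ≫ g) x)) (Y.presheaf.stalk (f x)) (F.presheaf.stalk x)

theorem flat_stalkMap_of_module (f : X ⟶ Y) (g : Y ⟶ Z) (F : X.Modules) (x : X)
    (h : FlatMod.IsFlatOverAt f F x) (h' : FaithAt f F x) (h'' : FlatMod.IsFlatOverAt (f ≫ g) F x) :
    (g.stalkMap (f x)).hom.Flat := by
  letI := FlatMod.moduleStalkOver f F x
  letI : Algebra (Z.presheaf.stalk ((f ≫ g) x)) (Y.presheaf.stalk (f x)) := (g.stalkMap (f x)).hom.toAlgebra
  letI : Module (Z.presheaf.stalk ((f ≫ g) x)) (F.presheaf.stalk x) := FlatMod.moduleStalkOver (f ≫ g) F x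
  haveI : IsScalarTower (Z.presheaf.stalk ((f ≫ g) x)) (Y.presheaf.stalk (f x)) (F.presheaf.stalk x) :=
    IsScalarTower.of_algebraMap_smul fun a n => by
      show (f.stalkMap x).hom ((g.stalkMap (f x)).hom a) • n = ((f ≫ g).stalkMap x).hom a • n
      rw [Scheme.Hom.stalkMap_comp]
      rfl
  haveI : Module.Flat (Z.presheaf.stalk ((f ≫ g) x)) (F.presheaf.stalk x) := h''
  haveI : Module.Flat (Y.presheaf.stalk (f x)) (F.presheaf.stalk x) := h
  haveI : Module.FaithfullyFlat (Y.presheaf.stalk (f x)) (F.presheaf.stalk x) := by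
    refine (Module.FaithfullyFlat.iff_flat_and_ideal_smul_eq_top _ _).mpr ⟨inferInstance, fun I hI => ?_⟩
    by_contra hne
    exact h' (top_le_iff.mp (hI.ge.trans (Submodule.smul_mono (IsLocalRing.le_maximalIdeal hne) le_rfl)))
  exact (flat_of_module (A := Z.presheaf.stalk ((f ≫ g) x)) (B := Y.presheaf.stalk (f x)) (F.presheaf.stalk x) :)

end Groth.L19.FaithOver
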