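import Groth.Agent.L19.FibreDimSystem
import Groth.Agent.L19.Limit.Pullback
import Groth.Agent.L23.FibreDimBC

/-!
# Fibre dimensions in a system of morphisms whose transition maps are closed in the base change
-/

universe u

open CategoryTheory CategoryTheory.Limits AlgebraicGeometry

noncomputable section

namespace Groth.L19.FibreDimSystem

set_option linter.style.haveILetI false
set_option backward.isDefEq.respectTransparency.types false
set_option backward.isDefEq.respectTransparency false
set_option backward.defeqAttrib.useBackward true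

theorem fibreDimAt_pullback_fst {A B C : Scheme.{u}} (a : A ⟶ C) (f : B ⟶ C) [LocallyOfFiniteType f]
    (x : (pullback a f : Scheme.{u})) :
    FlatMor.fibreDimAt (pullback.fst a f) x = FlatMor.fibreDimAt f (pullback.snd a f x) :=
  Groth.L23.fibreDimAt_of_isPullback (IsPullback.of_hasPullback a f).flip x

theorem fibreDimAt_pullback_snd {A B C : Scheme.{u}} (f : B ⟶ C) (a : A ⟶ C) [LocallyOfFiniteType f]
    (x : (pullback f a : Scheme.{u})) :
    FlatMor.fibreDimAt (pullback.snd f a) x = FlatMor.fibreDimAt f (pullback.fst f a x) :=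
  Groth.L23.fibreDimAt_of_isPullback (IsPullback.of_hasPullback f a) x

variable {I : Type u} [SmallCategory I] [IsCofiltered I] {DX DS : I ⥤ Scheme.{u}} (φ : DX ⟶ DS)
  (cX : Cone DX) (cS : Cone DS)

/-- The stages pulled back to the limit of the bases. -/
def pulledSystem : I ⥤ Over cS.pt where
  obj i := Over.mk (pullback.fst (cS.π.app i) (φ.app i))
  map {i j} a := Over.homMk (pullback.map _ _ _ _ (𝟙 _) (DX.map a) (DS.map a)
      (by rw [Category.id_comp, cS.w]) (φ.naturality a).symm)
    (by simp)
  map_id i := by
    ext1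
    refine pullback.hom_ext ?_ ?_
    · simp
    · simp
  map_comp a b := by
    ext1
    refine pullback.hom_ext ?_ ?_
    · simp
    · simp

/-- The cone over the pulled back stages given by the limit morphism. -/
def pulledCone (f : cX.pt ⟶ cS.pt) (hf : ∀ i, f ≫ cS.π.app i = cX.π.app i ≫ φ.app i) :
    Cone (pulledSystem φ cS) where
  pt := Over.mk f
  π :=
    { app := fun i => Over.homMk (pullback.lift f (cX.π.app i) (hf i)) (pullback.lift_fst _ _ _)
      naturality := fun i j a => by
        ext1
        refine pullback.hom_ext ?_ ?_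
        · simp [pulledSystem]
        · simp [pulledSystem] }

/-- The limit morphism is the limit of the pulled back stages. -/
def isLimitPulledCone (hX : IsLimit cX) (hS : IsLimit cS) (f : cX.pt ⟶ cS.pt)
    (hf : ∀ i, f ≫ cS.π.app i = cX.π.app i ≫ φ.app i) : IsLimit (pulledCone φ cX cS f hf) where
  lift s := Over.homMk (hX.lift
      { pt := s.pt.left
        π :=
          { app := fun i => (s.π.app i).left ≫ pullback.snd (cS.π.app i) (φ.app i)
            naturality := fun i j a => by
              dsimp
              rw [Category.id_comp, ← s.w a]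
              simp [pulledSystem] } })
    (hS.hom_ext fun i => by
      show (_ ≫ f) ≫ cS.π.app i = s.pt.hom ≫ cS.π.app i
      have h : (s.π.app i).left ≫ pullback.fst (cS.π.app i) (φ.app i) = s.pt.hom := Over.w (s.π.app i)
      rw [Category.assoc, hf, hX.fac_assoc, Category.assoc, ← pullback.condition]
      exact (Category.assoc _ _ _).symm.trans (congrArg (· ≫ cS.π.app i) h))
  fac s i := by
    ext1
    refine pullback.hom_ext ?_ ?_
    · refine Eq.trans ?_ (Over.w (s.π.app i)).symm
      simp only [pulledCone, Category.assoc, Over.comp_left, Over.homMk_left, pullback.lift_fst]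
      refine hS.hom_ext fun j => ?_
      have h : (s.π.app j).left ≫ pullback.fst (cS.π.app j) (φ.app j) = s.pt.hom := Over.w (s.π.app j)
      rw [Category.assoc, hf, hX.fac_assoc, Category.assoc, ← pullback.condition]
      exact (Category.assoc _ _ _).symm.trans (congrArg (· ≫ cS.π.app j) h)
    · simp [pulledCone]
  uniq s m hm := by
    ext1
    refine hX.hom_ext fun i => ?_
    refine Eq.trans ?_ (hX.fac
      { pt := s.pt.left
        π :=
          { app := fun i => (s.π.app i).left ≫ pullback.snd (cS.π.app i) (φ.app i)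
            naturality := fun i j a => by
              dsimp
              rw [Category.id_comp, ← s.w a]
              simp [pulledSystem] } } i).symm
    show m.left ≫ cX.π.app i = (s.π.app i).left ≫ pullback.snd _ _
    rw [← hm i]
    simp [pulledCone]

omit [IsCofiltered I] in
theorem isClosedImmersion_pulledSystem_map {i j : I} (a : i ⟶ j)
    (h : IsClosedImmersion (pullback.lift (DX.map a) (φ.app i) (φ.naturality a))) :
    IsClosedImmersion ((pulledSystem φ cS).map a).left := by
  let l := pullback.lift (DX.map a) (φ.app i) (φ.naturality a) ≫ (pullbackSymmetry (φ.app j) (DS.map a)).hom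
  haveI : IsClosedImmersion l := inferInstanceAs (IsClosedImmersion (_ ≫ _))
  have hl : φ.app i = l ≫ pullback.fst (DS.map a) (φ.app j) := by simp [l]
  let m := pullback.map (cS.π.app i) (φ.app i) (cS.π.app i) (pullback.fst (DS.map a) (φ.app j)) (𝟙 _) l (𝟙 _)
    (by simp) (by rw [Category.comp_id]; exact hl)
  haveI : IsClosedImmersion m :=
    MorphismProperty.pullbackMap (P := @IsClosedImmersion) inferInstance inferInstance
      (Category.id_comp _).symm hl
  have : ((pulledSystem φ cS).map a).left = m ≫ (pullbackRightPullbackFstIso _ _ _).hom ≫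
      (pullback.congrHom (cS.w a) rfl).hom := by
    refine pullback.hom_ext ?_ ?_
    · simp [pulledSystem, m]
    · simp [pulledSystem, m, l]
  rw [this]
  infer_instance

include cX in
theorem exists_fibres_le_stage (hX : IsLimit cX) (hS : IsLimit cS)
    [∀ (i j : I) (a : i ⟶ j), IsAffineHom (DS.map a)] [∀ i, CompactSpace (DS.obj i)]
    [∀ i, LocallyOfFiniteType (φ.app i)] [∀ i, QuasiCompact (φ.app i)]
    (hcl : ∀ (i j : I) (a : i ⟶ j), IsClosedImmersion (pullback.lift (DX.map a) (φ.app i) (φ.naturality a)))
    (f : cX.pt ⟶ cS.pt) (hf : ∀ i, f ≫ cS.π.app i = cX.π.app i ≫ φ.app i) (d : ℕ)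
    (hd : ∀ s : cS.pt, topologicalKrullDim ↥(f.fiber s) ≤ d) :
    ∃ i : I, ∀ s : DS.obj i, topologicalKrullDim ↥((φ.app i).fiber s) ≤ d := by
  haveI : ∀ {i j : I} (a : i ⟶ j), IsAffineHom (DS.map a) := fun {i j} a => inferInstance
  haveI : CompactSpace cS.pt := Scheme.compactSpace_of_isLimit DS cS hS
  obtain ⟨i, hi⟩ := exists_stage_fibres_le (pulledSystem φ cS) (pulledCone φ cX cS f hf)
    (isLimitPulledCone φ cX cS hX hS f hf)
    (fun i j a => isClosedImmersion_pulledSystem_map φ cS a (hcl i j a))
    (fun i => ⟨MorphismProperty.pullback_fst (P := @LocallyOfFiniteType) _ _ inferInstance,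
      MorphismProperty.pullback_fst (P := @QuasiCompact) _ _ inferInstance⟩) (d := d) hd
  let E := Limit.bcDiagram DS (φ.app i)
  let B : Set (DX.obj i) := {x | ¬ FlatMor.fibreDimAt (φ.app i) x ≤ d}
  have hB : IsClosed B := (Groth.L07.FibreDim.isOpen_fibreDimAt_le (φ.app i) d).isClosed_compl
  obtain ⟨k, hk⟩ : ∃ k : Over i, ∀ x : E.obj k, pullback.snd (DS.map k.hom) (φ.app i) x ∉ B := by
    by_contra hne
    push Not at hne
    obtain ⟨z, hz⟩ := exists_mem_of_isClosed_of_nonempty E (Limit.bcCone DS cS (φ.app i))
      (Limit.isLimitBcCone (φ.app i) hS) (fun k => pullback.snd (DS.map k.hom) (φ.app i) ⁻¹' B)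
      (fun k => hB.preimage (Scheme.Hom.continuous _)) (fun k => hne k)
      (fun k => by
        haveI : QuasiCompact (pullback.fst (DS.map k.hom) (φ.app i)) :=
          MorphismProperty.pullback_fst (P := @QuasiCompact) _ _ inferInstance
        haveI : CompactSpace (E.obj k) :=
          QuasiCompact.compactSpace_of_compactSpace (pullback.fst (DS.map k.hom) (φ.app i))
        exact (hB.preimage (Scheme.Hom.continuous _)).isCompact)
      (fun {k k'} m x hx => by
        have hm : E.map m ≫ pullback.snd (DS.map k'.hom) (φ.app i) = pullback.snd (DS.map k.hom) (φ.app i) := by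
          simp [E, Limit.bcDiagram]
        have hmx := congrArg (fun g : E.obj k ⟶ DX.obj i => g x) hm
        exact (congrArg (· ∈ B) hmx).mpr hx)
    let z' : (pullback (cS.π.app i) (φ.app i) : Scheme.{u}) := z
    apply hz (Over.mk (𝟙 i))
    have hz₀ : (Limit.bcCone DS cS (φ.app i)).π.app (Over.mk (𝟙 i)) ≫ pullback.snd (DS.map (𝟙 i)) (φ.app i) =
        pullback.snd (cS.π.app i) (φ.app i) := by
      simp [Limit.bcCone]
    refine le_of_eq_of_le (congrArg (FlatMor.fibreDimAt (φ.app i))
      (congrArg (fun g : (pullback (cS.π.app i) (φ.app i) : Scheme.{u}) ⟶ DX.obj i => g z') hz₀)) ?_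
    rw [← fibreDimAt_pullback_fst]
    exact (Groth.L07.FibreDim.fiber_dim_le_iff _ _ _).1 (hi _) z' rfl
  refine ⟨k.left, fun s => (Groth.L07.FibreDim.fiber_dim_le_iff _ s _).2 fun x _ => ?_⟩
  let l := pullback.lift (DX.map k.hom) (φ.app k.left) (φ.naturality k.hom)
  haveI : IsClosedImmersion l := hcl _ _ k.hom
  refine (fibreDimAt_le_of_isEmbedding l l.isEmbedding (pullback.lift_snd _ _ _) x).trans ?_
  rw [fibreDimAt_pullback_snd]
  have h := hk ((pullbackSymmetry (φ.app i) (DS.map k.hom)).hom (l x))
  rw [← Scheme.Hom.comp_apply, pullbackSymmetry_hom_comp_snd] at h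
  exact not_not.1 h

end Groth.L19.FibreDimSystem
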