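import Groth.Agent.L20.GenericFreeness
import Groth.Agent.L06.Constr
import Groth.Agent.L02.Flat
import Mathlib.RingTheory.TensorProduct.MvPolynomial
import Mathlib.LinearAlgebra.TensorProduct.RightExactness
import Mathlib.RingTheory.LocalRing.ResidueField.Ideal
import Mathlib.RingTheory.Flat.FaithfullyFlat.Algebra
import Mathlib.RingTheory.Spectrum.Prime.Chevalley
import Mathlib.Algebra.Module.FinitePresentation
import Mathlib.LinearAlgebra.TensorProduct.Pi

/-!
# Exactness of fibres of a sequence of finitely presented modules: constructibility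
-/

set_option autoImplicit false
set_option linter.style.haveILetI false
set_option backward.isDefEq.respectTransparency.types false
set_option maxSynthPendingDepth 3
universe u

open TensorProduct Topology

namespace Groth.L19.FibreExact

/-! ### Comparison of scalar extensions -/

section Model

variable {R B : Type u} [CommRing R] [CommRing B] [Algebra R B]
  {M₁ M₂ M₃ : Type u} [AddCommGroup M₁] [Module R M₁] [AddCommGroup M₂] [Module R M₂] [AddCommGroup M₃] [Module R M₃]
  {N₁ N₂ N₃ : Type u} [AddCommGroup N₁] [Module B N₁] [AddCommGroup N₂] [Module B N₂] [AddCommGroup N₃] [Module B N₃]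
  (k : Type u) [CommRing k] [Algebra B k] [Algebra R k] [IsScalarTower R B k]

/-- Extension of scalars in two steps. -/
noncomputable def towerEquiv (e : B ⊗[R] M₁ ≃ₗ[B] N₁) : k ⊗[B] N₁ ≃ₗ[k] k ⊗[R] M₁ :=
  (TensorProduct.AlgebraTensorModule.congr (LinearEquiv.refl k k) e.symm).trans
    (TensorProduct.AlgebraTensorModule.cancelBaseChange R B k k M₁)

theorem towerEquiv_symm_tmul (e : B ⊗[R] M₁ ≃ₗ[B] N₁) (c : k) (m : M₁) :
    (towerEquiv k e).symm (c ⊗ₜ m) = c ⊗ₜ e (1 ⊗ₜ m) := by
  simp [towerEquiv]

theorem towerEquiv_square {f : M₁ →ₗ[R] M₂} {f' : N₁ →ₗ[B] N₂} (e₁ : B ⊗[R] M₁ ≃ₗ[B] N₁)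
    (e₂ : B ⊗[R] M₂ ≃ₗ[B] N₂) (hf : ∀ m, f' (e₁ (1 ⊗ₜ m)) = e₂ (1 ⊗ₜ f m)) :
    f'.baseChange k ∘ₗ (towerEquiv k e₁).symm.toLinearMap = (towerEquiv k e₂).symm.toLinearMap ∘ₗ f.baseChange k :=
  TensorProduct.AlgebraTensorModule.ext fun c m => by
    simp [towerEquiv_symm_tmul, hf]

/-- Exactness after extension of scalars may be computed on a model. -/
theorem exact_model {f : M₁ →ₗ[R] M₂} {g : M₂ →ₗ[R] M₃} {f' : N₁ →ₗ[B] N₂} {g' : N₂ →ₗ[B] N₃}
    (e₁ : B ⊗[R] M₁ ≃ₗ[B] N₁) (e₂ : B ⊗[R] M₂ ≃ₗ[B] N₂) (e₃ : B ⊗[R] M₃ ≃ₗ[B] N₃)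
    (hf : ∀ m, f' (e₁ (1 ⊗ₜ m)) = e₂ (1 ⊗ₜ f m)) (hg : ∀ m, g' (e₂ (1 ⊗ₜ m)) = e₃ (1 ⊗ₜ g m)) :
    Function.Exact (f.baseChange k) (g.baseChange k) ↔ Function.Exact (f'.baseChange k) (g'.baseChange k) :=
  (Function.Exact.iff_of_ladder_linearEquiv (towerEquiv_square k e₁ e₂ hf) (towerEquiv_square k e₂ e₃ hg)).symm

theorem exact_tower {f : M₁ →ₗ[R] M₂} {g : M₂ →ₗ[R] M₃} :
    Function.Exact (f.baseChange k) (g.baseChange k) ↔
      Function.Exact ((f.baseChange B).baseChange k) ((g.baseChange B).baseChange k) :=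
  exact_model k (LinearEquiv.refl B _) (LinearEquiv.refl B _) (LinearEquiv.refl B _) (fun _ => rfl) (fun _ => rfl)

end Model

/-- Exactness over a field does not change under a field extension. -/
theorem exact_field_ext {R k k' : Type u} [CommRing R] [Field k] [Field k'] [Algebra R k] [Algebra R k']
    [Algebra k k'] [IsScalarTower R k k'] {M₁ M₂ M₃ : Type u} [AddCommGroup M₁] [Module R M₁] [AddCommGroup M₂]
    [Module R M₂] [AddCommGroup M₃] [Module R M₃] (f : M₁ →ₗ[R] M₂) (g : M₂ →ₗ[R] M₃) :
    Function.Exact (f.baseChange k') (g.baseChange k') ↔ Function.Exact (f.baseChange k) (g.baseChange k) := by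
  rw [exact_tower (B := k) k']
  exact Module.FaithfullyFlat.lTensor_exact_iff_exact k k' (f.baseChange k) (g.baseChange k)

/-- Replace the middle term by a module surjecting onto it. -/
theorem exact_of_cover {R : Type u} [CommRing R] {A₁ A₂ M₁ M₂ M₃ : Type u} [AddCommGroup A₁] [Module R A₁]
    [AddCommGroup A₂] [Module R A₂] [AddCommGroup M₁] [Module R M₁] [AddCommGroup M₂] [Module R M₂]
    [AddCommGroup M₃] [Module R M₃] (u : M₁ →ₗ[R] M₂) (v : M₂ →ₗ[R] M₃) (u' : A₁ →ₗ[R] A₂) (π : A₂ →ₗ[R] M₂)
    (hπ : Function.Surjective π) (hr : LinearMap.range u' = (LinearMap.range u).comap π)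
    (k : Type u) [CommRing k] [Algebra R k] :
    Function.Exact (u.baseChange k) (v.baseChange k) ↔ Function.Exact (u'.baseChange k) ((v ∘ₗ π).baseChange k) := by
  have hπk : Function.Surjective (π.baseChange k) := LinearMap.lTensor_surjective k hπ
  have hker : ∀ z, π.baseChange k z = 0 → z ∈ LinearMap.range (u'.baseChange k) := fun z hz => by
    obtain ⟨w, rfl⟩ := (lTensor_exact k π.exact_subtype_ker_map hπ z).mp hz
    clear hz
    induction w using TensorProduct.induction_on with
    | zero => simp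
    | add a b ha hb => rw [map_add]; exact add_mem ha hb
    | tmul c a =>
      have : (a : A₂) ∈ LinearMap.range u' := by rw [hr, Submodule.mem_comap, a.2]; exact zero_mem _
      obtain ⟨b, hb⟩ := this
      exact ⟨c ⊗ₜ b, by simp [hb]⟩
  have hle : ∀ x, π.baseChange k (u'.baseChange k x) ∈ LinearMap.range (u.baseChange k) := fun x => by
    induction x using TensorProduct.induction_on with
    | zero => simp
    | add a b ha hb => simp only [map_add]; exact add_mem ha hb
    | tmul c a =>
      obtain ⟨m, hm⟩ : π (u' a) ∈ LinearMap.range u := hr.le ⟨a, rfl⟩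
      exact ⟨c ⊗ₜ m, by simp [hm]⟩
  have hge : ∀ x, u.baseChange k x ∈ (LinearMap.range (u'.baseChange k)).map (π.baseChange k) := fun x => by
    induction x using TensorProduct.induction_on with
    | zero => simp
    | add a b ha hb => simp only [map_add]; exact add_mem ha hb
    | tmul c a =>
      obtain ⟨z, hz⟩ := hπ (u a)
      obtain ⟨b, hb⟩ : z ∈ LinearMap.range u' := hr.ge (by rw [Submodule.mem_comap, hz]; exact ⟨a, rfl⟩)
      exact ⟨c ⊗ₜ z, ⟨c ⊗ₜ b, by simp [hb]⟩, by simp [hz]⟩
  rw [LinearMap.baseChange_comp]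
  constructor
  · intro h z
    refine ⟨fun hz => ?_, ?_⟩
    · obtain ⟨x, hx⟩ := (h _).mp hz
      obtain ⟨w, ⟨y, rfl⟩, hw⟩ := hge x
      have := hker (z - u'.baseChange k y) (by rw [map_sub, hw, hx, sub_self])
      obtain ⟨y', hy'⟩ := this
      exact ⟨y' + y, by rw [map_add, hy', sub_add_cancel]⟩
    · rintro ⟨y, rfl⟩
      obtain ⟨x, hx⟩ := hle y
      show v.baseChange k (π.baseChange k _) = 0
      rw [← hx]
      exact h.apply_apply_eq_zero x
  · intro h z
    refine ⟨fun hz => ?_, ?_⟩
    · obtain ⟨w, rfl⟩ := hπk z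
      obtain ⟨y, rfl⟩ := (h w).mp hz
      exact hle y
    · rintro ⟨x, rfl⟩
      obtain ⟨w, ⟨y, rfl⟩, hw⟩ := hge x
      rw [← hw]
      exact h.apply_apply_eq_zero y

/-! ### Generic behaviour over a domain -/

section Generic

theorem injective_baseChange_of_flat {R : Type u} [CommRing R] {N₁ N₂ N₃ : Type u} [AddCommGroup N₁] [Module R N₁]
    [AddCommGroup N₂] [Module R N₂] [AddCommGroup N₃] [Module R N₃] (i : N₁ →ₗ[R] N₂) (p : N₂ →ₗ[R] N₃)
    (hi : Function.Injective i) (hex : Function.Exact i p) (hp : Function.Surjective p)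
    (A : Type u) [CommRing A] [Algebra R A] [Module.Flat R A] [Module.Flat A (A ⊗[R] N₃)]
    (k : Type u) [CommRing k] [Algebra R k] [Algebra A k] [IsScalarTower R A k] :
    Function.Injective (i.baseChange k) := by
  have h1 : Function.Injective (i.baseChange A) := Module.Flat.lTensor_preserves_injective_linearMap i hi
  have h2 : Function.Injective ((i.baseChange A).lTensor k) :=
    ((i.baseChange A).lTensor_inj_iff_rTensor_inj k).mpr
      (Groth.L02.universallyInjective_of_flat_coker (i.baseChange A) (p.baseChange A) h1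
        (lTensor_exact A hex hp) (LinearMap.lTensor_surjective A hp) k)
  let s₁ := towerEquiv (R := R) (B := A) (M₁ := N₁) k (LinearEquiv.refl A _)
  let s₂ := towerEquiv (R := R) (B := A) (M₁ := N₂) k (LinearEquiv.refl A _)
  have hsq := towerEquiv_square (f := i) (f' := i.baseChange A) k (LinearEquiv.refl A _) (LinearEquiv.refl A _)
    (fun _ => rfl)
  intro x y hxy
  refine s₁.symm.injective (h2 ?_)
  have hx := LinearMap.congr_fun hsq x
  have hy := LinearMap.congr_fun hsq y
  simp only [LinearMap.comp_apply, LinearEquiv.coe_coe] at hx hy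
  exact hx.trans ((congrArg s₂.symm hxy).trans hy.symm)

theorem exact_restrictScalars (R : Type u) {P N₁ N₂ N₃ : Type u} [CommRing R] [CommRing P] [Algebra R P]
    [AddCommGroup N₁] [Module P N₁] [Module R N₁] [IsScalarTower R P N₁]
    [AddCommGroup N₂] [Module P N₂] [Module R N₂] [IsScalarTower R P N₂]
    [AddCommGroup N₃] [Module P N₃] [Module R N₃] [IsScalarTower R P N₃]
    {i : N₁ →ₗ[P] N₂} {p : N₂ →ₗ[P] N₃} (hex : Function.Exact i p) :
    Function.Exact (i.restrictScalars R) (p.restrictScalars R) := fun z => hex z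

theorem surjective_restrictScalars (R : Type u) {P N₁ N₂ : Type u} [CommRing R] [CommRing P] [Algebra R P]
    [AddCommGroup N₁] [Module P N₁] [Module R N₁] [IsScalarTower R P N₁]
    [AddCommGroup N₂] [Module P N₂] [Module R N₂] [IsScalarTower R P N₂]
    {p : N₁ →ₗ[P] N₂} (hp : Function.Surjective p) : Function.Surjective (p.restrictScalars R) := hp

theorem exact_subtype_rangeRestrict {P N₁ N₂ : Type u} [CommRing P] [AddCommGroup N₁] [Module P N₁]
    [AddCommGroup N₂] [Module P N₂] (w : N₁ →ₗ[P] N₂) :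
    Function.Exact (LinearMap.ker w).subtype w.rangeRestrict :=
  LinearMap.exact_iff.mpr (by rw [LinearMap.ker_rangeRestrict, Submodule.range_subtype])

/-- A flat cokernel after a localisation makes a fibre of an injection injective. -/
theorem injective_fibre {R P : Type u} [CommRing R] [CommRing P] [Algebra R P] {N₁ N₂ N₃ : Type u}
    [AddCommGroup N₁] [Module P N₁] [Module R N₁] [IsScalarTower R P N₁]
    [AddCommGroup N₂] [Module P N₂] [Module R N₂] [IsScalarTower R P N₂]
    [AddCommGroup N₃] [Module P N₃] [Module R N₃] [IsScalarTower R P N₃]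
    {i : N₁ →ₗ[P] N₂} {p : N₂ →ₗ[P] N₃} (hi : Function.Injective i) (hex : Function.Exact i p)
    (hp : Function.Surjective p) (A : Type u) [CommRing A] [Algebra R A] [Module.Flat R A]
    [Module.Flat A (A ⊗[R] N₃)] (k : Type u) [CommRing k] [Algebra R k] [Algebra A k] [IsScalarTower R A k] :
    Function.Injective ((i.restrictScalars R).baseChange k) :=
  injective_baseChange_of_flat (i.restrictScalars R) (p.restrictScalars R) hi (exact_restrictScalars R hex) hp A k

/-- For a module free over a localisation, vanishing of a fibre is generic vanishing. -/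
theorem subsingleton_fibre_iff {R : Type u} [CommRing R] (A : Type u) [CommRing A] [Algebra R A]
    (k : Type u) [CommRing k] [Nontrivial k] [Algebra R k] [Algebra A k] [IsScalarTower R A k]
    (N : Type u) [AddCommGroup N] [Module R N] [Module.Free A (A ⊗[R] N)] :
    Subsingleton (k ⊗[R] N) ↔ Subsingleton (A ⊗[R] N) := by
  let e := towerEquiv (R := R) (B := A) (M₁ := N) k (LinearEquiv.refl A _)
  refine e.toEquiv.subsingleton_congr.symm.trans ⟨fun h => ?_, fun h => ?_⟩
  · by_contra hne
    rw [not_subsingleton_iff_nontrivial] at hne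
    let b := Module.Free.chooseBasis A (A ⊗[R] N)
    obtain ⟨i⟩ : Nonempty (Module.Free.ChooseBasisIndex A (A ⊗[R] N)) := by
      by_contra h0
      rw [not_nonempty_iff] at h0
      exact not_subsingleton (A ⊗[R] N) b.repr.toEquiv.subsingleton
    exact (b.baseChange k).ne_zero i (Subsingleton.elim _ _)
  · refine subsingleton_of_forall_eq 0 fun z => ?_
    induction z using TensorProduct.induction_on with
    | zero => rfl
    | add a b ha hb => rw [ha, hb, add_zero]
    | tmul c n => rw [Subsingleton.elim n 0, tmul_zero]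

variable {R P : Type u} [CommRing R] [CommRing P] [Algebra R P]
  {M₁ M₂ M₃ : Type u} [AddCommGroup M₁] [Module P M₁] [Module R M₁] [IsScalarTower R P M₁]
  [AddCommGroup M₂] [Module P M₂] [Module R M₂] [IsScalarTower R P M₂]
  [AddCommGroup M₃] [Module P M₃] [Module R M₃] [IsScalarTower R P M₃]

/-- `M₂/uM₁ → M₃/vuM₁`. -/
def vbar (u : M₁ →ₗ[P] M₂) (v : M₂ →ₗ[P] M₃) :
    (M₂ ⧸ LinearMap.range u) →ₗ[P] (M₃ ⧸ LinearMap.range (v ∘ₗ u)) :=
  (LinearMap.range u).liftQ ((LinearMap.range (v ∘ₗ u)).mkQ ∘ₗ v) (by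
    rintro _ ⟨x, rfl⟩
    rw [LinearMap.mem_ker, LinearMap.comp_apply, Submodule.mkQ_apply, Submodule.Quotient.mk_eq_zero]
    exact ⟨x, rfl⟩)

theorem vbar_mk (u : M₁ →ₗ[P] M₂) (v : M₂ →ₗ[P] M₃) (z : M₂) :
    vbar u v (Submodule.Quotient.mk z) = Submodule.Quotient.mk (v z) := rfl

/-- Exactness of a fibre when the three relevant injections stay injective in it. -/
theorem exact_fibre_iff (u : M₁ →ₗ[P] M₂) (v : M₂ →ₗ[P] M₃) (k : Type u) [CommRing k] [Algebra R k]
    (iW : Function.Injective (((LinearMap.range (v ∘ₗ u)).subtype.restrictScalars R).baseChange k))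
    (iR : Function.Injective (((LinearMap.range (vbar u v)).subtype.restrictScalars R).baseChange k))
    (iH : Function.Injective (((LinearMap.ker (vbar u v)).subtype.restrictScalars R).baseChange k)) :
    Function.Exact ((u.restrictScalars R).baseChange k) ((v.restrictScalars R).baseChange k) ↔
      Subsingleton (k ⊗[R] LinearMap.range (v ∘ₗ u)) ∧ Subsingleton (k ⊗[R] LinearMap.ker (vbar u v)) := by
  set uk := (u.restrictScalars R).baseChange k with huk
  set vk := (v.restrictScalars R).baseChange k with hvk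
  let π := ((LinearMap.range u).mkQ.restrictScalars R).baseChange k
  let vbk := ((vbar u v).restrictScalars R).baseChange k
  let q := ((LinearMap.range (v ∘ₗ u)).mkQ.restrictScalars R).baseChange k
  let jW := ((LinearMap.range (v ∘ₗ u)).subtype.restrictScalars R).baseChange k
  let jH := ((LinearMap.ker (vbar u v)).subtype.restrictScalars R).baseChange k
  have hπ : Function.Surjective π := LinearMap.lTensor_surjective k (surjective_restrictScalars R (Submodule.mkQ_surjective _))
  have hexπ : Function.Exact uk π :=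
    lTensor_exact k (exact_restrictScalars R (LinearMap.exact_map_mkQ_range u))
      (surjective_restrictScalars R (Submodule.mkQ_surjective _))
  have hvbπ : ∀ z, vbk (π z) = q (vk z) := fun z => by
    induction z using TensorProduct.induction_on with
    | zero => simp
    | add a b ha hb => simp only [map_add, ha, hb]
    | tmul c m => simp [vbk, π, q, hvk, vbar_mk]
  have hqker : Function.Exact jW q :=
    lTensor_exact k (exact_restrictScalars R (LinearMap.exact_subtype_mkQ _))
      (surjective_restrictScalars R (Submodule.mkQ_surjective _))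
  let ρ := ((v ∘ₗ u).rangeRestrict.restrictScalars R).baseChange k
  have hρ : Function.Surjective ρ := LinearMap.lTensor_surjective k (surjective_restrictScalars R (v ∘ₗ u).surjective_rangeRestrict)
  have hρvu : ∀ x, jW (ρ x) = vk (uk x) := fun x => by
    induction x using TensorProduct.induction_on with
    | zero => simp
    | add a b ha hb => simp only [map_add, ha, hb]
    | tmul c m => simp [jW, ρ, huk, hvk]
  have hkerH : ∀ z, vbk z = 0 ↔ z ∈ Set.range jH := by
    intro z
    have h1 : vbk z = ((LinearMap.range (vbar u v)).subtype.restrictScalars R).baseChange k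
        (((vbar u v).rangeRestrict.restrictScalars R).baseChange k z) := by
      induction z using TensorProduct.induction_on with
      | zero => simp
      | add a b ha hb => simp only [map_add, ha, hb]
      | tmul c m => simp [vbk]
    rw [h1, map_eq_zero_iff _ iR]
    exact lTensor_exact k (exact_restrictScalars R (exact_subtype_rangeRestrict (vbar u v)))
      (surjective_restrictScalars R (vbar u v).surjective_rangeRestrict) z
  constructor
  · intro hex
    haveI hWs : Subsingleton (k ⊗[R] LinearMap.range (v ∘ₗ u)) := subsingleton_of_forall_eq 0 fun w => by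
      obtain ⟨x, rfl⟩ := hρ w
      apply iW
      show jW (ρ x) = _
      rw [hρvu, hex.apply_apply_eq_zero, map_zero]
    refine ⟨hWs, subsingleton_of_forall_eq 0 fun h => iH ?_⟩
    show jH h = _
    rw [map_zero]
    obtain ⟨z, hz⟩ := hπ (jH h)
    have h0 : q (vk z) = 0 := by rw [← hvbπ, hz]; exact (hkerH _).mpr ⟨h, rfl⟩
    obtain ⟨w, hw⟩ := (hqker _).mp h0
    rw [Subsingleton.elim w 0, map_zero] at hw
    obtain ⟨x, rfl⟩ := (hex z).mp hw.symm
    rw [← hz, hexπ.apply_apply_eq_zero]
  · rintro ⟨hWs, hHs⟩ z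
    refine ⟨fun hz => (hexπ z).mp ?_, ?_⟩
    · have h0 : vbk (π z) = 0 := by rw [hvbπ, hz, map_zero]
      obtain ⟨h, hh⟩ := (hkerH _).mp h0
      rw [← hh, Subsingleton.elim h 0, map_zero]
    · rintro ⟨x, rfl⟩
      rw [← hρvu, Subsingleton.elim (ρ x) 0, map_zero]

/-- Over a dense open of the base exactness of the fibres does not vary. -/
theorem exists_generic [IsDomain R] [IsNoetherianRing R] [Algebra.FiniteType R P] [Module.Finite P M₁]
    [Module.Finite P M₂] [Module.Finite P M₃] (u : M₁ →ₗ[P] M₂) (v : M₂ →ₗ[P] M₃) :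
    ∃ (f : R) (E : Prop), f ≠ 0 ∧ ∀ (k : Type u) [Field k] [Algebra R k], algebraMap R k f ≠ 0 →
      (Function.Exact ((u.restrictScalars R).baseChange k) ((v.restrictScalars R).baseChange k) ↔ E) := by
  haveI : IsNoetherianRing P := Algebra.FiniteType.isNoetherianRing R P
  obtain ⟨f₁, hf₁, hW, -⟩ := Groth.L20.GF.exists_free_and_nearlyFP (R := R) (S := P) (LinearMap.range (v ∘ₗ u))
  obtain ⟨f₂, hf₂, hH, -⟩ := Groth.L20.GF.exists_free_and_nearlyFP (R := R) (S := P) (LinearMap.ker (vbar u v))
  obtain ⟨f₃, hf₃, hR, -⟩ := Groth.L20.GF.exists_free_and_nearlyFP (R := R) (S := P) (LinearMap.range (vbar u v))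
  obtain ⟨f₄, hf₄, hC, -⟩ := Groth.L20.GF.exists_free_and_nearlyFP (R := R) (S := P)
    ((M₃ ⧸ LinearMap.range (v ∘ₗ u)) ⧸ LinearMap.range (vbar u v))
  obtain ⟨f₅, hf₅, hQ, -⟩ := Groth.L20.GF.exists_free_and_nearlyFP (R := R) (S := P) (M₃ ⧸ LinearMap.range (v ∘ₗ u))
  let f := f₁ * f₂ * f₃ * f₄ * f₅
  let A := Localization.Away f
  have hu : ∀ g, g ∣ f → IsUnit (algebraMap R A g) := fun g hg =>
    isUnit_of_dvd_unit (map_dvd _ hg) (IsLocalization.Away.algebraMap_isUnit f)
  haveI hWf := Groth.L20.GF.free_of_isUnit A (hu f₁ ⟨f₂ * f₃ * f₄ * f₅, by simp only [f]; ring⟩) (LinearMap.range (v ∘ₗ u))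
  haveI hHf := Groth.L20.GF.free_of_isUnit A (hu f₂ ⟨f₁ * f₃ * f₄ * f₅, by simp only [f]; ring⟩) (LinearMap.ker (vbar u v))
  haveI hRf := Groth.L20.GF.free_of_isUnit A (hu f₃ ⟨f₁ * f₂ * f₄ * f₅, by simp only [f]; ring⟩) (LinearMap.range (vbar u v))
  haveI hCf := Groth.L20.GF.free_of_isUnit A (hu f₄ ⟨f₁ * f₂ * f₃ * f₅, by simp only [f]; ring⟩)
    ((M₃ ⧸ LinearMap.range (v ∘ₗ u)) ⧸ LinearMap.range (vbar u v))
  haveI hQf := Groth.L20.GF.free_of_isUnit A (hu f₅ ⟨f₁ * f₂ * f₃ * f₄, by simp only [f]; ring⟩) (M₃ ⧸ LinearMap.range (v ∘ₗ u))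
  haveI : Module.Flat R A := IsLocalization.flat A (Submonoid.powers f)
  refine ⟨f, Subsingleton (A ⊗[R] LinearMap.range (v ∘ₗ u)) ∧ Subsingleton (A ⊗[R] LinearMap.ker (vbar u v)),
    mul_ne_zero (mul_ne_zero (mul_ne_zero (mul_ne_zero hf₁ hf₂) hf₃) hf₄) hf₅, fun k _ _ hk => ?_⟩
  letI : Algebra A k := (IsLocalization.Away.lift (S := A) f (g := algebraMap R k) hk.isUnit).toAlgebra
  haveI : IsScalarTower R A k := IsScalarTower.of_algebraMap_eq fun r =>
    (IsLocalization.Away.lift_eq f (g := algebraMap R k) hk.isUnit r).symm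
  refine (exact_fibre_iff u v k
    (injective_fibre Subtype.val_injective (LinearMap.exact_subtype_mkQ _) (Submodule.mkQ_surjective _) A k)
    (injective_fibre Subtype.val_injective (LinearMap.exact_subtype_mkQ _) (Submodule.mkQ_surjective _) A k)
    (injective_fibre Subtype.val_injective (exact_subtype_rangeRestrict _)
      (vbar u v).surjective_rangeRestrict A k)).trans ?_
  exact and_congr (subsingleton_fibre_iff A k _) (subsingleton_fibre_iff A k _)

end Generic

/-! ### Constructibility -/

section Constructible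

variable {R P : Type u} [CommRing R] [IsNoetherianRing R] [CommRing P] [Algebra R P] [Algebra.FiniteType R P]
  {M₁ M₂ M₃ : Type u} [AddCommGroup M₁] [Module P M₁] [Module R M₁] [IsScalarTower R P M₁] [Module.Finite P M₁]
  [AddCommGroup M₂] [Module P M₂] [Module R M₂] [IsScalarTower R P M₂] [Module.Finite P M₂]
  [AddCommGroup M₃] [Module P M₃] [Module R M₃] [IsScalarTower R P M₃] [Module.Finite P M₃]

omit [IsNoetherianRing R] [Algebra.FiniteType R P] [Module.Finite P M₁] [Module.Finite P M₂] [Module.Finite P M₃] in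
theorem exact_pushout (u : M₁ →ₗ[P] M₂) (v : M₂ →ₗ[P] M₃) (B P' : Type u) [CommRing B] [Algebra R B]
    [CommRing P'] [Algebra R P'] [Algebra B P'] [Algebra P P'] [IsScalarTower R B P'] [IsScalarTower R P P']
    [Algebra.IsPushout R B P P'] (k : Type u) [CommRing k] [Algebra R k] [Algebra B k] [IsScalarTower R B k] :
    Function.Exact ((u.restrictScalars R).baseChange k) ((v.restrictScalars R).baseChange k) ↔
      Function.Exact (((u.baseChange P').restrictScalars B).baseChange k)
        (((v.baseChange P').restrictScalars B).baseChange k) :=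
  exact_model k (Algebra.IsPushout.cancelBaseChange R B P P' M₁).symm
    (Algebra.IsPushout.cancelBaseChange R B P P' M₂).symm (Algebra.IsPushout.cancelBaseChange R B P P' M₃).symm
    (fun m => by simp) (fun m => by simp)

/-- On an irreducible closed set exactness of fibres is constant on a nonempty open. -/
theorem exists_generic_prime (u : M₁ →ₗ[P] M₂) (v : M₂ →ₗ[P] M₃) (q : Ideal R) [q.IsPrime] :
    ∃ (f : R) (E : Prop), f ∉ q ∧ ∀ p : PrimeSpectrum R, q ≤ p.asIdeal → f ∉ p.asIdeal →
      (Function.Exact ((u.restrictScalars R).baseChange p.asIdeal.ResidueField)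
        ((v.restrictScalars R).baseChange p.asIdeal.ResidueField) ↔ E) := by
  letI : Algebra P ((R ⧸ q) ⊗[R] P) := Algebra.TensorProduct.rightAlgebra
  obtain ⟨f, E, hf, hE⟩ := exists_generic (R := R ⧸ q) (P := (R ⧸ q) ⊗[R] P)
    (u.baseChange ((R ⧸ q) ⊗[R] P)) (v.baseChange ((R ⧸ q) ⊗[R] P))
  obtain ⟨f, rfl⟩ := Ideal.Quotient.mk_surjective f
  refine ⟨f, E, fun h => hf (Ideal.Quotient.eq_zero_iff_mem.mpr h), fun p hle hpf => ?_⟩
  letI : Algebra (R ⧸ q) p.asIdeal.ResidueField := (Ideal.Quotient.lift q (algebraMap R _)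
    fun r hr => Ideal.algebraMap_residueField_eq_zero.mpr (hle hr)).toAlgebra
  haveI : IsScalarTower R (R ⧸ q) p.asIdeal.ResidueField := IsScalarTower.of_algebraMap_eq fun _ => rfl
  exact (exact_pushout u v (R ⧸ q) ((R ⧸ q) ⊗[R] P) p.asIdeal.ResidueField).trans
    (hE _ fun h => hpf (Ideal.algebraMap_residueField_eq_zero.mp h))

theorem isConstructible_noetherian (u : M₁ →ₗ[P] M₂) (v : M₂ →ₗ[P] M₃) :
    IsConstructible {p : PrimeSpectrum R |
      Function.Exact ((u.restrictScalars R).baseChange p.asIdeal.ResidueField)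
        ((v.restrictScalars R).baseChange p.asIdeal.ResidueField)} := by
  refine Groth.L06.Constr.isConstructible_of_forall_irreducible fun Y hY hirr => ?_
  obtain ⟨q, hq⟩ := QuasiSober.sober hirr hY
  obtain ⟨f, E, hfq, hE⟩ := exists_generic_prime u v q.asIdeal
  refine ⟨PrimeSpectrum.basicOpen f, (PrimeSpectrum.basicOpen f).2, ⟨q, hfq, hq.mem⟩, ?_⟩
  by_cases hE' : E
  · exact Or.inl fun p hp => (hE p ((PrimeSpectrum.le_iff_specializes q p).mpr (hq.specializes hp.2)) hp.1).mpr hE'
  · exact Or.inr fun p hp h => hE'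
      ((hE p ((PrimeSpectrum.le_iff_specializes q p).mpr (hq.specializes hp.2)) hp.1).mp h)

end Constructible

/-! ### Models over finitely generated rings -/

theorem exists_lift_vec {R : Type u} [CommRing R] (R₀ : Subalgebra ℤ R) {d b : ℕ}
    (y : Fin b → MvPolynomial (Fin d) R) (hy : ∀ i, ∀ c ∈ (y i).coeffs, c ∈ R₀) :
    ∃ y₀ : Fin b → MvPolynomial (Fin d) R₀, ∀ i, MvPolynomial.map (algebraMap R₀ R) (y₀ i) = y i := by
  have : ∀ i, y i ∈ Set.range (MvPolynomial.map (algebraMap R₀ R)) := fun i => by
    rw [MvPolynomial.mem_range_map_iff_coeffs_subset]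
    exact fun c hc => ⟨⟨c, hy i c hc⟩, rfl⟩
  choose y₀ h using this
  exact ⟨y₀, h⟩

section Free

variable {R : Type u} [CommRing R] (R₀ : Subalgebra ℤ R) (d : ℕ)

/-- `R ⊗ P₀ⁿ = Pⁿ`. -/
noncomputable def freeModel (n : ℕ) :
    R ⊗[R₀] (Fin n → MvPolynomial (Fin d) R₀) ≃ₗ[R] (Fin n → MvPolynomial (Fin d) R) :=
  letI := MvPolynomial.algebraMvPolynomial (R := R₀) (S := R) (σ := Fin d)
  (Algebra.IsPushout.cancelBaseChange R₀ R (MvPolynomial (Fin d) R₀) (MvPolynomial (Fin d) R)
      (Fin n → MvPolynomial (Fin d) R₀)).symm ≪≫ₗ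
    (TensorProduct.piScalarRight (MvPolynomial (Fin d) R₀) (MvPolynomial (Fin d) R) (MvPolynomial (Fin d) R)
      (Fin n)).restrictScalars R

theorem freeModel_tmul (n : ℕ) (z : Fin n → MvPolynomial (Fin d) R₀) (j : Fin n) :
    freeModel R₀ d n (1 ⊗ₜ z) j = MvPolynomial.map (algebraMap R₀ R) (z j) := by
  letI := MvPolynomial.algebraMvPolynomial (R := R₀) (S := R) (σ := Fin d)
  simp [freeModel, Algebra.smul_def]

theorem freeModel_linearCombination {n n' : ℕ} (y₀ : Fin n → Fin n' → MvPolynomial (Fin d) R₀)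
    (y : Fin n → Fin n' → MvPolynomial (Fin d) R) (hy : ∀ i j, MvPolynomial.map (algebraMap R₀ R) (y₀ i j) = y i j)
    (z : Fin n → MvPolynomial (Fin d) R₀) :
    Fintype.linearCombination (MvPolynomial (Fin d) R) y (freeModel R₀ d n (1 ⊗ₜ z)) =
      freeModel R₀ d n' (1 ⊗ₜ Fintype.linearCombination (MvPolynomial (Fin d) R₀) y₀ z) := by
  funext j
  simp [freeModel_tmul, Fintype.linearCombination_apply, map_sum, hy]

set_option maxHeartbeats 1600000 in
/-- Exactness of fibres is computed on a model over the subring. -/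
theorem exact_finite_model {m b c e : ℕ}
    {F G H : Type u} [AddCommGroup F] [Module (MvPolynomial (Fin d) R) F] [Module R F]
    [IsScalarTower R (MvPolynomial (Fin d) R) F]
    [AddCommGroup G] [Module (MvPolynomial (Fin d) R) G] [Module R G] [IsScalarTower R (MvPolynomial (Fin d) R) G]
    [AddCommGroup H] [Module (MvPolynomial (Fin d) R) H] [Module R H] [IsScalarTower R (MvPolynomial (Fin d) R) H]
    (u : F →ₗ[MvPolynomial (Fin d) R] G) (v : G →ₗ[MvPolynomial (Fin d) R] H)
    (πG : (Fin b → MvPolynomial (Fin d) R) →ₗ[MvPolynomial (Fin d) R] G) (hπG : Function.Surjective πG)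
    (πH : (Fin c → MvPolynomial (Fin d) R) →ₗ[MvPolynomial (Fin d) R] H) (hπH : Function.Surjective πH)
    {U : Fin m → Fin b → MvPolynomial (Fin d) R}
    (hU : Submodule.span (MvPolynomial (Fin d) R) (Set.range U) = (LinearMap.range u).comap πG)
    {V : Fin b → Fin c → MvPolynomial (Fin d) R} (hV : ∀ i, πH (V i) = v (πG (Pi.single i 1)))
    {N : Fin e → Fin c → MvPolynomial (Fin d) R}
    (hN : Submodule.span (MvPolynomial (Fin d) R) (Set.range N) = LinearMap.ker πH)
    {U₀ : Fin m → Fin b → MvPolynomial (Fin d) R₀} (hU₀ : ∀ i j, MvPolynomial.map (algebraMap R₀ R) (U₀ i j) = U i j)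
    {V₀ : Fin b → Fin c → MvPolynomial (Fin d) R₀} (hV₀ : ∀ i j, MvPolynomial.map (algebraMap R₀ R) (V₀ i j) = V i j)
    {N₀ : Fin e → Fin c → MvPolynomial (Fin d) R₀} (hN₀ : ∀ i j, MvPolynomial.map (algebraMap R₀ R) (N₀ i j) = N i j)
    (k : Type u) [CommRing k] [Algebra R k] :
    Function.Exact ((u.restrictScalars R).baseChange k) ((v.restrictScalars R).baseChange k) ↔
      Function.Exact (((Fintype.linearCombination (MvPolynomial (Fin d) R₀) U₀).restrictScalars R₀).baseChange k)
        ((((LinearMap.range (Fintype.linearCombination (MvPolynomial (Fin d) R₀) N₀)).mkQ ∘ₗ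
          Fintype.linearCombination (MvPolynomial (Fin d) R₀) V₀).restrictScalars R₀).baseChange k) := by
  let u' := Fintype.linearCombination (MvPolynomial (Fin d) R) U
  let V' := Fintype.linearCombination (MvPolynomial (Fin d) R) V
  let N' := Fintype.linearCombination (MvPolynomial (Fin d) R) N
  let n₀ := Fintype.linearCombination (MvPolynomial (Fin d) R₀) N₀
  have hV' : πH ∘ₗ V' = v ∘ₗ πG := by
    refine (Pi.basisFun (MvPolynomial (Fin d) R) (Fin b)).ext fun i => ?_
    simp [V', Fintype.linearCombination_apply, Pi.single_apply, hV]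
  -- the model of `H`
  let η := ((LinearMap.range n₀).mkQ.restrictScalars R₀).baseChange R
  let θ := πH.restrictScalars R ∘ₗ (freeModel R₀ d c).toLinearMap
  have hη : Function.Surjective η := LinearMap.lTensor_surjective R (surjective_restrictScalars R₀ (Submodule.mkQ_surjective _))
  have hθ : Function.Surjective θ := hπH.comp (freeModel R₀ d c).surjective
  have hηker : Function.Exact ((n₀.restrictScalars R₀).baseChange R) η :=
    lTensor_exact R (exact_restrictScalars R₀ (LinearMap.exact_map_mkQ_range n₀))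
      (surjective_restrictScalars R₀ (Submodule.mkQ_surjective _))
  have hsqN : ∀ z, freeModel R₀ d c ((n₀.restrictScalars R₀).baseChange R z) = N' (freeModel R₀ d e z) := fun z => by
    induction z using TensorProduct.induction_on with
    | zero => simp
    | add a b ha hb => simp only [map_add, ha, hb]
    | tmul r w =>
      have h1 : r ⊗ₜ[R₀] w = r • ((1 : R) ⊗ₜ[R₀] w) := by rw [smul_tmul', smul_eq_mul, mul_one]
      rw [h1, map_smul, map_smul, map_smul, LinearMap.map_smul_of_tower]
      congr 1
      exact (freeModel_linearCombination R₀ d N₀ N hN₀ w).symm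
  have hker : LinearMap.ker η = LinearMap.ker θ := by
    ext z
    rw [LinearMap.mem_ker, LinearMap.mem_ker, hηker z]
    show _ ↔ πH (freeModel R₀ d c z) = 0
    rw [← LinearMap.mem_ker, ← hN, ← Fintype.range_linearCombination, LinearMap.mem_range]
    constructor
    · rintro ⟨w, rfl⟩
      exact ⟨freeModel R₀ d e w, (hsqN w).symm⟩
    · rintro ⟨w, hw⟩
      obtain ⟨w, rfl⟩ := (freeModel R₀ d e).surjective w
      exact ⟨w, (freeModel R₀ d c).injective (by rw [hsqN]; exact hw)⟩
  let eH : R ⊗[R₀] ((Fin c → MvPolynomial (Fin d) R₀) ⧸ LinearMap.range n₀) ≃ₗ[R] H :=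
    (η.quotKerEquivOfSurjective hη).symm ≪≫ₗ Submodule.quotEquivOfEq _ _ hker ≪≫ₗ θ.quotKerEquivOfSurjective hθ
  have heH : ∀ z, eH (η z) = θ z := fun z => by
    have : (η.quotKerEquivOfSurjective hη).symm (η z) = Submodule.Quotient.mk z :=
      (η.quotKerEquivOfSurjective hη).injective (by rw [LinearEquiv.apply_symm_apply]; rfl)
    show θ.quotKerEquivOfSurjective hθ (Submodule.quotEquivOfEq _ _ hker ((η.quotKerEquivOfSurjective hη).symm (η z))) = θ z
    rw [this]
    rfl
  rw [exact_of_cover (u.restrictScalars R) (v.restrictScalars R) (u'.restrictScalars R) (πG.restrictScalars R) hπG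
    (by
      ext z
      show z ∈ LinearMap.range u' ↔ _
      rw [Fintype.range_linearCombination, hU]
      exact Iff.rfl) k]
  symm
  refine exact_model k (freeModel R₀ d m) (freeModel R₀ d b) eH (fun z => ?_) (fun z => ?_)
  · exact freeModel_linearCombination R₀ d U₀ U hU₀ z
  · show v (πG (freeModel R₀ d b (1 ⊗ₜ z))) = eH (η (1 ⊗ₜ Fintype.linearCombination (MvPolynomial (Fin d) R₀) V₀ z))
    rw [heH, ← LinearMap.comp_apply v πG, ← hV']
    show πH (V' (freeModel R₀ d b (1 ⊗ₜ z))) = πH (freeModel R₀ d c (1 ⊗ₜ Fintype.linearCombination _ V₀ z))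
    rw [freeModel_linearCombination R₀ d V₀ V hV₀ z]

/-- The case of a polynomial ring. -/
theorem isConstructible_poly
    {F G H : Type u} [AddCommGroup F] [Module (MvPolynomial (Fin d) R) F] [Module R F]
    [IsScalarTower R (MvPolynomial (Fin d) R) F] [Module.Finite (MvPolynomial (Fin d) R) F]
    [AddCommGroup G] [Module (MvPolynomial (Fin d) R) G] [Module R G] [IsScalarTower R (MvPolynomial (Fin d) R) G]
    [Module.FinitePresentation (MvPolynomial (Fin d) R) G]
    [AddCommGroup H] [Module (MvPolynomial (Fin d) R) H] [Module R H] [IsScalarTower R (MvPolynomial (Fin d) R) H]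
    [Module.FinitePresentation (MvPolynomial (Fin d) R) H]
    (u : F →ₗ[MvPolynomial (Fin d) R] G) (v : G →ₗ[MvPolynomial (Fin d) R] H) :
    IsConstructible {p : PrimeSpectrum R |
      Function.Exact ((u.restrictScalars R).baseChange p.asIdeal.ResidueField)
        ((v.restrictScalars R).baseChange p.asIdeal.ResidueField)} := by
  classical
  obtain ⟨b, πG, hπG⟩ := Module.Finite.exists_fin' (MvPolynomial (Fin d) R) G
  have hK : ((LinearMap.range u).comap πG).FG := by
    have : Module.FinitePresentation (MvPolynomial (Fin d) R) (G ⧸ LinearMap.range u) :=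
      Module.finitePresentation_of_surjective (LinearMap.range u).mkQ (Submodule.mkQ_surjective _)
        (by rw [Submodule.ker_mkQ]; exact LinearMap.range_eq_map u ▸ (Module.Finite.fg_top (R := MvPolynomial (Fin d) R) (M := F)).map u)
    have h := Module.FinitePresentation.fg_ker ((LinearMap.range u).mkQ ∘ₗ πG)
      ((Submodule.mkQ_surjective _).comp hπG)
    rwa [LinearMap.ker_comp, Submodule.ker_mkQ] at h
  obtain ⟨m, U, hU⟩ := Submodule.fg_iff_exists_fin_generating_family.mp hK
  obtain ⟨c, πH, hπH⟩ := Module.Finite.exists_fin' (MvPolynomial (Fin d) R) H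
  obtain ⟨e, N, hN⟩ := Submodule.fg_iff_exists_fin_generating_family.mp
    (Module.FinitePresentation.fg_ker πH hπH)
  have hV : ∀ i, ∃ y, πH y = v (πG (Pi.single i 1)) := fun i => hπH _
  choose V hV using hV
  let W : Finset R :=
    (Finset.univ.biUnion fun i : Fin m => Finset.univ.biUnion fun j : Fin b => (U i j).coeffs) ∪
    (Finset.univ.biUnion fun i : Fin b => Finset.univ.biUnion fun j : Fin c => (V i j).coeffs) ∪
    (Finset.univ.biUnion fun i : Fin e => Finset.univ.biUnion fun j : Fin c => (N i j).coeffs)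
  let R₁ := Algebra.adjoin ℤ (W : Set R)
  haveI : IsNoetherianRing R₁ := by
    haveI : Algebra.FiniteType ℤ R₁ := R₁.fg_iff_finiteType.mp ⟨W, rfl⟩
    exact Algebra.FiniteType.isNoetherianRing ℤ R₁
  have hW : ∀ r ∈ W, r ∈ R₁ := fun r hr => Algebra.subset_adjoin hr
  have hU' : ∀ i, ∃ y₀ : Fin b → MvPolynomial (Fin d) R₁, ∀ j, MvPolynomial.map (algebraMap R₁ R) (y₀ j) = U i j :=
    fun i => exists_lift_vec R₁ _ fun j r hr => hW r (by
      simp only [W, Finset.mem_union, Finset.mem_biUnion, Finset.mem_univ, true_and]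
      exact Or.inl (Or.inl ⟨i, j, hr⟩))
  have hV' : ∀ i, ∃ y₀ : Fin c → MvPolynomial (Fin d) R₁, ∀ j, MvPolynomial.map (algebraMap R₁ R) (y₀ j) = V i j :=
    fun i => exists_lift_vec R₁ _ fun j r hr => hW r (by
      simp only [W, Finset.mem_union, Finset.mem_biUnion, Finset.mem_univ, true_and]
      exact Or.inl (Or.inr ⟨i, j, hr⟩))
  have hN' : ∀ i, ∃ y₀ : Fin c → MvPolynomial (Fin d) R₁, ∀ j, MvPolynomial.map (algebraMap R₁ R) (y₀ j) = N i j :=
    fun i => exists_lift_vec R₁ _ fun j r hr => hW r (by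
      simp only [W, Finset.mem_union, Finset.mem_biUnion, Finset.mem_univ, true_and]
      exact Or.inr ⟨i, j, hr⟩)
  choose U₀ hU₀ using hU'
  choose V₀ hV₀ using hV'
  choose N₀ hN₀ using hN'
  have h0 := isConstructible_noetherian (R := R₁) (P := MvPolynomial (Fin d) R₁)
    (Fintype.linearCombination (MvPolynomial (Fin d) R₁) U₀)
    ((LinearMap.range (Fintype.linearCombination (MvPolynomial (Fin d) R₁) N₀)).mkQ ∘ₗ
      Fintype.linearCombination (MvPolynomial (Fin d) R₁) V₀)
  have hset : {p : PrimeSpectrum R | Function.Exact ((u.restrictScalars R).baseChange p.asIdeal.ResidueField)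
        ((v.restrictScalars R).baseChange p.asIdeal.ResidueField)} =
      PrimeSpectrum.comap (algebraMap R₁ R) ⁻¹' {p : PrimeSpectrum R₁ |
        Function.Exact (((Fintype.linearCombination (MvPolynomial (Fin d) R₁) U₀).restrictScalars R₁).baseChange
            p.asIdeal.ResidueField)
          ((((LinearMap.range (Fintype.linearCombination (MvPolynomial (Fin d) R₁) N₀)).mkQ ∘ₗ
            Fintype.linearCombination (MvPolynomial (Fin d) R₁) V₀).restrictScalars R₁).baseChange
              p.asIdeal.ResidueField)} := by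
    ext p
    simp only [Set.mem_ofPred_eq, Set.mem_preimage]
    letI : Algebra (PrimeSpectrum.comap (algebraMap R₁ R) p).asIdeal.ResidueField p.asIdeal.ResidueField :=
      (Ideal.ResidueField.map (PrimeSpectrum.comap (algebraMap R₁ R) p).asIdeal p.asIdeal (algebraMap R₁ R) rfl).toAlgebra
    haveI : IsScalarTower R₁ (PrimeSpectrum.comap (algebraMap R₁ R) p).asIdeal.ResidueField p.asIdeal.ResidueField :=
      IsScalarTower.of_algebraMap_eq fun r => by
        rw [RingHom.algebraMap_toAlgebra, Ideal.ResidueField.map_algebraMap]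
        exact IsScalarTower.algebraMap_apply R₁ R p.asIdeal.ResidueField r
    exact (exact_finite_model R₁ d u v πG hπG πH hπH hU hV hN hU₀ hV₀ hN₀ p.asIdeal.ResidueField).trans
      (exact_field_ext (k := (PrimeSpectrum.comap (algebraMap R₁ R) p).asIdeal.ResidueField)
        (k' := p.asIdeal.ResidueField) _ _)
  rw [hset]
  obtain ⟨T, hT⟩ := PrimeSpectrum.exists_constructibleSetData_iff.mpr h0
  rw [← hT, ← PrimeSpectrum.ConstructibleSetData.toSet_map]
  exact PrimeSpectrum.ConstructibleSetData.isConstructible_toSet _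

end Free

/-- Constructibility of the exactness locus of fibres. -/
theorem isConstructible {R B : Type u} [CommRing R] [CommRing B] [Algebra R B] [Algebra.FinitePresentation R B]
    {F G H : Type u} [AddCommGroup F] [Module B F] [Module R F] [IsScalarTower R B F] [Module.FinitePresentation B F]
    [AddCommGroup G] [Module B G] [Module R G] [IsScalarTower R B G] [Module.FinitePresentation B G]
    [AddCommGroup H] [Module B H] [Module R H] [IsScalarTower R B H] [Module.FinitePresentation B H]
    (u : F →ₗ[B] G) (v : G →ₗ[B] H) :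
    IsConstructible {p : PrimeSpectrum R |
      Function.Exact ((u.restrictScalars R).baseChange p.asIdeal.ResidueField)
        ((v.restrictScalars R).baseChange p.asIdeal.ResidueField)} := by
  obtain ⟨d, φ, hφ, hkerφ⟩ := Algebra.FinitePresentation.out (R := R) (A := B)
  let P := MvPolynomial (Fin d) R
  letI := φ.toRingHom.toAlgebra
  haveI : IsScalarTower R P B := IsScalarTower.of_algebraMap_eq fun a => (φ.commutes a).symm
  haveI : Module.FinitePresentation P B :=
    Module.finitePresentation_of_surjective (Algebra.linearMap P B) hφ hkerφ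
  letI : Module P F := Module.compHom F φ.toRingHom
  haveI : IsScalarTower P B F := ⟨fun p b m => by rw [Algebra.smul_def, mul_smul]; rfl⟩
  haveI : IsScalarTower R P F := IsScalarTower.of_algebraMap_smul fun a m => by
    show φ (algebraMap R P a) • m = a • m
    rw [φ.commutes, algebraMap_smul]
  letI : Module P G := Module.compHom G φ.toRingHom
  haveI : IsScalarTower P B G := ⟨fun p b m => by rw [Algebra.smul_def, mul_smul]; rfl⟩
  haveI : IsScalarTower R P G := IsScalarTower.of_algebraMap_smul fun a m => by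
    show φ (algebraMap R P a) • m = a • m
    rw [φ.commutes, algebraMap_smul]
  letI : Module P H := Module.compHom H φ.toRingHom
  haveI : IsScalarTower P B H := ⟨fun p b m => by rw [Algebra.smul_def, mul_smul]; rfl⟩
  haveI : IsScalarTower R P H := IsScalarTower.of_algebraMap_smul fun a m => by
    show φ (algebraMap R P a) • m = a • m
    rw [φ.commutes, algebraMap_smul]
  haveI : Module.FinitePresentation P G := Module.FinitePresentation.trans P G B
  haveI : Module.FinitePresentation P H := Module.FinitePresentation.trans P H B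
  haveI : Module.Finite P F := Module.Finite.trans B F
  exact isConstructible_poly d (u.restrictScalars P) (v.restrictScalars P)

/-- Exactness at the generic point spreads out. -/
theorem exists_basicOpen {R B : Type u} [CommRing R] [IsDomain R] [CommRing B] [Algebra R B] [Algebra.FinitePresentation R B]
    {F G H : Type u} [AddCommGroup F] [Module B F] [Module R F] [IsScalarTower R B F] [Module.FinitePresentation B F]
    [AddCommGroup G] [Module B G] [Module R G] [IsScalarTower R B G] [Module.FinitePresentation B G]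
    [AddCommGroup H] [Module B H] [Module R H] [IsScalarTower R B H] [Module.FinitePresentation B H]
    (u : F →ₗ[B] G) (v : G →ₗ[B] H)
    (hgen : Function.Exact ((u.restrictScalars R).baseChange (FractionRing R))
      ((v.restrictScalars R).baseChange (FractionRing R))) :
    ∃ f : R, f ≠ 0 ∧ ∀ p : PrimeSpectrum R, f ∉ p.asIdeal →
      Function.Exact ((u.restrictScalars R).baseChange p.asIdeal.ResidueField)
        ((v.restrictScalars R).baseChange p.asIdeal.ResidueField) := by
  let η : PrimeSpectrum R := ⟨⊥, Ideal.isPrime_bot⟩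
  let ι : FractionRing R →+* η.asIdeal.ResidueField := IsFractionRing.lift (g := algebraMap R η.asIdeal.ResidueField)
    ((injective_iff_map_eq_zero _).mpr fun r hr => (Ideal.mem_bot.mp (Ideal.algebraMap_residueField_eq_zero.mp hr)))
  letI := ι.toAlgebra
  haveI : IsScalarTower R (FractionRing R) η.asIdeal.ResidueField :=
    IsScalarTower.of_algebraMap_eq fun r => (IsFractionRing.lift_algebraMap _ r).symm
  have hη := (exact_field_ext (k := FractionRing R) (k' := η.asIdeal.ResidueField)
    (u.restrictScalars R) (v.restrictScalars R)).mpr hgen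
  obtain ⟨n, L, hL, hE⟩ := Groth.L06.Constr.exists_finite_isLocallyClosed (isConstructible (R := R) (B := B) (F := F) (G := G) (H := H) u v)
  have hη' : η ∈ ⋃ i, L i := hE ▸ hη
  obtain ⟨U, hU, hne, hsub⟩ := Groth.L06.Constr.exists_open_inter_subset hL
    (Z := (Set.univ : Set (PrimeSpectrum R))) (IrreducibleSpace.isIrreducible_univ _) (by
    intro p _
    rw [Set.inter_univ]
    refine closure_mono (Set.singleton_subset_iff.mpr hη') ?_
    rw [PrimeSpectrum.closure_singleton, PrimeSpectrum.mem_zeroLocus]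
    exact fun r hr => by rw [Ideal.mem_bot.mp hr]; exact zero_mem _)
  obtain ⟨q, -, hqU⟩ := hne
  obtain ⟨_, ⟨f, rfl⟩, hqf, hfU⟩ := PrimeSpectrum.isTopologicalBasis_basic_opens.exists_subset_of_mem_open hqU hU
  refine ⟨f, fun h => hqf (h ▸ zero_mem _), fun p hp => ?_⟩
  have := hsub ⟨hfU hp, Set.mem_univ p⟩
  rwa [← hE] at this

end Groth.L19.FibreExact
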