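import Groth.Agent.S1421
import Groth.Agent.S1426
import Groth.Agent.L03.MiracleQF
import Groth.Agent.L04.CMLoc
import Groth.Agent.L20.FlatStalk
import Groth.Agent.L22.Cyc.FiniteDeg
import Groth.Agent.L22.FibreDim
import Groth.Agent.L18.CurveDimension
import Groth.Agent.L26.KL.RankScheme
import Mathlib.FieldTheory.PurelyInseparable.Basic

/-!
# The rank of a finite fibre of a morphism of regular varieties is at most the degree
-/

universe u

open CategoryTheory Limits AlgebraicGeometry TopologicalSpace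

namespace Groth.L19.FibreRank

set_option linter.style.haveILetI false
set_option backward.isDefEq.respectTransparency.types false
set_option backward.isDefEq.respectTransparency false

variable {X Y : Scheme.{u}}

/-- The weight `length · inseparable degree`. -/
noncomputable def wt (f : X ⟶ Y) (x : X) : ℤ :=
  (Module.length (X.presheaf.stalk x) (X.presheaf.stalk x ⧸
    Ideal.map (f.stalkMap x).hom (IsLocalRing.maximalIdeal (Y.presheaf.stalk (f x))))).toNat *
  (letI := (f.residueFieldMap x).hom.toAlgebra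
   (Field.finInsepDegree (Y.residueField (f x)) (X.residueField x) : ℤ))

theorem wt_mul_sep (f : X ⟶ Y) (x : X) :
    wt f x * (letI := (f.residueFieldMap x).hom.toAlgebra
      (Field.finSepDegree (Y.residueField (f x)) (X.residueField x) : ℤ)) =
      ((f.residueDegree x * (Groth.L22.Cyc.mult f x).toNat : ℕ) : ℤ) := by
  letI := (f.residueFieldMap x).hom.toAlgebra
  have h : Field.finSepDegree (Y.residueField (f x)) (X.residueField x) *
      Field.finInsepDegree (Y.residueField (f x)) (X.residueField x) = f.residueDegree x :=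
    Field.finSepDegree_mul_finInsepDegree _ _
  show ((Groth.L22.Cyc.mult f x).toNat : ℤ) * _ * _ = _
  rw [← h]; push_cast; ring

/-- The rank of a finite fibre is the fibre integral of `wt`. -/
theorem finrank_fibre_eq_integral (f : X ⟶ Y) (y : Y) [IsFinite (f.fiberToSpecResidueField y)]
    (s : Spec (Y.residueField y)) :
    ((f.fiberToSpecResidueField y).finrank s : ℤ) = MoreMor.fibreIntegral f (wt f) y := by
  haveI : Finite (f.fiber y) :=
    Set.finite_univ_iff.mp <| ((f.fiberToSpecResidueField y).finite_preimage_singleton s).subset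
      fun z _ => Subsingleton.elim (f.fiberToSpecResidueField y z) s
  rw [Groth.L22.Cyc.finrank_eq_sum_field (Y.residueField y) (f.fiberToSpecResidueField y) s,
    MoreMor.fibreIntegral]
  let e : f.fiber y → {u : X // f u = y} := fun z =>
    ⟨f.fiberι y z, (f.range_fiberι y).subset ⟨z, rfl⟩⟩
  have he : Function.Bijective e := by
    refine ⟨fun a b h => (f.fiberι y).isEmbedding.injective (congrArg Subtype.val h), ?_⟩
    rintro ⟨u, hu⟩
    obtain ⟨z, hz⟩ := (f.range_fiberι y).ge hu
    exact ⟨z, Subtype.ext hz⟩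
  rw [← finsum_eq_of_bijective e he (fun z => rfl), Nat.cast_finsum]
  refine finsum_congr fun z => ?_
  rw [wt_mul_sep, Groth.L22.Cyc.fiberι_residueDegree]
  norm_cast
  congr 2
  obtain ⟨hs, hk⟩ := Groth.L18.stalkMap_fiberι f y z
  rw [← Groth.L22.Cyc.length_self_of_ringEquiv (RingHom.quotientKerEquivOfSurjective hs),
    ← Module.length_eq_of_surjective (S := X.presheaf.stalk (f.fiberι y z))
      (R := X.presheaf.stalk (f.fiberι y z) ⧸ _) (M := X.presheaf.stalk (f.fiberι y z) ⧸ _)
      Ideal.Quotient.mk_surjective, hk]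
  rfl

variable (k : Type u) [Field k] [X.Over (Spec (CommRingCat.of k))] [Y.Over (Spec (CommRingCat.of k))]

/-- Miracle flatness for quasi-finite morphisms of regular varieties of equal dimension. -/
theorem flat_of_locallyQuasiFinite [IsIntegral X] [IsIntegral Y]
    [LocallyOfFiniteType (X ↘ Spec (CommRingCat.of k))]
    [LocallyOfFiniteType (Y ↘ Spec (CommRingCat.of k))]
    (f : X ⟶ Y) [LocallyQuasiFinite f] [LocallyOfFiniteType f]
    (hf : f ≫ (Y ↘ Spec (CommRingCat.of k)) = X ↘ Spec (CommRingCat.of k))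
    (hdim : topologicalKrullDim ↥X = topologicalKrullDim ↥Y)
    (hX : ∀ x : X, IsRegularLocalRing (X.presheaf.stalk x))
    (hY : ∀ y : Y, IsRegularLocalRing (Y.presheaf.stalk y)) : Flat f := by
  rw [Flat.iff_flat_stalkMap]
  intro x
  obtain ⟨_, ⟨U, hU, rfl⟩, hxU, -⟩ :=
    Y.isBasis_affineOpens.exists_subset_of_mem_open (Set.mem_univ (f x)) isOpen_univ
  change Y.Opens at U
  obtain ⟨_, ⟨V, hV, rfl⟩, hxV, hVU⟩ :=
    X.isBasis_affineOpens.exists_subset_of_mem_open (show x ∈ f ⁻¹ᵁ U from hxU) (f ⁻¹ᵁ U).isOpen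
  change X.Opens at V
  rw [Groth.L20.flat_stalkMap_iff f hU hV hVU hxV]
  letI : Algebra Γ(Y, U) Γ(X, V) := (f.appLE U V hVU).hom.toAlgebra
  letI : Algebra k Γ(Y, U) := (Groth.L22.SchemeDim.sectHom k Y U).toAlgebra
  letI : Algebra k Γ(X, V) := (Groth.L22.SchemeDim.sectHom k X V).toAlgebra
  haveI : IsScalarTower k Γ(Y, U) Γ(X, V) := by
    refine IsScalarTower.of_algebraMap_eq' ?_
    change Groth.L22.SchemeDim.sectHom k X V = (f.appLE U V hVU).hom.comp _
    have e : ∀ (Z : Scheme.{u}) [Z.Over (Spec (CommRingCat.of k))] (W : Z.Opens),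
        Groth.L22.SchemeDim.sectHom k Z W =
          ((Scheme.ΓSpecIso (CommRingCat.of k)).inv ≫
            (Z ↘ Spec (CommRingCat.of k)).appLE ⊤ W le_top).hom := fun Z _ W => rfl
    rw [e X V]
    change _ = (((Scheme.ΓSpecIso (CommRingCat.of k)).inv ≫
        (Y ↘ Spec (CommRingCat.of k)).appLE ⊤ U le_top) ≫ f.appLE U V hVU).hom
    rw [Category.assoc, Scheme.Hom.appLE_comp_appLE]
    simp only [hf]
  haveI : Algebra.FiniteType k Γ(Y, U) :=
    RingHom.finiteType_algebraMap.1 (Groth.L22.SchemeDim.finiteType_sectHom k Y hU)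
  haveI : Algebra.FiniteType k Γ(X, V) :=
    RingHom.finiteType_algebraMap.1 (Groth.L22.SchemeDim.finiteType_sectHom k X hV)
  haveI : IsNoetherianRing Γ(X, V) := Algebra.FiniteType.isNoetherianRing k _
  haveI : Algebra.QuasiFinite Γ(Y, U) Γ(X, V) :=
    HasRingHomProperty.appLE @LocallyQuasiFinite f ‹_› ⟨U, hU⟩ ⟨V, hV⟩ hVU
  haveI : Nonempty U := ⟨⟨f x, hxU⟩⟩
  haveI : Nonempty V := ⟨⟨x, hxV⟩⟩
  haveI : IsDomain Γ(Y, U) := inferInstance
  haveI : IsDomain Γ(X, V) := inferInstance
  let q := (hV.primeIdealOf ⟨x, hxV⟩).asIdeal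
  let p := q.under Γ(Y, U)
  haveI : p.IsPrime := inferInstance
  haveI : q.LiesOver p := ⟨rfl⟩
  haveI : IsRegularLocalRing (Localization.AtPrime q) := by
    letI : Algebra Γ(X, V) (X.presheaf.stalk x) :=
      TopCat.Presheaf.algebra_section_stalk X.presheaf ⟨x, hxV⟩
    haveI := hV.isLocalization_stalk ⟨x, hxV⟩
    haveI := hX x
    exact IsRegularLocalRing.of_ringEquiv
      (IsLocalization.algEquiv q.primeCompl (X.presheaf.stalk x) (Localization.AtPrime q)).toRingEquiv
  let y' : Y := hU.fromSpec ⟨p, inferInstance⟩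
  have hy'U : y' ∈ U := hU.range_fromSpec.subset ⟨_, rfl⟩
  haveI : IsRegularLocalRing (Localization.AtPrime p) := by
    letI : Algebra Γ(Y, U) (Y.presheaf.stalk y') :=
      TopCat.Presheaf.algebra_section_stalk Y.presheaf ⟨y', hy'U⟩
    haveI := hU.isLocalization_stalk' ⟨p, inferInstance⟩ hy'U
    haveI := hY y'
    exact IsRegularLocalRing.of_ringEquiv
      (IsLocalization.algEquiv p.primeCompl (Y.presheaf.stalk y') (Localization.AtPrime p)).toRingEquiv
  have hflat : Module.Flat Γ(Y, U) (Localization.AtPrime q) := by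
    refine (Groth.L03.MiracleQF.flat_iff_local p q).2
      ⟨Groth.L04.isCohenMacaulayLocalRing_of_regular _, ?_⟩
    rw [IsLocalization.AtPrime.ringKrullDim_eq_height q, IsLocalization.AtPrime.ringKrullDim_eq_height p]
    obtain ⟨h₁, e₁, d₁, hh₁, he₁, hd₁, hhe₁⟩ := Groth.L22.AffineDim.dim_formula k Γ(X, V) q
    obtain ⟨h₂, e₂, d₂, hh₂, he₂, hd₂, hhe₂⟩ := Groth.L22.AffineDim.dim_formula k Γ(Y, U) p
    obtain ⟨nX, hnX, -, hoX⟩ := Groth.L22.SchemeDim.exists_dim_eq_trdeg k X
    obtain ⟨nY, hnY, -, hoY⟩ := Groth.L22.SchemeDim.exists_dim_eq_trdeg k Y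
    have e1 : d₁ = nX := by
      have h3 := hoX V ⟨x, hxV⟩
      rw [show topologicalKrullDim V = ringKrullDim Γ(X, V) from
        Groth.L22.SchemeDim.topologicalKrullDim_affineOpen hV, hd₁] at h3
      exact_mod_cast h3
    have e2 : d₂ = nY := by
      have h3 := hoY U ⟨f x, hxU⟩
      rw [show topologicalKrullDim U = ringKrullDim Γ(Y, U) from
        Groth.L22.SchemeDim.topologicalKrullDim_affineOpen hU, hd₂] at h3
      exact_mod_cast h3
    have e3 : nX = nY := by
      have := hnX.symm.trans (hdim.trans hnY)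
      exact_mod_cast this
    have e4 : e₁ = e₂ := Groth.L03.MiracleQF.dim_quotient_eq (k := k) p q he₁ he₂
    rw [hh₁, hh₂, show h₁ = h₂ by omega]
  exact hflat

end Groth.L19.FibreRank
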