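import Groth.Agent.L19.Approx.FiniteExtend
import Groth.Agent.L18.KerReduced
import Groth.Agent.L07.DimSub
import Mathlib.RingTheory.AdjoinRoot
import Mathlib.RingTheory.Ideal.GoingUp
import Mathlib.AlgebraicGeometry.Noetherian

/-!
A finite surjective cover of a closed subscheme is dominated, componentwise, by a finite
surjective cover of the ambient scheme.
-/

universe u

open CategoryTheory CategoryTheory.Limits AlgebraicGeometry TopologicalSpace Opposite Polynomial

namespace Groth.L19.FiniteLift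

set_option backward.isDefEq.respectTransparency.types false
set_option backward.isDefEq.respectTransparency false
set_option linter.style.haveILetI false

theorem exists_split_aux (n : ℕ) : ∀ (A : Type u) [CommRing A] (P : A[X]), P.Monic → P.natDegree = n →
    ∃ (A' : Type u) (_ : CommRing A') (_ : Algebra A A'),
      Module.Finite A A' ∧ Function.Injective (algebraMap A A') ∧
      ∃ l : Multiset A', P.map (algebraMap A A') = (l.map fun r => X - C r).prod := by
  induction n with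
  | zero =>
    intro A _ P hP hd
    refine ⟨A, inferInstance, inferInstance, inferInstance, fun _ _ h => h, 0, ?_⟩
    simp [hP.natDegree_eq_zero.1 hd]
  | succ n ih =>
    intro A _ P hP hd
    rcases subsingleton_or_nontrivial A with hA | hA
    · exact ⟨A, inferInstance, inferInstance, inferInstance, fun _ _ h => h, 0, Subsingleton.elim _ _⟩
    let A₁ := AdjoinRoot P
    let pb := AdjoinRoot.powerBasis' hP
    haveI : Module.Free A A₁ := Module.Free.of_basis pb.basis
    haveI : Module.Finite A A₁ := pb.finite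
    haveI : Nonempty (Fin pb.dim) := ⟨⟨0, by rw [AdjoinRoot.powerBasis'_dim]; omega⟩⟩
    haveI : Nontrivial A₁ := pb.basis.repr.toEquiv.nontrivial
    have hroot : (P.map (algebraMap A A₁)).IsRoot (AdjoinRoot.root P) := by
      rw [IsRoot, eval_map]
      exact AdjoinRoot.eval₂_root P
    let Q := P.map (algebraMap A A₁) /ₘ (X - C (AdjoinRoot.root P))
    have hPQ : (X - C (AdjoinRoot.root P)) * Q = P.map (algebraMap A A₁) :=
      mul_divByMonic_eq_iff_isRoot.2 hroot
    have hQ : Q.Monic := (monic_X_sub_C _).of_mul_monic_left (hPQ ▸ hP.map _)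
    have hQd : Q.natDegree = n := by
      have h1 := congrArg natDegree hPQ
      rw [(monic_X_sub_C _).natDegree_mul hQ, natDegree_X_sub_C, hP.natDegree_map, hd] at h1
      omega
    obtain ⟨A', _, _, hfin, hinj, l, hl⟩ := ih A₁ Q hQ hQd
    letI : Algebra A A' := ((algebraMap A₁ A').comp (algebraMap A A₁)).toAlgebra
    haveI : IsScalarTower A A₁ A' := IsScalarTower.of_algebraMap_eq' rfl
    refine ⟨A', inferInstance, inferInstance, Module.Finite.trans A₁ A',
      hinj.comp (FaithfulSMul.algebraMap_injective A A₁), algebraMap A₁ A' (AdjoinRoot.root P) ::ₘ l, ?_⟩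
    rw [IsScalarTower.algebraMap_eq A A₁ A', ← Polynomial.map_map, ← hPQ, Polynomial.map_mul, hl,
      Multiset.map_cons, Multiset.prod_cons, Polynomial.map_sub, map_X, map_C]

/-- Roots of a split polynomial in a domain lie in any subring containing the splitting roots. -/
theorem mem_range_of_root {A A' R R' : Type u} [CommRing A] [CommRing A'] [CommRing R] [CommRing R']
    [IsDomain R'] [Algebra A A'] {P : A[X]} {l : Multiset A'}
    (hl : P.map (algebraMap A A') = (l.map fun r => X - C r).prod)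
    (ρ : A' →+* R) (c : R →+* R') {z : R'}
    (hz : eval₂ ((c.comp ρ).comp (algebraMap A A')) z P = 0) : z ∈ c.range := by
  rw [← eval₂_map, hl, ← coe_eval₂RingHom, map_multiset_prod, Multiset.map_map,
    Multiset.prod_eq_zero_iff] at hz
  obtain ⟨r, -, hr⟩ := Multiset.mem_map.1 hz
  simp only [Function.comp_apply, coe_eval₂RingHom, eval₂_sub, eval₂_X, eval₂_C, sub_eq_zero] at hr
  exact ⟨ρ r, hr.symm⟩

/-- All elements of a finite algebra map into the range, if a single split polynomial kills generators. -/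
theorem exists_split_all {A B : Type u} [CommRing A] [CommRing B] (α : A →+* B) (hα : α.Finite) :
    ∃ (A' : Type u) (_ : CommRing A') (_ : Algebra A A'),
      Module.Finite A A' ∧ Function.Injective (algebraMap A A') ∧
      ∀ (R R' : Type u) [CommRing R] [CommRing R'] [IsDomain R'] (ρ : A' →+* R) (c : R →+* R')
        (β : B →+* R'), Function.Injective c → β.comp α = (c.comp ρ).comp (algebraMap A A') →
        ∃ ψ : B →+* R, c.comp ψ = β := by
  classical
  letI := α.toAlgebra
  haveI : Module.Finite A B := hα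
  obtain ⟨s, hs⟩ := Module.Finite.fg_top (R := A) (M := B)
  have hi : ∀ b : B, ∃ p : A[X], p.Monic ∧ eval₂ α b p = 0 := fun b => IsIntegral.of_finite A b
  choose p hpm hp using hi
  obtain ⟨A', _, _, hfin, hinj, l, hl⟩ := exists_split_aux _ A (∏ b ∈ s, p b)
    (monic_prod_of_monic _ _ fun b _ => hpm b) rfl
  refine ⟨A', inferInstance, inferInstance, hfin, hinj, fun R R' _ _ _ ρ c β hc hβ => ?_⟩
  have hmem : ∀ b : B, β b ∈ c.range := fun b => by
    have hb : b ∈ Submodule.span A (s : Set B) := hs ▸ Submodule.mem_top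
    induction hb using Submodule.span_induction with
    | mem x hx =>
      refine mem_range_of_root hl ρ c ?_
      rw [← hβ, ← hom_eval₂]
      have hd : p x ∣ ∏ b ∈ s, p b := Finset.dvd_prod_of_mem _ hx
      rw [eval₂_eq_zero_of_dvd_of_eval₂_eq_zero α x hd (hp x), map_zero]
    | zero => rw [map_zero]; exact zero_mem _
    | add x y _ _ hx hy => rw [map_add]; exact add_mem hx hy
    | smul a x _ hx =>
      rw [Algebra.smul_def, map_mul]
      exact mul_mem ⟨ρ (algebraMap A A' a), (RingHom.congr_fun hβ a).symm⟩ hx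
  let e : R ≃+* c.range := RingEquiv.ofBijective c.rangeRestrict
    ⟨fun a b h => hc (congrArg Subtype.val h), c.rangeRestrict_surjective⟩
  refine ⟨e.symm.toRingHom.comp (β.codRestrict c.range hmem), RingHom.ext fun b => ?_⟩
  exact congrArg Subtype.val (e.apply_symm_apply ⟨β b, hmem b⟩)

/-- Scheme form of the factorisation. -/
theorem exists_factor_of_injective {U V : Scheme.{u}} [IsAffine U] [IsAffine V] (q : V ⟶ U) [IsFinite q] :
    ∃ (U' : Scheme.{u}) (p : U' ⟶ U), IsAffine U' ∧ IsFinite p ∧ Surjective p ∧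
      ∀ (W W' : Scheme.{u}) (c : W' ⟶ W) (u : W ⟶ U') (a : W' ⟶ V), IsAffine W →
        IsDomain Γ(W', ⊤) → Function.Injective c.appTop.hom → a ≫ q = c ≫ u ≫ p →
        ∃ v : W ⟶ V, c ≫ v = a := by
  obtain ⟨A', _, _, hfin, hinj, hA'⟩ := exists_split_all q.appTop.hom q.finite_appTop
  let θ : Γ(U, ⊤) ⟶ CommRingCat.of A' := CommRingCat.ofHom (algebraMap Γ(U, ⊤) A')
  haveI : IsFinite (Spec.map θ) := (IsFinite.SpecMap_iff _).2 (RingHom.finite_algebraMap.2 hfin)
  haveI : Algebra.IsIntegral Γ(U, ⊤) A' := Algebra.IsIntegral.of_finite _ _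
  haveI : Surjective (Spec.map θ) := by
    refine ⟨fun x => ?_⟩
    haveI := x.2
    obtain ⟨Q, -, hQ, hQx⟩ := Ideal.exists_ideal_over_prime_of_isIntegral (S := A') x.asIdeal ⊥
      (by rw [← RingHom.ker_eq_comap_bot, (RingHom.injective_iff_ker_eq_bot _).1 hinj]; exact bot_le)
    exact ⟨⟨Q, hQ⟩, PrimeSpectrum.ext hQx⟩
  refine ⟨Spec (CommRingCat.of A'), Spec.map θ ≫ U.isoSpec.inv, inferInstance, inferInstance,
    inferInstance, fun W W' c u a _ _ hc h => ?_⟩
  obtain ⟨ρ, hρ⟩ := Spec.map_surjective (W.isoSpec.inv ≫ u)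
  have hu : u = W.toSpecΓ ≫ Spec.map ρ := by
    rw [hρ, Scheme.toSpecΓ_isoSpec_inv_assoc]
  have h1 : W'.toSpecΓ ≫ Spec.map (q.appTop ≫ a.appTop) = W'.toSpecΓ ≫ Spec.map (θ ≫ ρ ≫ c.appTop) := by
    simp only [Spec.map_comp, Category.assoc]
    rw [← Scheme.toSpecΓ_naturality_assoc, ← Scheme.toSpecΓ_naturality_assoc, ← Category.assoc (W.toSpecΓ),
      ← hu, ← Scheme.toSpecΓ_naturality, ← Category.assoc, h]
    simp only [Category.assoc, Scheme.isoSpec_inv_toSpecΓ, Category.comp_id]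
  have h2 := congrArg Scheme.Hom.appTop h1
  simp only [Scheme.Hom.comp_appTop, Scheme.toSpecΓ_appTop, Scheme.ΓSpecIso_naturality] at h2
  replace h2 := (cancel_epi _).1 h2
  obtain ⟨ψ, hψ⟩ := hA' Γ(W, ⊤) Γ(W', ⊤) ρ.hom c.appTop.hom a.appTop.hom hc
    (congrArg CommRingCat.Hom.hom h2)
  refine ⟨W.toSpecΓ ≫ Spec.map (CommRingCat.ofHom ψ) ≫ V.isoSpec.inv, ?_⟩
  rw [Scheme.toSpecΓ_naturality_assoc, ← Spec.map_comp_assoc,
    show CommRingCat.ofHom ψ ≫ c.appTop = a.appTop from CommRingCat.hom_ext hψ,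
    ← Scheme.toSpecΓ_naturality_assoc, Scheme.toSpecΓ_isoSpec_inv, Category.comp_id]

/-- A finite cover over an affine open extended to the whole base. -/
theorem exists_extend {Y : Scheme.{u}} [IsNoetherian Y] (U : Y.Opens) {U' : Scheme.{u}}
    (p : U' ⟶ U.toScheme) [IsFinite p] [Surjective p] :
    ∃ (Y₁ : Scheme.{u}) (g : Y₁ ⟶ Y), IsFinite g ∧ Surjective g ∧
      ∀ (W : Scheme.{u}) (h : W ⟶ Y₁), Set.range (h ≫ g) ⊆ U →
        ∃ h' : W ⟶ U', h' ≫ p ≫ U.ι = h ≫ g := by
  haveI : CompactSpace U.toScheme := isCompact_iff_compactSpace.mp (NoetherianSpace.isCompact _)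
  haveI : QuasiCompact U.ι := quasiCompact_of_compactSpace U.ι
  obtain ⟨T, j, π, _, _, _, hjπ⟩ := Groth.L19.Approx.exists_openImmersion_finite (p ≫ U.ι)
  let T' := j.image
  let π' : T' ⟶ Y := j.imageι ≫ π
  have sq : IsPullback j.toImage p π' U.ι :=
    Groth.L19.Approx.isPullback_of_isOpenImmersion_dominant j.toImage π' U.ι p
      (by rw [j.toImage_imageι_assoc, hjπ])
  let I := Scheme.IdealSheafData.vanishingIdeal (⟨(U : Set Y)ᶜ, U.2.isClosed_compl⟩ : Closeds Y)
  let g : T' ⨿ I.subscheme ⟶ Y := coprod.desc π' I.subschemeι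
  have hrI : Set.range I.subschemeι = (U : Set Y)ᶜ := Groth.L07.DimToolkit.range_subschemeι_vanishingIdeal _
  haveI : Surjective g := ⟨fun y => by
    by_cases hy : y ∈ U
    · obtain ⟨z, hz⟩ := p.surjective (⟨y, hy⟩ : U)
      refine ⟨(coprod.inl : T' ⟶ T' ⨿ I.subscheme) (j.toImage z), ?_⟩
      rw [← Scheme.Hom.comp_apply, coprod.inl_desc, ← Scheme.Hom.comp_apply, sq.w,
        Scheme.Hom.comp_apply, hz]
      rfl
    · obtain ⟨z, rfl⟩ := hrI.ge hy
      exact ⟨(coprod.inr : I.subscheme ⟶ T' ⨿ I.subscheme) z,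
        by rw [← Scheme.Hom.comp_apply, coprod.inr_desc]⟩⟩
  refine ⟨_, g, inferInstanceAs (IsFinite (coprod.desc _ _)), inferInstance, fun W h hW => ?_⟩
  have hl : Set.range h ⊆ Set.range (coprod.inl : T' ⟶ T' ⨿ I.subscheme) := by
    rintro _ ⟨w, rfl⟩
    have hc := (AlgebraicGeometry.isCompl_range_inl_inr T' I.subscheme).sup_eq_top.ge (Set.mem_univ (h w))
    rcases hc with hc | ⟨z, hz⟩
    · exact hc
    · have h1 : I.subschemeι z ∈ U := by
        refine hW ⟨w, ?_⟩
        rw [Scheme.Hom.comp_apply, ← hz, ← Scheme.Hom.comp_apply, coprod.inr_desc]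
      exact absurd h1 (hrI.le ⟨z, rfl⟩)
  let h₁ : W ⟶ T' := IsOpenImmersion.lift coprod.inl h hl
  have h₁g : h₁ ≫ π' = h ≫ g := by
    rw [← coprod.inl_desc π' I.subschemeι, ← Category.assoc, IsOpenImmersion.lift_fac]
  let h₂ : W ⟶ U.toScheme := IsOpenImmersion.lift U.ι (h ≫ g) (by rw [U.range_ι]; exact hW)
  refine ⟨sq.lift h₁ h₂ (by rw [h₁g, IsOpenImmersion.lift_fac]), ?_⟩
  rw [sq.lift_snd_assoc, IsOpenImmersion.lift_fac]

/-- Finitely many finite surjective covers are dominated by one. -/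
theorem exists_common {Y : Scheme.{u}} {ι : Type u} [Finite ι] (Y₁ : ι → Scheme.{u}) (g : ∀ k, Y₁ k ⟶ Y)
    (hf : ∀ k, IsFinite (g k)) (hs : ∀ k, Surjective (g k)) :
    ∃ (Y' : Scheme.{u}) (g' : Y' ⟶ Y), IsFinite g' ∧ Surjective g' ∧ ∀ k, ∃ p : Y' ⟶ Y₁ k, p ≫ g k = g' := by
  classical
  haveI := Fintype.ofFinite ι
  suffices H : ∀ t : Finset ι, ∃ (Y' : Scheme.{u}) (g' : Y' ⟶ Y), IsFinite g' ∧ Surjective g' ∧
      ∀ k ∈ t, ∃ p : Y' ⟶ Y₁ k, p ≫ g k = g' by
    obtain ⟨Y', g', h1, h2, h3⟩ := H Finset.univ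
    exact ⟨Y', g', h1, h2, fun k => h3 k (Finset.mem_univ k)⟩
  intro t
  induction t using Finset.induction with
  | empty => exact ⟨Y, 𝟙 Y, inferInstance, inferInstance, by simp⟩
  | insert a t ha ih =>
    obtain ⟨Y', g', h1, h2, h3⟩ := ih
    haveI := hf a; haveI := hs a
    haveI : IsFinite (pullback.fst g' (g a)) := MorphismProperty.pullback_fst _ _ inferInstance
    haveI : Surjective (pullback.fst g' (g a)) := MorphismProperty.pullback_fst _ _ inferInstance
    refine ⟨pullback g' (g a), pullback.fst g' (g a) ≫ g', inferInstance, inferInstance, fun k hk => ?_⟩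
    rcases Finset.mem_insert.1 hk with rfl | hk
    · exact ⟨pullback.snd g' (g k), pullback.condition.symm⟩
    · obtain ⟨p, hp⟩ := h3 k hk
      exact ⟨pullback.fst g' (g a) ≫ p, by rw [Category.assoc, hp]⟩

theorem appTop_injective_of_surjective {X Y : Scheme.{u}} (c : X ⟶ Y) [Surjective c] [IsReduced Y] :
    Function.Injective c.appTop.hom := by
  rw [injective_iff_map_eq_zero]
  intro r hr
  rw [← basicOpen_eq_bot_iff]
  have h1 : c ⁻¹ᵁ Y.basicOpen r = ⊥ := by
    rw [Scheme.preimage_basicOpen_top]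
    exact (congrArg X.basicOpen hr).trans (Scheme.basicOpen_zero _ _)
  refine eq_bot_iff.2 fun y hy => ?_
  obtain ⟨x, rfl⟩ := c.surjective y
  exact (h1.le (show x ∈ c ⁻¹ᵁ Y.basicOpen r from hy) : x ∈ (⊥ : X.Opens))

theorem exists_cover {Y F F' : Scheme.{u}} [IsNoetherian Y]
    (i : F ⟶ Y) [IsClosedImmersion i] (s : F' ⟶ F) [IsFinite s] [Surjective s] :
    ∃ (Y' : Scheme.{u}) (g : Y' ⟶ Y), IsFinite g ∧ Surjective g ∧
      ∀ (G : Scheme.{u}) [IsIntegral G] (e : G ⟶ F) (h : G ⟶ Y'), e ≫ i = h ≫ g →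
        ∃ φ : G ⟶ F', φ ≫ s = e := by
  classical
  obtain ⟨t, ht⟩ : ∃ t : Finset Y.affineOpens, ∀ y : Y, ∃ U ∈ t, y ∈ (U : Y.Opens) := by
    obtain ⟨t, ht⟩ := isCompact_univ.elim_finite_subcover (fun U : Y.affineOpens => ((U : Y.Opens) : Set Y))
      (fun U => U.1.2) (fun y _ => by
        obtain ⟨_, ⟨U, hU, rfl⟩, hy, -⟩ :=
          Y.isBasis_affineOpens.exists_subset_of_mem_open (Set.mem_univ y) isOpen_univ
        exact Set.mem_iUnion.2 ⟨⟨U, hU⟩, hy⟩)
    exact ⟨t, fun y => by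
      obtain ⟨U, hU, hy⟩ := Set.mem_iUnion₂.1 (ht (Set.mem_univ y))
      exact ⟨U, hU, hy⟩⟩
  haveI : ∀ U : t, IsAffine U.1.1.toScheme := fun U => U.1.2
  haveI : ∀ U : t, IsFinite ((s ≫ i) ∣_ U.1.1) := fun U =>
    IsZariskiLocalAtTarget.restrict (P := @IsFinite) inferInstance _
  haveI : ∀ U : t, IsAffine ((s ≫ i) ⁻¹ᵁ U.1.1).toScheme := fun U => U.1.2.preimage (s ≫ i)
  choose U' p hU' hpf hps hfac using fun U : t => exists_factor_of_injective ((s ≫ i) ∣_ U.1.1)
  choose Y₁ g₁ hg₁f hg₁s hlift using fun U : t => @exists_extend Y _ U.1.1 (U' U) (p U) (hpf U) (hps U)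
  obtain ⟨Y', g, hgf, hgs, hdom⟩ := exists_common (ι := t) Y₁ g₁ hg₁f hg₁s
  refine ⟨Y', g, hgf, hgs, fun G _ e h heh => ?_⟩
  haveI : IsFinite (pullback.snd s e) := MorphismProperty.pullback_snd _ _ inferInstance
  haveI : Surjective (pullback.snd s e) := MorphismProperty.pullback_snd _ _ inferInstance
  obtain ⟨ζ, hζ⟩ := (pullback.snd s e).surjective (genericPoint G)
  let I := Scheme.IdealSheafData.vanishingIdeal (⟨closure {ζ}, isClosed_closure⟩ : Closeds ↥(pullback s e))
  have hr : Set.range I.subschemeι = closure {ζ} := Groth.L07.DimToolkit.range_subschemeι_vanishingIdeal _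
  haveI : IsReduced I.subscheme := Groth.L18.isReduced_vanishingIdeal_subscheme _
  obtain ⟨hirr, -⟩ := Groth.L07.DimToolkit.irreducible_of_range_eq I.subschemeι ζ hr
  haveI : IsIntegral I.subscheme := isIntegral_of_irreducibleSpace_of_isReduced _
  let c : I.subscheme ⟶ G := I.subschemeι ≫ pullback.snd s e
  let a : I.subscheme ⟶ F' := I.subschemeι ≫ pullback.fst s e
  haveI : Surjective c := ⟨fun x => by
    have h1 : genericPoint G ∈ Set.range c := by
      obtain ⟨z, hz⟩ := hr.ge (subset_closure (Set.mem_singleton ζ))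
      exact ⟨z, by rw [Scheme.Hom.comp_apply, hz, hζ]⟩
    have h2 : closure {genericPoint G} ⊆ Set.range c :=
      closure_minimal (Set.singleton_subset_iff.2 h1) c.isClosedMap.isClosed_range
    rw [(genericPoint_spec G).def] at h2
    exact h2 trivial⟩
  have hca : a ≫ s = c ≫ e := by
    simp only [a, c, Category.assoc, pullback.condition]
  haveI : Mono (pullback.lift a c hca) := by
    have : pullback.lift a c hca = I.subschemeι := by apply pullback.hom_ext <;> simp [a, c]
    rw [this]; infer_instance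
  -- `c` is a closed immersion
  have hW : ∀ x : G, ∃ (W : G.affineOpens) (U : t), x ∈ W.1 ∧ ∀ y ∈ W.1, (e ≫ i) y ∈ U.1.1 := fun x => by
    obtain ⟨U, hU, hxU⟩ := ht ((e ≫ i) x)
    obtain ⟨_, ⟨W, hW, rfl⟩, hxW, hle⟩ := G.isBasis_affineOpens.exists_subset_of_mem_open
      (show x ∈ (e ≫ i) ⁻¹ᵁ U.1 from hxU) ((e ≫ i) ⁻¹ᵁ U.1).2
    exact ⟨⟨W, hW⟩, ⟨U, hU⟩, hxW, fun y hy => hle hy⟩
  choose W U hxW hWU using hW
  haveI : IsFinite c := inferInstance
  haveI : IsClosedImmersion c := by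
    refine (IsZariskiLocalAtTarget.iff_of_iSup_eq_top (P := @IsClosedImmersion) (fun x => (W x).1)
      (eq_top_iff.2 fun x _ => Opens.mem_iSup.2 ⟨x, hxW x⟩)).2 fun x => ?_
    haveI : IsAffine (W x).1.toScheme := (W x).2
    haveI : IsFinite (c ∣_ (W x).1) := IsZariskiLocalAtTarget.restrict (P := @IsFinite) inferInstance _
    haveI : Surjective (c ∣_ (W x).1) := IsZariskiLocalAtTarget.restrict (P := @Surjective) inferInstance _
    let W' : I.subscheme.Opens := c ⁻¹ᵁ (W x).1
    obtain ⟨z, hz⟩ := c.surjective x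
    haveI : Nonempty W'.toScheme := ⟨⟨z, show c z ∈ (W x).1 from hz.symm ▸ hxW x⟩⟩
    haveI : IsIntegral W'.toScheme := isIntegral_of_isOpenImmersion W'.ι
    haveI : IsReduced (W x).1.toScheme := isReduced_of_isOpenImmersion (W x).1.ι
    have hrangeG : Set.range (((W x).1.ι ≫ h) ≫ g) ⊆ ((U x).1.1 : Set Y) := by
      rintro _ ⟨y, rfl⟩
      rw [Category.assoc, ← heh]
      exact hWU x _ y.2
    obtain ⟨d, hd⟩ := hdom (U x)
    obtain ⟨u, hu⟩ := hlift (U x) _ ((W x).1.ι ≫ h ≫ d)
      (by simpa only [Category.assoc, hd] using hrangeG)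
    have hra : Set.range (W'.ι ≫ a) ⊆ Set.range ((s ≫ i) ⁻¹ᵁ (U x).1.1).ι := by
      rw [Scheme.Opens.range_ι]
      rintro _ ⟨y, rfl⟩
      show (s ≫ i) ((W'.ι ≫ a) y) ∈ (U x).1.1
      rw [← Scheme.Hom.comp_apply, Category.assoc, ← Category.assoc a, hca, Category.assoc,
        Scheme.Hom.comp_apply, Scheme.Hom.comp_apply]
      exact hWU x _ y.2
    let a' := IsOpenImmersion.lift ((s ≫ i) ⁻¹ᵁ (U x).1.1).ι (W'.ι ≫ a) hra
    have ha' : a' ≫ ((s ≫ i) ⁻¹ᵁ (U x).1.1).ι = W'.ι ≫ a := IsOpenImmersion.lift_fac _ _ _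
    have hsq : a' ≫ ((s ≫ i) ∣_ (U x).1.1) = (c ∣_ (W x).1) ≫ u ≫ p (U x) := by
      rw [← cancel_mono (U x).1.1.ι]
      simp only [Category.assoc, morphismRestrict_ι, hu, hd, ← heh]
      rw [reassoc_of% ha', reassoc_of% hca, morphismRestrict_ι_assoc]
    obtain ⟨v, hv⟩ := hfac (U x) _ W'.toScheme (c ∣_ (W x).1) u a' inferInstance inferInstance
      (appTop_injective_of_surjective _) hsq
    haveI : Mono (c ∣_ (W x).1) := by
      constructor
      intro Z g₁ g₂ h12
      apply (cancel_mono W'.ι).1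
      apply (cancel_mono (pullback.lift a c hca)).1
      apply pullback.hom_ext
      · simp only [Category.assoc, pullback.lift_fst, ← ha', ← hv]
        rw [reassoc_of% h12]
      · simp only [Category.assoc, pullback.lift_snd]
        rw [← morphismRestrict_ι, reassoc_of% h12]
    exact (IsClosedImmersion.iff_isProper_and_mono _).2 ⟨inferInstance, inferInstance⟩
  haveI : IsIso c := isIso_of_isClosedImmersion_of_surjective c
  exact ⟨inv c ≫ a, by rw [Category.assoc, hca, IsIso.inv_hom_id_assoc]⟩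

end Groth.L19.FiniteLift
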