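import Groth.Agent.L19.AntiAffRigidNoeth
import Groth.Agent.L08.AffHull.Crit
import Groth.Agent.L25.Actions
import Groth.Prelude.Def_ChGrp
import Groth.Agent.L26.AV.GroupSep

/-!
# A group acting faithfully on a variety with a fixed point is affine
-/

set_option autoImplicit false
set_option linter.style.haveILetI false
set_option backward.isDefEq.respectTransparency.types false
set_option backward.isDefEq.respectTransparency false

universe u

open CategoryTheory CategoryTheory.Limits MonoidalCategory CartesianMonoidalCategory MonObj AlgebraicGeometry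

namespace Groth.L19.FixedPointQuotAffine

variable {k : Type u} [Field k]

theorem main (G X : Over (Spec (CommRingCat.of k))) [GrpObj G] [LocallyOfFiniteType G.hom] [QuasiCompact G.hom]
    [IsSeparated X.hom] [IsIntegral X.left] [IsLocallyNoetherian X.left]
    (a : AlgGrp.Action G X) (x : 𝟙_ (Over (Spec (CommRingCat.of k))) ⟶ X) (hx : a.IsFixedPt x)
    (N : Over (Spec (CommRingCat.of k))) [GrpObj N] (n : N ⟶ G)
    (hN : ∀ (T : Over (Spec (CommRingCat.of k))) (g : T ⟶ G), (∃ m : T ⟶ N, m ≫ n = g) ↔
      ∀ (T' : Over (Spec (CommRingCat.of k))) (t : T' ⟶ T) (y : T' ⟶ X), CartesianMonoidalCategory.lift (t ≫ g) y ≫ a.act = y)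
    (Q : Over (Spec (CommRingCat.of k))) [GrpObj Q] [LocallyOfFiniteType Q.hom] [QuasiCompact Q.hom]
    (q : G ⟶ Q) [IsMonHom q] [Surjective q.left] [Flat q.left] (hq : AlgGrp.IsKernel n q) :
    IsAffine Q.left := by
  haveI : IsLocallyNoetherian Q.left := LocallyOfFiniteType.isLocallyNoetherian Q.hom
  haveI : LocallyOfFiniteType q.left := by
    haveI : LocallyOfFiniteType (q.left ≫ Q.hom) := by rw [Over.w]; infer_instance
    exact locallyOfFiniteType_of_comp q.left Q.hom
  haveI : LocallyOfFinitePresentation q.left := inferInstance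
  have cov : ∀ Y : Over (Spec (CommRingCat.of k)),
      Surjective (q ▷ Y).left ∧ Flat (q ▷ Y).left ∧ LocallyOfFinitePresentation (q ▷ Y).left := fun Y =>
    ⟨Groth.L25.Actions.of_whiskerRight @Surjective q Y inferInstance,
      Groth.L25.Actions.of_whiskerRight @Flat q Y inferInstance,
      Groth.L25.Actions.of_whiskerRight @LocallyOfFinitePresentation q Y inferInstance⟩
  -- the action descends to `Q`
  have hrel : ∀ {T} (g g' : T ⟶ G) (y : T ⟶ X), g ≫ q = g' ≫ q →
      CartesianMonoidalCategory.lift g y ≫ a.act = CartesianMonoidalCategory.lift g' y ≫ a.act := by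
    intro T g g' y e
    obtain ⟨m, hm, -⟩ := hq.exists_lift (g⁻¹ * g') (toUnit T)
      (by rw [MonObj.mul_comp, GrpObj.inv_comp, e, inv_mul_cancel, Hom.one_def])
    have h1 := (hN T (g⁻¹ * g')).1 ⟨m, hm⟩ T (𝟙 T) y
    rw [Category.id_comp] at h1
    conv_rhs => rw [← mul_inv_cancel_left g g', AlgGrp.Action.lift_mul_act, h1]
  obtain ⟨act', hact'⟩ : ∃ act' : Q ⊗ X ⟶ X, (q ▷ X) ≫ act' = a.act := by
    obtain ⟨_, _, _⟩ := cov X
    refine Groth.L08.AffHull.exists_desc_cover (q ▷ X) a.act fun u v e => ?_
    rw [← lift_comp_fst_snd u, ← lift_comp_fst_snd v, lift_whiskerRight, lift_whiskerRight] at e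
    have e₁ := congrArg (· ≫ fst Q X) e
    have e₂ := congrArg (· ≫ snd Q X) e
    simp only [lift_fst, lift_snd] at e₁ e₂
    rw [← lift_comp_fst_snd u, ← lift_comp_fst_snd v, e₂]
    exact hrel _ _ _ e₁
  have hactq : ∀ {T} (g : T ⟶ G) (y : T ⟶ X),
      CartesianMonoidalCategory.lift (g ≫ q) y ≫ act' = CartesianMonoidalCategory.lift g y ≫ a.act := fun g y => by
    rw [← hact', lift_whiskerRight_assoc]
  have hfix : (Q ◁ x) ≫ act' = snd Q (𝟙_ _) ≫ x := by
    obtain ⟨_, _, _⟩ := cov (𝟙_ _)
    haveI : Epi (q ▷ (𝟙_ (Over (Spec (CommRingCat.of k))))) := Groth.L08.GQuot.epi_of_cover _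
    rw [← cancel_epi (q ▷ (𝟙_ (Over (Spec (CommRingCat.of k))))), ← whisker_exchange_assoc, hact', whiskerRight_snd_assoc]
    have h := hx _ (fst G (𝟙_ _))
    rw [toUnit_unique (snd G (𝟙_ _)) (toUnit _), ← h]
    congr 1
    apply CartesianMonoidalCategory.hom_ext <;> simp [toUnit_unique (snd G (𝟙_ (Over (Spec (CommRingCat.of k))))) (toUnit _)]
  -- the anti-affine part acts trivially
  obtain ⟨K, _, i, _, _, hK, haff⟩ := Groth.L08.AffHull.exists_antiAffinePart Q
  haveI : QuasiCompact K.hom := by rw [← Over.w i]; infer_instance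
  haveI : IsSeparated Q.hom := Groth.Agent.AV.isSeparated_of_grpObj Q
  haveI : IsSeparated K.hom := by rw [← Over.w i]; infer_instance
  haveI : CompactSpace K.left := QuasiCompact.compactSpace_of_compactSpace K.hom
  haveI : QuasiSeparatedSpace K.left := quasiSeparatedSpace_of_quasiSeparated K.hom
  have hKs : Function.Surjective K.hom.appTop.hom := (ConcreteCategory.bijective_of_isIso K.hom.appTop).2
  let f : K ⊗ X ⟶ X := (i ▷ X) ≫ act'
  have e : CartesianMonoidalCategory.lift (toUnit X ≫ η[K]) (𝟙 X) ≫ f = 𝟙 X := by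
    rw [lift_whiskerRight_assoc, Category.assoc, IsMonHom.one_hom, ← IsMonHom.one_hom q, ← Category.assoc, hactq,
      ← Hom.one_def, AlgGrp.Action.lift_one_act]
  have hfixK : (K ◁ x) ≫ f = (K ◁ x) ≫ snd K X := by
    rw [whisker_exchange_assoc, hfix, whiskerRight_snd_assoc, whiskerLeft_snd]
  obtain ⟨V, hV, hVe⟩ := Groth.L19.AntiAffRigidNoeth.exists_nhd hKs η[K] x f (by rw [e, Category.comp_id]; exact hfixK)
  have htriv : f = snd K X :=
    Groth.L19.AntiAffRigidNoeth.eq_of_dense V ⟨_, hV⟩ _ _ (by rw [hVe, e, Category.comp_id])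
  -- hence it is trivial
  have hi1 : i = 1 := by
    let P := pullback i q
    have sq := (IsPullback.of_hasPullback i q).map (Over.forget _)
    haveI : Flat (pullback.fst i q).left := MorphismProperty.of_isPullback (P := @Flat) sq.flip ‹Flat q.left›
    haveI : Surjective (pullback.fst i q).left :=
      MorphismProperty.of_isPullback (P := @Surjective) sq.flip ‹Surjective q.left›
    haveI : LocallyOfFinitePresentation (pullback.fst i q).left :=
      MorphismProperty.of_isPullback (P := @LocallyOfFinitePresentation) sq.flip ‹LocallyOfFinitePresentation q.left›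
    haveI : Epi (pullback.fst i q) := Groth.L08.GQuot.epi_of_cover _
    obtain ⟨m, hm⟩ := (hN P (pullback.snd i q)).2 fun T' t y => by
      rw [← hactq, Category.assoc, ← pullback.condition, ← Category.assoc, ← lift_whiskerRight_assoc]
      change CartesianMonoidalCategory.lift (t ≫ pullback.fst i q) y ≫ f = y
      rw [htriv, lift_snd]
    rw [← cancel_epi (pullback.fst i q), pullback.condition, ← hm, Category.assoc, hq.w, MonObj.comp_one,
      ← Category.assoc, toUnit_unique (m ≫ toUnit N) (toUnit _), ← Hom.one_def]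
  refine haff ?_
  haveI : Mono i := Over.mono_of_mono_left i
  have hid : toUnit K ≫ η[K] = 𝟙 K := by
    rw [← cancel_mono i, Category.assoc, IsMonHom.one_hom, Category.id_comp, hi1, Hom.one_def]
  haveI : IsIso (toUnit K) := ⟨η[K], hid, toUnit_unique _ _⟩
  have el : (toUnit K).left = K.hom := (Category.comp_id _).symm.trans (Over.w (toUnit K))
  exact el ▸ inferInstanceAs (IsIso ((Over.forget _).map (toUnit K)))

end Groth.L19.FixedPointQuotAffine
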