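import Mathlib.AlgebraicGeometry.Morphisms.Flat
import Mathlib.RingTheory.Flat.FaithfullyFlat.Algebra

/-!
# Flatness descends along covers factoring through a morphism
-/

set_option autoImplicit false
set_option linter.style.haveILetI false

universe u

open AlgebraicGeometry CategoryTheory TensorProduct

namespace Groth.L19.FlatFactor

theorem flat_of_factor {O A B C : Type u} [CommRing O] [CommRing A] [CommRing B] [CommRing C]
    [Algebra O A] [Algebra O B] [Algebra O C] [Algebra A B] [Algebra A C] [Algebra B C]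
    [IsScalarTower O A B] [IsScalarTower O A C] [IsScalarTower A B C] [IsScalarTower O B C]
    [Module.FaithfullyFlat A C] [Module.Flat O B] : Module.Flat O A := by
  rw [Module.Flat.iff_lTensor_preserves_injective_linearMap]
  intro N N' _ _ _ _ f hf
  have hC : ∀ (P : Type u) [AddCommGroup P] [Module O P],
      Function.Injective ((IsScalarTower.toAlgHom O A C).toLinearMap.rTensor P) := by
    intro P _ _
    let e := AlgebraTensorModule.cancelBaseChange O A A C P
    have h : (IsScalarTower.toAlgHom O A C).toLinearMap.rTensor P =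
        (e.toLinearMap.restrictScalars O) ∘ₗ
          ((TensorProduct.mk A C (A ⊗[O] P) 1).restrictScalars O) := by
      refine TensorProduct.ext' fun a p => ?_
      simp [e, Algebra.smul_def]
    rw [h]
    exact e.injective.comp (Module.FaithfullyFlat.tensorProduct_mk_injective (A := A) (B := C) (A ⊗[O] P))
  rw [injective_iff_map_eq_zero]
  intro z hz
  apply hC N
  have hB : (IsScalarTower.toAlgHom O A B).toLinearMap.rTensor N z = 0 := by
    apply Module.Flat.lTensor_preserves_injective_linearMap (M := B) f hf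
    rw [map_zero, ← LinearMap.comp_apply, LinearMap.lTensor_comp_rTensor, ← LinearMap.rTensor_comp_lTensor,
      LinearMap.comp_apply, hz, map_zero]
  rw [map_zero, show (IsScalarTower.toAlgHom O A C).toLinearMap =
      (IsScalarTower.toAlgHom O B C).toLinearMap ∘ₗ (IsScalarTower.toAlgHom O A B).toLinearMap from
        LinearMap.ext fun a => IsScalarTower.algebraMap_apply A B C a,
    LinearMap.rTensor_comp_apply, hB, map_zero]

theorem flat_of_factor_hom {O A B C : Type u} [CommRing O] [CommRing A] [CommRing B] [CommRing C]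
    (ρ : O →+* A) (σ : A →+* B) (τ : B →+* C) (h : (τ.comp σ).FaithfullyFlat) (h' : (σ.comp ρ).Flat) :
    ρ.Flat := by
  letI := ρ.toAlgebra
  letI := σ.toAlgebra
  letI := τ.toAlgebra
  letI := (σ.comp ρ).toAlgebra
  letI := (τ.comp σ).toAlgebra
  letI := ((τ.comp σ).comp ρ).toAlgebra
  haveI : IsScalarTower O A B := IsScalarTower.of_algebraMap_eq fun _ => rfl
  haveI : IsScalarTower O A C := IsScalarTower.of_algebraMap_eq fun _ => rfl
  haveI : IsScalarTower A B C := IsScalarTower.of_algebraMap_eq fun _ => rfl
  haveI : IsScalarTower O B C := IsScalarTower.of_algebraMap_eq fun _ => rfl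
  haveI : Module.FaithfullyFlat A C := h
  haveI : Module.Flat O B := h'
  exact flat_of_factor (B := B) (C := C)

theorem flat_of_flat_comp {X Y Z Y' : Scheme.{u}} (f : X ⟶ Y) (q : Y ⟶ Z) (g : Y' ⟶ Y) [Flat g]
    [Surjective g] (l : Y' ⟶ X) (hl : l ≫ f = g) [Flat (f ≫ q)] : Flat q := by
  refine Flat.of_stalkMap q fun y => ?_
  obtain ⟨y', hy'⟩ := g.surjective y
  subst hl
  rw [Scheme.Hom.comp_apply] at hy'
  subst hy'
  refine flat_of_factor_hom _ (f.stalkMap (l y')).hom (l.stalkMap y').hom ?_ ?_
  · rw [← CommRingCat.hom_comp, ← Scheme.Hom.stalkMap_comp]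
    letI := ((l ≫ f).stalkMap y').hom.toAlgebra
    have hfl := Flat.stalkMap (l ≫ f) y'
    haveI : IsLocalHom (algebraMap (Y.presheaf.stalk ((l ≫ f) y')) (Y'.presheaf.stalk y')) :=
      inferInstanceAs (IsLocalHom ((l ≫ f).stalkMap y').hom)
    haveI : Module.Flat (Y.presheaf.stalk ((l ≫ f) y')) (Y'.presheaf.stalk y') := hfl
    exact RingHom.faithfullyFlat_algebraMap_iff.2
      (Module.FaithfullyFlat.of_flat_of_isLocalHom (A := Y.presheaf.stalk ((l ≫ f) y')) (B := Y'.presheaf.stalk y'))
  · rw [← CommRingCat.hom_comp, ← Scheme.Hom.stalkMap_comp]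
    exact Flat.stalkMap (f ≫ q) (l y')

end Groth.L19.FlatFactor
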