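import Groth.Agent.L19.FlatTensor
import Groth.Agent.L19.FaithOver
import Mathlib.RingTheory.Flat.FaithfullyFlat.Basic

/-!
# Faithfully flat relative modules and external tensor products
-/

set_option autoImplicit false
set_option linter.style.haveILetI false
set_option linter.unusedSectionVars false
set_option backward.isDefEq.respectTransparency false
set_option backward.isDefEq.respectTransparency.types false

universe u

open CategoryTheory CategoryTheory.Limits AlgebraicGeometry
open scoped TensorProduct

noncomputable section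

namespace Groth.L19.FlatTensor

open Groth.L19.FaithOver (FaithAt exists_faithAt_pullback)

section Algebra

variable {S B P M : Type u} [CommRing S] [CommRing B] [Algebra S B] [AddCommGroup P] [Module B P]
  [Module S P] [IsScalarTower S B P] [AddCommGroup M] [Module S M] [Module B M] [IsScalarTower S B M]

/-- Flatness descends from the tensor product with a faithfully flat module. -/
theorem flat_of_tensor [Module.FaithfullyFlat B P] [Module.Flat S (P ⊗[B] M)] : Module.Flat S M := by
  rw [Module.Flat.iff_lTensor_injective']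
  intro J
  have key : ∀ z : (P ⊗[B] M) ⊗[S] J, (TensorProduct.AlgebraTensorModule.lTensor B M J.subtype).lTensor P
      (TensorProduct.AlgebraTensorModule.assoc S B B P M J z) =
      TensorProduct.AlgebraTensorModule.assoc S B B P M S (J.subtype.lTensor (P ⊗[B] M) z) := by
    intro z
    induction z using TensorProduct.induction_on with
    | zero => simp
    | tmul w j =>
      induction w using TensorProduct.induction_on with
      | zero => simp
      | tmul t m => simp
      | add x y hx hy => simp only [TensorProduct.add_tmul, map_add, hx, hy]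
    | add x y hx hy => simp only [map_add, hx, hy]
  have h : Function.Injective ((TensorProduct.AlgebraTensorModule.lTensor B M J.subtype :
      M ⊗[S] J →ₗ[B] M ⊗[S] S).lTensor P) := by
    intro a b hab
    obtain ⟨a, rfl⟩ := (TensorProduct.AlgebraTensorModule.assoc S B B P M J).surjective a
    obtain ⟨b, rfl⟩ := (TensorProduct.AlgebraTensorModule.assoc S B B P M J).surjective b
    rw [key, key] at hab
    exact congrArg _ (Module.Flat.lTensor_preserves_injective_linearMap (M := P ⊗[B] M) J.subtype
      Subtype.val_injective ((TensorProduct.AlgebraTensorModule.assoc S B B P M S).injective hab))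
  exact (Module.FaithfullyFlat.lTensor_injective_iff_injective B P
    (TensorProduct.AlgebraTensorModule.lTensor B M J.subtype)).mp h

/-- `I M ≠ M` passes to the tensor product with a faithfully flat module. -/
theorem smul_top_tensor_ne_top [Module.FaithfullyFlat B P] (I : Ideal S)
    (h : I • (⊤ : Submodule S M) ≠ ⊤) : I • (⊤ : Submodule S (P ⊗[B] M)) ≠ ⊤ := by
  intro htop
  apply h
  let N : Submodule B M := (I.map (algebraMap S B)) • ⊤
  refine (Groth.L19.FaithOver.map_smul_top_eq_top_iff (B := B) M I).mp ?_
  show N = ⊤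
  rw [← Submodule.Quotient.subsingleton_iff]
  haveI : Subsingleton (P ⊗[B] (M ⧸ N)) := subsingleton_of_forall_eq 0 fun w => by
    obtain ⟨z, rfl⟩ := N.mkQ.lTensor_surjective P (Submodule.mkQ_surjective N) w
    have hz : z ∈ I • (⊤ : Submodule S (P ⊗[B] M)) := htop.ge Submodule.mem_top
    refine Submodule.smul_induction_on hz (fun a ha n _ => ?_) fun a b ha hb => by rw [map_add, ha, hb, add_zero]
    induction n using TensorProduct.induction_on with
    | zero => simp
    | tmul p m =>
      rw [TensorProduct.smul_tmul', ← algebraMap_smul B a p, TensorProduct.smul_tmul, LinearMap.lTensor_tmul,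
        Submodule.mkQ_apply,
        (Submodule.Quotient.mk_eq_zero N).2 (Submodule.smul_mem_smul (Ideal.mem_map_of_mem _ ha) Submodule.mem_top :
          algebraMap S B a • m ∈ N), TensorProduct.tmul_zero]
    | add x y hx hy => rw [smul_add, map_add, hx Submodule.mem_top, hy Submodule.mem_top, add_zero]
  exact Module.FaithfullyFlat.lTensor_reflects_triviality B P (M ⧸ N)

/-- `I M = M` passes to the tensor product. -/
theorem smul_top_tensor_eq_top (I : Ideal S) (h : I • (⊤ : Submodule S M) = ⊤) :
    I • (⊤ : Submodule S (P ⊗[B] M)) = ⊤ := by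
  rw [eq_top_iff]
  intro z _
  induction z using TensorProduct.induction_on with
  | zero => exact zero_mem _
  | tmul p m =>
    refine Submodule.smul_induction_on (h.ge (Submodule.mem_top (x := m))) (fun a ha n _ => ?_) fun a b ha hb => ?_
    · rw [← algebraMap_smul B a n, ← TensorProduct.smul_tmul, algebraMap_smul, ← TensorProduct.smul_tmul']
      exact Submodule.smul_mem_smul ha Submodule.mem_top
    · rw [TensorProduct.tmul_add]; exact add_mem ha hb
  | add x y hx hy => exact add_mem (hx trivial) (hy trivial)

end Algebra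

variable {X Y Z : Scheme.{u}} (q : X ⟶ Y) (h : Y ⟶ Z) (M : X.Modules) (N : Y.Modules) (x : X)

/-- A flat module with nonzero fibre at the point is faithfully flat over the local ring. -/
theorem faithfullyFlat_of_faithAt (hf : FlatMod.IsFlatOverAt q M x) (hn : FaithAt q M x) :
    letI : Module (Y.presheaf.stalk (q x)) ((Groth.L00.Stk.F X x).obj M) := Module.compHom _ (q.stalkMap x).hom
    Module.FaithfullyFlat (Y.presheaf.stalk (q x)) ((Groth.L00.Stk.F X x).obj M) := by
  letI : Module (Y.presheaf.stalk (q x)) ((Groth.L00.Stk.F X x).obj M) := Module.compHom _ (q.stalkMap x).hom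
  haveI : Module.Flat (Y.presheaf.stalk (q x)) ((Groth.L00.Stk.F X x).obj M) := hf
  refine { submodule_ne_top := fun m hm => ?_ }
  rw [IsLocalRing.eq_maximalIdeal hm]
  exact hn

/-- Comparison of the conditions on `M ⊗ q^*N` and on `N` at a point where `M` is faithfully flat. -/
theorem tensor_pullback_at (hM : FlatMod.IsFlatOverAt q M x) :
    (FaithAt (q ≫ h) (CohB1.tensorMod M ((Scheme.Modules.pullback q).obj N)) x → FaithAt h N (q x)) ∧
    (FaithAt q M x →
      (FlatMod.IsFlatOverAt (q ≫ h) (CohB1.tensorMod M ((Scheme.Modules.pullback q).obj N)) x →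
        FlatMod.IsFlatOverAt h N (q x)) ∧
      (FaithAt h N (q x) → FaithAt (q ≫ h) (CohB1.tensorMod M ((Scheme.Modules.pullback q).obj N)) x)) := by
  let C := X.presheaf.stalk x
  let B := Y.presheaf.stalk (q x)
  let S := Z.presheaf.stalk (h (q x))
  letI : Algebra B C := (q.stalkMap x).hom.toAlgebra
  letI : Algebra S B := (h.stalkMap (q x)).hom.toAlgebra
  letI : Algebra S C := ((q.stalkMap x).hom.comp (h.stalkMap (q x)).hom).toAlgebra
  haveI : IsScalarTower S B C := IsScalarTower.of_algebraMap_eq fun _ => rfl
  let P := (Groth.L00.Stk.F X x).obj M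
  let N' := (Groth.L00.Stk.F Y (q x)).obj N
  letI : Module B P := Module.compHom P (q.stalkMap x).hom
  haveI : IsScalarTower B C P := IsScalarTower.of_algebraMap_smul fun _ _ => rfl
  letI : Module S N' := Module.compHom N' (h.stalkMap (q x)).hom
  haveI : IsScalarTower S B N' := IsScalarTower.of_algebraMap_smul fun _ _ => rfl
  letI : Module S P := Module.compHom P (algebraMap S C)
  haveI : IsScalarTower S C P := IsScalarTower.of_algebraMap_smul fun _ _ => rfl
  haveI : IsScalarTower S B P := IsScalarTower.of_algebraMap_smul fun r z => by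
    rw [← algebraMap_smul C (algebraMap S B r) z, ← IsScalarTower.algebraMap_apply]; rfl
  let T := (Groth.L00.Stk.F X x).obj (CohB1.tensorMod M ((Scheme.Modules.pullback q).obj N))
  letI : Module S T := Module.compHom T ((q ≫ h).stalkMap x).hom
  let e : T ≃ₗ[C] P ⊗[B] N' :=
    ((Groth.L00.Stk.τ x M ((Scheme.Modules.pullback q).obj N)).symm.toLinearEquiv.trans
      (TensorProduct.congr (LinearEquiv.refl C P) ((Groth.L00.PullStalk.stalkIso q x).app N).toLinearEquiv)).trans
      (TensorProduct.AlgebraTensorModule.cancelBaseChange B C C P N')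
  let eS : T ≃ₗ[S] P ⊗[B] N' := AddEquiv.toLinearEquiv e.toAddEquiv fun a z => by
    refine (e.map_smul (((q ≫ h).stalkMap x).hom a) z).trans ?_
    rw [Scheme.Hom.stalkMap_comp]
    exact algebraMap_smul C a (e z)
  have hfaith : FaithAt (q ≫ h) (CohB1.tensorMod M ((Scheme.Modules.pullback q).obj N)) x ↔
      IsLocalRing.maximalIdeal S • (⊤ : Submodule S (P ⊗[B] N')) ≠ ⊤ := by
    refine not_congr ⟨fun h1 => ?_, fun h1 => ?_⟩
    · have h2 := congrArg (Submodule.map (eS : T →ₗ[S] P ⊗[B] N')) h1
      rwa [Submodule.map_smul'', Submodule.map_top, LinearEquiv.range] at h2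
    · have h2 := congrArg (Submodule.map (eS.symm : P ⊗[B] N' →ₗ[S] T)) h1
      rwa [Submodule.map_smul'', Submodule.map_top, LinearEquiv.range] at h2
  refine ⟨fun hT hN => hfaith.mp hT (smul_top_tensor_eq_top _ hN), fun hn => ?_⟩
  haveI : Module.FaithfullyFlat B P := faithfullyFlat_of_faithAt q M x hM hn
  refine ⟨fun hT => ?_, fun hN => hfaith.mpr (smul_top_tensor_ne_top _ hN)⟩
  haveI : Module.Flat S T := hT
  haveI : Module.Flat S (P ⊗[B] N') := Module.Flat.of_linearEquiv eS.symm
  exact flat_of_tensor (S := S) (B := B) (P := P) (M := N')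

/-- Flatness and faithful flatness of external tensor products. -/
theorem tensorS_iff {Y' : Scheme.{u}} {f : X ⟶ Y} (g : Y' ⟶ Y) (k : Y' ⟶ Z) (F : X.Modules)
    (hFfl : FlatMod.IsFlatOver f F) (hFff : ∀ y : Y, ∃ x : X, f x = y ∧ FaithAt f F x) (G : Y'.Modules) :
    let T := CohB1.tensorMod ((Scheme.Modules.pullback (pullback.fst f g)).obj F)
      ((Scheme.Modules.pullback (pullback.snd f g)).obj G)
    (FlatMod.IsFlatOver k G ↔ FlatMod.IsFlatOver (pullback.snd f g ≫ k) T) ∧
    ((FlatMod.IsFlatOver k G ∧ ∀ z : Z, ∃ y' : Y', k y' = z ∧ FaithAt k G y') ↔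
      (FlatMod.IsFlatOver (pullback.snd f g ≫ k) T ∧
        ∀ z : Z, ∃ x' : ↥(pullback f g), (pullback.snd f g ≫ k) x' = z ∧ FaithAt (pullback.snd f g ≫ k) T x')) := by
  intro T
  let q := pullback.snd f g
  have hP : ∀ x', FlatMod.IsFlatOverAt q ((Scheme.Modules.pullback (pullback.fst f g)).obj F) x' := fun x' =>
    isFlatOverAt_pullback (IsPullback.of_hasPullback f g) x' F (hFfl _)
  have hlift : ∀ y' : Y', ∃ x', q x' = y' ∧
      FaithAt q ((Scheme.Modules.pullback (pullback.fst f g)).obj F) x' := fun y' => by
    obtain ⟨x, hx, hx'⟩ := hFff (g y')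
    exact exists_faithAt_pullback f g F y' x hx hx'
  have h1 : FlatMod.IsFlatOver k G ↔ FlatMod.IsFlatOver (q ≫ k) T := by
    refine ⟨fun hG x' => isFlatOverAt_tensor_pullback q k _ G x' (hP x') (hG _), fun hT y' => ?_⟩
    obtain ⟨x', rfl, hx'⟩ := hlift y'
    exact ((tensor_pullback_at q k _ G x' (hP x')).2 hx').1 (hT x')
  refine ⟨h1, ⟨fun ⟨hG, hz⟩ => ⟨h1.mp hG, fun z => ?_⟩, fun ⟨hT, hz⟩ => ⟨h1.mpr hT, fun z => ?_⟩⟩⟩
  · obtain ⟨y', hy', hn⟩ := hz z
    obtain ⟨x', rfl, hx'⟩ := hlift y'
    exact ⟨x', hy', ((tensor_pullback_at q k _ G x' (hP x')).2 hx').2 hn⟩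
  · obtain ⟨x', hx', hn⟩ := hz z
    exact ⟨q x', hx', (tensor_pullback_at q k _ G x' (hP x')).1 hn⟩

end Groth.L19.FlatTensor
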