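import Mathlib.AlgebraicGeometry.Sites.Fpqc
import Mathlib.AlgebraicGeometry.Morphisms.UniversallyOpen

/-!
# fppf covering families
-/

universe u

open CategoryTheory CategoryTheory.Limits AlgebraicGeometry

namespace Groth.L19

variable {S : Scheme.{u}} {R : Presieve S}

theorem fppf_mem_cover (hR : R ∈ Scheme.fppfPrecoverage S) :
    (∀ s : S, ∃ (U : Scheme.{u}) (g : U ⟶ S), R g ∧ s ∈ Set.range g) ∧
      ∀ ⦃U : Scheme.{u}⦄ ⦃g : U ⟶ S⦄, R g → Flat g ∧ LocallyOfFinitePresentation g := by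
  obtain ⟨𝒰, rfl⟩ := Precoverage.mem_iff_exists_zeroHypercover.mp hR
  have h := (Scheme.ofArrows_mem_precoverage_iff _).mp 𝒰.mem₀
  refine ⟨fun s => ?_, ?_⟩
  · obtain ⟨i, hi⟩ := h.1 s
    exact ⟨_, 𝒰.f i, ⟨i⟩, hi⟩
  · rintro U g ⟨i⟩
    exact h.2 i

theorem isOpenMap_of_mem_fppf (hR : R ∈ Scheme.fppfPrecoverage S) {U : Scheme.{u}} {g : U ⟶ S}
    (hg : R g) : IsOpenMap g := by
  obtain ⟨h1, h2⟩ := (fppf_mem_cover hR).2 hg
  exact g.isOpenMap

theorem universallyOpen_of_mem_fppf (hR : R ∈ Scheme.fppfPrecoverage S) {U : Scheme.{u}}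
    {g : U ⟶ S} (hg : R g) : UniversallyOpen g := by
  obtain ⟨h1, h2⟩ := (fppf_mem_cover hR).2 hg
  infer_instance

/-- If `g ≫ f` has open underlying map for all members `g` of an fppf family, so does `f`. -/
theorem isOpenMap_of_fppf_comp {Y : Scheme.{u}} (f : S ⟶ Y) (hR : R ∈ Scheme.fppfPrecoverage S)
    (h : ∀ ⦃U : Scheme.{u}⦄ ⦃g : U ⟶ S⦄, R g → IsOpenMap (g ≫ f)) : IsOpenMap f := by
  intro W hW
  have : f '' W = ⋃ (U : Scheme.{u}) (g : U ⟶ S) (_ : R g), (g ≫ f) '' (g ⁻¹' W) := by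
    ext y
    simp only [Set.mem_iUnion, Set.mem_image, Set.mem_preimage]
    refine ⟨?_, ?_⟩
    · rintro ⟨x, hx, rfl⟩
      obtain ⟨U, g, hg, u', rfl⟩ := (fppf_mem_cover hR).1 x
      exact ⟨U, g, hg, u', hx, Scheme.Hom.comp_apply ..⟩
    · rintro ⟨U, g, hg, u', hx, rfl⟩
      exact ⟨g u', hx, (Scheme.Hom.comp_apply ..).symm⟩
  rw [this]
  exact isOpen_iUnion fun U => isOpen_iUnion fun g => isOpen_iUnion fun hg =>
    h hg _ (hW.preimage g.continuous)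

end Groth.L19
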