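import Groth.Prelude.Def_Red
import Groth.Prelude.Def_Frob
import Groth.Agent.L04.Corr.FrobInverse
import Groth.Agent.L26.AV.GroupSep
import Groth.Prelude.Def_NonAbH2
import Groth.Agent.L25.BcCompHom
import Groth.Agent.L25.GrpDeriv
import Groth.Agent.L15.Frob.Sch
import Groth.Agent.L15.SubGrp.Image
import Groth.Agent.L08.MonoClosed
import Groth.Agent.L00.BddFib
import Groth.Agent.S4094
import Mathlib.RingTheory.Nilpotent.Basic

/-!
# A finite Frobenius kernel with smooth quotient
-/

set_option autoImplicit false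
set_option backward.isDefEq.respectTransparency.types false
set_option backward.isDefEq.respectTransparency false
set_option linter.style.haveILetI false

universe u

open CategoryTheory CategoryTheory.Limits MonoidalCategory CartesianMonoidalCategory MonObj GrpObj AlgebraicGeometry
open scoped TensorProduct

noncomputable section

namespace Groth.L19.FrobKernel

section Iterate

variable (p : ℕ) [Fact p.Prime]

/-- the iterated absolute Frobenius -/
def Fr (X : Scheme.{u}) [FrobSch.IsCharP X p] (n : ℕ) : X ⟶ X :=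
  End.asHom (End.of (FrobSch.frob X p) ^ n)

variable {p} {n : ℕ}

theorem Fr_comp {X Y : Scheme.{u}} [FrobSch.IsCharP X p] [FrobSch.IsCharP Y p] (f : X ⟶ Y) :
    Fr p X n ≫ f = f ≫ Fr p Y n :=
  Groth.L04.FrobTwist.iter_frob_comp p f n

theorem Fr_base (X : Scheme.{u}) [FrobSch.IsCharP X p] (x : X) : Fr p X n x = x :=
  (Groth.L04.FrobTwist.iter_frob_apply X p n).1 x

theorem isCharP_left {k : Type u} [Field k] [CharP k p] (X : Over (Spec (CommRingCat.of k))) :
    FrobSch.IsCharP X.left p :=
  FrobSch.IsCharP.of_hom X.hom p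

theorem frob_Spec (A : Type u) [CommRing A] [CharP A p] :
    FrobSch.frob (Spec (CommRingCat.of A)) p = Spec.map (CommRingCat.ofHom (frobenius A p)) := by
  refine ext_of_isAffine (CommRingCat.hom_ext (RingHom.ext fun s => ?_))
  obtain ⟨a, rfl⟩ := (Scheme.ΓSpecIso (CommRingCat.of A)).commRingCatIsoToRingEquiv.symm.surjective s
  refine Eq.trans ?_ congr($(Scheme.ΓSpecIso_inv_naturality (CommRingCat.ofHom (frobenius A p))) a)
  exact (map_pow (Scheme.ΓSpecIso (CommRingCat.of A)).inv.hom a p).symm

end Iterate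

/-- A flat surjective homomorphism with a given kernel gives an fppf extension. -/
theorem isExactSeq_of_kernel {S : Scheme.{u}} {T E A : Over S} [GrpObj T] [GrpObj E] [GrpObj A]
    (i : T ⟶ E) [IsMonHom i] [Mono i] (q : E ⟶ A) [IsMonHom q] [Surjective q.left] [Flat q.left]
    [LocallyOfFinitePresentation q.left] (hker : AlgGrp.IsKernel i q) :
    NonAbH1.IsExactSeq Scheme.fppfPrecoverage i q := by
  have hiq : i ≫ q = 1 := by rw [Hom.one_def]; exact hker.w
  have hm : (E ◁ i) ≫ μ[E] = fst E T * (snd E T ≫ i) := by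
    rw [MonObj.mul_eq_mul, MonObj.comp_mul, whiskerLeft_fst, whiskerLeft_snd]
  refine ⟨‹_›, ‹_›, hiq, ?_, ?_⟩
  · rw [hm]
    have hw : fst E T ≫ q = (fst E T * (snd E T ≫ i)) ≫ q := by
      rw [MonObj.mul_comp, Category.assoc (snd E T), hiq, MonObj.comp_one, _root_.mul_one]
    have hk : ∀ s : PullbackCone q q, (s.fst⁻¹ * s.snd) ≫ q = toUnit _ ≫ η[A] := fun s => by
      rw [MonObj.mul_comp, GrpObj.inv_comp, s.condition, inv_mul_cancel, Hom.one_def]
    refine IsPullback.of_isLimit' ⟨hw⟩ (PullbackCone.IsLimit.mk hw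
      (fun s => CartesianMonoidalCategory.lift s.fst (hker.lift _ (toUnit _) (hk s))) (fun s => lift_fst _ _)
      (fun s => ?_) (fun s m h1 h2 => ?_))
    · rw [MonObj.comp_mul, lift_fst, ← Category.assoc, lift_snd, hker.lift_fst, mul_inv_cancel_left]
    · apply CartesianMonoidalCategory.hom_ext
      · rw [lift_fst]; exact h1
      · rw [lift_snd, ← cancel_mono i, hker.lift_fst, ← h1, Category.assoc, eq_inv_mul_iff_mul_eq]
        rw [MonObj.comp_mul] at h2
        exact h2
  · refine ⟨Presieve.singleton q.left, Scheme.Hom.singleton_mem_fppfPrecoverage _, ?_⟩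
    rintro S' f ⟨⟩
    exact ⟨𝟙 _, Category.id_comp _⟩

section Smooth

variable {K : Type u} [Field K]

/-- a group over an algebraically closed field with a non-empty reduced open is smooth -/
theorem smooth_of_reduced_open [IsAlgClosed K] {G : Scheme.{u}} (f : G ⟶ Spec (.of K))
    [LocallyOfFiniteType f] [GrpObj (Over.mk f)] {V : Scheme.{u}} (j : V ⟶ G) [IsOpenImmersion j]
    [Nonempty V] [IsReduced V] : Smooth f := by
  have := LocallyOfFiniteType.jacobsonSpace f
  rw [← Scheme.Hom.smoothLocus_eq_top_iff, ← TopologicalSpace.Opens.coe_eq_univ,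
    ← not_ne_iff, ← Set.nonempty_compl]
  intro H
  obtain ⟨x, hx, hxc⟩ :=
    nonempty_inter_closedPoints H f.smoothLocus.2.isClosed_compl.isLocallyClosed
  have hne : (f.smoothLocus : Set G).Nonempty := by
    obtain ⟨v, hv⟩ := (j ≫ f).dense_smoothLocus_of_perfectField.nonempty
    refine ⟨j v, ?_⟩
    have e := Scheme.Hom.preimage_smoothLocus_eq j f
    exact (e.symm ▸ hv : v ∈ j ⁻¹ᵁ f.smoothLocus)
  obtain ⟨y, hy : y ∈ f.smoothLocus, hyc⟩ := nonempty_inter_closedPoints hne
    f.smoothLocus.2.isLocallyClosed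
  let x' : MonoidalCategoryStruct.tensorUnit _ ⟶ Over.mk f := Over.homMk _ ((pointEquivClosedPoint f).symm ⟨x, hxc⟩).2
  let y' : MonoidalCategoryStruct.tensorUnit _ ⟶ Over.mk f := Over.homMk _ ((pointEquivClosedPoint f).symm ⟨y, hyc⟩).2
  let α := (GrpObj.mulRight (A := Over.mk f) x').symm ≪≫
    (GrpObj.mulRight (A := Over.mk f) y')
  have hα : x' ≫ α.hom = y' := by
    dsimp only [Iso.trans_hom, Iso.symm_hom, α]
    rw [← Category.assoc, ← Iso.eq_comp_inv]
    simp [comp_lift_assoc]
  have hα' : α.hom.left x = y := by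
    simpa [x', y', pointEquivClosedPoint] using congr(($hα).left (IsLocalRing.closedPoint K))
  rw! [← hα', ← α.hom.left.mem_preimage, Scheme.Hom.preimage_smoothLocus_eq,
    show α.hom.left ≫ f = f from α.hom.w] at hy
  exact hx hy

/-- a group over a field with a non-empty geometrically reduced open is smooth -/
theorem smooth_of_geomReduced_open {G : Scheme.{u}} (f : G ⟶ Spec (.of K))
    [LocallyOfFiniteType f] [GrpObj (Over.mk f)] {V : Scheme.{u}} (j : V ⟶ G) [IsOpenImmersion j]
    [Nonempty V] [IsReduced (pullback (j ≫ f) (Spec.map (CommRingCat.ofHom (algebraMap K (AlgebraicClosure K)))))] :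
    Smooth f := by
  let Ω : Type u := AlgebraicClosure K
  let g : Spec (.of Ω) ⟶ Spec (.of K) := Spec.map (CommRingCat.ofHom <| algebraMap K Ω)
  apply MorphismProperty.of_pullback_snd_of_descendsAlong
    (Q := @Surjective ⊓ @Flat ⊓ @QuasiCompact) (g := g)
  · exact ⟨⟨inferInstance, inferInstance⟩, inferInstance⟩
  · let : GrpObj (Over.mk (Limits.pullback.snd f g)) := Over.grpObjMkPullbackSnd
    let jL : pullback (j ≫ f) g ⟶ pullback f g :=
      pullback.map (j ≫ f) g f g j (𝟙 _) (𝟙 _) (Category.comp_id _) rfl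
    haveI : Surjective g := ⟨fun s => ⟨IsLocalRing.closedPoint _, Subsingleton.elim (α := PrimeSpectrum K) _ _⟩⟩
    haveI : Nonempty ↥(pullback (j ≫ f) g) := by
      obtain ⟨v⟩ := ‹Nonempty V›
      obtain ⟨w, -⟩ := (pullback.fst (j ≫ f) g).surjective v
      exact ⟨w⟩
    exact smooth_of_reduced_open _ jL

end Smooth

variable {k : Type u} [Field k] (p : ℕ) [Fact p.Prime] [CharP k p] (n : ℕ)

/-- the iterated Frobenius of the base -/
abbrev φ : Spec (CommRingCat.of k) ⟶ Spec (CommRingCat.of k) := Fr p (Spec (CommRingCat.of k)) n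

/-- the iterated relative Frobenius -/
def frApp (X : Over (Spec (CommRingCat.of k))) : X ⟶ Red.bc (φ p n) X :=
  letI := isCharP_left (p := p) X
  Over.homMk (pullback.lift (Fr p X.left n) X.hom (Fr_comp X.hom)) (pullback.lift_snd _ _ _)

theorem frApp_fst (X : Over (Spec (CommRingCat.of k))) :
    letI := isCharP_left (p := p) X
    (frApp p n X).left ≫ pullback.fst X.hom (φ p n) = Fr p X.left n :=
  pullback.lift_fst _ _ _

theorem frApp_snd (X : Over (Spec (CommRingCat.of k))) :
    (frApp p n X).left ≫ pullback.snd X.hom (φ p n) = X.hom :=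
  pullback.lift_snd _ _ _

/-- the iterated relative Frobenius, naturally -/
def fr : 𝟭 (Over (Spec (CommRingCat.of k))) ⟶ Over.pullback (φ p n) where
  app := frApp p n
  naturality X Y f := by
    letI := isCharP_left (p := p) X
    letI := isCharP_left (p := p) Y
    apply Over.OverMorphism.ext
    apply pullback.hom_ext
    · simp only [Functor.id_map, Over.comp_left, Category.assoc, Over.pullback_map_left]
      erw [frApp_fst p n Y, pullback.lift_fst]
      rw [← Fr_comp (p := p) (n := n) f.left, ← Category.assoc]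
      erw [frApp_fst p n X]
    · exact (Over.w _).trans (Over.w _).symm

theorem isMonHom_frApp (G : Over (Spec (CommRingCat.of k))) [gG : GrpObj G] :
    IsMonHom (frApp p n G : G ⟶ Red.bc (φ p n) G) :=
  Groth.L25.BcCompHom.isMonHom_natApp (𝟭 _) (Over.pullback (φ p n)) (fr p n) G
    gG (Red.grpObj_bc (φ p n) G) (Category.id_comp _).symm (Category.id_comp _).symm rfl rfl

theorem Fr_succ (X : Scheme.{u}) [FrobSch.IsCharP X p] (m : ℕ) :
    Fr p X (m + 1) = FrobSch.frob X p ≫ Fr p X m := by
  simp only [Fr, pow_succ]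
  rfl

theorem isIntegralHom_Fr (X : Scheme.{u}) [FrobSch.IsCharP X p] (m : ℕ) :
    IsIntegralHom (Fr p X m) := by
  induction m with
  | zero => exact inferInstanceAs (IsIntegralHom (𝟙 X))
  | succ m ih =>
    haveI := Groth.L15.Frob.isIntegralHom_frob p X
    rw [Fr_succ]
    infer_instance

variable (G : Over (Spec (CommRingCat.of k)))

theorem frApp_props [LocallyOfFiniteType G.hom] :
    IsFinite (frApp p n G).left ∧ Function.Injective (frApp p n G).left := by
  letI := isCharP_left (p := p) G
  haveI : IsAffineHom (φ (k := k) p n) := isAffineHom_of_isAffine _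
  haveI := isIntegralHom_Fr p G.left n
  haveI : IsAffineHom (pullback.fst G.hom (φ p n)) := MorphismProperty.pullback_fst (P := @IsAffineHom) _ _ ‹_›
  haveI : IsIntegralHom ((frApp p n G).left ≫ pullback.fst G.hom (φ p n)) := by
    rw [frApp_fst]; infer_instance
  have hinj : ∀ x, pullback.fst G.hom (φ p n) ((frApp p n G).left x) = x := fun x =>
    (congrArg (fun m : G.left ⟶ G.left => m x) (frApp_fst p n G)).trans (Fr_base _ _)
  haveI : IsIntegralHom (frApp p n G).left := IsIntegralHom.of_comp _ (pullback.fst G.hom (φ p n))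
  haveI : LocallyOfFiniteType ((frApp p n G).left ≫ pullback.snd G.hom (φ p n)) := by
    rw [frApp_snd]; infer_instance
  haveI : LocallyOfFiniteType (frApp p n G).left := locallyOfFiniteType_of_comp _ (pullback.snd G.hom (φ p n))
  exact ⟨(IsFinite.iff_isIntegralHom_and_locallyOfFiniteType _).2 ⟨‹_›, ‹_›⟩,
    fun a b h => (hinj a).symm.trans ((congrArg (pullback.fst G.hom (φ p n)) h).trans (hinj b))⟩

section Open

variable (A : Type u) [CommRing A] [Algebra k A]

/-- the open piece -/
abbrev piece : Over (Spec (CommRingCat.of k)) := Over.mk (Spec.map (CommRingCat.ofHom (algebraMap k A)))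

variable {A} (j : piece (k := k) A ⟶ G)

theorem isOpenImmersion_bc [IsOpenImmersion j.left] :
    IsOpenImmersion ((Over.pullback (φ p n)).map j).left := by
  have sq : IsPullback ((Over.pullback (φ p n)).map j).left
      (pullback.fst (piece (k := k) A).hom (φ p n)) (pullback.fst G.hom (φ p n)) j.left := by
    refine IsPullback.of_right ?_ (by simp) (IsPullback.of_hasPullback G.hom (φ p n)).flip
    simp only [Over.pullback_map_left, limit.lift_π, PullbackCone.mk_π_app]
    rw [Over.w j]
    exact (IsPullback.of_hasPullback (piece (k := k) A).hom (φ p n)).flip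
  exact MorphismProperty.of_isPullback sq.flip ‹IsOpenImmersion j.left›

theorem isPullback_frApp [IsOpenImmersion j.left] :
    IsPullback (frApp p n (piece A)).left j.left ((Over.pullback (φ p n)).map j).left (frApp p n G).left := by
  letI := isCharP_left (p := p) G
  haveI := isOpenImmersion_bc p n G j
  refine IsOpenImmersion.isPullback _ _ _ _ ?_ ?_
  · exact congrArg Over.Hom.left ((fr p n).naturality j)
  · ext x
    show (frApp p n G).left x ∈ ((Over.pullback (φ p n)).map j).left.opensRange ↔ x ∈ j.left.opensRange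
    have hfst : ((Over.pullback (φ p n)).map j).left ≫ pullback.fst G.hom (φ p n) =
        pullback.fst (piece (k := k) A).hom (φ p n) ≫ j.left := by simp
    have hx : pullback.fst G.hom (φ p n) ((frApp p n G).left x) = x :=
      (congrArg (fun m : G.left ⟶ G.left => m x) (frApp_fst p n G)).trans (Fr_base _ _)
    constructor
    · rintro ⟨y, hy⟩
      refine ⟨pullback.fst (piece (k := k) A).hom (φ p n) y, ?_⟩
      exact ((congrArg (fun m : _ ⟶ G.left => m y) hfst).symm.trans (congrArg (pullback.fst G.hom (φ p n)) hy)).trans hx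
    · rintro ⟨y, hy⟩
      refine ⟨(frApp p n (piece A)).left y, ?_⟩
      rw [← hy, ← Scheme.Hom.comp_apply, ← Scheme.Hom.comp_apply]
      exact congrArg (fun m : (piece (k := k) A).left ⟶ _ => m y) (congrArg Over.Hom.left ((fr p n).naturality j)).symm

variable [CharP A p]

/-- the subalgebra generated by the `p^n`-th powers -/
def powAlg : Subalgebra k A := Algebra.adjoin k (Set.range fun a : A => a ^ p ^ n)

theorem Fr_Spec (R : Type u) [CommRing R] [CharP R p] (m : ℕ) :
    Fr p (Spec (CommRingCat.of R)) m = Spec.map (CommRingCat.ofHom (iterateFrobenius R p m)) := by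
  induction m with
  | zero =>
    rw [iterateFrobenius_zero]
    exact (Spec.map_id _).symm
  | succ m ih =>
    rw [Fr_succ, ih, frob_Spec (p := p), ← Spec.map_comp]
    congr 1
    ext x
    simp [iterateFrobenius_def, frobenius_def, ← pow_mul, pow_succ]

theorem exists_factor : ∃ h : Spec (CommRingCat.of (powAlg (k := k) (A := A) p n)) ⟶
    (Red.bc (φ p n) (piece (k := k) A)).left,
    Spec.map (CommRingCat.ofHom (powAlg (k := k) (A := A) p n).val.toRingHom) ≫ h =
      (frApp p n (piece A)).left := by
  letI := isCharP_left (p := p) (piece (k := k) A)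
  let S := powAlg (k := k) (A := A) p n
  let e : A →+* S := (iterateFrobenius A p n).codRestrict S fun a => Algebra.subset_adjoin ⟨a, rfl⟩
  have hc : Spec.map (CommRingCat.ofHom e) ≫ (piece (k := k) A).hom =
      Spec.map (CommRingCat.ofHom (algebraMap k S)) ≫ φ p n := by
    rw [φ, Fr_Spec p k n]
    simp only [piece, Over.mk_hom, ← Spec.map_comp]
    congr 1
    ext x
    show iterateFrobenius A p n (algebraMap k A x) = algebraMap k A (iterateFrobenius k p n x)
    rw [iterateFrobenius_def, iterateFrobenius_def, map_pow]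
  refine ⟨pullback.lift _ _ hc, ?_⟩
  apply pullback.hom_ext
  · rw [frApp_fst, Category.assoc, pullback.lift_fst]
    show _ = Fr p (Spec (CommRingCat.of A)) n
    rw [Fr_Spec p A n, ← Spec.map_comp]
    rfl
  · rw [frApp_snd, Category.assoc, pullback.lift_snd, ← Spec.map_comp]
    rfl

end Open

section Alg

variable {A : Type u} [CommRing A] [Algebra k A] [Nontrivial A] [CharP A p]

theorem powAlg_tmul_mem (L : Type u) [Field L] [Algebra k L] [PerfectField L] [CharP L p] [CharP (A ⊗[k] L) p]
    (a : A) (ha : a ∈ powAlg (k := k) p n) (c : L) :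
    a ⊗ₜ[k] c ∈ (iterateFrobenius (A ⊗[k] L) p n).range := by
  haveI : PerfectRing L p := PerfectField.toPerfectRing p
  have hL : ∀ d : L, (1 : A) ⊗ₜ[k] d ∈ (iterateFrobenius (A ⊗[k] L) p n).range := fun d => by
    obtain ⟨e, rfl⟩ := (bijective_iterateFrobenius L p n).2 d
    exact ⟨(1 : A) ⊗ₜ[k] e, by rw [iterateFrobenius_def, iterateFrobenius_def, Algebra.TensorProduct.tmul_pow, one_pow]⟩
  have hA : ∀ b ∈ powAlg (k := k) (A := A) p n, b ⊗ₜ[k] (1 : L) ∈ (iterateFrobenius (A ⊗[k] L) p n).range :=
    fun b hb => by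
    induction hb using Algebra.adjoin_induction with
    | mem x hx =>
      obtain ⟨y, rfl⟩ := hx
      exact ⟨y ⊗ₜ[k] (1 : L), by rw [iterateFrobenius_def, Algebra.TensorProduct.tmul_pow, one_pow]⟩
    | algebraMap r =>
      rw [Algebra.algebraMap_eq_smul_one, TensorProduct.smul_tmul]
      exact hL _
    | add x y _ _ hx hy => rw [TensorProduct.add_tmul]; exact add_mem hx hy
    | mul x y _ _ hx hy =>
      rw [show (x * y) ⊗ₜ[k] (1 : L) = (x ⊗ₜ[k] 1) * (y ⊗ₜ[k] 1) by
        rw [Algebra.TensorProduct.tmul_mul_tmul, _root_.mul_one]]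
      exact mul_mem hx hy
  have : a ⊗ₜ[k] c = (a ⊗ₜ[k] (1 : L)) * ((1 : A) ⊗ₜ[k] c) := by
    rw [Algebra.TensorProduct.tmul_mul_tmul, _root_.mul_one, _root_.one_mul]
  rw [this]
  exact mul_mem (hA a ha) (hL c)

theorem isReduced_tensor_of_powAlg (L : Type u) [Field L] [Algebra k L] [PerfectField L]
    (hn : ∀ x : A ⊗[k] L, IsNilpotent x → x ^ p ^ n = 0)
    {B : Type u} [CommRing B] [Algebra k B] (α : B →ₐ[k] A) (hα : Function.Injective α)
    (hr : ∀ b, α b ∈ powAlg (k := k) p n) : _root_.IsReduced (B ⊗[k] L) := by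
  haveI : CharP L p := charP_of_injective_algebraMap (algebraMap k L).injective p
  haveI : CharP (A ⊗[k] L) p :=
    charP_of_injective_algebraMap (algebraMap k (A ⊗[k] L)).injective p
  let m := Algebra.TensorProduct.map α (AlgHom.id k L)
  have hm : Function.Injective m :=
    Module.Flat.rTensor_preserves_injective_linearMap (M := L) α.toLinearMap hα
  refine ⟨fun y hy => hm ?_⟩
  obtain ⟨x, hx⟩ : m y ∈ (iterateFrobenius (A ⊗[k] L) p n).range := by
    clear hy
    induction y using TensorProduct.induction_on with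
    | zero => rw [map_zero]; exact zero_mem _
    | tmul b c => exact powAlg_tmul_mem p n L _ (hr b) c
    | add u v hu hv => rw [map_add]; exact add_mem hu hv
  rw [map_zero, ← hx, iterateFrobenius_def]
  refine hn x ?_
  obtain ⟨e, he⟩ := hy.map m
  rw [← hx, iterateFrobenius_def, ← pow_mul] at he
  exact ⟨_, he⟩

omit [CharP A p] in
theorem exists_exponent [Algebra.FiniteType k A] (L : Type u) [Field L] [Algebra k L] :
    ∃ N, ∀ x : A ⊗[k] L, IsNilpotent x → x ^ p ^ N = 0 := by
  haveI : Algebra.FiniteType L (L ⊗[k] A) := inferInstance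
  haveI : IsNoetherianRing (L ⊗[k] A) := Algebra.FiniteType.isNoetherianRing L (L ⊗[k] A)
  obtain ⟨m, hm⟩ := IsNoetherianRing.isNilpotent_nilradical (L ⊗[k] A)
  refine ⟨m, fun x hx => ?_⟩
  let e := Algebra.TensorProduct.comm k A L
  have : e x ^ m ∈ (nilradical (L ⊗[k] A)) ^ m := Ideal.pow_mem_pow (mem_nilradical.2 (hx.map e)) m
  rw [hm, Ideal.zero_eq_bot, Ideal.mem_bot, ← map_pow] at this
  exact pow_eq_zero_of_le (Nat.lt_pow_self (Nat.Prime.one_lt Fact.out)).le
    (e.injective (this.trans (map_zero e).symm))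

end Alg

include p in
/-- the kernel of a Frobenius iterate and the smooth quotient by it -/
theorem exists_finite_kernel [GrpObj G] [LocallyOfFiniteType G.hom] :
    ∃ (H Q : Over (Spec (CommRingCat.of k))) (_ : GrpObj H) (_ : GrpObj Q) (eι : H ⟶ G) (v : G ⟶ Q),
      IsFinite H.hom ∧ ConnectedSpace H.left ∧ Smooth Q.hom ∧ IsClosedImmersion eι.left ∧
        IsMonHom eι ∧ IsMonHom v ∧ Surjective v.left ∧ Flat v.left ∧ LocallyOfFinitePresentation v.left ∧
        AlgGrp.IsKernel eι v := by
  letI := isCharP_left (p := p) G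
  let L : Type u := AlgebraicClosure k
  obtain ⟨x⟩ : Nonempty G.left := ⟨η[G].left (IsLocalRing.closedPoint k)⟩
  obtain ⟨iU, y, -⟩ := G.left.affineOpenCover.openCover.exists_eq x
  let A : Type u := G.left.affineOpenCover.X iU
  let jA : Spec (CommRingCat.of A) ⟶ G.left := G.left.affineOpenCover.f iU
  haveI : IsOpenImmersion jA := G.left.affineOpenCover.map_prop iU
  letI : Algebra k A := (Spec.preimage (jA ≫ G.hom)).hom.toAlgebra
  have hjA : jA ≫ G.hom = Spec.map (CommRingCat.ofHom (algebraMap k A)) := (Spec.map_preimage _).symm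
  let j : piece (k := k) A ⟶ G := Over.homMk jA hjA
  haveI : IsOpenImmersion j.left := ‹IsOpenImmersion jA›
  haveI : Nontrivial A := PrimeSpectrum.nonempty_iff_nontrivial.1 ⟨y⟩
  haveI : CharP A p := charP_of_injective_algebraMap (algebraMap k A).injective p
  haveI : Algebra.FiniteType k A := by
    have h : LocallyOfFiniteType (jA ≫ G.hom) := inferInstance
    rw [hjA, HasRingHomProperty.Spec_iff (P := @LocallyOfFiniteType)] at h
    exact h
  obtain ⟨N, hN⟩ := exists_exponent (k := k) (A := A) p L
  let F := frApp p N G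
  haveI : IsMonHom F := isMonHom_frApp p N G
  obtain ⟨hFf, hFi⟩ := frApp_props p N G
  haveI : IsFinite F.left := hFf
  haveI : LocallyOfFiniteType (Red.bc (φ p N) G).hom :=
    inferInstanceAs (LocallyOfFiniteType (pullback.snd G.hom (φ p N)))
  haveI : IsLocallyNoetherian G.left := LocallyOfFiniteType.isLocallyNoetherian G.hom
  haveI : LocallyOfFinitePresentation G.hom := inferInstance
  let H : Over (Spec (CommRingCat.of k)) := pullback F η[Red.bc (φ p N) G]
  let eι : H ⟶ G := pullback.fst F η[Red.bc (φ p N) G]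
  have sqH : IsPullback eι.left (pullback.snd F η[Red.bc (φ p N) G]).left F.left η[Red.bc (φ p N) G].left :=
    (IsPullback.of_hasPullback F η[Red.bc (φ p N) G]).map (Over.forget _)
  have hHhom : (pullback.snd F η[Red.bc (φ p N) G]).left = H.hom :=
    (Category.comp_id _).symm.trans (Over.w (pullback.snd F η[Red.bc (φ p N) G]))
  haveI hHfin : IsFinite H.hom := by
    rw [← hHhom]
    exact MorphismProperty.of_isPullback sqH ‹IsFinite F.left›
  haveI : Flat H.hom := Groth.L00.BddFib.flat_toField _
  obtain ⟨Q, gQ, q, i, hqm, him, hqi, hqs, hqf, hqp, hi, hQfp, hker⟩ :=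
    Groth.Agent.S4094.result _ G (Red.bc (φ p N) G) F (by
      show Flat H.hom
      infer_instance)
  haveI : IsMonHom i := him
  haveI : IsMonHom q := hqm
  haveI : Mono i := hi
  haveI : Surjective q.left := hqs
  haveI : Flat q.left := hqf
  haveI : LocallyOfFinitePresentation q.left := hqp
  haveI : Mono eι := pullback.fst_of_mono
  obtain ⟨gH, hHm⟩ : ∃ _ : GrpObj H, IsMonHom eι := by
    have hK : ∀ {X : Over (Spec (CommRingCat.of k))} (a : X ⟶ G), a ≫ F = 1 → ∃ b : X ⟶ H, b ≫ eι = a :=
      fun {X} a ha => ⟨pullback.lift a (toUnit X) (by rw [ha, Hom.one_def]), pullback.lift_fst _ _ _⟩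
    have hjp : eι ≫ F = 1 := by
      simp only [eι]
      rw [pullback.condition, Hom.one_def, toUnit_unique (pullback.snd F η[Red.bc (φ p N) G]) (toUnit H)]
    obtain ⟨e, he⟩ := hK (1 : 𝟙_ _ ⟶ G) (MonObj.one_comp F)
    obtain ⟨m, hm⟩ := hK ((fst H H ≫ eι) * (snd H H ≫ eι)) (by
      rw [MonObj.mul_comp, Category.assoc, Category.assoc, hjp, MonObj.comp_one, MonObj.comp_one, _root_.one_mul])
    obtain ⟨v, hv⟩ := hK eι⁻¹ (by rw [GrpObj.inv_comp, hjp, _root_.inv_one])
    exact Groth.L15.SubGrp.exists_grpObj_of_mono eι e he m hm v hv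
  haveI : IsClosedImmersion eι.left := by
    haveI : IsSeparated (Red.bc (φ p N) G).hom := Groth.Agent.AV.isSeparated_of_grpObj _
    haveI : IsClosedImmersion (η[Red.bc (φ p N) G] : 𝟙_ _ ⟶ _).left := by
      haveI : IsClosedImmersion ((η[Red.bc (φ p N) G] : 𝟙_ _ ⟶ _).left ≫ (Red.bc (φ p N) G).hom) := by
        rw [Over.w]; exact inferInstanceAs (IsClosedImmersion (𝟙 _))
      exact IsClosedImmersion.of_comp _ (Red.bc (φ p N) G).hom
    exact MorphismProperty.of_isPullback sqH.flip ‹_›
  haveI : ConnectedSpace H.left := by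
    haveI : Subsingleton ↥(Spec (CommRingCat.of k)) := inferInstanceAs (Subsingleton (PrimeSpectrum k))
    haveI : Subsingleton H.left := ⟨fun a b => eι.left.isClosedEmbedding.injective (hFi (by
      rw [← Scheme.Hom.comp_apply, ← Scheme.Hom.comp_apply, sqH.w, Scheme.Hom.comp_apply, Scheme.Hom.comp_apply]
      exact congrArg _ (Subsingleton.elim (α := ↥(Spec (CommRingCat.of k))) _ _)))⟩
    haveI : Nonempty H.left := ⟨(η[H] : 𝟙_ _ ⟶ H).left (IsLocalRing.closedPoint k)⟩
    exact { toNonempty := inferInstance }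
  -- the quotient is smooth
  haveI : QuasiCompact i.left := by
    haveI : QuasiCompact (q.left ≫ i.left) := by
      rw [← Over.comp_left, hqi]; infer_instance
    refine ⟨fun U hU hUc => ?_⟩
    rw [← Set.image_preimage_eq (i.left ⁻¹' U) q.left.surjective]
    refine IsCompact.image ?_ q.left.continuous
    have := (q.left ≫ i.left).isCompact_preimage (U := ⟨U, hU⟩) hUc
    exact this
  haveI : LocallyOfFiniteType Q.hom := inferInstance
  haveI : IsClosedImmersion i.left := Groth.L08.MonoClosed.isClosedImmersion_of_field i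
  have hsq := isPullback_frApp p N G j
  haveI := isOpenImmersion_bc p N G j
  let W := (Red.bc (φ p N) (piece (k := k) A)).left
  haveI : IsAffine W := by
    haveI : IsAffineHom (φ (k := k) p N) := isAffineHom_of_isAffine _
    exact inferInstanceAs (IsAffine (pullback (Spec.map (CommRingCat.ofHom (algebraMap k A))) (φ p N)))
  let jW := ((Over.pullback (φ p N)).map j).left
  let V := pullback i.left jW
  haveI : IsAffine V := isAffine_of_isAffineHom (pullback.snd i.left jW)
  let qX : Spec (CommRingCat.of A) ⟶ V := pullback.lift (jA ≫ q.left) (frApp p N (piece A)).left (by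
    rw [Category.assoc, ← Over.comp_left, hqi]
    exact hsq.w.symm)
  have hsqX : IsPullback qX jA (pullback.fst i.left jW) q.left := by
    refine IsPullback.of_right ?_ (pullback.lift_fst _ _ _) (IsPullback.of_hasPullback i.left jW).flip
    rw [pullback.lift_snd, ← Over.comp_left, hqi]
    exact hsq
  haveI : Flat qX := MorphismProperty.of_isPullback hsqX.flip ‹Flat q.left›
  haveI : Surjective qX := MorphismProperty.of_isPullback hsqX.flip ‹Surjective q.left›
  let vf := pullback.fst i.left jW ≫ Q.hom
  let B : Type u := Γ(V, ⊤)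
  letI : Algebra k B := (Spec.preimage (V.isoSpec.inv ≫ vf)).hom.toAlgebra
  have hB : Spec.map (CommRingCat.ofHom (algebraMap k B)) = V.isoSpec.inv ≫ vf := Spec.map_preimage _
  let αc : CommRingCat.of B ⟶ CommRingCat.of A := Spec.preimage (qX ≫ V.isoSpec.hom)
  have hαc : Spec.map αc = qX ≫ V.isoSpec.hom := Spec.map_preimage _
  have hαk : CommRingCat.ofHom (algebraMap k B) ≫ αc = CommRingCat.ofHom (algebraMap k A) := by
    apply Spec.map_injective
    rw [Spec.map_comp, hB, hαc, Category.assoc, Iso.hom_inv_id_assoc, ← hjA]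
    simp only [vf, qX, pullback.lift_fst_assoc, Category.assoc, Over.w q]
  let α : B →ₐ[k] A :=
    { αc.hom with commutes' := fun c => congr(($hαk).hom c) }
  have hαinj : Function.Injective α := by
    have h : (αc.hom).FaithfullyFlat := by
      have := (flat_and_surjective_SpecMap_iff αc).1 (by
        rw [hαc]; exact ⟨inferInstance, inferInstance⟩)
      exact this
    exact h.injective
  obtain ⟨h, hh⟩ := exists_factor (k := k) (A := A) p N
  have hαr : ∀ b, α b ∈ powAlg (k := k) p N := fun b => by
    have hcomp : qX ≫ pullback.snd i.left jW =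
        Spec.map (CommRingCat.ofHom (powAlg (k := k) (A := A) p N).val.toRingHom) ≫ h := by
      rw [hh]; exact pullback.lift_snd _ _ _
    obtain ⟨w, hw⟩ := (pullback.snd i.left jW).app_surjective ⊤ (isAffineOpen_top W) b
    have e2 : ∀ z, αc.hom z = (Scheme.ΓSpecIso (CommRingCat.of A)).hom (qX.appTop z) := fun z => by
      have hn := Scheme.toSpecΓ_naturality qX
      have : αc = qX.appTop ≫ (Scheme.ΓSpecIso (CommRingCat.of A)).hom := by
        apply Spec.map_injective
        rw [hαc, Spec.map_comp, Scheme.isoSpec_hom, hn, ← Scheme.isoSpec_Spec_hom]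
        rfl
      rw [this]; rfl
    show αc.hom b ∈ _
    have hw' : (pullback.snd i.left jW).appTop w = b := hw
    rw [e2, ← hw']
    have e3 : qX.appTop ((pullback.snd i.left jW).appTop w) =
        (Spec.map (CommRingCat.ofHom (powAlg (k := k) (A := A) p N).val.toRingHom)).appTop (h.appTop w) := by
      rw [← CommRingCat.comp_apply, ← CommRingCat.comp_apply, ← Scheme.Hom.comp_appTop, ← Scheme.Hom.comp_appTop, hcomp]
    rw [e3]
    have e4 := congr(($(Scheme.ΓSpecIso_naturality
      (CommRingCat.ofHom (powAlg (k := k) (A := A) p N).val.toRingHom))).hom (h.appTop w))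
    rw [CommRingCat.comp_apply, CommRingCat.comp_apply] at e4
    rw [e4]
    exact Subtype.prop _
  haveI := isReduced_tensor_of_powAlg p N L hN α hαinj hαr
  haveI : Nonempty V := ⟨qX y⟩
  let θ : Spec (CommRingCat.of L) ⟶ Spec (CommRingCat.of k) := Spec.map (CommRingCat.ofHom (algebraMap k L))
  haveI : IsReduced (pullback vf θ) := by
    let e : pullback vf θ ≅ Spec (CommRingCat.of (B ⊗[k] L)) :=
      asIso (pullback.map vf θ (Spec.map (CommRingCat.ofHom (algebraMap k B))) θ V.isoSpec.hom (𝟙 _) (𝟙 _)
        (by rw [hB, Category.comp_id, Iso.hom_inv_id_assoc]) (by simp)) ≪≫ pullbackSpecIso k B L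
    exact isReduced_of_isOpenImmersion e.hom
  haveI : Smooth Q.hom := by
    letI : GrpObj (Over.mk Q.hom) := gQ
    exact smooth_of_geomReduced_open Q.hom (pullback.fst i.left jW)
  exact ⟨H, Q, gH, gQ, eι, q, hHfin, inferInstance, inferInstance, inferInstance, hHm, hqm, hqs, hqf, hqp, hker⟩

end Groth.L19.FrobKernel
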