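import Groth.Agent.S4366
import Mathlib.AlgebraicGeometry.Morphisms.ClosedImmersion
import Mathlib.AlgebraicGeometry.Morphisms.Flat
import Mathlib.AlgebraicGeometry.Noetherian
import Mathlib.AlgebraicGeometry.PullbackCarrier
import Mathlib.AlgebraicGeometry.FunctionField
import Mathlib.RingTheory.Ideal.AssociatedPrime.Basic

/-!
# A closed subscheme of a scheme flat over an integral scheme containing the generic fibre is everything
-/

set_option autoImplicit false
set_option linter.style.haveILetI false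
set_option backward.isDefEq.respectTransparency false
set_option backward.isDefEq.respectTransparency.types false

universe u

open CategoryTheory CategoryTheory.Limits AlgebraicGeometry TopologicalSpace

noncomputable section

namespace Groth.L19.GenericFibreIso

variable {P C Z : Scheme.{u}}

/-- A closed immersion into a Noetherian scheme flat over an integral one is an isomorphism if it is
surjective on the generic fibre with injective stalk maps there. -/
theorem isIso_of_generic [IsLocallyNoetherian P] [IsIntegral C] (q : P ⟶ C) [Flat q] (φ : Z ⟶ P)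
    [IsClosedImmersion φ]
    (h : ∀ x : P, q x = genericPoint C → ∃ z, φ z = x ∧ Function.Injective (φ.stalkMap z)) : IsIso φ := by
  rw [IsClosedImmersion.isIso_iff_ker_eq_bot]
  let W : {U : P.affineOpens // ∃ V : C.affineOpens, (U : P.Opens) ≤ q ⁻¹ᵁ V} → P.affineOpens := Subtype.val
  refine Scheme.IdealSheafData.ext_of_iSup_eq_top W (top_le_iff.mp fun x _ => ?_) fun U => ?_
  · obtain ⟨V, hV, hxV, -⟩ := exists_isAffineOpen_mem_and_subset (X := C) (x := q x) (U := ⊤) trivial
    obtain ⟨U, hU, hxU, hUV⟩ := exists_isAffineOpen_mem_and_subset (X := P) (x := x) (U := q ⁻¹ᵁ V) hxV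
    exact Opens.mem_iSup.mpr ⟨⟨⟨U, hU⟩, ⟨V, hV⟩, hUV⟩, hxU⟩
  obtain ⟨⟨U, hU⟩, ⟨V, hV⟩, hUV⟩ := U
  show φ.ker.ideal ⟨U, hU⟩ = (⊥ : P.IdealSheafData).ideal ⟨U, hU⟩
  rw [Scheme.Hom.ker_apply, Scheme.IdealSheafData.ideal_bot, Pi.bot_apply, eq_bot_iff]
  intro a (ha : φ.app U a = 0)
  by_contra ha0
  haveI : IsNoetherianRing Γ(P, U) := IsLocallyNoetherian.component_noetherian ⟨U, hU⟩
  obtain ⟨p, hp, hle⟩ := exists_le_isAssociatedPrime_of_isNoetherianRing Γ(P, U) a (by simpa using ha0)
  haveI := hp.isPrime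
  let x : P := hU.fromSpec ⟨p, inferInstance⟩
  have hxU : x ∈ U := hU.range_fromSpec.le ⟨_, rfl⟩
  have hxV : q x ∈ V := hUV hxU
  have hgen : q x = genericPoint C := by
    haveI : Nonempty (V : Scheme.{u}) := ⟨⟨_, hxV⟩⟩
    haveI : IsDomain Γ(C, V) := IsIntegral.component_integral V
    letI : Algebra Γ(C, V) Γ(P, U) := (q.appLE V U hUV).hom.toAlgebra
    haveI : Module.Flat Γ(C, V) Γ(P, U) :=
      RingHom.flat_algebraMap_iff.mp (HasRingHomProperty.appLE @Flat q inferInstance ⟨V, hV⟩ ⟨U, hU⟩ hUV)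
    have hcomap : p.comap (q.appLE V U hUV).hom = ⊥ := by
      rw [eq_bot_iff]
      intro r hr
      by_contra hr0
      have hreg : Function.Injective (fun b : Γ(P, U) => algebraMap Γ(C, V) Γ(P, U) r * b) :=
        IsSMulRegular.of_flat (S := Γ(P, U)) (isRegular_of_ne_zero (by simpa using hr0)).left
      have hzd : algebraMap Γ(C, V) Γ(P, U) r ∈ ⋃ p' ∈ associatedPrimes Γ(P, U) Γ(P, U), (p' : Set Γ(P, U)) :=
        Set.mem_iUnion₂.mpr ⟨p, hp, hr⟩
      rw [biUnion_associatedPrimes_eq_zero_divisors] at hzd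
      obtain ⟨b, hb0, hb⟩ := hzd
      exact hb0 (hreg (show algebraMap Γ(C, V) Γ(P, U) r * b = algebraMap Γ(C, V) Γ(P, U) r * 0 by
        rw [mul_zero]; exact hb))
    have h1 : q x = hV.fromSpec (Spec.map (q.appLE V U hUV) ⟨p, inferInstance⟩) := by
      show q (hU.fromSpec _) = _
      rw [← Scheme.Hom.comp_apply, ← hV.SpecMap_appLE_fromSpec q hU hUV, Scheme.Hom.comp_apply]
    rw [h1, show Spec.map (q.appLE V U hUV) ⟨p, inferInstance⟩ = genericPoint (Spec Γ(C, V)) from ?_,
      genericPoint_eq_of_isOpenImmersion hV.fromSpec]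
    rw [genericPoint_eq_bot_of_affine]
    exact PrimeSpectrum.ext hcomap
  obtain ⟨z, hz, hinj⟩ := h x hgen
  have hg : P.presheaf.germ U x hxU a = 0 := by
    have hzU : φ z ∈ U := hz ▸ hxU
    have h2 : P.presheaf.germ U (φ z) hzU a = 0 := hinj (by
      rw [map_zero, Scheme.Hom.germ_stalkMap_apply, ha, map_zero])
    clear_value x
    subst hz
    exact h2
  letI := P.presheaf.algebra_section_stalk ⟨x, hxU⟩
  haveI := hU.isLocalization_stalk ⟨x, hxU⟩
  have hp' : (hU.primeIdealOf ⟨x, hxU⟩).asIdeal = p :=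
    congrArg (fun w : Spec Γ(P, U) => w.asIdeal)
      (hU.fromSpec.isOpenEmbedding.injective (hU.fromSpec_primeIdealOf ⟨x, hxU⟩))
  obtain ⟨⟨s, hs⟩, hsa⟩ := (IsLocalization.map_eq_zero_iff (hU.primeIdealOf ⟨x, hxU⟩).asIdeal.primeCompl
    (P.presheaf.stalk x) a).mp hg
  exact hs (hp' ▸ hle (Submodule.mem_colon_singleton.mpr (by simpa [smul_eq_mul] using hsa)))

/-- Iso over the local ring of the generic point gives iso. -/
theorem isIso_of_specStalk [IsLocallyNoetherian P] [IsIntegral C] {S : Scheme.{u}} (q : P ⟶ C) [Flat q] (i : C ⟶ S)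
    (φ : Z ⟶ P) [IsClosedImmersion φ]
    (hgen : IsIso (pullback.snd φ (pullback.fst (q ≫ i) (S.fromSpecStalk (i (genericPoint C)))))) : IsIso φ := by
  refine isIso_of_generic q φ fun x hx => ?_
  let π := pullback.fst (q ≫ i) (S.fromSpecStalk (i (genericPoint C)))
  obtain ⟨t, ht, -⟩ := Scheme.Pullback.exists_preimage_pullback (f := q ≫ i)
    (g := S.fromSpecStalk (i (genericPoint C))) x (IsLocalRing.closedPoint _)
    (by rw [Scheme.Hom.comp_apply, hx, Scheme.fromSpecStalk_closedPoint])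
  haveI : IsIso (pullback.snd φ π) := hgen
  obtain ⟨w, rfl⟩ := (pullback.snd φ π).surjective t
  refine ⟨pullback.fst φ π w, by rw [← ht, ← Scheme.Hom.comp_apply, pullback.condition, Scheme.Hom.comp_apply], ?_⟩
  haveI : IsIso (π.stalkMap (pullback.snd φ π w)) := Groth.Agent.S4366.result _ _ _
  have hcomp : IsIso ((pullback.fst φ π ≫ φ).stalkMap w) := by
    rw [Scheme.Hom.stalkMap_congr_hom _ _ pullback.condition w, Scheme.Hom.stalkMap_comp]
    infer_instance
  rw [Scheme.Hom.stalkMap_comp] at hcomp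
  intro a b hab
  refine ((ConcreteCategory.isIso_iff_bijective _).mp hcomp).1 ?_
  exact congrArg (fun t => ((pullback.fst φ π).stalkMap w).hom t) hab

end Groth.L19.GenericFibreIso
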