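import Mathlib.AlgebraicGeometry.AffineTransitionLimit
import Mathlib.CategoryTheory.Limits.Constructions.Over.Connected
import Mathlib.CategoryTheory.Monoidal.Internal.Limits
import Mathlib.CategoryTheory.Monoidal.Cartesian.Grp
import Mathlib.CategoryTheory.Monoidal.Cartesian.Over
import Mathlib.CategoryTheory.Limits.Preserves.Basic
import Mathlib.CategoryTheory.Filtered.Connected

/-!
# Limits of affine group schemes are limits of schemes
-/

set_option autoImplicit false
set_option linter.style.haveILetI false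
set_option backward.isDefEq.respectTransparency.types false
set_option backward.isDefEq.respectTransparency false

universe u

open CategoryTheory Limits MonoidalCategory CartesianMonoidalCategory MonObj AlgebraicGeometry

namespace Groth.L19.GrpLimitAffine

variable {I : Type u} [SmallCategory I]

/-- A cofiltered diagram of affine schemes over a base has a limit. -/
theorem hasLimit_of_affine [IsCofiltered I] {S : Scheme.{u}} (D : I ⥤ Over S) [∀ i, IsAffine (D.obj i).left] :
    HasLimit D := by
  let F := D ⋙ Over.forget S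
  haveI : ∀ i, IsAffine (F.obj i) := fun i => inferInstanceAs (IsAffine (D.obj i).left)
  let e : F ⟶ (F ⋙ Scheme.Γ.rightOp) ⋙ Scheme.Spec := Functor.whiskerLeft F ΓSpec.adjunction.unit
  have (i : _) : IsIso (e.app i) := IsAffine.affine
  have : IsIso e := NatIso.isIso_of_isIso_app e
  haveI : HasLimit F := ⟨⟨⟨_, (IsLimit.postcomposeInvEquiv (asIso e) _).symm
    (isLimitOfPreserves Scheme.Spec (limit.isLimit (F ⋙ Scheme.Γ.rightOp)))⟩⟩⟩
  haveI : IsConnected I := IsCofiltered.isConnected I
  haveI : CreatesLimit D (Over.forget S) := CreatesLimitsOfShape.CreatesLimit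
  exact hasLimit_of_created D (Over.forget S)

variable {C : Type (u + 1)} [Category.{u} C] [CartesianMonoidalCategory C]

/-- A limit of group objects is a limit of the underlying objects as soon as the latter exists. -/
theorem isLimit_mapCone (F : I ⥤ Grp C) [HasLimit (F ⋙ Grp.forget C)] (c : Cone F) (hc : IsLimit c) :
    Nonempty (IsLimit ((Grp.forget C).mapCone c)) := by
  let l := limit.cone (F ⋙ Grp.forget C)
  let hl := limit.isLimit (F ⋙ Grp.forget C)
  let M := Mon.limit (F ⋙ Grp.forget₂Mon C) l hl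
  letI : MonObj l.pt := M.mon
  let πl : ∀ i, l.pt ⟶ (F.obj i).X := fun i => l.π.app i
  let inv : l.pt ⟶ l.pt := hl.lift
    { pt := l.pt
      π := { app := fun i => ((πl i)⁻¹ : l.pt ⟶ (F.obj i).X)
             naturality := fun i j φ => by
               have h := l.w φ
               show 𝟙 _ ≫ (πl j)⁻¹ = (πl i)⁻¹ ≫ (F.map φ).hom.hom
               rw [Category.id_comp, GrpObj.inv_comp]
               exact congrArg _ h.symm } }
  have hinv : ∀ i, inv ≫ πl i = (πl i)⁻¹ := fun i => hl.fac _ i
  haveI hπ : ∀ i, IsMonHom (πl i : l.pt ⟶ (F.obj i).X) := fun i =>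
    ((Mon.limitCone (F ⋙ Grp.forget₂Mon C) l hl).π.app i).isMonHom_hom
  letI grpl : GrpObj l.pt :=
    { inv := inv
      left_inv := hl.hom_ext fun i => by
        show (_ ≫ μ[l.pt]) ≫ πl i = (_ ≫ η[l.pt]) ≫ πl i
        rw [Category.assoc, Category.assoc, IsMonHom.mul_hom (πl i), IsMonHom.one_hom (πl i),
          lift_map_assoc, hinv, Category.id_comp, ← Hom.mul_def, inv_mul_cancel, Hom.one_def]
      right_inv := hl.hom_ext fun i => by
        show (_ ≫ μ[l.pt]) ≫ πl i = (_ ≫ η[l.pt]) ≫ πl i
        rw [Category.assoc, Category.assoc, IsMonHom.mul_hom (πl i), IsMonHom.one_hom (πl i),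
          lift_map_assoc, hinv, Category.id_comp, ← Hom.mul_def, mul_inv_cancel, Hom.one_def] }
  let L : Grp C := Grp.mk l.pt
  let cL : Cone F :=
    { pt := L
      π := { app := fun i => Grp.homMk (πl i : L.X ⟶ (F.obj i).X)
             naturality := fun i j φ => Grp.hom_ext _ _ (l.π.naturality φ) } }
  let u : L ⟶ c.pt := hc.lift cL
  let v : c.pt.X ⟶ l.pt := hl.lift ((Grp.forget C).mapCone c)
  have hv : ∀ i, v ≫ πl i = (c.π.app i).hom.hom := fun i => hl.fac _ i
  haveI hvm : IsMonHom v :=
    { one_hom := hl.hom_ext fun i => by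
        rw [Category.assoc, hv, IsMonHom.one_hom ((c.π.app i).hom.hom), IsMonHom.one_hom (πl i)]
      mul_hom := hl.hom_ext fun i => by
        rw [Category.assoc, hv, IsMonHom.mul_hom ((c.π.app i).hom.hom), Category.assoc,
          IsMonHom.mul_hom (πl i), tensorHom_comp_tensorHom_assoc, hv] }
  let v' : c.pt ⟶ L := Grp.homMk v
  have hu : ∀ i, u.hom.hom ≫ (c.π.app i).hom.hom = πl i := fun i =>
    congrArg (fun m => m.hom.hom) (hc.fac cL i)
  have h1 : v' ≫ u = 𝟙 c.pt := hc.hom_ext fun i => Grp.hom_ext _ _ (by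
    show (v ≫ u.hom.hom) ≫ (c.π.app i).hom.hom = 𝟙 _ ≫ (c.π.app i).hom.hom
    rw [Category.assoc, hu, hv, Category.id_comp])
  have h2 : u.hom.hom ≫ v = 𝟙 l.pt := hl.hom_ext fun i => by rw [Category.assoc, hv, hu, Category.id_comp]
  exact ⟨IsLimit.ofIsoLimit hl (Cone.ext
    { hom := u.hom.hom, inv := v, hom_inv_id := h2, inv_hom_id := congrArg (fun m => m.hom.hom) h1 }
    fun i => (hu i).symm)⟩

end Groth.L19.GrpLimitAffine
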