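import Mathlib.Algebra.Category.ModuleCat.FilteredColimits
import Mathlib.Algebra.Category.ModuleCat.Colimits
import Mathlib.Algebra.Module.FinitePresentation
import Mathlib.CategoryTheory.Limits.Types.Filtered
import Mathlib.CategoryTheory.Limits.ConcreteCategory.Filtered
import Mathlib.CategoryTheory.Filtered.Basic
import Mathlib.CategoryTheory.Limits.Yoneda

/-! Maps out of finite / finitely presented modules and filtered colimits. -/

set_option autoImplicit false
open CategoryTheory CategoryTheory.Limits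
universe u

namespace Groth.L19.HomColimMod

set_option linter.unusedSectionVars false

variable {A : Type u} [CommRing A] (M : ModuleCat.{u} A) {J : Type u} [Preorder J]
  [IsDirected J (· ≤ ·)] [Nonempty J] (N : J ⥤ ModuleCat.{u} A)

lemma post_ι (i : J) (f : M ⟶ N.obj i) :
    colimit.post N (coyoneda.obj (Opposite.op M))
      (colimit.ι (N ⋙ coyoneda.obj (Opposite.op M)) i f) = f ≫ colimit.ι N i := by
  exact ConcreteCategory.congr_hom (colimit.ι_post N (coyoneda.obj (Opposite.op M)) i) f

lemma exists_map_eq (i : J) (s : Finset (N.obj i))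
    (hs : ∀ x ∈ s, colimit.ι N i x = 0) :
    ∃ (j : J) (a : i ⟶ j), ∀ x ∈ s, N.map a x = 0 := by
  classical
  induction s using Finset.induction with
  | empty => exact ⟨i, 𝟙 _, by simp⟩
  | @insert x s hx ih =>
    obtain ⟨j, a, ha⟩ := ih (fun y hy => hs y (Finset.mem_insert_of_mem hy))
    have h0 : colimit.ι N i x = colimit.ι N i 0 := by
      rw [hs x (Finset.mem_insert_self x s), map_zero]
    obtain ⟨k, c, d, hcd⟩ := (CategoryTheory.Limits.colimit_eq_iff N).1 h0
    rw [map_zero] at hcd
    obtain ⟨l, hjl, hkl⟩ := exists_ge_ge j k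
    refine ⟨l, a ≫ homOfLE hjl, fun y hy => ?_⟩
    rcases Finset.mem_insert.1 hy with rfl | hy
    · have : a ≫ homOfLE hjl = c ≫ homOfLE hkl := Subsingleton.elim _ _
      rw [this, N.map_comp]
      simp [hcd]
    · rw [N.map_comp]
      simp [ha y hy]

theorem post_injective [Module.Finite A M] :
    Function.Injective (colimit.post N (coyoneda.obj (Opposite.op M))) := by
  classical
  intro x y hxy
  obtain ⟨i, f, rfl⟩ := Types.jointly_surjective' x
  obtain ⟨j, g, rfl⟩ := Types.jointly_surjective' y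
  obtain ⟨k, hik, hjk⟩ := exists_ge_ge i j
  have hf : f ≫ N.map (homOfLE hik) ≫ colimit.ι N k = f ≫ colimit.ι N i := by
    rw [colimit.w]
  have hg : g ≫ N.map (homOfLE hjk) ≫ colimit.ι N k = g ≫ colimit.ι N j := by
    rw [colimit.w]
  rw [post_ι, post_ι, ← hf, ← hg] at hxy
  obtain ⟨s, hs⟩ := (Module.Finite.fg_top : (⊤ : Submodule A M).FG)
  set e : M ⟶ N.obj k := f ≫ N.map (homOfLE hik) - g ≫ N.map (homOfLE hjk)
  have he : e ≫ colimit.ι N k = 0 := by
    simp only [e, Preadditive.sub_comp, Category.assoc, hxy, sub_self]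
  obtain ⟨l, a, ha⟩ := exists_map_eq N k (s.image e) (by
    intro z hz
    obtain ⟨m, -, rfl⟩ := Finset.mem_image.1 hz
    exact ConcreteCategory.congr_hom he m)
  have hz : e ≫ N.map a = 0 := by
    ext1
    apply LinearMap.ext_on hs
    intro m hm
    exact ha _ (Finset.mem_image_of_mem e hm)
  rw [Types.FilteredColimit.colimit_eq_iff]
  refine ⟨l, homOfLE hik ≫ a, homOfLE hjk ≫ a, ?_⟩
  have : f ≫ N.map (homOfLE hik) ≫ N.map a = g ≫ N.map (homOfLE hjk) ≫ N.map a := by
    rw [← sub_eq_zero]
    simpa [e, Preadditive.sub_comp] using hz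
  simpa using this

theorem post_surjective [Module.FinitePresentation A M] :
    Function.Surjective (colimit.post N (coyoneda.obj (Opposite.op M))) := by
  classical
  intro φ₀
  let φ : M ⟶ colimit N := φ₀
  obtain ⟨n, π, hπ⟩ := Module.Finite.exists_fin' A M
  have hK : (LinearMap.ker π).FG := Module.FinitePresentation.fg_ker π hπ
  -- lift the images of the generators
  have hj : IsColimit ((forget (ModuleCat.{u} A)).mapCocone (colimit.cocone N)) :=
    isColimitOfPreserves _ (colimit.isColimit N)
  choose idx el hel using fun k : Fin n =>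
    Types.jointly_surjective_of_isColimit hj (φ (π (Pi.single k 1)))
  obtain ⟨i, hi⟩ := Finset.exists_le (Finset.univ.image idx)
  have hi' : ∀ k, idx k ≤ i := fun k => hi _ (Finset.mem_image_of_mem _ (Finset.mem_univ k))
  let ψ : (Fin n → A) →ₗ[A] N.obj i :=
    (Pi.basisFun A (Fin n)).constr A fun k => N.map (homOfLE (hi' k)) (el k)
  have hψ : (colimit.ι N i).hom.comp ψ = φ.hom.comp π := by
    apply (Pi.basisFun A (Fin n)).ext
    intro k
    have h1 : colimit.ι N i (N.map (homOfLE (hi' k)) (el k)) = colimit.ι N (idx k) (el k) :=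
      ConcreteCategory.congr_hom (colimit.w N (homOfLE (hi' k))) (el k)
    simp only [LinearMap.comp_apply, ψ, Module.Basis.constr_basis]
    refine h1.trans ((hel k).trans ?_)
    simp [Pi.basisFun_apply]
  obtain ⟨s, hs⟩ := hK
  obtain ⟨j, a, ha⟩ := exists_map_eq N i (s.image ψ) (by
    intro z hz
    obtain ⟨r, hr, rfl⟩ := Finset.mem_image.1 hz
    have hr' : π r = 0 := LinearMap.mem_ker.1 (hs ▸ Submodule.subset_span hr)
    have := LinearMap.congr_fun hψ r
    simpa [hr'] using this)
  let ψ' : (Fin n → A) →ₗ[A] N.obj j := (N.map a).hom.comp ψ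
  have hker : LinearMap.ker π ≤ LinearMap.ker ψ' := by
    rw [← hs, Submodule.span_le]
    intro r hr
    exact ha _ (Finset.mem_image_of_mem ψ hr)
  let g : M →ₗ[A] N.obj j :=
    ((LinearMap.ker π).liftQ ψ' hker).comp (π.quotKerEquivOfSurjective hπ).symm.toLinearMap
  have hg : ∀ x, g (π x) = ψ' x := by
    intro x
    have : (π.quotKerEquivOfSurjective hπ).symm (π x) = Submodule.Quotient.mk x := by
      rw [LinearEquiv.symm_apply_eq]
      rfl
    simp [g, this]
  refine ⟨colimit.ι (N ⋙ coyoneda.obj (Opposite.op M)) j (ModuleCat.ofHom g), ?_⟩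
  rw [post_ι]
  change ModuleCat.ofHom g ≫ colimit.ι N j = φ
  ext1
  apply LinearMap.ext
  intro m
  obtain ⟨x, rfl⟩ := hπ m
  have h2 : colimit.ι N j (ψ' x) = colimit.ι N i (ψ x) :=
    ConcreteCategory.congr_hom (colimit.w N a) (ψ x)
  have h3 := LinearMap.congr_fun hψ x
  simp only [ModuleCat.hom_comp, ModuleCat.hom_ofHom, LinearMap.comp_apply, hg]
  exact h2.trans h3

end Groth.L19.HomColimMod
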