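import Groth.Prelude.Def_ChGrp
import Groth.Agent.L28.Ext.Basic
import Groth.Agent.L08.Albanese.ChowImage
import Groth.Agent.L26.AV.GroupSep
import Mathlib.AlgebraicGeometry.Group.Abelian
import Mathlib.AlgebraicGeometry.Morphisms.Affine
import Mathlib.AlgebraicGeometry.Morphisms.Flat
import Mathlib.AlgebraicGeometry.AlgClosed.Basic

/-!
# Principal bundles trivialised by anti-affine extensions are homogeneous
-/

set_option autoImplicit false
set_option linter.style.haveILetI false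
set_option backward.isDefEq.respectTransparency.types false
set_option backward.isDefEq.respectTransparency false

universe u

open CategoryTheory MonoidalCategory CartesianMonoidalCategory MonObj AlgebraicGeometry

namespace Groth.L19.HomogBundle

variable {k : Type u} [Field k]

/-- A morphism from `E ⊗ H`, `E` anti-affine and `H` affine, to an affine scheme factors through `H`. -/
theorem eq_snd_comp {E H G : Over (Spec (CommRingCat.of k))} [QuasiCompact E.hom] [IsSeparated E.hom]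
    [IsAffine H.left] [IsAffine G.left]
    (hE : IsIso E.hom.appTop) (o : 𝟙_ (Over (Spec (CommRingCat.of k))) ⟶ E) (f : E ⊗ H ⟶ G) :
    f = snd E H ≫ lift (toUnit H ≫ o) (𝟙 H) ≫ f := by
  have sq : IsPullback (fst E H).left (snd E H).left E.hom H.hom := IsPullback.of_hasPullback E.hom H.hom
  haveI : IsAffine (Spec (CommRingCat.of k)) := inferInstance
  haveI : Flat H.hom := inferInstance
  haveI hP : IsIso (snd E H).left.appTop := by
    haveI : CompactSpace E.left := QuasiCompact.compactSpace_of_compactSpace E.hom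
    haveI : QuasiSeparatedSpace E.left := quasiSeparatedSpace_of_quasiSeparated E.hom
    have h := isIso_pushoutSection_of_isQuasiSeparated_of_flat_right (US := ⊤) (UT := ⊤) (UX := ⊤) (UY := ⊤)
      sq (by simp) (by simp) (by simp) (isAffineOpen_top _) (isAffineOpen_top _) isCompact_univ
      isQuasiSeparated_univ
    have hpo := (isIso_pushoutSection_iff sq (by simp) (by simp) (by simp)).1 h
    haveI : IsIso (E.hom.appLE ⊤ ⊤ (by simp)) := by
      simpa [Scheme.Hom.appLE] using hE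
    have := hpo.isIso_inr_of_isIso
    simpa [Scheme.Hom.appLE] using this
  let s := lift (toUnit H ≫ o) (𝟙 H)
  have hs : (snd E H).left.appTop ≫ s.left.appTop = 𝟙 _ := by
    rw [← Scheme.Hom.comp_appTop, ← Over.comp_left, lift_snd]
    exact Scheme.Hom.id_appTop
  have hs' : s.left.appTop ≫ (snd E H).left.appTop = 𝟙 _ := by
    rw [← cancel_epi (snd E H).left.appTop, reassoc_of% hs, Category.comp_id]
  ext1
  apply ext_of_isAffine
  simp only [Over.comp_left, Scheme.Hom.comp_appTop, Category.assoc]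
  rw [hs', Category.comp_id]

variable {G X A E Hk : Over (Spec (CommRingCat.of k))} [GrpObj G] [GrpObj A] [GrpObj E] [GrpObj Hk]

theorem main [IsAlgClosed k] [IsAffine G.left]
    [LocallyOfFiniteType X.hom] [QuasiCompact X.hom]
    [IsProper A.hom] [Smooth A.hom] [ConnectedSpace ↥A.left]
    (a : AlgGrp.Action G X) (π : X ⟶ A) (hinv : a.act ≫ π = snd G X ≫ π)
    (hcart : IsPullback (snd G X) a.act π π)
    [Smooth E.hom] [QuasiCompact E.hom]
    (hE : Function.Bijective ((Scheme.ΓSpecIso (CommRingCat.of k)).inv ≫ E.hom.appTop).hom)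
    (φ : E ⟶ A) [IsMonHom φ] [Flat φ.left] [Surjective φ.left]
    (h : Hk ⟶ E) [IsMonHom h] (hk : AlgGrp.IsKernel h φ) [IsAffine Hk.left]
    (σ : E ⟶ X) (hσ : σ ≫ π = φ)
    (t : 𝟙_ (Over (Spec (CommRingCat.of k))) ⟶ A) :
    ∃ ψ : X ≅ X, (G ◁ ψ.hom) ≫ a.act = a.act ≫ ψ.hom ∧
      ψ.hom ≫ π = π ≫ (lift (𝟙 A) (toUnit A ≫ t) ≫ μ[A]) := by
  haveI hEiso : IsIso E.hom.appTop := by
    haveI : IsIso ((Scheme.ΓSpecIso (CommRingCat.of k)).inv ≫ E.hom.appTop) :=
      (ConcreteCategory.isIso_iff_bijective _).2 hE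
    exact IsIso.of_isIso_comp_left (Scheme.ΓSpecIso (CommRingCat.of k)).inv E.hom.appTop
  haveI : IsSeparated E.hom := Groth.Agent.AV.isSeparated_of_grpObj E
  haveI : GeometricallyIntegral A.hom := Groth.L08.Albanese.geometricallyIntegral_of_smooth A
  haveI : IsCommMonObj A := isCommMonObj_of_isProper_of_geometricallyIntegral A
  haveI : IsLocallyNoetherian A.left := LocallyOfFiniteType.isLocallyNoetherian A.hom
  haveI : LocallyOfFiniteType φ.left := by
    haveI : LocallyOfFiniteType (φ.left ≫ A.hom) := by rw [Over.w]; infer_instance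
    exact locallyOfFiniteType_of_comp φ.left A.hom
  haveI : LocallyOfFinitePresentation φ.left := inferInstance
  -- the cover `(g, y) ↦ g • σ y`
  obtain ⟨c, hc⟩ : ∃ c : G ⊗ E ⟶ X, c = (G ◁ σ) ≫ a.act := ⟨_, rfl⟩
  have hcpt : ∀ {T} (g : T ⟶ G) (y : T ⟶ E), lift g y ≫ c = lift g (y ≫ σ) ≫ a.act := fun g y => by
    rw [hc, lift_whiskerLeft_assoc]
  have hfree : ∀ {T} (g g' : T ⟶ G) (x : T ⟶ X), lift g x ≫ a.act = lift g' x ≫ a.act → g = g' := fun g g' x e => by
    have : lift g x = lift g' x := hcart.hom_ext (by simp) e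
    simpa using congrArg (· ≫ fst G X) this
  have hπ : ∀ {T} (g : T ⟶ G) (x : T ⟶ X), lift g x ≫ a.act ≫ π = x ≫ π := fun g x => by
    rw [hinv, lift_snd_assoc]
  have sqc : IsPullback c (snd G E) π φ := by
    refine IsPullback.mk' ?_ (fun T u v e₁ e₂ => ?_) (fun T x y e => ?_)
    · apply AlgGrp.Action.hom_ext_lift₂
      intro T g y
      rw [← Category.assoc, hcpt, Category.assoc, hπ, lift_snd_assoc, Category.assoc, hσ]
    · rw [← lift_comp_fst_snd u, ← lift_comp_fst_snd v, hcpt, hcpt, e₂] at e₁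
      exact CartesianMonoidalCategory.hom_ext _ _ (hfree _ _ _ e₁) e₂
    · obtain ⟨w, hw₁, hw₂⟩ := hcart.exists_lift (y ≫ σ) x (by rw [Category.assoc, hσ, e])
      refine ⟨lift (w ≫ fst G X) y, ?_, lift_snd _ _⟩
      rw [hcpt, ← hw₁, lift_comp_fst_snd, hw₂]
  have hcov : Groth.L28.Ext.Cov c := by
    have sq' := sqc.map (Over.forget _)
    haveI : Flat c.left := MorphismProperty.of_isPullback (P := @Flat) sq'.flip ‹Flat φ.left›
    haveI : Surjective c.left := MorphismProperty.of_isPullback (P := @Surjective) sq'.flip ‹Surjective φ.left›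
    haveI : LocallyOfFinitePresentation c.left :=
      MorphismProperty.of_isPullback (P := @LocallyOfFinitePresentation) sq'.flip ‹LocallyOfFinitePresentation φ.left›
    refine Groth.L28.Ext.cov_of_isLocallyTrivialFor c ⟨Presieve.singleton c.left, ?_, ?_⟩
    · rw [Scheme.fppfPrecoverage, Scheme.singleton_mem_precoverage_iff]
      exact ⟨c.left.surjective, ‹Flat c.left›, ‹LocallyOfFinitePresentation c.left›⟩
    · rintro _ _ ⟨⟩
      exact ⟨𝟙 _, Category.id_comp _⟩
  -- the cocycle is independent of the point of `E`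
  have hker : ∀ {T} (z : T ⟶ Hk), z ≫ h ≫ φ = 1 := fun z => by
    rw [hk.w, ← Category.assoc, toUnit_unique (z ≫ toUnit Hk) (toUnit _)]
    exact Hom.one_def.symm
  let q : E ⊗ Hk ⟶ E := fst E Hk * (snd E Hk ≫ h)
  have hq : (fst E Hk ≫ σ) ≫ π = (q ≫ σ) ≫ π := by
    rw [Category.assoc, Category.assoc, hσ, MonObj.mul_comp, Category.assoc, hker, _root_.mul_one]
  obtain ⟨w, hw₁, hw₂⟩ := hcart.exists_lift (fst E Hk ≫ σ) (q ≫ σ) hq
  obtain ⟨β, hβ⟩ : ∃ β : Hk ⟶ G, w ≫ fst G X = snd E Hk ≫ β :=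
    ⟨_, eq_snd_comp hEiso η[E] (w ≫ fst G X)⟩
  have hcoc : ∀ {T} (y : T ⟶ E) (z : T ⟶ Hk), (y * (z ≫ h)) ≫ σ = lift (z ≫ β) (y ≫ σ) ≫ a.act := by
    intro T y z
    have e : lift (snd E Hk ≫ β) (fst E Hk ≫ σ) ≫ a.act = q ≫ σ := by
      rw [← hβ, ← hw₁, lift_comp_fst_snd, hw₂]
    have e' := lift y z ≫= e
    rw [comp_lift_assoc, lift_snd_assoc, lift_fst_assoc, ← Category.assoc (lift y z) q, MonObj.comp_mul, lift_fst,
      lift_snd_assoc] at e'
    exact e'.symm
  -- translations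
  let d : (𝟙_ (Over (Spec (CommRingCat.of k))) ⟶ E) → (G ⊗ E ⟶ X) := fun e =>
    lift (fst G E) ((toUnit (G ⊗ E) ≫ e) * snd G E) ≫ c
  have hdpt : ∀ e {T} (g : T ⟶ G) (y : T ⟶ E), lift g y ≫ d e = lift g ((toUnit T ≫ e) * y) ≫ c := by
    intro e T g y
    simp only [d, comp_lift_assoc, MonObj.comp_mul, lift_fst, lift_snd]
    rw [← Category.assoc, toUnit_unique (lift g y ≫ toUnit _) (toUnit T)]
  have hdesc : ∀ e, ∃ ψ : X ⟶ X, c ≫ ψ = d e := fun e => by
    refine Groth.L28.Ext.descend hcov (d e) fun T u v huv => ?_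
    obtain ⟨g, y, rfl⟩ : ∃ g y, u = lift g y := ⟨_, _, (lift_comp_fst_snd u).symm⟩
    obtain ⟨g', y', rfl⟩ : ∃ g' y', v = lift g' y' := ⟨_, _, (lift_comp_fst_snd v).symm⟩
    have hy : (y⁻¹ * y') ≫ φ = 1 := by
      have e₁ := congrArg (· ≫ π) huv
      simp only [hcpt, Category.assoc, hπ, hσ] at e₁
      rw [MonObj.mul_comp, GrpObj.inv_comp, e₁, inv_mul_cancel]
    obtain ⟨z, hz, -⟩ := hk.exists_lift (y⁻¹ * y') (toUnit T) (by rw [hy, Hom.one_def])
    obtain rfl : y' = y * (z ≫ h) := by rw [hz, mul_inv_cancel_left]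
    rw [hcpt, hcpt, hcoc, ← AlgGrp.Action.lift_mul_act] at huv
    rw [hdpt, hdpt, hcpt, hcpt, ← _root_.mul_assoc, hcoc, ← AlgGrp.Action.lift_mul_act, ← hfree _ _ _ huv]
  choose Ψ hΨ using hdesc
  haveI : Epi c := ⟨fun f g e => Groth.L28.Ext.cancel hcov e⟩
  have hΨpt : ∀ e {T} (g : T ⟶ G) (y : T ⟶ E),
      lift g y ≫ c ≫ Ψ e = lift g ((toUnit T ≫ e) * y) ≫ c := fun e {T} g y => by
    rw [hΨ, hdpt]
  have hcomp : ∀ e e', e * e' = 1 → Ψ e' ≫ Ψ e = 𝟙 X := fun e e' he => by
    rw [← cancel_epi c, Category.comp_id]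
    apply AlgGrp.Action.hom_ext_lift₂
    intro T g y
    rw [← Category.assoc c, ← Category.assoc (lift g y), hΨpt, Category.assoc, hΨpt, ← _root_.mul_assoc,
      ← MonObj.comp_mul, he, MonObj.comp_one, _root_.one_mul]
  obtain ⟨e₀, he₀⟩ : ∃ e₀ : 𝟙_ (Over (Spec (CommRingCat.of k))) ⟶ E, e₀ ≫ φ = t := by
    let P := Limits.pullback φ.left t.left
    let pr : P ⟶ Spec (CommRingCat.of k) := Limits.pullback.snd φ.left t.left
    haveI : LocallyOfFiniteType pr := MorphismProperty.pullback_snd _ _ ‹_›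
    haveI : Surjective pr := MorphismProperty.pullback_snd _ _ ‹_›
    haveI : JacobsonSpace P := LocallyOfFiniteType.jacobsonSpace (Y := Spec _) pr
    obtain ⟨p, -⟩ := pr.surjective (IsLocalRing.closedPoint k)
    obtain ⟨z, -, hz⟩ : (Set.univ ∩ closedPoints P).Nonempty :=
      nonempty_inter_closedPoints ⟨p, trivial⟩ isClosed_univ.isLocallyClosed
    let l : Spec (CommRingCat.of k) ⟶ P := pointOfClosedPoint pr z hz
    have hl : l ≫ pr = 𝟙 _ := pointOfClosedPoint_comp pr z hz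
    refine ⟨Over.homMk (l ≫ Limits.pullback.fst φ.left t.left) ?_, ?_⟩
    · show (l ≫ _) ≫ E.hom = 𝟙 _
      rw [← Over.w φ, Category.assoc, Limits.pullback.condition_assoc, Over.w t]
      exact (congrArg (l ≫ ·) (Category.comp_id _)).trans hl
    · ext1
      show (l ≫ _) ≫ φ.left = t.left
      rw [Category.assoc, Limits.pullback.condition, ← Category.assoc, hl, Category.id_comp]
  refine ⟨⟨Ψ e₀, Ψ e₀⁻¹, hcomp _ _ (inv_mul_cancel _), hcomp _ _ (mul_inv_cancel _)⟩, ?_, ?_⟩
  · have hcov' : Groth.L28.Ext.Cov (𝟙 G ⊗ₘ c) := Groth.L28.Ext.cov_tensor (Groth.L28.Ext.cov_id G) hcov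
    apply Groth.L28.Ext.cancel hcov'
    apply AlgGrp.Action.hom_ext_lift₂
    intro T g p
    obtain ⟨g', y, rfl⟩ : ∃ g' y, p = lift g' y := ⟨_, _, (lift_comp_fst_snd p).symm⟩
    rw [lift_map_assoc, lift_map_assoc, Category.comp_id, lift_whiskerLeft_assoc, Category.assoc, hΨpt, hcpt,
      ← AlgGrp.Action.lift_mul_act, hcpt, ← AlgGrp.Action.lift_mul_act_assoc, ← Category.assoc _ a.act, ← hcpt,
      ← hcpt, Category.assoc]
    exact (hΨpt e₀ (g * g') y).symm
  · rw [← cancel_epi c]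
    apply AlgGrp.Action.hom_ext_lift₂
    intro T g y
    rw [← Category.assoc c, ← Category.assoc (lift g y), hΨpt, hcpt, Category.assoc, hπ, Category.assoc, hσ,
      MonObj.mul_comp, Category.assoc, he₀, ← Category.assoc (lift g y) c, hcpt, Category.assoc,
      ← Category.assoc a.act, hinv, Category.assoc, lift_snd_assoc, Category.assoc, ← Category.assoc σ, hσ,
      ← Category.assoc y, comp_lift_assoc, Category.comp_id, comp_toUnit_assoc, ← Hom.mul_def, mul_comm]

end Groth.L19.HomogBundle
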