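import Mathlib.AlgebraicGeometry.Cover.MorphismProperty
import Mathlib.AlgebraicGeometry.Restrict
import Mathlib.CategoryTheory.MorphismProperty.Local

/-!
# The largest open on which a source-local property holds
-/

universe u

open CategoryTheory CategoryTheory.Limits AlgebraicGeometry

namespace Groth.L19

set_option backward.isDefEq.respectTransparency.types false
set_option backward.isDefEq.respectTransparency false
set_option linter.style.haveILetI false

variable {P Q : MorphismProperty Scheme.{u}} [P.IsLocalAtSource (Scheme.precoverage Q)]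
  [Q.IsStableUnderBaseChange] [Q.IsMultiplicative]

theorem prop_comp_of_mem {X Y V : Scheme.{u}} {f : X ⟶ Y} (g : V ⟶ X) (hg : Q g) (hf : P f) :
    P (g ≫ f) := by
  let E : PreZeroHypercover.{u} X :=
    { I₀ := Option PUnit.{u + 1}
      X := fun i => i.elim X (fun _ => V)
      f := fun i => match i with | none => 𝟙 X | some _ => g }
  refine MorphismProperty.IsLocalAtSource.comp (K := Scheme.precoverage Q) (R := E.presieve₀) ?_ g
    (Presieve.ofArrows.mk (some PUnit.unit)) hf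
  rw [Scheme.presieve₀_mem_precoverage_iff]
  exact ⟨fun x => ⟨none, x, rfl⟩, fun i => match i with
    | none => Q.id_mem X
    | some _ => hg⟩

theorem prop_of_cover {X Y : Scheme.{u}} {f : X ⟶ Y} (E : PreZeroHypercover.{u} X)
    (hs : ∀ x, ∃ i, x ∈ Set.range (E.f i)) (hQ : ∀ i, Q (E.f i)) (hP : ∀ i, P (E.f i ≫ f)) :
    P f := by
  refine MorphismProperty.IsLocalAtSource.of_forall_comp (K := Scheme.precoverage Q)
    ((Scheme.presieve₀_mem_precoverage_iff E).mpr ⟨hs, hQ⟩) ?_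
  rintro U g ⟨i⟩
  exact hP i

theorem exists_largest_open (hopen : ∀ {U V : Scheme.{u}} (g : U ⟶ V), IsOpenImmersion g → Q g)
    (hmap : ∀ {U V : Scheme.{u}} (g : U ⟶ V), Q g → IsOpenMap g) {X Y : Scheme.{u}} (f : X ⟶ Y) :
    ∃ W : X.Opens, (P (W.ι ≫ f) ∧ ∀ W' : X.Opens, P (W'.ι ≫ f) → W' ≤ W) ∧
      ∀ (X' : Scheme.{u}) (g : X' ⟶ X), Q g → ∀ (V : X'.Opens),
        (P (V.ι ≫ g ≫ f) ∧ ∀ V' : X'.Opens, P (V'.ι ≫ g ≫ f) → V' ≤ V) → V = g ⁻¹ᵁ W := by
  let W : X.Opens := ⨆ U : {U : X.Opens // P (U.ι ≫ f)}, U.1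
  have hle : ∀ U : X.Opens, P (U.ι ≫ f) → U ≤ W := fun U hU =>
    le_iSup (fun U : {U : X.Opens // P (U.ι ≫ f)} => U.1) ⟨U, hU⟩
  have hW : P (W.ι ≫ f) := by
    refine prop_of_cover (Q := Q)
      { I₀ := {U : X.Opens // P (U.ι ≫ f)}
        X := fun U => U.1.toScheme
        f := fun U => X.homOfLE (hle U.1 U.2) } (fun x => ?_) (fun U => hopen _ inferInstance)
      fun U => ?_
    · obtain ⟨U, hU⟩ := TopologicalSpace.Opens.mem_iSup.mp x.2
      refine ⟨U, ⟨x.1, hU⟩, W.ι.isOpenEmbedding.injective ?_⟩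
      rw [← Scheme.Hom.comp_apply, Scheme.homOfLE_ι]
      rfl
    · rw [Scheme.homOfLE_ι_assoc]; exact U.2
  refine ⟨W, ⟨hW, hle⟩, fun X' g hg V ⟨hV, hVmax⟩ => le_antisymm ?_ (hVmax _ ?_)⟩
  · have hVg : Q (V.ι ≫ g) := Q.comp_mem _ _ (hopen _ inferInstance) hg
    let O : X.Opens := ⟨Set.range (V.ι ≫ g), (hmap _ hVg).isOpen_range⟩
    let h : V.toScheme ⟶ O.toScheme :=
      IsOpenImmersion.lift O.ι (V.ι ≫ g) (by rw [Scheme.Opens.range_ι]; exact subset_rfl)
    have e : h ≫ O.ι = V.ι ≫ g := IsOpenImmersion.lift_fac _ _ _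
    have hh : Q h := by
      have sq : IsPullback (𝟙 V.toScheme) h (V.ι ≫ g) O.ι :=
        IsPullback.of_horiz_isIso_mono ⟨by simp [e]⟩
      exact Q.of_isPullback sq hVg
    have hO : P (O.ι ≫ f) := by
      refine prop_of_cover (Q := Q)
        { I₀ := PUnit.{u + 1}, X := fun _ => V.toScheme, f := fun _ => h } (fun x => ?_)
        (fun _ => hh) fun _ => by rw [reassoc_of% e]; exact hV
      obtain ⟨y, hy⟩ := x.2
      refine ⟨PUnit.unit, y, O.ι.isOpenEmbedding.injective ?_⟩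
      exact (congr($e y)).trans hy
    intro x hx
    exact hle O hO ⟨⟨x, hx⟩, rfl⟩
  · have := prop_comp_of_mem (P := P) (g ∣_ W) (Q.of_isPullback (isPullback_morphismRestrict g W).flip hg) hW
    rwa [morphismRestrict_ι_assoc] at this

end Groth.L19
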