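import Groth.Agent.L16.AffineBC.Pullback
import Groth.Agent.L20.SmoothLocal.ProjLocal

/-!
# Locally projective quasi-coherent modules
-/

set_option autoImplicit false
set_option linter.style.haveILetI false
set_option backward.isDefEq.respectTransparency.types false
set_option backward.isDefEq.respectTransparency false

universe u

open CategoryTheory CategoryTheory.Limits AlgebraicGeometry TopologicalSpace Opposite
open scoped TensorProduct

noncomputable section

namespace Groth.L19.LocProj

open Groth.L18.Frame (rs ro)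

variable {X Y : Scheme.{u}}

/-- Projective sections are preserved by pullback. -/
theorem projective_pull (f : X ⟶ Y) (G : Y.Modules) [Coh.IsQCoh G] {V : Y.Opens} {U : X.Opens}
    (hV : IsAffineOpen V) (hU : IsAffineOpen U) (e : U ≤ f ⁻¹ᵁ V) [Module.Projective Γ(Y, V) Γ(G, V)] :
    Module.Projective Γ(X, U) Γ((Scheme.Modules.pullback f).obj G, U) := by
  letI : Algebra Γ(Y, V) Γ(X, U) := (f.appLE V U e).hom.toAlgebra
  letI := Module.compHom Γ((Scheme.Modules.pullback f).obj G, U) (f.appLE V U e).hom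
  haveI : IsScalarTower Γ(Y, V) Γ(X, U) Γ((Scheme.Modules.pullback f).obj G, U) :=
    IsScalarTower.of_algebraMap_smul fun _ _ => rfl
  exact Module.Projective.of_equiv (Groth.L16.AffineBC.isBaseChange_pull f G hV hU e).equiv

/-- Sections on a smaller affine are the base change of the sections. -/
theorem exists_equiv_res (F : X.Modules) [Coh.IsQCoh F] {U V : X.Opens} (hU : IsAffineOpen U) (hV : IsAffineOpen V)
    (h : U ≤ V) :
    letI := ((𝟙 X : X ⟶ X).appLE V U h).hom.toAlgebra
    Nonempty (Γ(X, U) ⊗[Γ(X, V)] Γ(F, V) ≃ₗ[Γ(X, U)] Γ(F, U)) := by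
  letI : Algebra Γ(X, V) Γ(X, U) := ((𝟙 X : X ⟶ X).appLE V U h).hom.toAlgebra
  letI := Module.compHom Γ((Scheme.Modules.pullback (𝟙 X)).obj F, U) ((𝟙 X : X ⟶ X).appLE V U h).hom
  haveI : IsScalarTower Γ(X, V) Γ(X, U) Γ((Scheme.Modules.pullback (𝟙 X)).obj F, U) :=
    IsScalarTower.of_algebraMap_smul fun _ _ => rfl
  let φ := ((Scheme.Modules.pullbackId X).app F).hom
  let ψ : Γ((Scheme.Modules.pullback (𝟙 X)).obj F, U) →ₗ[Γ(X, U)] Γ(F, U) :=
    { toFun := fun s => φ.app U s
      map_add' := map_add (φ.app U).hom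
      map_smul' := fun a s => φ.app_smul a s }
  exact ⟨(Groth.L16.AffineBC.isBaseChange_pull (𝟙 X) F hV hU h).equiv ≪≫ₗ
    LinearEquiv.ofBijective ψ (ConcreteCategory.bijective_of_isIso (φ.app U))⟩

theorem projective_mono (F : X.Modules) [Coh.IsQCoh F] {U V : X.Opens} (hU : IsAffineOpen U) (hV : IsAffineOpen V)
    (h : U ≤ V) [Module.Projective Γ(X, V) Γ(F, V)] : Module.Projective Γ(X, U) Γ(F, U) := by
  letI : Algebra Γ(X, V) Γ(X, U) := ((𝟙 X : X ⟶ X).appLE V U h).hom.toAlgebra
  obtain ⟨e⟩ := exists_equiv_res F hU hV h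
  exact Module.Projective.of_equiv e

/-- Projectivity of sections on affines is local. -/
theorem projective_of_cover (F : X.Modules) [Coh.IsQCoh F] {ι : Type*} (W : ι → X.Opens)
    (hW : ∀ i, IsAffineOpen (W i)) (hp : ∀ i, Module.Projective Γ(X, W i) Γ(F, W i))
    {U : X.Opens} (hU : IsAffineOpen U) (hcov : U ≤ iSup W) : Module.Projective Γ(X, U) Γ(F, U) := by
  classical
  let s : Set Γ(X, U) := {g | ∃ i, X.basicOpen g ≤ W i}
  have hs : Ideal.span s = ⊤ := by
    refine (hU.self_le_iSup_basicOpen_iff).1 fun x hx => ?_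
    obtain ⟨i, hi⟩ := Opens.mem_iSup.mp (hcov hx)
    obtain ⟨g, hg, hxg⟩ := hU.exists_basicOpen_le ⟨x, hi⟩ hx
    exact Opens.mem_iSup.mpr ⟨⟨g, i, hg⟩, hxg⟩
  obtain ⟨t, hts, ht⟩ := (Ideal.span_eq_top_iff_finite s).1 hs
  let m := t.card
  let σ : Fin m ≃ t := t.equivFin.symm
  let a : Fin m → Γ(X, U) := fun k => (σ k).1
  have ha : Ideal.span (Set.range a) = ⊤ := by
    rw [show Set.range a = (t : Set Γ(X, U)) from ?_, ht]
    ext g
    refine ⟨?_, fun hg => ⟨σ.symm ⟨g, hg⟩, by simp [a]⟩⟩
    rintro ⟨k, rfl⟩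
    exact (σ k).2
  let N := Γ(F, U)
  let f : ∀ k, N →ₗ[Γ(X, U)] Localization.Away (a k) ⊗[Γ(X, U)] N := fun k =>
    TensorProduct.mk Γ(X, U) (Localization.Away (a k)) N 1
  haveI : ∀ k, IsLocalizedModule (Submonoid.powers (a k)) (f k) := fun k =>
    (isLocalizedModule_iff_isBaseChange (Submonoid.powers (a k)) (Localization.Away (a k)) (f k)).mpr
      (TensorProduct.isBaseChange Γ(X, U) N (Localization.Away (a k)))
  haveI : ∀ k, Module.Projective (Localization.Away (a k)) (Localization.Away (a k) ⊗[Γ(X, U)] N) := fun k => by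
    obtain ⟨i, hi⟩ := hts (σ k).2
    let B := Γ(X, X.basicOpen (a k))
    have hB := hU.basicOpen (a k)
    have hle := X.basicOpen_le (a k)
    haveI := hp i
    haveI hpB := projective_mono F hB (hW i) hi
    letI : Algebra Γ(X, U) B := ((𝟙 X : X ⟶ X).appLE U (X.basicOpen (a k)) hle).hom.toAlgebra
    haveI hloc : IsLocalization.Away (a k) B := by
      have h1 := hU.isLocalization_basicOpen (a k)
      convert h1 using 1
    obtain ⟨e⟩ := exists_equiv_res F hB hU hle
    haveI : Module.Projective B (B ⊗[Γ(X, U)] N) := Module.Projective.of_equiv e.symm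
    let α : B ≃ₐ[Γ(X, U)] Localization.Away (a k) :=
      IsLocalization.algEquiv (Submonoid.powers (a k)) B (Localization.Away (a k))
    letI : Algebra B (Localization.Away (a k)) := α.toAlgHom.toRingHom.toAlgebra
    haveI : IsScalarTower Γ(X, U) B (Localization.Away (a k)) :=
      IsScalarTower.of_algebraMap_eq fun r => (α.commutes r).symm
    exact Module.Projective.of_equiv
      (TensorProduct.AlgebraTensorModule.cancelBaseChange Γ(X, U) B (Localization.Away (a k))
        (Localization.Away (a k)) N)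
  exact Groth.L20.SmoothLocal.projective_of_cover a ha f

end Groth.L19.LocProj
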