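import Groth.Agent.L19.MonoValuative
import Mathlib.AlgebraicGeometry.Morphisms.Immersion
import Mathlib.AlgebraicGeometry.Morphisms.FinitePresentation
import Mathlib.AlgebraicGeometry.Noetherian
import Mathlib.AlgebraicGeometry.ZariskisMainTheorem

/-!
# Monomorphisms with valuative lifting which are immersions
-/

noncomputable section

universe u

open CategoryTheory CategoryTheory.Limits AlgebraicGeometry IsLocalRing Topology

set_option backward.isDefEq.respectTransparency.types false
set_option backward.isDefEq.respectTransparency false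
set_option linter.style.haveILetI false

namespace Groth.L19

set_option maxHeartbeats 400000

variable {X Y : Scheme.{u}}

/-- The residue field of a point mapping into the image of a monomorphism lifts. -/
theorem exists_residueLift (f : Y ⟶ X) [Mono f] {T : Scheme.{u}} (s : T ⟶ X) (p : T)
    (h : s p ∈ Set.range f) :
    ∃ l : Spec (T.residueField p) ⟶ Y, l ≫ f = T.fromSpecResidueField p ≫ s := by
  refine exists_lift_point f (k := T.residueField p) _ ?_
  rw [Scheme.Hom.comp_apply]
  exact (congrArg s (Scheme.fromSpecResidueField_apply p _)).symm ▸ h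

/-- Lifting of valuative squares given by valuation subrings. -/
theorem exists_lift_of_valuationSubring (f : Y ⟶ X)
    (hlift : ∀ S : ValuativeCommSq f, S.i₂ (closedPoint S.R) ∈ Set.range f → S.commSq.HasLift)
    {K : Type u} [Field K] (W : ValuationSubring K) (i₁ : Spec (CommRingCat.of K) ⟶ Y)
    (i₂ : Spec (CommRingCat.of W) ⟶ X)
    (w : i₁ ≫ f = Spec.map (CommRingCat.ofHom W.subtype) ≫ i₂)
    (h : i₂ (closedPoint W) ∈ Set.range f) :
    ∃ l : Spec (CommRingCat.of W) ⟶ Y, l ≫ f = i₂ := by
  obtain ⟨l, -, hl⟩ := (hlift { R := W, K := K, i₁ := i₁, i₂ := i₂, commSq := ⟨w⟩ } h).exists_lift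
  exact ⟨l, hl⟩

/-- Lifting of dense sets of points to nonempty opens forces a monomorphism to be quasi-compact. -/
theorem quasiCompact_of_denseLift [IsLocallyNoetherian X] (f : Y ⟶ X) [Mono f]
    (hc : ∀ (A : Type u) [CommRing A] [IsDomain A] (s : Spec (CommRingCat.of A) ⟶ X)
        (D : Set ↥(Spec (CommRingCat.of A))), Dense D →
        (∀ p ∈ D, ∃ l : Spec ((Spec (CommRingCat.of A)).residueField p) ⟶ Y,
            l ≫ f = (Spec (CommRingCat.of A)).fromSpecResidueField p ≫ s) →
          ∃ U : (Spec (CommRingCat.of A)).Opens, (U : Set ↥(Spec (CommRingCat.of A))).Nonempty ∧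
            ∃ l : (U : Scheme.{u}) ⟶ Y, l ≫ f = U.ι ≫ s) :
    QuasiCompact f := by
  refine quasiCompact_iff_forall_isAffineOpen.mpr fun U hU => ?_
  have : IsNoetherianRing Γ(X, U) := IsLocallyNoetherian.component_noetherian ⟨U, hU⟩
  set j := hU.fromSpec with hj
  suffices H : ∀ I : Ideal Γ(X, U),
      IsCompact (f ⁻¹' (j '' PrimeSpectrum.zeroLocus (I : Set Γ(X, U)))) by
    have h := H ⊥
    rw [show PrimeSpectrum.zeroLocus ((⊥ : Ideal Γ(X, U)) : Set Γ(X, U)) = Set.univ from
      PrimeSpectrum.zeroLocus_bot, Set.image_univ, hj, hU.range_fromSpec] at h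
    exact h
  intro I
  induction I using WellFoundedGT.induction with
  | _ I IH =>
    by_cases htop : I = ⊤
    · rw [htop, PrimeSpectrum.zeroLocus_empty_iff_eq_top.mpr rfl, Set.image_empty, Set.preimage_empty]
      exact isCompact_empty
    by_cases hprime : I.IsPrime
    swap
    · obtain ⟨a, ha, b, hb, hab⟩ := (Ideal.not_isPrime_iff.mp hprime).resolve_left htop
      have h1 : I < I ⊔ Ideal.span {a} := lt_of_le_of_ne le_sup_left fun h =>
        ha (h ▸ Ideal.mem_sup_right (Ideal.mem_span_singleton_self a))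
      have h2 : I < I ⊔ Ideal.span {b} := lt_of_le_of_ne le_sup_left fun h =>
        hb (h ▸ Ideal.mem_sup_right (Ideal.mem_span_singleton_self b))
      have he : PrimeSpectrum.zeroLocus (I : Set Γ(X, U)) =
          PrimeSpectrum.zeroLocus ((I ⊔ Ideal.span {a} : Ideal Γ(X, U)) : Set Γ(X, U)) ∪
            PrimeSpectrum.zeroLocus ((I ⊔ Ideal.span {b} : Ideal Γ(X, U)) : Set Γ(X, U)) := by
        ext P
        simp only [PrimeSpectrum.mem_zeroLocus, SetLike.coe_subset_coe, Set.mem_union, sup_le_iff,
          Ideal.span_le, Set.singleton_subset_iff, SetLike.mem_coe]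
        constructor
        · intro h
          rcases P.isPrime.mem_or_mem (h hab) with h' | h'
          · exact Or.inl ⟨h, h'⟩
          · exact Or.inr ⟨h, h'⟩
        · rintro (⟨h, -⟩ | ⟨h, -⟩) <;> exact h
      erw [he, Set.image_union, Set.preimage_union]
      exact (IH _ h1).union (IH _ h2)
    let A := Γ(X, U) ⧸ I
    have : IsDomain A := Ideal.Quotient.isDomain I
    let π : Γ(X, U) →+* A := Ideal.Quotient.mk I
    have hπ : IsClosedEmbedding (PrimeSpectrum.comap π) :=
      PrimeSpectrum.isClosedEmbedding_comap_of_surjective _ π Ideal.Quotient.mk_surjective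
    have hrange : Set.range (PrimeSpectrum.comap π) = PrimeSpectrum.zeroLocus (I : Set Γ(X, U)) := by
      rw [range_comap_of_surjective _ π Ideal.Quotient.mk_surjective, Ideal.mk_ker]
    let s : Spec (CommRingCat.of A) ⟶ X := Spec.map (CommRingCat.ofHom π) ≫ j
    have hs : ∀ p, s p = j (PrimeSpectrum.comap π p) := fun p => Scheme.Hom.comp_apply ..
    let T : Set (PrimeSpectrum Γ(X, U)) :=
      PrimeSpectrum.zeroLocus (I : Set Γ(X, U)) ∩ j ⁻¹' Set.range f
    have hIT : I ≤ PrimeSpectrum.vanishingIdeal T :=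
      PrimeSpectrum.subset_zeroLocus_iff_le_vanishingIdeal _ _ |>.mp Set.inter_subset_left
    by_cases hd : PrimeSpectrum.vanishingIdeal T = I
    swap
    · have hlt : I < PrimeSpectrum.vanishingIdeal T := lt_of_le_of_ne hIT (Ne.symm hd)
      have he : f ⁻¹' (j '' PrimeSpectrum.zeroLocus (I : Set Γ(X, U))) =
          f ⁻¹' (j '' PrimeSpectrum.zeroLocus (PrimeSpectrum.vanishingIdeal T : Set Γ(X, U))) := by
        refine Set.Subset.antisymm ?_ (Set.preimage_mono (Set.image_mono
          (PrimeSpectrum.zeroLocus_anti_mono_ideal hIT)))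
        rintro y ⟨P, hP, hPy⟩
        exact ⟨P, PrimeSpectrum.subset_zeroLocus_vanishingIdeal T ⟨hP, y, hPy.symm⟩, hPy⟩
      rw [he]
      exact IH _ hlt
    let D : Set ↥(Spec (CommRingCat.of A)) := s ⁻¹' Set.range f
    have hD : Dense D := by
      have himg : PrimeSpectrum.comap π '' D = T := by
        ext P
        constructor
        · rintro ⟨p, hp, rfl⟩
          refine ⟨hrange ▸ Set.mem_range_self p, ?_⟩
          rw [Set.mem_preimage, ← hs]; exact hp
        · rintro ⟨hP, hPf⟩
          obtain ⟨p, rfl⟩ := hrange.ge hP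
          refine ⟨p, ?_, rfl⟩
          rw [Set.mem_preimage, hs]; exact hPf
      intro p
      rw [hπ.isInducing.closure_eq_preimage_closure_image, Set.mem_preimage]
      erw [himg, ← PrimeSpectrum.zeroLocus_vanishingIdeal_eq_closure, hd]
      exact hrange ▸ Set.mem_range_self p
    obtain ⟨V, hVne, l, hl⟩ := hc A s D hD fun p hp => exists_residueLift f s p hp
    let C : Set (PrimeSpectrum Γ(X, U)) :=
      PrimeSpectrum.comap π '' (V : Set ↥(Spec (CommRingCat.of A)))ᶜ
    have hC : IsClosed C := hπ.isClosedMap _ V.2.isClosed_compl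
    have hCI : C ⊆ PrimeSpectrum.zeroLocus (I : Set Γ(X, U)) :=
      (Set.image_subset_range _ _).trans hrange.le
    have hIC : I ≤ PrimeSpectrum.vanishingIdeal C :=
      PrimeSpectrum.subset_zeroLocus_iff_le_vanishingIdeal _ _ |>.mp hCI
    have hzC : PrimeSpectrum.zeroLocus (PrimeSpectrum.vanishingIdeal C : Set Γ(X, U)) = C := by
      rw [PrimeSpectrum.zeroLocus_vanishingIdeal_eq_closure, hC.closure_eq]
    have hlt : I < PrimeSpectrum.vanishingIdeal C := by
      refine lt_of_le_of_ne hIC fun h => ?_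
      obtain ⟨p, hp⟩ := hVne
      have hmem : PrimeSpectrum.comap π p ∈ C := by
        rw [← hzC, ← h, ← hrange]; exact Set.mem_range_self p
      obtain ⟨p', hp', he⟩ := hmem
      exact hp' (hπ.injective he ▸ hp)
    have he : f ⁻¹' (j '' PrimeSpectrum.zeroLocus (I : Set Γ(X, U))) =
        f ⁻¹' (j '' C) ∪ Set.range l := by
      apply Set.Subset.antisymm
      · rintro y ⟨P, hP, hPy⟩
        obtain ⟨p, rfl⟩ := hrange.ge hP
        by_cases hp : p ∈ V
        · refine Or.inr ⟨⟨p, hp⟩, f.injective ?_⟩
          rw [← Scheme.Hom.comp_apply, hl, Scheme.Hom.comp_apply]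
          exact (hs p).trans hPy
        · exact Or.inl ⟨_, ⟨p, hp, rfl⟩, hPy⟩
      · rintro y (⟨P, hP, hPy⟩ | ⟨v, rfl⟩)
        · exact ⟨P, hCI hP, hPy⟩
        · refine ⟨PrimeSpectrum.comap π (V.ι v), hrange ▸ Set.mem_range_self _, ?_⟩
          rw [← Scheme.Hom.comp_apply, hl, Scheme.Hom.comp_apply, hs]
    rw [he]
    refine IsCompact.union ?_ ?_
    · exact hzC ▸ IH _ hlt
    · have : IsNoetherianRing A := inferInstance
      have : CompactSpace ↥(V : Scheme.{u}) := by
        have : TopologicalSpace.NoetherianSpace (PrimeSpectrum A) := inferInstance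
        exact isCompact_iff_compactSpace.mp (TopologicalSpace.NoetherianSpace.isCompact
          (show Set (PrimeSpectrum A) from (V : Set ↥(Spec (CommRingCat.of A)))))
      exact isCompact_range l.continuous

/-- A point between two points of the image lies in the image. -/
theorem mem_range_of_specializes (f : Y ⟶ X)
    (hlift : ∀ S : ValuativeCommSq f, S.i₂ (closedPoint S.R) ∈ Set.range f → S.commSq.HasLift)
    {y : Y} {z x : X} (h₁ : f y ⤳ z) (h₂ : z ⤳ x) (hx : x ∈ Set.range f) : z ∈ Set.range f := by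
  obtain ⟨W, g, e, hg, hge, hgc⟩ := Groth.L18.exists_valuation_through f y z h₁
  obtain ⟨W₂, g₂, -, hg₂, -, hg₂c⟩ := Groth.L18.exists_valuation_through (𝟙 X) z x h₂
  obtain ⟨V', hV'⟩ := Groth.L18.exists_extension e W₂
  let ρ : W₂ →+* V' := (e.comp W₂.subtype).codRestrict V'.toSubring fun v =>
    (SetLike.ext_iff.mp hV' (v : X.residueField z)).mpr v.2
  have hρ : ∀ v, V'.subtype (ρ v) = e (v : X.residueField z) := fun _ => rfl
  have hV : ∀ a, e a ∈ V'.subtype.range → a ∈ W₂ := by
    rintro a ⟨r, hr⟩
    rw [← hV']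
    exact ValuationSubring.mem_comap.mpr (hr ▸ r.2)
  have := Groth.L18.isLocalHom_descend V'.subtype e W₂ ρ Subtype.val_injective hρ hV
  let ht := Spec.map (CommRingCat.ofHom ρ) ≫ g₂
  have w : Spec.map (CommRingCat.ofHom V'.subtype) ≫ ht =
      Spec.map (CommRingCat.ofHom (residue W)) ≫ g := by
    rw [hge, ← Category.comp_id (X.fromSpecResidueField z), ← hg₂, ← Spec.map_comp_assoc,
      ← Spec.map_comp_assoc]
    rfl
  obtain ⟨φ, ⟨hφι, hφσ⟩, -⟩ := Groth.L18.existsUnique_glue (Groth.L18.compositeIncl W V')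
    (Groth.L18.compositeRes W V') (fun _ => rfl) (Groth.L18.compositeRes_surjective W V')
    (fun _ => rfl) g ht w
  have : IsLocalHom (Groth.L18.compositeRes W V') :=
    .of_surjective _ (Groth.L18.compositeRes_surjective W V')
  have hclosed : φ (closedPoint (Groth.L18.composite W V')) = x := by
    rw [← Groth.L18.apply_closedPoint_of_isLocalHom (Groth.L18.compositeRes W V') φ, hφσ,
      Groth.L18.apply_closedPoint_of_isLocalHom ρ g₂, hg₂c]
  obtain ⟨l, hl⟩ := exists_lift_of_valuationSubring f hlift (K := Y.residueField y)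
    (Groth.L18.composite W V') (Y.fromSpecResidueField y) φ (by
      rw [← hg, ← hφι, ← Spec.map_comp_assoc]
      rfl) (hclosed.symm ▸ hx)
  refine ⟨l (Spec.map (CommRingCat.ofHom (Groth.L18.compositeIncl W V')) (closedPoint W)), ?_⟩
  rw [← Scheme.Hom.comp_apply, hl, ← Scheme.Hom.comp_apply, hφι, hgc]

/-- A monomorphism of finite presentation to a locally Noetherian scheme with valuative lifting is an
immersion. -/
theorem isImmersion_of_lift [IsLocallyNoetherian X] (f : Y ⟶ X) [Mono f] [QuasiCompact f]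
    [LocallyOfFinitePresentation f]
    (hlift : ∀ S : ValuativeCommSq f, S.i₂ (closedPoint S.R) ∈ Set.range f → S.commSq.HasLift) :
    IsImmersion f := by
  have hE : IsLocallyConstructible (Set.range f) := by
    rw [← Set.image_univ]
    exact f.isLocallyConstructible_image IsLocallyConstructible.univ
  let O : X.Opens := ⟨(closure (closure (Set.range f) \ Set.range f))ᶜ, isClosed_closure.isOpen_compl⟩
  have hEO : Set.range f ⊆ O := by
    intro x hx hmem
    obtain ⟨_, ⟨U, hU, rfl⟩, hxU, -⟩ :=
      X.isBasis_affineOpens.exists_subset_of_mem_open (Set.mem_univ x) isOpen_univ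
    replace hU : IsAffineOpen U := hU
    have : IsNoetherianRing Γ(X, U) := IsLocallyNoetherian.component_noetherian ⟨U, hU⟩
    set j := hU.fromSpec
    obtain ⟨x', rfl⟩ := hU.range_fromSpec.ge hxU
    let E' : Set (PrimeSpectrum Γ(X, U)) := j ⁻¹' Set.range f
    let Z' : Set (PrimeSpectrum Γ(X, U)) := j ⁻¹' closure (Set.range f)
    have hE' : IsConstructible E' :=
      (hE.preimage_of_isOpenEmbedding j.isOpenEmbedding).isConstructible
    have hZ' : IsConstructible Z' := by
      have hcl : IsClosed Z' := isClosed_closure.preimage j.continuous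
      exact IsConstructible.of_compl
        ((TopologicalSpace.NoetherianSpace.isCompact Z'ᶜ).isConstructible hcl.isOpen_compl)
    obtain ⟨S, _, ψ, hψ⟩ := PrimeSpectrum.exists_range_eq_of_isConstructible (hZ'.sdiff hE')
    have hx' : x' ∈ closure (Set.range (Spec.map (CommRingCat.ofHom ψ))) := by
      show x' ∈ closure (Set.range (PrimeSpectrum.comap ψ))
      rw [hψ]
      have h : x' ∈ j ⁻¹' closure (closure (Set.range f) \ Set.range f) := hmem
      rw [j.isOpenEmbedding.isOpenMap.preimage_closure_eq_closure_preimage j.continuous] at h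
      exact h
    obtain ⟨q, hq⟩ := exists_specializes_of_mem_closure_range _ hx'
    obtain ⟨hzZ, hzE⟩ : PrimeSpectrum.comap ψ q ∈ Z' \ E' := hψ ▸ Set.mem_range_self q
    obtain ⟨y, hy⟩ := exists_specializes_of_mem_closure_range f hzZ
    exact hzE (mem_range_of_specializes f hlift hy (hq.map j.continuous) hx)
  let f' : Y ⟶ O := IsOpenImmersion.lift O.ι f (hEO.trans O.range_ι.ge)
  have hf' : f' ≫ O.ι = f := IsOpenImmersion.lift_fac _ _ _
  have hmono : Mono f' := mono_of_mono_fac hf'
  have : QuasiCompact (f' ≫ O.ι) := hf' ▸ inferInstance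
  have : QuasiCompact f' := .of_comp f' O.ι
  have : LocallyOfFiniteType (f' ≫ O.ι) := hf' ▸ inferInstance
  have : LocallyOfFiniteType f' := locallyOfFiniteType_of_comp f' O.ι
  have : IsProper f' := by
    refine .of_valuativeCriterion f' (ValuativeCriterion.iff.mpr
      ⟨fun S => ?_, IsSeparated.valuativeCriterion f'⟩)
    have hw : CommSq S.i₁ (Spec.map (CommRingCat.ofHom (algebraMap S.R S.K))) f (S.i₂ ≫ O.ι) := by
      constructor
      rw [← hf', reassoc_of% S.commSq.w]
    have hcl : (S.i₂ ≫ O.ι) (closedPoint S.R) ∈ Set.range f := by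
      by_contra hne
      refine (S.i₂ (closedPoint S.R)).2 (subset_closure ⟨?_, hne⟩)
      have hgen : (S.i₂ ≫ O.ι) (Spec.map (CommRingCat.ofHom (algebraMap S.R S.K)) (closedPoint S.K)) ∈
          Set.range f := ⟨S.i₁ (closedPoint S.K), by rw [← Scheme.Hom.comp_apply, hw.w, Scheme.Hom.comp_apply]⟩
      refine ((Specializes.map ?_ (S.i₂ ≫ O.ι).continuous).mem_closed isClosed_closure
        (subset_closure hgen))
      rw [← PrimeSpectrum.le_iff_specializes]
      intro a ha
      have ha' : algebraMap S.R S.K a ∈ maximalIdeal S.K := ha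
      rw [isField_iff_maximalIdeal_eq.mp (Field.toIsField S.K), Ideal.mem_bot,
        map_eq_zero_iff _ (IsFractionRing.injective S.R S.K)] at ha'
      exact ha' ▸ zero_mem _
    have := hlift { R := S.R, K := S.K, i₁ := S.i₁, i₂ := S.i₂ ≫ O.ι, commSq := hw } hcl
    refine ⟨⟨⟨hw.lift, hw.fac_left, ?_⟩⟩⟩
    rw [← cancel_mono O.ι, Category.assoc, hf', hw.fac_right]
  have : IsClosedImmersion f' := (IsClosedImmersion.iff_isProper_and_mono f').mpr ⟨‹_›, hmono⟩
  rw [← hf']
  infer_instance

end Groth.L19
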