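import Mathlib.RingTheory.LocalProperties.Basic
import Mathlib.RingTheory.Polynomial.ScaleRoots
import Mathlib.RingTheory.IntegralClosure.IntegrallyClosed
import Mathlib.RingTheory.IntegralClosure.IsIntegralClosure.Basic
import Mathlib.RingTheory.Localization.FractionRing
import Mathlib.RingTheory.Ideal.MinimalPrime.Basic

/-!
# Extending maps to normal rings over an integral closure
-/

set_option autoImplicit false
set_option linter.style.haveILetI false
universe u

open Polynomial

namespace Groth.L19.NormalDesc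

variable {A B K C : Type u} [CommRing A] [IsDomain A] [CommRing B] [Field K] [CommRing C]
  [Algebra A B] [Algebra A K] [Algebra B K] [IsScalarTower A B K] [IsFractionRing A K]
  [IsIntegralClosure B A K] (φ : A →+* C)
  (hC : ∀ m : Ideal C, ∀ (_ : m.IsMaximal),
    IsDomain (Localization.AtPrime m) ∧ IsIntegrallyClosed (Localization.AtPrime m))
  (hmin : ∀ P ∈ minimalPrimes C, P.comap φ = ⊥)

include hC hmin

theorem loc_ne_zero {s : A} (hs : s ≠ 0) (m : Ideal C) [m.IsMaximal] :
    algebraMap C (Localization.AtPrime m) (φ s) ≠ 0 := by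
  intro h
  haveI := (hC m inferInstance).1
  obtain ⟨P, hP, hPm⟩ := Ideal.exists_minimalPrimes_le (I := (⊥ : Ideal C)) (J := m) bot_le
  obtain ⟨t, ht⟩ := (IsLocalization.map_eq_zero_iff m.primeCompl _ _).mp h
  have h1 : (t : C) * φ s ∈ P := by rw [ht]; exact P.zero_mem
  rcases hP.1.1.mem_or_mem h1 with h2 | h2
  · exact t.2 (hPm h2)
  · have h3 : s ∈ P.comap φ := h2
    rw [hmin P hP, Ideal.mem_bot] at h3
    exact hs h3

theorem eq_zero_of_mul_eq_zero {s : A} (hs : s ≠ 0) {c : C} (h : φ s * c = 0) : c = 0 := by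
  rw [← Ideal.mem_bot]
  refine Ideal.mem_of_localization_maximal fun m hm => ?_
  haveI := hm
  haveI := (hC m hm).1
  have h1 : algebraMap C (Localization.AtPrime m) (φ s) * algebraMap C _ c = 0 := by
    rw [← map_mul, h, map_zero]
  rw [(mul_eq_zero.mp h1).resolve_left (loc_ne_zero φ hC hmin hs m)]
  exact Ideal.zero_mem _

theorem exists_quotient {a s : A} (hs : s ≠ 0) {b : B}
    (hb : algebraMap B K b * algebraMap A K s = algebraMap A K a) : ∃ c : C, φ s * c = φ a := by
  have hmem : φ a ∈ Ideal.span {φ s} := by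
    refine Ideal.mem_of_localization_maximal fun m hm => ?_
    haveI := hm
    haveI := (hC m hm).1
    haveI := (hC m hm).2
    let L := Localization.AtPrime m
    let F := FractionRing L
    let ψ : A →+* F := ((algebraMap L F).comp (algebraMap C L)).comp φ
    obtain ⟨p, hp, hp'⟩ := IsIntegralClosure.isIntegral A K b |>.algebraMap (B := K)
    have h1 : (p.scaleRoots s).eval₂ (algebraMap A K) (algebraMap A K a) = 0 := by
      rw [← hb, mul_comm, scaleRoots_eval₂_mul]
      exact mul_eq_zero_of_right _ hp'
    have h2 : (p.scaleRoots s).eval₂ ψ (ψ a) = 0 := by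
      have h3 : (p.scaleRoots s).eval a = 0 := by
        apply IsFractionRing.injective A K
        rw [map_zero, ← h1, eval, hom_eval₂]
        simp
      have h4 := congrArg ψ h3
      rwa [map_zero, eval, hom_eval₂, RingHom.comp_id] at h4
    have hs0 : ψ s ≠ 0 := fun h =>
      loc_ne_zero φ hC hmin hs m (IsFractionRing.injective L F (by rw [map_zero]; exact h))
    have h5 : IsIntegral L (ψ a / ψ s) := by
      refine ⟨p.map ((algebraMap C L).comp φ), hp.map _, ?_⟩
      rw [eval₂_map]
      have h6 : (p.scaleRoots s).eval₂ ψ (ψ s * (ψ a / ψ s)) = 0 := by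
        rw [mul_div_cancel₀ _ hs0]; exact h2
      rw [scaleRoots_eval₂_mul] at h6
      exact (mul_eq_zero.mp h6).resolve_left (pow_ne_zero _ hs0)
    obtain ⟨d, hd⟩ := IsIntegrallyClosed.isIntegral_iff.mp h5
    rw [Ideal.map_span, Set.image_singleton, Ideal.mem_span_singleton']
    refine ⟨d, IsFractionRing.injective L F ?_⟩
    rw [map_mul, hd]
    exact div_mul_cancel₀ _ hs0
  obtain ⟨c, hc⟩ := Ideal.mem_span_singleton'.mp hmem
  exact ⟨c, by rw [mul_comm]; exact hc⟩

/-- A map from a domain to a normal ring, dominant on every component, extends uniquely to the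
integral closure in the fraction field. -/
theorem existsUnique_desc (K : Type u) [Field K] [Algebra A K] [Algebra B K] [IsScalarTower A B K]
    [IsFractionRing A K] [IsIntegralClosure B A K] : ∃! θ : B →+* C, θ.comp (algebraMap A B) = φ := by
  have frac : ∀ b : B, ∃ a s : A, s ≠ 0 ∧ algebraMap B K b * algebraMap A K s = algebraMap A K a := fun b => by
    obtain ⟨⟨a, s⟩, h⟩ := IsLocalization.surj (nonZeroDivisors A) (algebraMap B K b)
    exact ⟨a, s.1, nonZeroDivisors.ne_zero s.2, h⟩
  have hrel : ∀ b : B, ∃ c : C, ∀ a s : A, s ≠ 0 → algebraMap B K b * algebraMap A K s = algebraMap A K a →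
      φ s * c = φ a := fun b => by
    obtain ⟨a₀, s₀, hs₀, h₀⟩ := frac b
    obtain ⟨c, hc⟩ := exists_quotient φ hC hmin hs₀ h₀
    refine ⟨c, fun a s hs h => sub_eq_zero.mp (eq_zero_of_mul_eq_zero φ hC hmin hs₀ ?_)⟩
    have : a₀ * s = s₀ * a := IsFractionRing.injective A K (by rw [map_mul, map_mul, ← h₀, ← h]; ring)
    have := congrArg φ this
    rw [map_mul, map_mul] at this
    linear_combination (φ s) * hc + this
  choose θ hθ using hrel
  have heq : ∀ (b : B) (c : C) (a s : A), s ≠ 0 →
      algebraMap B K b * algebraMap A K s = algebraMap A K a → φ s * c = φ a → θ b = c :=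
    fun b c a s hs h hc => sub_eq_zero.mp (eq_zero_of_mul_eq_zero φ hC hmin hs (by
      rw [mul_sub, hθ b a s hs h, hc, sub_self]))
  have hcomp : ∀ x, θ (algebraMap A B x) = φ x := fun x =>
    heq _ _ x 1 one_ne_zero (by rw [← IsScalarTower.algebraMap_apply, map_one, mul_one])
      (by rw [map_one, one_mul])
  let Θ : B →+* C :=
    { toFun := θ
      map_one' := by rw [← map_one (algebraMap A B), hcomp, map_one]
      map_zero' := by rw [← map_zero (algebraMap A B), hcomp, map_zero]
      map_mul' := fun x y => by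
        obtain ⟨a, s, hs, h⟩ := frac x
        obtain ⟨a', s', hs', h'⟩ := frac y
        refine heq _ _ (a * a') (s * s') (mul_ne_zero hs hs') ?_ ?_
        · rw [map_mul, map_mul, map_mul, ← h, ← h']; ring
        · rw [map_mul, map_mul, ← hθ x a s hs h, ← hθ y a' s' hs' h']; ring
      map_add' := fun x y => by
        obtain ⟨a, s, hs, h⟩ := frac x
        obtain ⟨a', s', hs', h'⟩ := frac y
        refine heq _ _ (a * s' + a' * s) (s * s') (mul_ne_zero hs hs') ?_ ?_
        · rw [map_add, map_mul, map_add, map_mul, map_mul, ← h, ← h']; ring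
        · rw [map_mul, map_add, map_mul, map_mul, ← hθ x a s hs h, ← hθ y a' s' hs' h']; ring }
  refine ⟨Θ, RingHom.ext hcomp, fun Θ' hΘ' => RingHom.ext fun b => ?_⟩
  obtain ⟨a, s, hs, h⟩ := frac b
  refine (heq b (Θ' b) a s hs h ?_).symm
  have hinj : Function.Injective (algebraMap B K) := IsIntegralClosure.algebraMap_injective B A K
  have h7 : b * algebraMap A B s = algebraMap A B a := hinj (by
    rw [map_mul, ← IsScalarTower.algebraMap_apply, ← IsScalarTower.algebraMap_apply, h])
  rw [← hΘ', RingHom.comp_apply, RingHom.comp_apply, ← map_mul, mul_comm, h7]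

end Groth.L19.NormalDesc
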