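import Groth.Agent.L19.RootSynt
import Mathlib.Algebra.MvPolynomial.Expand
import Mathlib.RingTheory.Spectrum.Prime.Topology
import Mathlib.RingTheory.Flat.FaithfullyFlat.Algebra
import Mathlib.RingTheory.IntegralClosure.Algebra.Basic

/-!
# `T_i ↦ T_i ^ p` on a polynomial ring is syntomic
-/

set_option autoImplicit false
set_option linter.style.haveILetI false
universe u

namespace Groth.L19.PolyPow

open MvPolynomial

/-- A finite algebra presented by as many equations as variables is syntomic. -/
theorem isSyntomic_of_finite_square {R S : Type u} [CommRing R] [CommRing S] [Algebra R S]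
    [Module.Finite R S] {m : ℕ} (F : Fin m → MvPolynomial (Fin m) R)
    (e : Synt.RelGCIRing R m m F ≃ₐ[R] S) : Synt.IsSyntomic R S := by
  haveI : Module.Finite R (Synt.RelGCIRing R m m F) := Module.Finite.equiv e.symm.toLinearEquiv
  have h : Synt.IsRelGCI R m m F := fun p hp => by
    refine ⟨le_rfl, ?_⟩
    haveI := hp
    rw [Nat.sub_self]
    exact Groth.L19.RootSynt.dim_zero_of_finite (k := p.asIdeal.ResidueField)
      (S := p.asIdeal.Fiber (Synt.RelGCIRing R m m F))
  exact Groth.L07.SyntAlg.isSyntomic_of_algEquiv e (Groth.L07.SyntRel.isSyntomic_of_isRelGCI h)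

theorem isSyntomic_of_square_hom {R S : Type u} [CommRing R] [CommRing S] (ψ : R →+* S) (hfin : ψ.Finite)
    {m : ℕ} (F : Fin m → MvPolynomial (Fin m) R) (e : Synt.RelGCIRing R m m F ≃+* S)
    (he : ∀ r, e (algebraMap R _ r) = ψ r) :
    letI := ψ.toAlgebra
    Synt.IsSyntomic R S := by
  letI := ψ.toAlgebra
  haveI : Module.Finite R S := hfin
  exact isSyntomic_of_finite_square F (AlgEquiv.ofRingEquiv (f := e) he)

variable {A : Type u} [CommRing A] {m p : ℕ} (φ : MvPolynomial (Fin m) A →ₐ[A] MvPolynomial (Fin m) A)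
  (hφ : ∀ i, φ (X i) = X i ^ p) (hp : 0 < p)
include hφ hp

theorem finite : φ.toRingHom.Finite := by
  refine (RingHom.finite_iff_isIntegral_and_finiteType (f := φ.toRingHom)).mpr ⟨?_, ?_⟩
  · intro z
    induction z using MvPolynomial.induction_on with
    | C a =>
      have : (C a : MvPolynomial (Fin m) A) = φ (C a) := (φ.commutes a).symm
      rw [this]
      exact φ.toRingHom.isIntegralElem_map (x := C a)
    | add f g hf hg => exact RingHom.IsIntegralElem.add _ hf hg
    | mul_X f i hf =>
      refine RingHom.IsIntegralElem.mul _ hf ?_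
      refine ⟨Polynomial.X ^ p - Polynomial.C (X i), Polynomial.monic_X_pow_sub_C _ hp.ne', ?_⟩
      rw [Polynomial.eval₂_sub, Polynomial.eval₂_pow, Polynomial.eval₂_X, Polynomial.eval₂_C, sub_eq_zero]
      exact (hφ i).symm
  · exact RingHom.FiniteType.of_comp_finiteType (f := algebraMap A (MvPolynomial (Fin m) A))
      (g := φ.toRingHom) (by
        rw [show φ.toRingHom.comp (algebraMap A _) = algebraMap A _ from φ.comp_algebraMap]
        exact RingHom.finiteType_algebraMap.mpr inferInstance)

/-- The map sending `T_i` to `T_i ^ p` is syntomic. -/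
theorem isSyntomic : letI := φ.toRingHom.toAlgebra
    Synt.IsSyntomic (MvPolynomial (Fin m) A) (MvPolynomial (Fin m) A) := by
  let R := MvPolynomial (Fin m) A
  let F : Fin m → MvPolynomial (Fin m) R := fun i => X i ^ p - C (X i)
  let fwd : Synt.RelGCIRing R m m F →+* R :=
    Ideal.Quotient.lift _ (eval₂Hom φ.toRingHom X) (by
      intro a ha
      refine (Ideal.span_le (I := RingHom.ker (eval₂Hom φ.toRingHom X))).mpr ?_ ha
      rintro _ ⟨i, rfl⟩
      show eval₂Hom φ.toRingHom X (X i ^ p - C (X i)) = 0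
      rw [map_sub, map_pow, eval₂Hom_X', eval₂Hom_C, sub_eq_zero]
      exact (hφ i).symm)
  let bwd : R →+* Synt.RelGCIRing R m m F :=
    eval₂Hom ((algebraMap R (Synt.RelGCIRing R m m F)).comp C) fun i => Ideal.Quotient.mk _ (X i)
  have h1 : ∀ r : R, bwd (φ r) = algebraMap R (Synt.RelGCIRing R m m F) r := by
    intro r
    induction r using MvPolynomial.induction_on with
    | C a => rw [← algebraMap_eq, φ.commutes, algebraMap_eq, eval₂Hom_C]; rfl
    | add f g hf hg => rw [map_add, map_add, hf, hg, map_add]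
    | mul_X f i hf =>
      rw [map_mul, map_mul, hf, hφ, map_pow, eval₂Hom_X', map_mul, ← map_pow]
      congr 1
      exact (Ideal.Quotient.eq).mpr (Ideal.subset_span ⟨i, by rw [MvPolynomial.algebraMap_eq]⟩)
  have h2 : fwd.comp bwd = RingHom.id R := by
    refine MvPolynomial.ringHom_ext (fun a => ?_) (fun i => ?_)
    · show fwd (bwd (C a)) = C a
      rw [eval₂Hom_C]
      refine Eq.trans (Ideal.Quotient.lift_mk _ _ _) ?_
      rw [algebraMap_eq, eval₂Hom_C]
      exact φ.commutes a
    · show fwd (bwd (X i)) = X i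
      rw [eval₂Hom_X']
      exact (Ideal.Quotient.lift_mk _ _ _).trans (eval₂Hom_X' _ _ _)
  have h3 : bwd.comp fwd = RingHom.id _ := by
    refine Ideal.Quotient.ringHom_ext (MvPolynomial.ringHom_ext (fun r => ?_) (fun i => ?_))
    · show bwd (fwd (Ideal.Quotient.mk _ (C r))) = _
      exact (congrArg bwd ((Ideal.Quotient.lift_mk _ _ _).trans (eval₂Hom_C _ _ _))).trans (h1 r)
    · show bwd (fwd (Ideal.Quotient.mk _ (X i))) = _
      exact (congrArg bwd ((Ideal.Quotient.lift_mk _ _ _).trans (eval₂Hom_X' _ _ _))).trans (eval₂Hom_X' _ _ _)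
  refine isSyntomic_of_square_hom φ.toRingHom (finite φ hφ hp) F
    (RingEquiv.ofRingHom fwd bwd h2 h3) fun r => ?_
  refine Eq.trans ?_ (eval₂Hom_C φ.toRingHom X r)
  show fwd (Ideal.Quotient.mk (Ideal.span (Set.range F)) (C r)) = _
  simp only [fwd]
  exact Ideal.Quotient.lift_mk _ _ _

theorem faithfullyFlat : φ.toRingHom.FaithfullyFlat := by
  have hinj : Function.Injective φ := by
    have : φ = expand p := MvPolynomial.algHom_ext fun i => by rw [hφ, expand_X]
    rw [this]
    exact expand_injective hp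
  have hflat := (isSyntomic φ hφ hp).1
  rw [RingHom.FaithfullyFlat.iff_flat_and_comap_surjective]
  refine ⟨hflat, RingHom.IsIntegral.comap_surjective (finite φ hφ hp).to_isIntegral hinj⟩

end Groth.L19.PolyPow
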