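import Groth.Agent.L20.Chevalley.Reduction
import Mathlib.AlgebraicGeometry.QuasiAffine
import Mathlib.Topology.Sheaves.SheafCondition.UniqueGluing

/-!
Lifting non-vanishing loci of functions along closed immersions which are homeomorphisms.
-/

set_option autoImplicit false
set_option backward.isDefEq.respectTransparency.types false
set_option backward.isDefEq.respectTransparency false
set_option linter.style.haveILetI false
universe u

open CategoryTheory Limits AlgebraicGeometry TopologicalSpace Opposite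

namespace Groth.L19.QAHomeo

/-- Powers of a nilpotent perturbation of the inverted element are integral. -/
theorem exists_pow_numerator {A A' : Type u} [CommRing A] [CommRing A'] [Algebra A A'] (f : A)
    [IsLocalization.Away f A'] (e : A') (he : IsNilpotent e) :
    ∃ N : ℕ, ∀ m, N ≤ m → ∃ b : A,
      algebraMap A A' b = (algebraMap A A' f + e) ^ m ∧ IsNilpotent (b - f ^ m) := by
  obtain ⟨r, ε₀, hε₀⟩ := IsLocalization.Away.surj f e
  obtain ⟨n, hn⟩ := he
  have h0 : algebraMap A A' (ε₀ ^ n) = 0 := by rw [map_pow, ← hε₀, mul_pow, hn, zero_mul]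
  obtain ⟨⟨_, q, rfl⟩, hq⟩ := (IsLocalization.map_eq_zero_iff (Submonoid.powers f) A' _).mp h0
  let ε := ε₀ * f ^ q
  have hnil : IsNilpotent ε := by
    refine ⟨n + 1, ?_⟩
    have : ε ^ (n + 1) = (f ^ q * ε₀ ^ n) * (ε₀ * f ^ (q * n)) := by
      simp only [ε, mul_pow, ← pow_mul, pow_succ]
      ring
    rw [this, hq, zero_mul]
  have hεA : algebraMap A A' ε = e * algebraMap A A' f ^ (r + q) := by
    simp only [ε, map_mul, map_pow, ← hε₀]
    ring
  obtain ⟨n', hn'⟩ := hnil
  refine ⟨(r + q + 1) * (n + 1), fun m hm => ?_⟩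
  refine ⟨∑ i ∈ Finset.range (n + 1), f ^ (m - (r + q + 1) * i) * ε ^ i * (m.choose i : A), ?_, ?_⟩
  · rw [add_comm (algebraMap A A' f) e, add_pow, map_sum]
    refine Eq.trans ?_ (Finset.sum_subset (Finset.range_mono (show n + 1 ≤ m + 1 by nlinarith))
      fun i hi hi' => ?_)
    · refine Finset.sum_congr rfl fun i hi => ?_
      rw [Finset.mem_range] at hi
      have h1 : (r + q + 1) * i ≤ m := le_trans (Nat.mul_le_mul_left _ hi.le) hm
      rw [map_mul, map_mul, map_natCast, map_pow, map_pow, hεA, mul_pow, ← pow_mul]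
      have h2 : m - i = (m - (r + q + 1) * i) + (r + q) * i := by
        have h3 : (r + q + 1) * i = (r + q) * i + i := by ring
        omega
      rw [h2, pow_add]
      ring
    · rw [Finset.mem_range, not_lt] at hi'
      rw [show e ^ i = 0 from pow_eq_zero_of_le (by omega) hn, zero_mul, zero_mul]
  · rw [Finset.sum_range_succ']
    simp only [mul_zero, Nat.sub_zero, pow_zero, mul_one, Nat.choose_zero_right, Nat.cast_one]
    rw [add_sub_cancel_right]
    refine isNilpotent_sum fun i _ => ?_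
    rw [mul_assoc, mul_comm]
    exact (((Commute.all (ε ^ (i + 1)) (m.choose (i + 1) : A)).isNilpotent_mul_right
      (IsNilpotent.pow_succ i ⟨n', hn'⟩)) |> fun h => (Commute.all _ _).isNilpotent_mul_right h)

/-- Two congruent elements whose difference is killed have equal high powers. -/
theorem exists_pow_eq {A : Type u} [CommRing A] (b c : A) (h : IsNilpotent (b - c)) {M : ℕ}
    (hM : b ^ M * (b - c) = 0) : ∃ P₀, ∀ P, P₀ ≤ P → b ^ P = c ^ P := by
  obtain ⟨n, hn⟩ := h
  refine ⟨M + n + 1, fun P hP => ?_⟩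
  have : c = -(b - c) + b := by ring
  conv_rhs => rw [this, add_pow]
  rw [Finset.sum_range_succ']
  simp only [pow_zero, one_mul, Nat.sub_zero, Nat.choose_zero_right, Nat.cast_one, mul_one]
  rw [Finset.sum_eq_zero, zero_add]
  intro i hi
  rw [Finset.mem_range] at hi
  rcases le_or_gt n (i + 1) with h' | h'
  · rw [neg_pow, pow_eq_zero_of_le h' hn, mul_zero, zero_mul, zero_mul]
  · obtain ⟨d, hd⟩ : ∃ d, P - (i + 1) = M + d := ⟨P - (i + 1) - M, by omega⟩
    rw [hd, pow_succ (-(b - c)), pow_add b M d]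
    linear_combination -((-(b - c)) ^ i * b ^ d * (P.choose (i + 1) : A)) * hM

variable {Z X : Scheme.{u}} (i : Z ⟶ X) [IsClosedImmersion i] (hi : IsHomeomorph i.base)

include hi in
/-- An affine non-vanishing locus of a function on the closed subscheme is one on the whole. -/
theorem exists_basicOpen_lift [CompactSpace X] [QuasiSeparatedSpace X] [Z.IsSeparated] (s : Γ(Z, ⊤))
    (hs : IsAffineOpen (Z.basicOpen s)) :
    ∃ t : Γ(X, ⊤), IsAffineOpen (X.basicOpen t) ∧ i ⁻¹ᵁ X.basicOpen t = Z.basicOpen s := by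
  haveI : Surjective i := ⟨hi.surjective⟩
  have hinj : ∀ {V W : X.Opens}, i ⁻¹ᵁ V = i ⁻¹ᵁ W → V = W := fun {V W} h =>
    Opens.ext (hi.surjective.preimage_injective congr(($h : Set Z)))
  let U : X.Opens := ⟨i '' (Z.basicOpen s : Set Z), hi.isOpenMap _ (Z.basicOpen s).isOpen⟩
  have hU : i ⁻¹ᵁ U = Z.basicOpen s := Opens.ext (Set.preimage_image_eq _ hi.injective)
  have hUaff : IsAffineOpen U := by
    haveI : IsAffine (i ⁻¹ᵁ U : Z.Opens).toScheme := by rw [hU]; exact hs
    haveI : Surjective (i ∣_ U) := IsZariskiLocalAtTarget.restrict ‹Surjective i› U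
    haveI : UniversallyClosed (i ∣_ U) := IsZariskiLocalAtTarget.restrict (inferInstance : UniversallyClosed i) U
    exact Groth.L20.Chevalley.isAffine_of_surjective_universallyClosed (i ∣_ U)
  have hbot : ∀ {V : X.Opens} (d : Γ(X, V)), i.app V d = 0 → X.basicOpen d = ⊥ := fun {V} d hd => hinj (by
    rw [Scheme.preimage_basicOpen, hd, Scheme.basicOpen_zero]; rfl)
  obtain ⟨a, ha⟩ := i.app_surjective U hUaff
    (Z.presheaf.map (homOfLE le_top).op s)
  obtain ⟨F, hF, e⟩ := (isCompact_iff_finite_and_eq_biUnion_affineOpens (U := (⊤ : X.Opens))).mp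
    isCompact_univ
  haveI := hF.to_subtype
  haveI : Fintype F := Fintype.ofFinite _
  let V : F → X.Opens := fun k => k.1.1
  have hVaff : ∀ k, IsAffineOpen (V k) := fun k => k.1.2
  choose c hc using fun k => i.app_surjective (V k) (hVaff k) (Z.presheaf.map (homOfLE le_top).op s)
  have hcb : ∀ k, X.basicOpen (c k) = V k ⊓ U := fun k => hinj (by
    rw [Scheme.preimage_basicOpen, hc, Scheme.Hom.preimage_inf, hU, Scheme.basicOpen_res])
  have hnum : ∀ k, ∃ N : ℕ, ∀ m, N ≤ m → ∃ b : Γ(X, V k),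
      X.presheaf.map (homOfLE (X.basicOpen_le (c k))).op b =
        X.presheaf.map (homOfLE ((hcb k).le.trans inf_le_right)).op a ^ m ∧
      IsNilpotent (b - c k ^ m) := by
    intro k
    letI : Algebra Γ(X, V k) Γ(X, X.basicOpen (c k)) :=
      (X.presheaf.map (homOfLE (X.basicOpen_le (c k))).op).hom.toAlgebra
    haveI : IsLocalization.Away (c k) Γ(X, X.basicOpen (c k)) := (hVaff k).isLocalization_basicOpen (c k)
    let d := X.presheaf.map (homOfLE ((hcb k).le.trans inf_le_right)).op a -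
      X.presheaf.map (homOfLE (X.basicOpen_le (c k))).op (c k)
    have hd : IsNilpotent d := by
      rw [Scheme.isNilpotent_iff_basicOpen_eq_bot_of_isCompact ((hVaff k).basicOpen _).isCompact]
      refine hbot d ?_
      simp only [d, map_sub, sub_eq_zero, ← CommRingCat.comp_apply, Scheme.Hom.app_eq_appLE,
        Scheme.Hom.map_appLE]
      have h1 : ∀ (O : X.Opens) (y : Γ(X, O)) (h : i ⁻¹ᵁ X.basicOpen (c k) ≤ i ⁻¹ᵁ O),
          i.app O y = Z.presheaf.map (homOfLE le_top).op s →
          i.appLE O (i ⁻¹ᵁ X.basicOpen (c k)) h y = Z.presheaf.map (homOfLE le_top).op s := by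
        intro O y h hy
        rw [Scheme.Hom.appLE, CommRingCat.comp_apply, hy, ← CommRingCat.comp_apply, ← Functor.map_comp]
        rfl
      rw [h1 U a _ ha, h1 (V k) (c k) _ (hc k)]
    obtain ⟨N, hN⟩ := exists_pow_numerator (A := Γ(X, V k)) (c k) d hd
    refine ⟨N, fun m hm => ?_⟩
    obtain ⟨b, hb, hb'⟩ := hN m hm
    exact ⟨b, hb.trans (congrArg (· ^ m) (add_sub_cancel _ _)), hb'⟩
  choose N hN using hnum
  let m := Finset.univ.sup N + 1
  choose b hb hbnil using fun k => hN k m (Nat.le_succ_of_le (Finset.le_sup (Finset.mem_univ k)))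
  have hbb : ∀ k, X.basicOpen (b k) = V k ⊓ U := by
    intro k
    rw [← hcb k, ← Scheme.basicOpen_pow X (c k) (n := m) (Nat.succ_pos _)]
    refine hinj ?_
    rw [Scheme.preimage_basicOpen, Scheme.preimage_basicOpen]
    have h2 : IsNilpotent (i.app (V k) (b k) - i.app (V k) (c k ^ m)) := by
      rw [← map_sub]; exact (hbnil k).map _
    refine Opens.ext (Set.ext fun z => ?_)
    by_cases hz : z ∈ i ⁻¹ᵁ V k
    swap
    · exact ⟨fun h => absurd (Z.basicOpen_le _ h) hz, fun h => absurd (Z.basicOpen_le _ h) hz⟩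
    show z ∈ Z.basicOpen _ ↔ z ∈ Z.basicOpen _
    rw [Scheme.mem_basicOpen _ _ _ hz, Scheme.mem_basicOpen _ _ _ hz]
    have h3 := h2.map (Z.presheaf.germ _ z hz).hom
    rw [map_sub] at h3
    constructor
    · intro hu
      simpa using h3.neg.isUnit_add_left_of_commute hu (Commute.all _ _)
    · intro hu
      simpa using h3.isUnit_add_left_of_commute hu (Commute.all _ _)
  have hover : ∀ k l, ∃ P₀, ∀ P, P₀ ≤ P →
      X.presheaf.map (homOfLE (inf_le_left : V k ⊓ V l ≤ V k)).op (b k) ^ P =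
      X.presheaf.map (homOfLE (inf_le_right : V k ⊓ V l ≤ V l)).op (b l) ^ P := by
    intro k l
    set bk := X.presheaf.map (homOfLE (inf_le_left : V k ⊓ V l ≤ V k)).op (b k)
    set bl := X.presheaf.map (homOfLE (inf_le_right : V k ⊓ V l ≤ V l)).op (b l)
    have hcpt : IsCompact ((V k ⊓ V l : X.Opens) : Set X) :=
      QuasiSeparatedSpace.inter_isCompact _ _ (V k).2 (hVaff k).isCompact (V l).2 (hVaff l).isCompact
    have hbk : X.basicOpen bk = V k ⊓ V l ⊓ U := by
      rw [Scheme.basicOpen_res, hbb k, ← inf_assoc, inf_eq_left.mpr (inf_le_left : V k ⊓ V l ≤ V k)]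
    have hres : X.presheaf.map (homOfLE (X.basicOpen_le bk)).op (bk - bl) = 0 := by
      rw [map_sub, sub_eq_zero]
      have key : ∀ (j : F) (h : X.basicOpen bk ≤ V j),
          X.presheaf.map (homOfLE h).op (b j) =
            X.presheaf.map (homOfLE (hbk.le.trans inf_le_right)).op a ^ m := by
        intro j h
        have hle : X.basicOpen bk ≤ X.basicOpen (c j) := by
          rw [hcb j]; exact le_inf h (hbk.le.trans inf_le_right)
        have h4 := congrArg (X.presheaf.map (homOfLE hle).op) (hb j)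
        rw [map_pow, ← CommRingCat.comp_apply, ← Functor.map_comp, ← CommRingCat.comp_apply,
          ← Functor.map_comp] at h4
        exact h4
      simp only [bk, bl, ← CommRingCat.comp_apply, ← Functor.map_comp]
      exact (key k ((X.basicOpen_le bk).trans inf_le_left)).trans
        (key l ((X.basicOpen_le bk).trans inf_le_right)).symm
    have hnil : IsNilpotent (bk - bl) := by
      rw [Scheme.isNilpotent_iff_basicOpen_eq_bot_of_isCompact hcpt, eq_bot_iff]
      intro x hx
      have hxV := X.basicOpen_le _ hx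
      by_cases hxb : x ∈ X.basicOpen bk
      · have h5 : x ∈ X.basicOpen (X.presheaf.map (homOfLE (X.basicOpen_le bk)).op (bk - bl)) := by
          rw [Scheme.basicOpen_res]; exact ⟨hxb, hx⟩
        rw [hres, Scheme.basicOpen_zero] at h5
        exact h5
      · have hxl : x ∉ X.basicOpen bl := by
          rw [Scheme.basicOpen_res, hbb l]
          rintro ⟨-, -, hxU⟩
          exact hxb (hbk ▸ ⟨hxV, hxU⟩)
        rw [Scheme.mem_basicOpen _ _ _ hxV] at hxb hxl hx
        rw [map_sub] at hx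
        have := IsLocalRing.nonunits_add hxb (show -_ ∈ nonunits _ from mt (IsUnit.neg_iff _).mp hxl)
        rw [← sub_eq_add_neg] at this
        exact (this hx).elim
    obtain ⟨M, hM⟩ := exists_pow_mul_eq_zero_of_res_basicOpen_eq_zero_of_isCompact X hcpt (bk - bl) bk hres
    exact exists_pow_eq bk bl hnil hM
  choose P₀ hP₀ using hover
  let P := Finset.univ.sup (fun p : F × F => P₀ p.1 p.2) + 1
  obtain ⟨t, ht, -⟩ := X.sheaf.existsUnique_gluing' V ⊤ (fun k => homOfLE le_top)
    (by
      intro x hx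
      rw [e] at hx
      obtain ⟨A, hA⟩ := Opens.mem_iSup.mp hx
      obtain ⟨hAF, hxA⟩ := Opens.mem_iSup.mp hA
      exact Opens.mem_iSup.mpr ⟨⟨A, hAF⟩, hxA⟩)
    (fun k => (b k ^ P : Γ(X, V k))) (fun k l => by
      show X.presheaf.map _ (b k ^ P) = X.presheaf.map _ (b l ^ P)
      rw [map_pow, map_pow]
      exact hP₀ k l P (Nat.le_succ_of_le (Finset.le_sup (f := fun p : F × F => P₀ p.1 p.2)
        (Finset.mem_univ (k, l)))))
  have htU : X.basicOpen (U := (⊤ : X.Opens)) t = U := by
    refine Opens.ext (Set.ext fun x => ?_)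
    have hx : x ∈ (⊤ : X.Opens) := trivial
    rw [e] at hx
    obtain ⟨A, hA⟩ := Opens.mem_iSup.mp hx
    obtain ⟨hAF, hxA⟩ := Opens.mem_iSup.mp hA
    have h6 : V ⟨A, hAF⟩ ⊓ X.basicOpen (U := (⊤ : X.Opens)) t = V ⟨A, hAF⟩ ⊓ U := by
      rw [← hbb, ← Scheme.basicOpen_pow X (b ⟨A, hAF⟩) (n := P) (Nat.succ_pos _),
        ← ht ⟨A, hAF⟩]
      exact (Scheme.basicOpen_res X _ _).symm
    have h7 : (x ∈ (V ⟨A, hAF⟩ : X.Opens) ∧ x ∈ X.basicOpen (U := (⊤ : X.Opens)) t) ↔
        (x ∈ (V ⟨A, hAF⟩ : X.Opens) ∧ x ∈ U) := SetLike.ext_iff.mp h6 x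
    exact ⟨fun h => (h7.mp ⟨hxA, h⟩).2, fun h => (h7.mpr ⟨hxA, h⟩).2⟩
  exact ⟨t, htU ▸ hUaff, htU ▸ hU⟩

include hi in
/-- Quasi-affineness ascends along closed immersions which are homeomorphisms. -/
theorem isQuasiAffine_of_closedImmersion [Z.IsQuasiAffine] : X.IsQuasiAffine := by
  haveI : CompactSpace X := hi.homeomorph.compactSpace
  haveI : QuasiSeparatedSpace X := hi.homeomorph.symm.isOpenEmbedding.quasiSeparatedSpace
  refine .of_forall_exists_mem_basicOpen _ fun x => ?_
  obtain ⟨z, rfl⟩ := hi.surjective x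
  obtain ⟨_, ⟨_, ⟨r, hr, rfl⟩, rfl⟩, hzr, -⟩ :=
    (Scheme.IsQuasiAffine.isBasis_basicOpen Z).exists_subset_of_mem_open (Set.mem_univ z) isOpen_univ
  obtain ⟨t, ht, htr⟩ := exists_basicOpen_lift i hi r hr
  exact ⟨t, ht, show z ∈ i ⁻¹ᵁ X.basicOpen t by rw [htr]; exact hzr⟩

end Groth.L19.QAHomeo
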