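import Groth.Prelude.Def_NonAbH2
import Groth.Prelude.Def_ActBC
import Groth.Agent.L27.Torsor.Cov
import Mathlib.AlgebraicGeometry.Sites.Proetale

/-!
# Reductions of the structure group and sections of the quotient
-/

set_option autoImplicit false
set_option linter.style.haveILetI false
set_option backward.isDefEq.respectTransparency.types false
set_option backward.isDefEq.respectTransparency false

universe u

open CategoryTheory MonoidalCategory CartesianMonoidalCategory MonObj AlgebraicGeometry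

namespace Groth.L19.Reduction

variable {S : Scheme.{u}} {G H F Q E : Over S} [GrpObj G] [GrpObj H] {i : G ⟶ H} [IsMonHom i]

/-- Etale local triviality gives an fpqc covering. -/
theorem cov_of_etale (h : NonAbH1.IsLocallyTrivialFor Scheme.etalePrecoverage E) :
    Groth.L27.Torsor.Cov (toUnit E) := by
  obtain ⟨R, hR, hs⟩ := h
  exact Groth.L27.Torsor.cov_toUnit
    ⟨R, Scheme.proetalePrecoverage_le_fpqcPrecoverage S (Scheme.etalePrecoverage_le_proetalePrecoverage S hR), hs⟩

variable (aF : AlgGrp.Action H F)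

/-- A section of the quotient gives a reduction of the structure group. -/
theorem exists_reduction_of_section [Mono i] (hF : IsIso (lift aF.act (snd H F))) (π : F ⟶ Q)
    (hsq : IsPullback (aF.restrict i).act (snd G F) π π)
    (hloc : NonAbH1.IsLocallyTrivialFor Scheme.etalePrecoverage (Over.mk π.left : Over Q.left))
    (σ : 𝟙_ (Over S) ⟶ Q) :
    ∃ (E : Over S) (aE : AlgGrp.Action G E) (φ : E ⟶ F),
      NonAbH1.IsTorsorFor Scheme.etalePrecoverage aE ∧
      AlgGrp.Action.IsEquivariant aE (aF.restrict i) φ ∧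
      IsPullback φ (toUnit E) π σ := by
  let E : Over S := Over.mk (Limits.pullback.snd π.left σ.left)
  let φ : E ⟶ F := Over.homMk (Limits.pullback.fst π.left σ.left) (by
    show Limits.pullback.fst π.left σ.left ≫ F.hom = Limits.pullback.snd π.left σ.left
    rw [← Over.w π, Limits.pullback.condition_assoc, Over.w σ]
    exact Category.comp_id _)
  have hw : φ ≫ π = toUnit E ≫ σ := Over.OverMorphism.ext Limits.pullback.condition
  have hlift : ∀ {Z : Over S} (f : Z ⟶ F), f ≫ π = toUnit Z ≫ σ → ∃! z : Z ⟶ E, z ≫ φ = f := by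
    intro Z f hf
    refine ⟨Over.homMk (Limits.pullback.lift f.left (toUnit Z).left (congrArg CommaMorphism.left hf))
      (Limits.pullback.lift_snd _ _ _), Over.OverMorphism.ext (Limits.pullback.lift_fst _ _ _), fun z hz => ?_⟩
    apply Over.OverMorphism.ext
    apply Limits.pullback.hom_ext
    · exact (congrArg CommaMorphism.left hz :).trans (Limits.pullback.lift_fst _ _ _).symm
    · exact (Over.w z).trans (Limits.pullback.lift_snd _ _ _).symm
  have hpb : IsPullback φ (toUnit E) π σ := IsPullback.of_isLimit' ⟨hw⟩ (Limits.PullbackCone.IsLimit.mk _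
    (fun s => (hlift s.fst (by rw [s.condition, toUnit_unique s.snd (toUnit _)])).exists.choose)
    (fun s => (hlift s.fst (by rw [s.condition, toUnit_unique s.snd (toUnit _)])).exists.choose_spec)
    (fun s => toUnit_unique _ _)
    (fun s m h1 _ => (hlift s.fst (by rw [s.condition, toUnit_unique s.snd (toUnit _)])).unique h1
      (hlift s.fst (by rw [s.condition, toUnit_unique s.snd (toUnit _)])).exists.choose_spec))
  haveI : Mono φ := ⟨fun {Z} u v e => by
    have huv : (u ≫ φ) ≫ π = toUnit Z ≫ σ := by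
      rw [Category.assoc, hw, ← Category.assoc, toUnit_unique (u ≫ toUnit E) (toUnit Z)]
    exact (hlift _ huv).unique rfl e.symm⟩
  have hact : ((G ◁ φ) ≫ (aF.restrict i).act) ≫ π = toUnit (G ⊗ E) ≫ σ := by
    rw [Category.assoc, hsq.w, ← Category.assoc, whiskerLeft_snd, Category.assoc, hw, ← Category.assoc,
      toUnit_unique (snd G E ≫ toUnit E) (toUnit _)]
  obtain ⟨act, hact', -⟩ := hlift _ hact
  let aE : AlgGrp.Action G E :=
    { act := act
      one_act := by
        rw [← cancel_mono φ, Category.assoc, hact', ← whisker_exchange_assoc, (aF.restrict i).one_act,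
          leftUnitor_naturality]
      mul_act := by
        rw [← cancel_mono φ, Category.assoc, hact', ← whisker_exchange_assoc, (aF.restrict i).mul_act]
        simp only [Category.assoc]
        rw [associator_naturality_right_assoc, hact', ← MonoidalCategory.whiskerLeft_comp_assoc,
          ← MonoidalCategory.whiskerLeft_comp_assoc, hact'] }
  have hφ : AlgGrp.Action.IsEquivariant aE (aF.restrict i) φ := hact'
  refine ⟨E, aE, φ, ⟨Groth.L27.Torsor.isPseudo_of_points aE fun T x y => ?_, ?_⟩, hφ, hpb⟩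
  · have hxy : (x ≫ φ) ≫ π = (y ≫ φ) ≫ π := by
      rw [Category.assoc, Category.assoc, hw, ← Category.assoc, ← Category.assoc,
        toUnit_unique (x ≫ toUnit E) (y ≫ toUnit E)]
    let w := hsq.lift (y ≫ φ) (x ≫ φ) hxy.symm
    refine ⟨w ≫ fst G F, ?_, fun g' hg' => ?_⟩
    · dsimp only
      rw [← cancel_mono φ, Category.assoc, show aE.act ≫ φ = _ from hφ, lift_whiskerLeft_assoc]
      have e : lift (w ≫ fst G F) (x ≫ φ) = w := by
        apply CartesianMonoidalCategory.hom_ext
        · simp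
        · rw [lift_snd, hsq.lift_snd]
      rw [e, hsq.lift_fst]
    · have e : lift g' (x ≫ φ) = w := hsq.hom_ext (by
        rw [hsq.lift_fst, ← hg', Category.assoc, show aE.act ≫ φ = _ from hφ, lift_whiskerLeft_assoc])
        (by rw [hsq.lift_snd, lift_snd])
      rw [← e, lift_fst]
  · obtain ⟨R, hR, hsec⟩ := NonAbH1.isLocallyTrivialFor_bc σ.left Scheme.etalePrecoverage hloc
    refine ⟨R, hR, fun S' g hg => ?_⟩
    obtain ⟨s, hs⟩ := hsec g hg
    exact ⟨s, hs⟩

/-- A reduction of the structure group gives a unique section of the quotient. -/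
theorem existsUnique_section (hF : IsIso (lift aF.act (snd H F))) (π : F ⟶ Q)
    (hsq : IsPullback (aF.restrict i).act (snd G F) π π) [Mono i] (aE : AlgGrp.Action G E)
    (hE : NonAbH1.IsTorsorFor Scheme.etalePrecoverage aE) (φ : E ⟶ F)
    (hφ : AlgGrp.Action.IsEquivariant aE (aF.restrict i) φ) :
    (∃! σ : 𝟙_ (Over S) ⟶ Q, toUnit E ≫ σ = φ ≫ π) ∧
      ∀ σ : 𝟙_ (Over S) ⟶ Q, toUnit E ≫ σ = φ ≫ π → IsPullback φ (toUnit E) π σ := by
  have hcov := cov_of_etale hE.2
  have hφ' : ∀ {T : Over S} (g : T ⟶ G) (x : T ⟶ E),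
      (lift g x ≫ aE.act) ≫ φ = lift g (x ≫ φ) ≫ (aF.restrict i).act := fun g x => by
    rw [Category.assoc, show aE.act ≫ φ = _ from hφ, lift_whiskerLeft_assoc]
  have hπ : ∀ {T : Over S} (g : T ⟶ G) (x : T ⟶ F), (lift g x ≫ (aF.restrict i).act) ≫ π = x ≫ π := fun g x => by
    rw [Category.assoc, hsq.w, lift_snd_assoc]
  obtain ⟨σ, hσ⟩ := Groth.L27.Torsor.descend hcov (φ ≫ π) fun T x y _ => by
    obtain ⟨g, hg⟩ := Groth.L27.Torsor.exists_act_eq hE.1 x y
    rw [← hg, ← Category.assoc, ← Category.assoc, hφ', hπ]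
  refine ⟨⟨σ, hσ, fun σ' h' => Groth.L27.Torsor.cancel hcov (h'.trans hσ.symm)⟩, fun σ hσ => ?_⟩
  haveI hmono : Mono φ := ⟨fun {T} x y e => by
    obtain ⟨g, hg⟩ := Groth.L27.Torsor.exists_act_eq hE.1 x y
    have h1 := congrArg (· ≫ φ) hg
    simp only [hφ'] at h1
    rw [← e, AlgGrp.Action.lift_restrict_act] at h1
    have h2 : g ≫ i = 1 :=
      Groth.L27.Torsor.act_injective hF (h1.trans (AlgGrp.Action.lift_one_act aF _).symm)
    have h3 : g = 1 := by rw [← cancel_mono i, h2, MonObj.one_comp]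
    rw [← hg, h3, AlgGrp.Action.lift_one_act]⟩
  have hfac : ∀ {T : Over S} (f : T ⟶ F), f ≫ π = toUnit T ≫ σ → ∃ f' : T ⟶ E, f' ≫ φ = f := by
    intro T f hs
    have hp : Groth.L27.Torsor.Cov (snd E T) := Groth.L27.Torsor.cov_snd hcov T
    have hpw : (fst E T ≫ φ) ≫ π = (snd E T ≫ f) ≫ π := by
      rw [Category.assoc, ← hσ, Category.assoc, hs, ← Category.assoc, ← Category.assoc,
        toUnit_unique (fst E T ≫ toUnit E) (snd E T ≫ toUnit _)]
    let w := hsq.lift (snd E T ≫ f) (fst E T ≫ φ) hpw.symm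
    have he : lift (w ≫ fst G F) (fst E T ≫ φ) ≫ (aF.restrict i).act = snd E T ≫ f := by
      have e : lift (w ≫ fst G F) (fst E T ≫ φ) = w := by
        apply CartesianMonoidalCategory.hom_ext
        · simp
        · rw [lift_snd, hsq.lift_snd]
      rw [e, hsq.lift_fst]
    obtain ⟨d, hd⟩ : ∃ d : E ⊗ T ⟶ E, d ≫ φ = snd E T ≫ f :=
      ⟨lift (w ≫ fst G F) (fst E T) ≫ aE.act, by rw [hφ', he]⟩
    obtain ⟨f', hf'⟩ := Groth.L27.Torsor.descend hp d fun T' x y e => by
      rw [← cancel_mono φ, Category.assoc, Category.assoc, hd, reassoc_of% e]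
    exact ⟨f', Groth.L27.Torsor.cancel hp (by rw [← Category.assoc, hf', hd])⟩
  have hs : ∀ s : Limits.PullbackCone π σ, s.fst ≫ π = toUnit s.pt ≫ σ := fun s => by
    rw [s.condition, toUnit_unique s.snd (toUnit _)]
  exact IsPullback.of_isLimit' ⟨hσ.symm⟩ (Limits.PullbackCone.IsLimit.mk _
    (fun s => (hfac s.fst (hs s)).choose) (fun s => (hfac s.fst (hs s)).choose_spec)
    (fun s => toUnit_unique _ _)
    (fun s m h1 _ => (cancel_mono φ).1 (h1.trans (hfac s.fst (hs s)).choose_spec.symm)))

end Groth.L19.Reduction
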