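import Groth.Agent.L20.ResAmple
import Groth.Agent.L18.AffineApps
import Groth.Agent.L18.IdealModule
import Groth.Prelude.Def_ClSub2

/-!
# The resolution property from boundary ideals
-/

set_option autoImplicit false
set_option linter.style.haveILetI false
set_option backward.isDefEq.respectTransparency.types false
set_option backward.isDefEq.respectTransparency false

universe u

open CategoryTheory CategoryTheory.Limits AlgebraicGeometry TopologicalSpace Opposite MonoidalCategory TensorProduct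

noncomputable section

namespace Groth.L19.ResBdry

open Groth.L18.Frame (rs ro rs_rs ro_ro rs_smul ro_self rs_self)
open Groth.L18.GenLoc (tens tens_rs tens_smul_left tens_smul_right)
open Groth.L19.ProjBdl (IsBasisOn)

variable {X : Scheme.{u}}

theorem zero_tens {L M : X.Modules} {W : X.Opens} (n : Γ(M, W)) : tens L M W 0 n = 0 := by
  rw [← zero_smul Γ(X, W) (0 : Γ(L, W)), tens_smul_left, zero_smul]

theorem tens_zero {L M : X.Modules} {W : X.Opens} (m : Γ(L, W)) : tens L M W m 0 = 0 := by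
  rw [← zero_smul Γ(X, W) (0 : Γ(M, W)), tens_smul_right, zero_smul]

theorem add_tens {L M : X.Modules} {W : X.Opens} (m m' : Γ(L, W)) (n : Γ(M, W)) :
    tens L M W (m + m') n = tens L M W m n + tens L M W m' n :=
  (congrArg ((Groth.L00.Tensor.unit (Groth.L00.Tensor.pre L ⊗ Groth.L00.Tensor.pre M)).app (op W))
    (TensorProduct.add_tmul (R := X.sheaf.obj.obj (op W)) (M := (Groth.L00.Tensor.pre L).obj (op W))
      (N := (Groth.L00.Tensor.pre M).obj (op W)) m m' n)).trans (map_add _ _ _)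

theorem tens_add {L M : X.Modules} {W : X.Opens} (m : Γ(L, W)) (n n' : Γ(M, W)) :
    tens L M W m (n + n') = tens L M W m n + tens L M W m n' :=
  (congrArg ((Groth.L00.Tensor.unit (Groth.L00.Tensor.pre L ⊗ Groth.L00.Tensor.pre M)).app (op W))
    (TensorProduct.tmul_add (R := X.sheaf.obj.obj (op W)) (M := (Groth.L00.Tensor.pre L).obj (op W))
      (N := (Groth.L00.Tensor.pre M).obj (op W)) m n n')).trans (map_add _ _ _)

theorem sub_tens {L M : X.Modules} {W : X.Opens} (m m' : Γ(L, W)) (n : Γ(M, W)) :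
    tens L M W (m - m') n = tens L M W m n - tens L M W m' n := by
  rw [eq_sub_iff_add_eq, ← add_tens, sub_add_cancel]

theorem tens_sum {L M : X.Modules} {W : X.Opens} {r : ℕ} (m : Γ(L, W)) (n : Fin r → Γ(M, W)) :
    tens L M W m (∑ i, n i) = ∑ i, tens L M W m (n i) :=
  map_sum (AddMonoidHom.mk' (fun x => tens L M W m x) (tens_add m)) _ _

theorem tensorMap_tens {L L' M : X.Modules} (c : L ⟶ L') {W : X.Opens} (m : Γ(L, W)) (n : Γ(M, W)) :
    (Groth.L00.Tensor.tensorMap c (𝟙 M)).app W (tens L M W m n) = tens L' M W (c.app W m) n :=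
  Groth.L17.ClosedPush.tensorMap_unit c (𝟙 M) W m n

/-- A combination of tensors with the members of a basis vanishes only trivially. -/
theorem eq_zero_of_sum_tens {N : X.Modules} (hN : FlatMod.IsFinLocFree N) (F : X.Modules) {W : X.Opens}
    {r : ℕ} {t : Fin r → Γ(N, W)} (ht : IsBasisOn N W t) (z : Fin r → Γ(F, W))
    (h : ∑ i, tens F N W (z i) (t i) = 0) : z = 0 := by
  have h1 := (Groth.L17.ProjFormula.bijective_unit_tensor N F hN t ht.locBases).comp
    (Groth.L17.ProjFormula.bijective_coords N F t ht.locBases)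
  have key : ∀ z : Fin r → Γ(F, W),
      (Groth.L00.Tensor.tensorComm N F).hom.app W ((Groth.L00.Tensor.unit (Groth.L00.Tensor.pre N ⊗ Groth.L00.Tensor.pre F)).app
        (op W) (∑ i, Groth.L17.LocBases.tm (O := X.sheaf) (P := Groth.L00.Tensor.pre N) (Q := Groth.L00.Tensor.pre F) (t i) (z i))) =
        ∑ i, tens F N W (z i) (t i) := fun z => by
    refine (congrArg ((Groth.L00.Tensor.tensorComm N F).hom.app W) (map_sum _ _ _)).trans ?_
    refine (map_sum _ _ _).trans (Finset.sum_congr rfl fun i _ => ?_)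
    have hn := (Groth.L17.ClosedPush.shAdj X).unit.naturality (β_ (Groth.L00.Tensor.pre N) (Groth.L00.Tensor.pre F)).hom
    exact (congrArg (fun k : Groth.L00.Tensor.pre N ⊗ Groth.L00.Tensor.pre F ⟶
      Groth.L00.Tensor.pre (CohB1.tensorMod F N) =>
      k.app (op W) ((t i) ⊗ₜ[X.sheaf.obj.obj (op W)] (show (Groth.L00.Tensor.pre F).obj (op W) from z i))) hn).symm
  have h0 : ∑ i, tens F N W ((0 : Fin r → Γ(F, W)) i) (t i) = 0 :=
    Finset.sum_eq_zero fun i _ => zero_tens _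
  exact h1.1 (a₁ := z) (a₂ := 0) ((ConcreteCategory.bijective_of_isIso
    ((Groth.L00.Tensor.tensorComm N F).hom.app W)).1 ((key z).trans ((h.trans h0.symm).trans (key 0).symm)))

variable {N : X.Modules} (σ : Γ(N, ⊤))

/-- `s ↦ s ⊗ σ`. -/
def tw {M : X.Modules} {V : X.Opens} (s : Γ(M, V)) : Γ(CohB1.tensorMod M N, V) :=
  tens M N V s (rs N le_top σ)

theorem tw_rs {M : X.Modules} {V V' : X.Opens} (h : V' ≤ V) (s : Γ(M, V)) :
    rs (CohB1.tensorMod M N) h (tw σ s) = tw σ (rs M h s) := by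
  rw [tw, tens_rs, rs_rs]
  rfl

theorem tw_add {M : X.Modules} {V : X.Opens} (s s' : Γ(M, V)) : tw σ (s + s') = tw σ s + tw σ s' :=
  add_tens s s' _

theorem tw_sub {M : X.Modules} {V : X.Opens} (s s' : Γ(M, V)) : tw σ (s - s') = tw σ s - tw σ s' :=
  sub_tens s s' _

theorem tw_zero {M : X.Modules} {V : X.Opens} : tw σ (0 : Γ(M, V)) = 0 :=
  zero_tens _

/-- `Q` holds after `k` twists. -/
def Iter {V : X.Opens} (Q : ∀ M : X.Modules, Γ(M, V) → Prop) : ℕ → ∀ M : X.Modules, Γ(M, V) → Prop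
  | 0 => Q
  | k + 1 => fun M s => Iter Q k (CohB1.tensorMod M N) (tw σ s)

theorem iter_mono {V : X.Opens} {Q Q' : ∀ M : X.Modules, Γ(M, V) → Prop}
    (hQ : ∀ M s, Q M s → Q' M s) : ∀ (k : ℕ) (M : X.Modules) (s : Γ(M, V)), Iter σ Q k M s → Iter σ Q' k M s
  | 0, M, s, h => hQ M s h
  | k + 1, M, s, h => iter_mono hQ k _ (tw σ s) h

theorem iter_succ {V : X.Opens} {Q : ∀ M : X.Modules, Γ(M, V) → Prop}
    (hQ : ∀ M s, Q M s → Q (CohB1.tensorMod M N) (tw σ s)) :
    ∀ (k : ℕ) (M : X.Modules) (s : Γ(M, V)), Iter σ Q k M s → Iter σ Q (k + 1) M s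
  | 0, M, s, h => hQ M s h
  | k + 1, M, s, h => iter_succ hQ k _ (tw σ s) h

theorem iter_le {V : X.Opens} {Q : ∀ M : X.Modules, Γ(M, V) → Prop}
    (hQ : ∀ M s, Q M s → Q (CohB1.tensorMod M N) (tw σ s)) {M : X.Modules} {s : Γ(M, V)} {k k' : ℕ}
    (hk : k ≤ k') (h : Iter σ Q k M s) : Iter σ Q k' M s := by
  induction hk with
  | refl => exact h
  | step _ ih => exact iter_succ σ hQ _ M s ih

theorem iter_rs {V V' : X.Opens} (h : V' ≤ V) {Q : ∀ M : X.Modules, Γ(M, V') → Prop} :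
    ∀ (k : ℕ) (M : X.Modules) (s : Γ(M, V)),
      Iter σ Q k M (rs M h s) ↔ Iter σ (fun M s => Q M (rs M h s)) k M s
  | 0, M, s => Iff.rfl
  | k + 1, M, s => by
    show Iter σ Q k _ (tw σ (rs M h s)) ↔ Iter σ (fun M s => Q M (rs M h s)) k _ (tw σ s)
    rw [← tw_rs]
    exact iter_rs h k _ _

theorem iter_zero {V : X.Opens} {Q : ∀ M : X.Modules, Γ(M, V) → Prop} (h0 : ∀ M, Q M 0) :
    ∀ (k : ℕ) (M : X.Modules), Iter σ Q k M 0
  | 0, M => h0 M
  | k + 1, M => by
    show Iter σ Q k _ (tw σ 0)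
    rw [tw_zero]
    exact iter_zero h0 k _

theorem iter_add {V : X.Opens} {Q : ∀ M : X.Modules, Γ(M, V) → Prop}
    (hadd : ∀ M s s', Q M s → Q M s' → Q M (s + s')) :
    ∀ (k : ℕ) (M : X.Modules) (s s' : Γ(M, V)), Iter σ Q k M s → Iter σ Q k M s' → Iter σ Q k M (s + s')
  | 0, M, s, s', h, h' => hadd M s s' h h'
  | k + 1, M, s, s', h, h' => by
    show Iter σ Q k _ (tw σ (s + s'))
    rw [tw_add]
    exact iter_add hadd k _ _ _ h h'

/-- A trivialisation of `N` over an affine open, in which `σ` cuts out the complement of `U`. -/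
def IsChart (U W : X.Opens) : Prop :=
  IsAffineOpen W ∧ ∃ (r : ℕ) (t : Fin r → Γ(N, W)) (f : Fin r → Γ(X, W)),
    IsBasisOn N W t ∧ rs N le_top σ = ∑ i, f i • t i ∧ U ⊓ W = ⨆ i, X.basicOpen (f i)

theorem IsChart.mono {U W W' : X.Opens} (h : IsChart σ U W) (hW' : IsAffineOpen W') (hle : W' ≤ W) :
    IsChart σ U W' := by
  obtain ⟨-, r, t, f, ht, hσ, hU⟩ := h
  refine ⟨hW', r, fun i => rs N hle (t i), fun i => ro hle (f i), ht.mono hle, ?_, ?_⟩
  · have h1 := congrArg (rs N hle) hσ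
    rw [rs_rs, Groth.L19.ProjBdl.rs_sum] at h1
    simpa only [rs_smul] using h1
  · have hb : ∀ i, X.basicOpen (ro hle (f i)) = W' ⊓ X.basicOpen (f i) := fun i =>
      Groth.L16.QcqsPush.basicOpen_ro hle (f i)
    simp only [hb]
    rw [← inf_iSup_eq, ← hU]
    exact le_antisymm (le_inf inf_le_right (le_inf inf_le_left (inf_le_right.trans hle)))
      (le_inf (inf_le_right.trans inf_le_left) inf_le_left)

/-- Monomials of high degree make everything hold. -/
theorem iter_of_pow {W V : X.Opens} (hVW : V ≤ W) {r : ℕ} (t : Fin r → Γ(N, W)) (f : Fin r → Γ(X, W))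
    (hσ : rs N le_top σ = ∑ i, f i • t i) {Q : ∀ M : X.Modules, Γ(M, V) → Prop}
    (h0 : ∀ M, Q M 0) (hadd : ∀ M s s', Q M s → Q M s' → Q M (s + s'))
    (hsmul : ∀ M (a : Γ(X, W)) s, Q M s → Q M (ro hVW a • s))
    (htens : ∀ M s i, Q M s → Q (CohB1.tensorMod M N) (tens M N V s (rs N hVW (t i)))) :
    ∀ (k : ℕ) (M : X.Modules) (s : Γ(M, V)) (D : Fin r → ℕ), ∑ i, D i ≤ k →
      (∀ i, Q M (ro hVW (f i) ^ D i • s)) → Iter σ Q (k + 1) M s := by
  have hexp : ∀ (M : X.Modules) (s : Γ(M, V)),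
      tw σ s = ∑ i, tens M N V (ro hVW (f i) • s) (rs N hVW (t i)) := fun M s => by
    have h1 := congrArg (rs N hVW) hσ
    rw [rs_rs, Groth.L19.ProjBdl.rs_sum] at h1
    refine (congrArg (tens M N V s) h1).trans ((tens_sum s _).trans (Finset.sum_congr rfl fun i _ => ?_))
    rw [rs_smul, tens_smul_right, tens_smul_left]
  have hsum : ∀ (k : ℕ) (M : X.Modules) (y : Fin r → Γ(M, V)), (∀ i, Iter σ Q k M (y i)) →
      Iter σ Q k M (∑ i, y i) := fun k M y hy =>
    Finset.sum_induction y (Iter σ Q k M) (iter_add σ hadd k M) (iter_zero σ h0 k M) fun i _ => hy i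
  intro k
  induction k with
  | zero =>
    intro M s D hD h
    show Q (CohB1.tensorMod M N) (tw σ s)
    rw [hexp]
    refine hsum 0 _ _ fun i => htens M _ i (hsmul M (f i) s ?_)
    have hi : D i = 0 := by
      have := Finset.single_le_sum (fun j _ => Nat.zero_le (D j)) (Finset.mem_univ i)
      omega
    have := h i
    rwa [hi, pow_zero, one_smul] at this
  | succ k ih =>
    intro M s D hD h
    show Iter σ Q (k + 1) (CohB1.tensorMod M N) (tw σ s)
    rw [hexp]
    refine hsum (k + 1) _ _ fun i => ?_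
    by_cases hi : D i = 0
    · refine ih _ _ (fun _ => 0) (by simp) fun j => ?_
      rw [pow_zero, one_smul]
      refine htens M _ i (hsmul M (f i) s ?_)
      have := h i
      rwa [hi, pow_zero, one_smul] at this
    · refine ih _ _ (Function.update D i (D i - 1)) ?_ fun j => ?_
      · have h1 := Finset.sum_update_of_mem (Finset.mem_univ i) D (D i - 1)
        have h2 := Finset.add_sum_erase Finset.univ D (Finset.mem_univ i)
        rw [Finset.sdiff_singleton_eq_erase] at h1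
        omega
      · rw [← tens_smul_left, ← mul_smul]
        refine htens M _ i ?_
        by_cases hj : j = i
        · subst hj
          rw [Function.update_self, ← pow_succ, Nat.sub_add_cancel (Nat.pos_of_ne_zero hi)]
          exact h j
        · rw [Function.update_of_ne hj, mul_comm, mul_smul]
          exact hsmul M (f i) _ (h j)

variable {U : X.Opens} (hN : FlatMod.IsFinLocFree N) (hch : ∀ x : X, ∃ W, x ∈ W ∧ IsChart σ U W)

include hch in
theorem exists_charts {V : X.Opens} (hV : IsCompact (V : Set X)) :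
    ∃ (ι : Type u) (_ : Finite ι) (W : ι → X.Opens),
      (∀ i, IsChart σ U (W i)) ∧ (∀ i, W i ≤ V) ∧ V ≤ iSup W := by
  have : ∀ x : V, ∃ W : X.Opens, IsChart σ U W ∧ x.1 ∈ W ∧ W ≤ V := fun x => by
    obtain ⟨W₀, hx₀, hW₀⟩ := hch x.1
    obtain ⟨_, ⟨W, hW, rfl⟩, hxW, hWV⟩ :=
      X.isBasis_affineOpens.exists_subset_of_mem_open (show x.1 ∈ V ⊓ W₀ from ⟨x.2, hx₀⟩) (V ⊓ W₀).2
    exact ⟨W, hW₀.mono σ hW fun y hy => (hWV hy).2, hxW, fun y hy => (hWV hy).1⟩
  choose W hW hxW hWV using this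
  obtain ⟨T, hT⟩ := hV.elim_finite_subcover (fun x : V => (W x : Set X)) (fun x => (W x).2)
    (fun x hx => Set.mem_iUnion.2 ⟨⟨x, hx⟩, hxW _⟩)
  refine ⟨T, inferInstance, fun x => W x.1, fun x => hW _, fun x => hWV _, fun x hx => ?_⟩
  obtain ⟨y, hy, hxy⟩ := Set.mem_iUnion₂.1 (hT hx)
  exact Opens.mem_iSup.2 ⟨⟨y, hy⟩, hxy⟩

theorem IsChart.isCompact_inf {W : X.Opens} (h : IsChart σ U W) : IsCompact ((U ⊓ W : X.Opens) : Set X) := by
  obtain ⟨hW, r, t, f, -, -, hU⟩ := h
  rw [hU, Opens.coe_iSup]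
  exact isCompact_iUnion fun i => (hW.basicOpen (f i)).isCompact

include hch in
theorem isCompact_inf {V : X.Opens} (hV : IsCompact (V : Set X)) : IsCompact ((U ⊓ V : X.Opens) : Set X) := by
  obtain ⟨ι, _, W, hW, hWV, hcov⟩ := exists_charts σ hch hV
  have : U ⊓ V = ⨆ i, U ⊓ W i := by
    rw [← inf_iSup_eq]
    exact le_antisymm (inf_le_inf_left _ hcov) (inf_le_inf_left _ (iSup_le hWV))
  rw [this, Opens.coe_iSup]
  exact isCompact_iUnion fun i => (hW i).isCompact_inf σ

include hch in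
/-- A section vanishing on `U` is killed by a power of `σ`. -/
theorem exists_kill {V : X.Opens} (hV : IsCompact (V : Set X)) (M : X.Modules) [Coh.IsQCoh M] (s : Γ(M, V))
    (hs : rs M (inf_le_right : U ⊓ V ≤ V) s = 0) :
    ∃ k, Iter σ (fun _ s => s = 0) k M s := by
  obtain ⟨ι, _, W, hW, hWV, hcov⟩ := exists_charts σ hch hV
  have hloc : ∀ i, ∃ k, Iter σ (fun _ s => s = 0) k M (rs M (hWV i) s) := fun i => by
    obtain ⟨hWa, r, t, f, -, hσ, hU⟩ := hW i
    have hd : ∀ j, ∃ d : ℕ, ro (le_refl (W i)) (f j) ^ d • rs M (hWV i) s = 0 := fun j => by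
      rw [ro_self]
      refine Groth.L16.QCohSect.exists_pow_smul_eq_zero hWa M (f j) _ ?_
      have hle : X.basicOpen (f j) ≤ U ⊓ V :=
        le_inf ((le_iSup (fun j => X.basicOpen (f j)) j).trans (hU.ge.trans inf_le_left))
          ((X.basicOpen_le _).trans (hWV i))
      have h1 := congrArg (rs M hle) hs
      rw [rs_rs] at h1
      rw [rs_rs]
      exact h1.trans (map_zero _)
    choose d hd using hd
    exact ⟨_, iter_of_pow σ le_rfl t f hσ (Q := fun _ s => s = 0) (fun _ => rfl)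
      (fun _ a b ha hb => by rw [ha, hb, add_zero]) (fun _ a b hb => by rw [hb, smul_zero])
      (fun _ a j ha => by rw [ha, zero_tens]) (∑ j, d j) M _ d le_rfl hd⟩
  choose k hk using hloc
  obtain ⟨K, hK⟩ := (Set.finite_range k).bddAbove
  have hK' : ∀ i, Iter σ (fun _ s => s = 0) K M (rs M (hWV i) s) := fun i =>
    iter_le σ (fun _ s hs => by rw [hs, tw_zero]) (hK ⟨i, rfl⟩) (hk i)
  refine ⟨K, ?_⟩
  have glue : ∀ (K : ℕ) (M : X.Modules) (s : Γ(M, V)),
      (∀ i, Iter σ (fun _ s => s = 0) K M (rs M (hWV i) s)) → Iter σ (fun _ s => s = 0) K M s := by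
    intro K
    induction K with
    | zero =>
      intro M s h
      refine TopCat.Sheaf.eq_of_locally_eq' (⟨M.presheaf, M.isSheaf⟩ : TopCat.Sheaf Ab X.toTopCat) W V
        (fun i => homOfLE (hWV i)) hcov _ _ fun i => (h i).trans (map_zero _).symm
    | succ K ih =>
      intro M s h
      refine ih _ _ fun i => ?_
      rw [tw_rs]
      exact h i
  exact glue K M s hK'

include hN hch in
/-- A section over `U` extends after twisting by a power of `σ`. -/
theorem exists_extend [CompactSpace X] [QuasiSeparatedSpace X] (M : X.Modules) [Coh.IsQCoh M] (s : Γ(M, U)) :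
    ∃ k, Iter σ (fun M s => ∃ t : Γ(M, ⊤), rs M (le_top : U ≤ ⊤) t = s) k M s := by
  obtain ⟨ι, _, W, hW, -, hcov⟩ := exists_charts σ hch (V := ⊤) isCompact_univ
  let Q : ∀ (i : ι) (M : X.Modules), Γ(M, U ⊓ W i) → Prop := fun i M s =>
    ∃ t : Γ(M, W i), rs M inf_le_right t = s
  have hloc : ∀ i, ∃ k, Iter σ (Q i) k M (rs M inf_le_left s) := fun i => by
    have hc := hW i
    obtain ⟨hWa, r, t, f, -, hσ, hU⟩ := hW i
    have hle : ∀ j, X.basicOpen (f j) ≤ U ⊓ W i := fun j => (le_iSup (fun j => X.basicOpen (f j)) j).trans hU.ge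
    have hd : ∀ j, ∃ d : ℕ, Q i M (ro (inf_le_right : U ⊓ W i ≤ W i) (f j) ^ d • rs M inf_le_left s) := fun j => by
      obtain ⟨n, c, hc'⟩ := Groth.L16.QCohSect.exists_pow_smul_eq_res hWa M (f j)
        (rs M ((hle j).trans inf_le_left) s)
      let a := ro (inf_le_right : U ⊓ W i ≤ W i) (f j)
      have ha : X.basicOpen a ≤ X.basicOpen (f j) :=
        (Groth.L16.QcqsPush.basicOpen_ro _ _).trans_le inf_le_right
      have h0 : rs M (X.basicOpen_le a) (rs M (inf_le_right : U ⊓ W i ≤ W i) c - a ^ n • rs M inf_le_left s) = 0 := by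
        have h1 := congrArg (rs M ha) hc'
        simp only [rs_rs, rs_smul, Groth.L16.QcqsPush.ro_pow, ro_ro] at h1
        refine (map_sub _ _ _).trans (sub_eq_zero.2 ?_)
        show rs M (X.basicOpen_le a) (rs M _ c) = rs M (X.basicOpen_le a) (a ^ n • rs M _ s)
        simp only [a, rs_rs, rs_smul, Groth.L16.QcqsPush.ro_pow, ro_ro]
        exact h1
      obtain ⟨m, hm⟩ := Groth.L16.QcqsPush.exists_pow_smul_eq_zero M (hc.isCompact_inf σ) a _ h0
      refine ⟨m + n, f j ^ m • c, ?_⟩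
      rw [rs_smul, Groth.L16.QcqsPush.ro_pow]
      rw [smul_sub, sub_eq_zero] at hm
      rw [hm, ← mul_smul, ← pow_add]
    choose d hd using hd
    exact ⟨_, iter_of_pow σ inf_le_right t f hσ (Q := Q i) (fun M => ⟨0, map_zero _⟩)
      (fun M a b ⟨ta, hta⟩ ⟨tb, htb⟩ => ⟨ta + tb, (map_add _ _ _).trans (congrArg₂ (· + ·) hta htb)⟩)
      (fun M a b ⟨tb, htb⟩ => ⟨a • tb, by rw [rs_smul, htb]⟩)
      (fun M a j ⟨ta, hta⟩ => ⟨tens M N (W i) ta (t j), by rw [tens_rs, hta]⟩) (∑ j, d j) M _ d le_rfl hd⟩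
  choose k hk using hloc
  obtain ⟨n, hn⟩ := (Set.finite_range k).bddAbove
  have hn' : ∀ i, Iter σ (Q i) n M (rs M inf_le_left s) := fun i =>
    iter_le σ (fun M a ⟨ta, hta⟩ => ⟨tw σ ta, by rw [tw_rs, hta]⟩) (hn ⟨i, rfl⟩) (hk i)
  have glue : ∀ (K : ℕ) (M : X.Modules) (s : Γ(M, U)) (t : ∀ i, Γ(M, W i)),
      (∀ i, rs M (inf_le_right : U ⊓ W i ≤ W i) (t i) = rs M inf_le_left s) →
      (∀ i j, Iter σ (fun _ s => s = 0) K M
        (rs M (inf_le_left : W i ⊓ W j ≤ W i) (t i) - rs M (inf_le_right : W i ⊓ W j ≤ W j) (t j))) →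
      Iter σ (fun M s => ∃ t : Γ(M, ⊤), rs M (le_top : U ≤ ⊤) t = s) K M s := by
    intro K
    induction K with
    | zero =>
      intro M s t ht h
      let OM : TopCat.Sheaf Ab.{u} X.toTopCat := ⟨M.presheaf, M.isSheaf⟩
      obtain ⟨g, hg, -⟩ := TopCat.Sheaf.existsUnique_gluing' OM W ⊤ (fun i => homOfLE le_top) hcov t
        (fun i j => sub_eq_zero.1 (h i j))
      refine ⟨g, OM.eq_of_locally_eq' (fun i => U ⊓ W i) U (fun i => homOfLE inf_le_left)
        (fun x hx => ?_) _ _ fun i => ?_⟩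
      · obtain ⟨i, hi⟩ := Opens.mem_iSup.1 (hcov (Opens.mem_top x))
        exact Opens.mem_iSup.2 ⟨i, hx, hi⟩
      · show rs M inf_le_left (rs M le_top g) = rs M inf_le_left s
        rw [rs_rs, ← ht i, ← (show rs M le_top g = t i from hg i), rs_rs]
    | succ K ih =>
      intro M s t ht h
      refine ih _ (tw σ s) (fun i => tw σ (t i)) (fun i => by rw [tw_rs, tw_rs, ht]) fun i j => ?_
      rw [tw_rs, tw_rs, ← tw_sub]
      exact h i j
  have main : ∀ (n : ℕ) (M : X.Modules), Coh.IsQCoh M → ∀ (s : Γ(M, U)),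
      (∀ i, Iter σ (Q i) n M (rs M inf_le_left s)) →
      ∃ k, Iter σ (fun M s => ∃ t : Γ(M, ⊤), rs M (le_top : U ≤ ⊤) t = s) k M s := by
    intro n
    induction n with
    | zero =>
      intro M hM s h
      haveI := hM
      choose t ht using h
      have hk : ∀ p : ι × ι, ∃ k, Iter σ (fun _ s => s = 0) k M
          (rs M (inf_le_left : W p.1 ⊓ W p.2 ≤ W p.1) (t p.1) - rs M (inf_le_right : W p.1 ⊓ W p.2 ≤ W p.2) (t p.2)) := by
        rintro ⟨i, j⟩
        refine exists_kill σ hch (quasiSeparatedSpace_iff_forall_affineOpens.mp inferInstance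
          ⟨_, (hW i).1⟩ ⟨_, (hW j).1⟩) M _ ?_
        have h1 := congrArg (rs M (inf_le_inf_left U inf_le_left : U ⊓ (W i ⊓ W j) ≤ U ⊓ W i)) (ht i)
        have h2 := congrArg (rs M (inf_le_inf_left U inf_le_right : U ⊓ (W i ⊓ W j) ≤ U ⊓ W j)) (ht j)
        rw [rs_rs, rs_rs] at h1 h2
        refine (map_sub _ _ _).trans (sub_eq_zero.2 ?_)
        show rs M _ (rs M _ _) = rs M _ (rs M _ _)
        rw [rs_rs, rs_rs, h1, h2]
      choose k hk using hk
      obtain ⟨K, hK⟩ := (Set.finite_range k).bddAbove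
      exact ⟨K, glue K M s t ht fun i j =>
        iter_le σ (fun _ s hs => by rw [hs, tw_zero]) (hK ⟨(i, j), rfl⟩) (hk (i, j))⟩
    | succ n ih =>
      intro M hM s h
      haveI := hM
      haveI : Coh.IsQCoh N := Groth.L29.DC.PCQCoh.isQCoh_of_isFinLocFree hN
      obtain ⟨k, hk⟩ := ih _ (Groth.L00.Tensor.isQCoh_tensorMod M N) (tw σ s) fun i => by
        rw [tw_rs]
        exact h i
      exact ⟨k + 1, hk⟩
  exact main n M ‹_› s hn'

/-- `s` is in the image of a map from a finite locally free module, as far as maps out of `M` see. -/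
def Good (M : X.Modules) (s : Γ(M, U)) : Prop :=
  ∃ (P : X.Modules) (h : P ⟶ M), FlatMod.IsFinLocFree P ∧
    ∀ (C : X.Modules) (c : M ⟶ C), h ≫ c = 0 → c.app U s = 0

include hN hch in
theorem eq_zero_of_tw {C : X.Modules} (z : Γ(C, U)) (h : tw σ z = 0) : z = 0 := by
  refine TopCat.Presheaf.section_ext ⟨C.presheaf, C.isSheaf⟩ U _ _ fun x hx => ?_
  obtain ⟨W, hxW, hWa, r, t, f, ht, hσ, hU⟩ := hch x
  obtain ⟨j, hj⟩ := Opens.mem_iSup.1 (hU.le ⟨hx, hxW⟩)
  let D := X.basicOpen (f j)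
  have hD : D ≤ U ⊓ W := (le_iSup (fun j => X.basicOpen (f j)) j).trans hU.ge
  have hDW : D ≤ W := X.basicOpen_le _
  have hDU : D ≤ U := hD.trans inf_le_left
  have h1 := congrArg (rs (CohB1.tensorMod C N) hDU) h
  rw [tw_rs, show rs (CohB1.tensorMod C N) hDU 0 = 0 from map_zero _] at h1
  have h2 : ∑ i, tens C N D (ro hDW (f i) • rs C hDU z) (rs N hDW (t i)) = 0 := by
    have hσ' := congrArg (rs N hDW) hσ
    rw [rs_rs, Groth.L19.ProjBdl.rs_sum] at hσ'
    refine Eq.trans ?_ ((congrArg (tens C N D (rs C hDU z)) hσ').symm.trans h1)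
    refine ((tens_sum _ _).trans (Finset.sum_congr rfl fun i _ => ?_)).symm
    rw [rs_smul, tens_smul_right, tens_smul_left]
  have h3 : ro hDW (f j) • rs C hDU z = 0 := congrFun (eq_zero_of_sum_tens hN C (ht.mono hDW) _ h2) j
  have hu : IsUnit (ro hDW (f j)) := RingedSpace.isUnit_res_basicOpen _ (f j)
  have h4 : rs C hDU z = 0 := hu.smul_eq_zero.1 h3
  rw [← Groth.L20.ModStalk.germ_rs C hDU hj z, h4, map_zero]
  exact (map_zero _).symm

include hN hch in
theorem good_of_iter : ∀ (k : ℕ) (M : X.Modules) (s : Γ(M, U)),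
    Iter σ (fun M s => ∃ t : Γ(M, ⊤), rs M (le_top : U ≤ ⊤) t = s) k M s → Good M s
  | 0, M, s, ⟨t, ht⟩ => by
    refine ⟨Coh.structureModule X, Groth.L16.homOfSection M t,
      Groth.L20.ResDescent.isFinLocFree_of_isInvertible fun _ => ⟨⊤, trivial,
        ⟨(Scheme.Modules.restrictFunctorIsoPullback (⊤ : X.Opens).ι).app _ ≪≫
          Groth.L29.LocFree.pullbackUnitIso _⟩⟩, fun C c hc => ?_⟩
    have h1 : c.app ⊤ t = 0 := by
      have h2 := congr($(congrArg (fun k => Scheme.Modules.Hom.app k ⊤) hc) (1 : Γ(X, ⊤)))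
      refine Eq.trans ?_ h2
      exact (congrArg (c.app ⊤) (Groth.L18.GenLoc.secOf_homOfSection t)).symm
    rw [← ht, Groth.L19.ProjBdl.app_rs, h1]
    exact map_zero _
  | k + 1, M, s, h => by
    obtain ⟨Q, g, hQ, hg⟩ := good_of_iter k _ (tw σ s) h
    haveI : ModSite.HasSheafHom (O := X.sheaf) N := Groth.L17.Duality.hasSheafHom N
    let D := Groth.L17.Duality.dualAdj N hN
    haveI : (Groth.L00.Tensor.tensorRightF N).IsRightAdjoint := D.isRightAdjoint
    let g' : Q ⟶ (Groth.L00.Tensor.tensorRightF N).obj M := g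
    refine ⟨_, (D.homEquiv Q M).symm g', Groth.L29.DC.isFinLocFree_tensor hQ
      (Groth.L20.ResDescent.isFinLocFree_dual N hN), fun C c hc => eq_zero_of_tw σ hN hch _ ?_⟩
    have h1 : g' ≫ (Groth.L00.Tensor.tensorRightF N).map c = 0 := by
      have h2 := D.homEquiv_naturality_right ((D.homEquiv Q M).symm g') c
      rw [hc, Equiv.apply_symm_apply] at h2
      refine h2.symm.trans ?_
      rw [Adjunction.homEquiv_unit, Functor.map_zero, comp_zero]
    exact (tensorMap_tens c s _).symm.trans (hg _ _ h1)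

/-- A global section of the dual, from a functional. -/
theorem exists_dualSection (E : X.Modules) [ModSite.HasSheafHom (O := X.sheaf) E] (hE : FlatMod.IsFinLocFree E)
    (φ : E ⟶ Coh.structureModule X) :
    ∃ σ : Γ(Groth.L17.Duality.dual E, ⊤), ∀ (W : X.Opens) (r : ℕ) (e : Fin r → Γ(E, W)),
      IsBasisOn E W e → ∃ t : Fin r → Γ(Groth.L17.Duality.dual E, W),
        IsBasisOn (Groth.L17.Duality.dual E) W t ∧
          rs (Groth.L17.Duality.dual E) le_top σ = ∑ i, (show Γ(X, W) from φ.app W (e i)) • t i := by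
  let P : Groth.L00.ModSiteTensor.PMo X.sheaf := 𝟙_ _
  let w := (Groth.L17.LocBases.ψ (O := X.sheaf) E (Coh.structureModule X) P).symm
    ((λ_ _).hom ≫ (Groth.L00.ModSiteTensor.preF X.sheaf).map φ)
  let σ₀ : ∀ W : X.Opens, Γ(Groth.L17.Duality.dual E, W) := fun W => w.app (op W) (1 : Γ(X, W))
  have hσ₀ : ∀ (W : X.Opens), rs (Groth.L17.Duality.dual E) (le_top : W ≤ ⊤) (σ₀ ⊤) = σ₀ W := fun W =>
    (PresheafOfModules.naturality_apply w (homOfLE (le_top : W ≤ ⊤)).op (1 : Γ(X, ⊤))).symm.trans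
      (congrArg (w.app (op W)) (map_one (X.presheaf.map (homOfLE (le_top : W ≤ ⊤)).op).hom))
  refine ⟨σ₀ ⊤, fun W r e he => ?_⟩
  let hb := he.locBases
  refine ⟨Groth.L17.LocBases.dualBasis hb,
    Groth.L19.ProjBdl.isBasisOn_of_locBases (Groth.L17.LocBases.isBasis_dualBasis hb), ?_⟩
  rw [hσ₀]
  refine Groth.L17.LocBases.injective_coord (O := X.sheaf) hb (funext fun i => ?_)
  have h1 := Groth.L17.LocBases.ψ_app (O := X.sheaf) E w (W := W) (1 : Γ(X, W)) (e i)
  simp only [w, AddEquiv.apply_symm_apply] at h1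
  refine h1.symm.trans ?_
  refine (congrArg (φ.app W) (one_smul Γ(X, W) (e i))).trans ?_
  have h2 := Groth.L17.LocBases.ev_lc_dualBasis (O := X.sheaf) hb (𝟙 W) (fun j => φ.app W (e j)) i
  simp only [Groth.L17.LocBases.res_id] at h2
  exact h2.symm

/-- The charts of the section given by a surjection onto an ideal. -/
theorem exists_boundary (I : X.IdealSheafData) (hI : (I.support : Set X) = (U : Set X)ᶜ) (E : X.Modules)
    (π : E ⟶ ClSub.idealMod I) (hE : FlatMod.IsFinLocFree E) [Epi π] :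
    ∃ (N : X.Modules) (σ : Γ(N, ⊤)), FlatMod.IsFinLocFree N ∧ ∀ x : X, ∃ W, x ∈ W ∧ IsChart σ U W := by
  haveI : ModSite.HasSheafHom (O := X.sheaf) E := Groth.L17.Duality.hasSheafHom E
  haveI : Coh.IsQCoh E := Groth.L29.DC.PCQCoh.isQCoh_of_isFinLocFree hE
  haveI : Coh.IsQCoh (ClSub.idealMod I) := Groth.L18.IdealModule.isQCoh_idealMod I
  obtain ⟨σ, hσ⟩ := exists_dualSection E hE (π ≫ ClSub.idealModι I)
  refine ⟨_, σ, Groth.L20.ResDescent.isFinLocFree_dual E hE, fun x => ?_⟩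
  obtain ⟨W, r, e, hW, hxW, -, he⟩ := Groth.L19.ProjBdl.exists_basisOn hE x ⊤ trivial
  obtain ⟨t, ht, hσt⟩ := hσ W r e he
  let f : Fin r → Γ(X, W) := fun i => (π ≫ ClSub.idealModι I).app W (e i)
  refine ⟨W, hxW, hW, r, t, f, ht, hσt, ?_⟩
  have hspan : I.ideal ⟨W, hW⟩ = Ideal.span (Set.range f) := by
    refine le_antisymm (fun a ha => ?_) (Ideal.span_le.2 ?_)
    · obtain ⟨m, hm⟩ := (Groth.L18.IdealModule.mem_ideal_iff I hW a).1 ha
      obtain ⟨v, rfl⟩ := Groth.L18.AffineCrit.surjective_app_of_epi_affine π hW m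
      obtain ⟨c, rfl⟩ := (he W le_rfl).2 v
      rw [← hm]
      refine Ideal.mem_span_range_iff_exists_fun.2 ⟨c, ?_⟩
      refine Eq.symm ?_
      show (π ≫ ClSub.idealModι I).app W (Groth.L19.ProjBdl.lc E e le_rfl c) = _
      rw [Groth.L19.ProjBdl.app_lc]
      refine Finset.sum_congr rfl fun i _ => ?_
      rw [rs_self]
      rfl
    · rintro _ ⟨i, rfl⟩
      exact (Groth.L18.IdealModule.mem_ideal_iff I hW _).2 ⟨π.app W (e i), rfl⟩
  ext y
  simp only [Opens.coe_inf, Opens.coe_iSup, Set.mem_inter_iff, Set.mem_iUnion, SetLike.mem_coe]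
  have hy : ∀ y ∈ W, (y ∈ I.support ↔ ∀ i, y ∉ X.basicOpen (f i)) := fun y hy => by
    rw [Scheme.IdealSheafData.mem_support_iff_of_mem (U := ⟨W, hW⟩) hy, hspan, Scheme.zeroLocus_span,
      Scheme.mem_zeroLocus_iff, Set.forall_mem_range]
  constructor
  · rintro ⟨hyU, hyW⟩
    by_contra hne
    exact hI.le ((hy y hyW).2 (not_exists.1 hne)) hyU
  · rintro ⟨i, hi⟩
    have hyW := X.basicOpen_le _ hi
    exact ⟨not_not.1 fun h => (hy y hyW).1 (hI.ge h) i hi, hyW⟩

/-- The resolution property from sections of vector bundles cutting out an affine covering. -/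
theorem hasResolutionProperty_of_charts {m : ℕ} (U : Fin m → X.Opens) (hUaff : ∀ j, IsAffineOpen (U j))
    (hcov : ⨆ j, U j = ⊤) {N : Fin m → X.Modules} (σ : ∀ j, Γ(N j, ⊤))
    (hN : ∀ j, FlatMod.IsFinLocFree (N j)) (hch : ∀ j, ∀ x : X, ∃ W, x ∈ W ∧ IsChart (σ j) (U j) W) :
    PerfAux.HasResolutionProperty X := by
  have hcov' : ∀ x : X, ∃ j, x ∈ U j := fun x => Opens.mem_iSup.1 (hcov.ge (Opens.mem_top x))
  haveI : CompactSpace X := ⟨by
    rw [← Opens.coe_top, ← hcov, Opens.coe_iSup]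
    exact isCompact_iUnion fun j => (hUaff j).isCompact⟩
  haveI : QuasiSeparatedSpace X := quasiSeparatedSpace_iff_forall_affineOpens.mpr fun A B => by
    have : ((A.1 : Set X) ∩ B.1) = ⋃ j, ((U j ⊓ A.1 : X.Opens) : Set X) ∩ ((U j ⊓ B.1 : X.Opens) : Set X) := by
      ext y
      simp only [Opens.coe_inf, Set.mem_iUnion, Set.mem_inter_iff, SetLike.mem_coe]
      exact ⟨fun hy => (hcov' y).elim fun j hj => ⟨j, ⟨hj, hy.1⟩, hj, hy.2⟩, fun ⟨j, a, b⟩ => ⟨a.2, b.2⟩⟩
    rw [this]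
    refine isCompact_iUnion fun j => ?_
    haveI : IsAffine (U j).toScheme := hUaff j
    haveI : IsSeparated (terminal.from (U j).toScheme) := inferInstance
    have hc : ∀ V : X.Opens, IsCompact (((U j ⊓ V : X.Opens)) : Set X) → IsCompact (((U j).ι ⁻¹ᵁ V : (U j).toScheme.Opens) : Set (U j).toScheme) := by
      intro V hV
      rw [(U j).ι.isOpenEmbedding.isEmbedding.isCompact_iff, ← Scheme.Hom.coe_image,
        Scheme.Hom.image_preimage_eq_opensRange_inf, Scheme.Opens.opensRange_ι]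
      exact hV
    have h1 := hc _ (isCompact_inf (σ j) (hch j) A.2.isCompact)
    have h2 := hc _ (isCompact_inf (σ j) (hch j) B.2.isCompact)
    have h3 := (QuasiSeparatedSpace.inter_isCompact _ _ ((U j).ι ⁻¹ᵁ A.1).2 h1 ((U j).ι ⁻¹ᵁ B.1).2 h2).image
      (U j).ι.continuous
    convert h3 using 1
    ext y
    simp only [Opens.coe_inf, Set.mem_inter_iff, Set.mem_image, SetLike.mem_coe]
    exact ⟨fun hy => ⟨⟨y, hy.1.1⟩, ⟨hy.1.2, hy.2.2⟩, rfl⟩, fun ⟨z, hz, hzy⟩ => hzy ▸ ⟨⟨z.2, hz.1⟩, z.2, hz.2⟩⟩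
  intro M hMq hMft
  haveI : Coh.IsQCoh M := hMq
  choose n t ht using fun j => (Groth.L20.ModStalk.finite_sections M ⟨hMq, hMft⟩ (hUaff j)).exists_fin
  have hgood : ∀ i : Σ j, Fin (n j), Good M (t i.1 i.2) := fun i => by
    obtain ⟨k, hk⟩ := exists_extend (σ i.1) (hN i.1) (hch i.1) M (t i.1 i.2)
    exact good_of_iter (σ i.1) (hN i.1) (hch i.1) k M _ hk
  choose P g hP hg using hgood
  obtain ⟨Q, q, hQ, hq⟩ := Groth.L20.ResDescent.exists_coprod (ι := ULift.{u} (Σ j, Fin (n j)))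
    (fun i => P i.down) (fun i => hP i.down) (fun i => g i.down)
  refine ⟨Q, q, hQ, Abelian.epi_of_cokernel_π_eq_zero _ ?_⟩
  let c := cokernel.π q
  have hker := hq _ c (cokernel.condition q)
  refine Groth.L20.ResDescent.eq_zero_of_affine c fun y => ?_
  obtain ⟨j, hyj⟩ := hcov' y
  refine ⟨U j, hUaff j, hyj, fun a => ?_⟩
  have ha : a ∈ Submodule.span Γ(X, U j) (Set.range (t j)) := (ht j).ge Submodule.mem_top
  induction ha using Submodule.span_induction with
  | mem z hz => obtain ⟨k, rfl⟩ := hz; exact hg ⟨j, k⟩ _ c (hker ⟨⟨j, k⟩⟩)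
  | zero => exact map_zero _
  | add a b _ _ ha hb => rw [map_add, ha, hb, add_zero]
  | smul a z _ hz => rw [Scheme.Modules.Hom.app_smul, hz, smul_zero]

/-- The resolution property from boundary ideals which are quotients of finite locally free modules. -/
theorem hasResolutionProperty {m : ℕ} (U : Fin m → X.Opens) (hUaff : ∀ j, IsAffineOpen (U j))
    (hcov : ⨆ j, U j = ⊤) (I : Fin m → X.IdealSheafData)
    (hIsupp : ∀ j, ((I j).support : Set X) = (U j : Set X)ᶜ)
    (h : ∀ j, ∃ (E : X.Modules) (π : E ⟶ ClSub.idealMod (I j)), FlatMod.IsFinLocFree E ∧ Epi π) :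
    PerfAux.HasResolutionProperty X := by
  choose E π hE hπ using h
  choose N σ hN hch using fun j =>
    haveI := hπ j
    exists_boundary (U := U j) (I j) (hIsupp j) (E j) (π j) (hE j)
  exact hasResolutionProperty_of_charts U hUaff hcov σ hN hch

end Groth.L19.ResBdry
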