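import Groth.Agent.L19.ResBoundary
import Groth.Agent.L19.LimMod.Free
import Groth.Agent.L19.LimMod.Lift
import Groth.Agent.L19.LimMod.Descend
import Groth.Agent.L17.Approx.Extend
import Groth.Agent.L18.LocFreeFP
import Groth.Agent.L20.ResAffine
import Groth.Agent.S4788
import Groth.Agent.S4791

/-!
# The resolution property and limits
-/

set_option autoImplicit false
set_option linter.style.haveILetI false
set_option backward.isDefEq.respectTransparency.types false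
set_option backward.isDefEq.respectTransparency false

universe u

open CategoryTheory CategoryTheory.Limits AlgebraicGeometry TopologicalSpace Opposite

noncomputable section

namespace Groth.L19.ResBdry

open Groth.L18.Frame (rs ro rs_rs ro_ro rs_smul ro_self rs_self pull pull_rs pull_smul)
open Groth.L19.ProjBdl (IsBasisOn)

variable {X : Scheme.{u}}

theorem basicOpen_sum_le {W : X.Opens} {ι : Type*} (s : Finset ι) (a : ι → Γ(X, W)) {O : X.Opens}
    (h : ∀ i ∈ s, X.basicOpen (a i) ≤ O) : X.basicOpen (∑ i ∈ s, a i) ≤ O :=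
  Finset.sum_induction a (fun z => X.basicOpen z ≤ O)
    (fun u v hu hv => (X.basicOpen_add_le u v).trans (sup_le hu hv)) (by simp) h

variable {N : X.Modules} {σ : Γ(N, ⊤)}

theorem le_of_data {W W' : X.Opens} {r r' : ℕ} {t : Fin r → Γ(N, W)} {f : Fin r → Γ(X, W)}
    {t' : Fin r' → Γ(N, W')} {f' : Fin r' → Γ(X, W')} (ht : IsBasisOn N W t) (ht' : IsBasisOn N W' t')
    (hf : rs N le_top σ = ∑ i, f i • t i) (hf' : rs N le_top σ = ∑ i, f' i • t' i) (i : Fin r) :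
    W' ⊓ X.basicOpen (f i) ≤ ⨆ j, X.basicOpen (f' j) := by
  let V := W ⊓ W'
  have hV : V ≤ W := inf_le_left
  have hV' : V ≤ W' := inf_le_right
  choose c hc using fun j => (ht V hV).2 (rs N hV' (t' j))
  have h2 : rs N (le_top : V ≤ ⊤) σ = Groth.L19.ProjBdl.lc N t' hV' fun j => ro hV' (f' j) := by
    have h := congrArg (rs N hV') hf'
    rw [rs_rs, Groth.L19.ProjBdl.rs_sum] at h
    simp only [rs_smul] at h
    exact h
  have h1 : rs N (le_top : V ≤ ⊤) σ = Groth.L19.ProjBdl.lc N t hV fun j => ro hV (f j) := by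
    have h := congrArg (rs N hV) hf
    rw [rs_rs, Groth.L19.ProjBdl.rs_sum] at h
    simp only [rs_smul] at h
    exact h
  have h3 : rs N (le_top : V ≤ ⊤) σ = Groth.L19.ProjBdl.lc N t hV fun i => ∑ j, ro hV' (f' j) * c j i := by
    rw [h2]
    refine (Finset.sum_congr rfl fun j _ => congrArg (ro hV' (f' j) • ·) (hc j).symm).trans ?_
    simp only [Groth.L19.ProjBdl.lc, Finset.smul_sum, ← mul_smul, Finset.sum_smul]
    exact Finset.sum_comm
  have h4 := congrFun ((ht V hV).1 (h1.symm.trans h3)) i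
  have h5 : X.basicOpen (ro hV (f i)) = V ⊓ X.basicOpen (f i) := Groth.L16.QcqsPush.basicOpen_ro hV _
  have h6 : W' ⊓ X.basicOpen (f i) ≤ X.basicOpen (ro hV (f i)) :=
    h5.ge.trans' (le_inf (le_inf (inf_le_right.trans (X.basicOpen_le _)) inf_le_left) inf_le_right)
  refine h6.trans ?_
  rw [show ro hV (f i) = ∑ j, ro hV' (f' j) * c j i from h4]
  refine basicOpen_sum_le _ _ fun j _ => ?_
  rw [X.basicOpen_mul, Groth.L16.QcqsPush.basicOpen_ro hV' (f' j)]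
  exact (inf_le_left.trans inf_le_right).trans (le_iSup (fun j => X.basicOpen (f' j)) j)

/-- Charts determine the open set. -/
theorem le_of_charts {U U' : X.Opens} (h : ∀ x : X, ∃ W, x ∈ W ∧ IsChart σ U W)
    (h' : ∀ x : X, ∃ W, x ∈ W ∧ IsChart σ U' W) : U ≤ U' := fun x hx => by
  obtain ⟨W, hxW, -, r, t, f, ht, hf, hU⟩ := h x
  obtain ⟨W', hxW', -, r', t', f', ht', hf', hU'⟩ := h' x
  obtain ⟨i, hi⟩ := Opens.mem_iSup.1 (hU.le ⟨hx, hxW⟩)
  exact (hU'.ge (le_of_data ht ht' hf hf' i ⟨hxW', hi⟩)).1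

variable (σ) in
/-- Charts exist. -/
theorem exists_opens (hN : FlatMod.IsFinLocFree N) :
    ∃ U : X.Opens, ∀ x : X, ∃ W, x ∈ W ∧ IsChart σ U W := by
  choose W n t hW hxW _ ht using fun x : X => Groth.L19.ProjBdl.exists_basisOn hN x ⊤ trivial
  choose f hf using fun x => (ht x (W x) le_rfl).2 (rs N le_top σ)
  have hσ : ∀ x, rs N le_top σ = ∑ i, f x i • t x i := fun x => by
    refine (hf x).symm.trans (Finset.sum_congr rfl fun i _ => ?_)
    rw [rs_self]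
  refine ⟨⨆ x, ⨆ i, X.basicOpen (f x i), fun x => ⟨W x, hxW x, hW x, n x, t x, f x, ht x, hσ x, ?_⟩⟩
  refine le_antisymm ?_ (le_inf (le_iSup (fun y => ⨆ i, X.basicOpen (f y i)) x) (iSup_le fun i => X.basicOpen_le _))
  rw [iSup_inf_eq]
  refine iSup_le fun y => ?_
  rw [iSup_inf_eq]
  refine iSup_le fun i => ?_
  rw [inf_comm]
  exact le_of_data (ht y) (ht x) (hσ y) (hσ x) i

/-- Charts pull back. -/
theorem IsChart.pullback {Z : Scheme.{u}} (g : Z ⟶ X) [IsAffineHom g] {U W : X.Opens} (h : IsChart σ U W) :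
    IsChart (pull g N ⊤ σ) (g ⁻¹ᵁ U) (g ⁻¹ᵁ W) := by
  obtain ⟨hW, r, t, f, ht, hf, hU⟩ := h
  refine ⟨hW.preimage g, r, fun i => pull g N W (t i), fun i => g.app W (f i), ht.pullback g, ?_, ?_⟩
  · refine (pull_rs g N (le_top : W ≤ ⊤) σ).trans ?_
    rw [hf]
    refine (map_sum (((Scheme.Modules.pullbackPushforwardAdjunction g).unit.app N).app W).hom _ _).trans ?_
    exact Finset.sum_congr rfl fun i _ => pull_smul g N (f i) (t i)
  · simp only [← Scheme.preimage_basicOpen]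
    rw [← Scheme.Hom.preimage_iSup, ← hU]
    rfl

theorem isBasisOn_iso {N' : X.Modules} (e : N ≅ N') {W : X.Opens} {r : ℕ} {t : Fin r → Γ(N, W)}
    (ht : IsBasisOn N W t) : IsBasisOn N' W fun i => e.hom.app W (t i) := fun V h => by
  rw [show Groth.L19.ProjBdl.lc N' (fun i => e.hom.app W (t i)) h = e.hom.app V ∘ Groth.L19.ProjBdl.lc N t h from
    funext fun c => (Groth.L19.ProjBdl.app_lc e.hom t h c).symm]
  exact (ConcreteCategory.bijective_of_isIso (e.hom.app V)).comp (ht V h)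

/-- Charts transport along isomorphisms. -/
theorem IsChart.of_iso {N' : X.Modules} (e : N ≅ N') {U W : X.Opens} (h : IsChart σ U W) :
    IsChart (e.hom.app ⊤ σ) U W := by
  obtain ⟨hW, r, t, f, ht, hf, hU⟩ := h
  refine ⟨hW, r, fun i => e.hom.app W (t i), f, isBasisOn_iso e ht, ?_, hU⟩
  rw [← Groth.L19.ProjBdl.app_rs, hf]
  exact (map_sum (e.hom.app W).hom _ _).trans (Finset.sum_congr rfl fun i _ => e.hom.app_smul _ _)

/-- With the resolution property every quasi-compact open is cut out by a section of a vector bundle. -/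
theorem exists_section [CompactSpace X] [QuasiSeparatedSpace X] (hX : PerfAux.HasResolutionProperty X)
    (U : X.Opens) (hU : IsCompact (U : Set X)) :
    ∃ (N : X.Modules) (σ : Γ(N, ⊤)), FlatMod.IsFinLocFree N ∧ ∀ x : X, ∃ W, x ∈ W ∧ IsChart σ U W := by
  classical
  let J := Scheme.IdealSheafData.vanishingIdeal ⟨(U : Set X)ᶜ, U.2.isClosed_compl⟩
  have hJ : ∀ (W : X.affineOpens) (y : X), y ∈ W.1 → (y ∈ U ↔ ∃ g ∈ J.ideal W, y ∈ X.basicOpen g) := by
    intro W y hy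
    have h1 : (J.support : Set X) = (U : Set X)ᶜ := Groth.L18.support_vanishingIdeal _
    have h2 := Scheme.IdealSheafData.mem_support_iff_of_mem (I := J) (U := W) hy
    rw [Scheme.mem_zeroLocus_iff] at h2
    constructor
    · intro hyU
      by_contra hne
      exact h1.le (h2.2 fun g hg hgy => hne ⟨g, hg, hgy⟩) hyU
    · rintro ⟨g, hg, hgy⟩
      exact not_not.1 fun h => h2.1 (h1.ge h) g hg hgy
  let A := ClSub.idealMod J
  haveI : Coh.IsQCoh A := Groth.L18.IdealModule.isQCoh_idealMod J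
  obtain ⟨ι, _, V, hV, -, hcov⟩ := Groth.L16.QcqsPush.exists_affine_cover (X := X) (U := ⊤) isCompact_univ
  have hgen : ∀ k, ∃ T : Finset Γ(X, V k), (∀ g ∈ T, g ∈ J.ideal ⟨V k, hV k⟩) ∧
      U ⊓ V k ≤ ⨆ g ∈ T, X.basicOpen g := fun k => by
    have hc : IsCompact ((U ⊓ V k : X.Opens) : Set X) :=
      QuasiSeparatedSpace.inter_isCompact _ _ U.2 hU (V k).2 (hV k).isCompact
    obtain ⟨T, hT⟩ := hc.elim_finite_subcover (fun g : J.ideal ⟨V k, hV k⟩ => (X.basicOpen g.1 : Set X))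
      (fun g => (X.basicOpen g.1).2) (fun y hy => by
        obtain ⟨g, hg, hgy⟩ := (hJ ⟨V k, hV k⟩ y hy.2).1 hy.1
        exact Set.mem_iUnion.2 ⟨⟨g, hg⟩, hgy⟩)
    refine ⟨T.image Subtype.val, fun g hg => ?_, fun y hy => ?_⟩
    · obtain ⟨g', -, rfl⟩ := Finset.mem_image.1 hg
      exact g'.2
    · obtain ⟨g, hg, hgy⟩ := Set.mem_iUnion₂.1 (hT hy)
      exact Opens.mem_iSup.2 ⟨g.1, Opens.mem_iSup.2 ⟨Finset.mem_image_of_mem _ hg, hgy⟩⟩
  choose T hT hTcov using hgen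
  choose m hm using fun (k : ι) (g : T k) =>
    (Groth.L18.IdealModule.mem_ideal_iff J (hV k) g.1).1 (hT k g.1 g.2)
  haveI := Fintype.ofFinite ι
  obtain ⟨F, i, hi, hF, hmem⟩ := Groth.L17.Approx.exists_submodule_finset A V (fun k => (hV k).isCompact)
    (fun k => T k) (fun k g => m k g) Finset.univ
  obtain ⟨E, p, hE, hp⟩ := hX F hF.1 hF.2
  haveI := hp
  haveI : Coh.IsQCoh F := hF.1
  haveI : Coh.IsQCoh E := Groth.L29.DC.PCQCoh.isQCoh_of_isFinLocFree hE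
  haveI : ModSite.HasSheafHom (O := X.sheaf) E := Groth.L17.Duality.hasSheafHom E
  obtain ⟨σ, hσ⟩ := exists_dualSection E hE (p ≫ i ≫ ClSub.idealModι J)
  refine ⟨_, σ, Groth.L20.ResDescent.isFinLocFree_dual E hE, fun x => ?_⟩
  obtain ⟨W, r, e, hW, hxW, -, he⟩ := Groth.L19.ProjBdl.exists_basisOn hE x ⊤ trivial
  obtain ⟨t, ht, hσt⟩ := hσ W r e he
  let φ := p ≫ i ≫ ClSub.idealModι J
  let f : Fin r → Γ(X, W) := fun q => φ.app W (e q)
  refine ⟨W, hxW, hW, r, t, f, ht, hσt, le_antisymm (fun y hy => ?_) (iSup_le fun q => le_inf ?_ (X.basicOpen_le _))⟩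
  · obtain ⟨k, hk⟩ := Opens.mem_iSup.1 (hcov (Opens.mem_top y))
    obtain ⟨g, hg⟩ := Opens.mem_iSup.1 (hTcov k ⟨hy.1, hk⟩)
    obtain ⟨hgT, hgy⟩ := Opens.mem_iSup.1 hg
    obtain ⟨z, hz⟩ := hmem k (Finset.mem_univ k) ⟨g, hgT⟩
    obtain ⟨_, ⟨B, hB, rfl⟩, hyB, hBsub⟩ :=
      X.isBasis_affineOpens.exists_subset_of_mem_open (show y ∈ V k ⊓ W from ⟨hk, hy.2⟩) (V k ⊓ W).2
    replace hB : IsAffineOpen B := hB
    have hBV : B ≤ V k := fun w hw => (hBsub hw).1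
    have hBW : B ≤ W := fun w hw => (hBsub hw).2
    obtain ⟨v, hv⟩ := Groth.L18.AffineCrit.surjective_app_of_epi_affine p hB (rs F hBV z)
    obtain ⟨c, rfl⟩ := (he B hBW).2 v
    have h1 : ro hBV g = ∑ q, c q * ro hBW (f q) := by
      have h2 : φ.app B (Groth.L19.ProjBdl.lc E e hBW c) = ro hBV g := by
        show (ClSub.idealModι J).app B (i.app B (p.app B (Groth.L19.ProjBdl.lc E e hBW c))) = _
        rw [hv, Groth.L19.ProjBdl.app_rs i, hz]
        refine (Groth.L19.ProjBdl.app_rs (ClSub.idealModι J) hBV _).trans ?_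
        exact congrArg (ro hBV) (hm k ⟨g, hgT⟩)
      rw [← h2, Groth.L19.ProjBdl.app_lc]
      rfl
    have hy' : y ∈ X.basicOpen (ro hBV g) := (Groth.L16.QcqsPush.basicOpen_ro hBV g).ge ⟨hyB, hgy⟩
    rw [h1] at hy'
    refine basicOpen_sum_le (O := ⨆ q, X.basicOpen (f q)) _ _ (fun q _ => ?_) hy'
    rw [X.basicOpen_mul, Groth.L16.QcqsPush.basicOpen_ro hBW (f q)]
    exact (inf_le_right.trans inf_le_right).trans (le_iSup (fun q => X.basicOpen (f q)) q)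
  · intro y hy
    exact (hJ ⟨W, hW⟩ y (X.basicOpen_le _ hy)).2
      ⟨f q, (Groth.L18.IdealModule.mem_ideal_iff J hW _).2 ⟨i.app W (p.app W (e q)), rfl⟩, hy⟩

variable {I : Type u} [SmallCategory I] [IsCofiltered I] (D : I ⥤ Scheme.{u}) (c : Cone D)
  [∀ (i j : I) (a : i ⟶ j), IsAffineHom (D.map a)] [∀ i, CompactSpace (D.obj i)]
  [∀ i, QuasiSeparatedSpace (D.obj i)]

/-- A section of a vector bundle in the limit with its open set comes from a stage. -/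
theorem exists_stage (hc : IsLimit c) (i₀ : I) (U₀ : (D.obj i₀).Opens) (hU₀ : IsCompact (U₀ : Set (D.obj i₀)))
    {N : c.pt.Modules} (hN : FlatMod.IsFinLocFree N) (σ : Γ(N, ⊤))
    (hσ : ∀ x : c.pt, ∃ W, x ∈ W ∧ IsChart σ (c.π.app i₀ ⁻¹ᵁ U₀) W) :
    ∃ (k : I) (φ : k ⟶ i₀) (Nk : (D.obj k).Modules) (σk : Γ(Nk, ⊤)), FlatMod.IsFinLocFree Nk ∧
      ∀ x : D.obj k, ∃ W, x ∈ W ∧ IsChart σk (D.map φ ⁻¹ᵁ U₀) W := by
  haveI : Coh.IsQCoh N := Groth.L29.DC.PCQCoh.isQCoh_of_isFinLocFree hN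
  obtain ⟨i₁, φ₁, F, hFq, hFfp, ⟨e⟩⟩ :=
    Groth.Agent.S4788.result D c hc i₀ N (Groth.L18.LFP.isFP_of_isFinLocFree N hN)
  haveI := hFq
  obtain ⟨i₂, φ₂, hlf⟩ := (Groth.Agent.S4791.result D c hc i₁ F hFfp).1
    (Groth.L29.LocFree.of_iso e.symm hN)
  let F₂ := (Scheme.Modules.pullback (D.map φ₂)).obj F
  haveI : Coh.IsQCoh F₂ := Groth.L29.DC.PCQCoh.isQCoh_of_isFinLocFree hlf
  let e₂ : (Scheme.Modules.pullback (c.π.app i₂)).obj F₂ ≅ N :=
    Groth.L19.LimMod.cmp (c.π.app i₂) (D.map φ₂) (c.w φ₂) F ≪≫ e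
  let O₂ := Coh.structureModule (D.obj i₂)
  haveI : Coh.IsQCoh O₂ := Groth.L19.Conormal.isQCoh_structureModule _
  let τ : Γ((Scheme.Modules.pullback (c.π.app i₂)).obj F₂, ⊤) := e₂.inv.app ⊤ σ
  let adj := Scheme.Modules.pullbackPushforwardAdjunction (c.π.app i₂)
  let h := (adj.homEquiv O₂ _).symm (Groth.L16.homOfSection
    ((Scheme.Modules.pushforward (c.π.app i₂)).obj ((Scheme.Modules.pullback (c.π.app i₂)).obj F₂)) τ)
  have hone : h.app ⊤ (pull (c.π.app i₂) O₂ ⊤ (1 : Γ(D.obj i₂, ⊤))) = τ := by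
    have h1 := (adj.homEquiv O₂ _).apply_symm_apply (Groth.L16.homOfSection
      ((Scheme.Modules.pushforward (c.π.app i₂)).obj ((Scheme.Modules.pullback (c.π.app i₂)).obj F₂)) τ)
    rw [Adjunction.homEquiv_unit] at h1
    refine Eq.trans ?_ (Groth.L18.GenLoc.secOf_homOfSection (L := (Scheme.Modules.pushforward (c.π.app i₂)).obj
      ((Scheme.Modules.pullback (c.π.app i₂)).obj F₂)) τ)
    exact congr($(congrArg (fun k => Scheme.Modules.Hom.app k ⊤) h1) (1 : Γ(D.obj i₂, ⊤)))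
  obtain ⟨i₃, φ₃, h₃, hh₃⟩ := Groth.L19.LimMod.exists_hom D c hc O₂ F₂
    (Groth.L18.LFP.isFP_of_isFinLocFree O₂ (Groth.L20.ResDescent.isFinLocFree_of_isInvertible fun _ =>
      ⟨⊤, trivial, ⟨(Scheme.Modules.restrictFunctorIsoPullback (⊤ : (D.obj i₂).Opens).ι).app _ ≪≫
        Groth.L29.LocFree.pullbackUnitIso _⟩⟩)) h
  let N₃ := (Scheme.Modules.pullback (D.map φ₃)).obj F₂
  let one₃ : Γ((Scheme.Modules.pullback (D.map φ₃)).obj O₂, ⊤) :=
    pull (D.map φ₃) O₂ ⊤ (1 : Γ(D.obj i₂, ⊤))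
  let σ₃ : Γ(N₃, ⊤) := h₃.app ⊤ one₃
  have hN₃ : FlatMod.IsFinLocFree N₃ := Groth.L29.LocFree.pullback _ hlf
  obtain ⟨U₃, hU₃⟩ := exists_opens σ₃ hN₃
  let e₃ : (Scheme.Modules.pullback (c.π.app i₃)).obj N₃ ≅ N :=
    Groth.L19.LimMod.cmp (c.π.app i₃) (D.map φ₃) (c.w φ₃) F₂ ≪≫ e₂
  have key : e₃.hom.app ⊤ (pull (c.π.app i₃) N₃ ⊤ σ₃) = σ := by
    have h2 := congr($(congrArg (fun k => Scheme.Modules.Hom.app k ⊤) hh₃) (pull (c.π.app i₂) O₂ ⊤ (1 : Γ(D.obj i₂, ⊤))))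
    have h3 := h2.trans hone
    have h4 := Groth.L19.LimMod.cmp_inv_pull (c.π.app i₃) (D.map φ₃) (c.w φ₃) O₂ ⊤ (1 : Γ(D.obj i₂, ⊤))
    have h5 : (Groth.L19.LimMod.cmp (c.π.app i₃) (D.map φ₃) (c.w φ₃) F₂).hom.app ⊤
        (pull (c.π.app i₃) N₃ ⊤ σ₃) = τ := by
      refine Eq.trans ?_ h3
      refine congrArg ((Groth.L19.LimMod.cmp (c.π.app i₃) (D.map φ₃) (c.w φ₃) F₂).hom.app ⊤) ?_
      refine Eq.trans ?_ (congrArg (((Scheme.Modules.pullback (c.π.app i₃)).map h₃).app ⊤) (h4.trans (rs_self _ _ _))).symm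
      exact (Groth.L17.Approx.app_pull (c.π.app i₃) h₃ ⊤ one₃).symm
    exact (congrArg (e₂.hom.app ⊤) h5).trans congr($(congrArg (fun k => Scheme.Modules.Hom.app k ⊤) e₂.inv_hom_id) σ)
  haveI := Groth.L19.LimMod.affine_π D c hc i₃
  have hch : ∀ x : c.pt, ∃ W, x ∈ W ∧ IsChart σ (c.π.app i₃ ⁻¹ᵁ U₃) W := fun x => by
    obtain ⟨W, hxW, hW⟩ := hU₃ (c.π.app i₃ x)
    have := (hW.pullback (c.π.app i₃)).of_iso e₃
    erw [key] at this
    exact ⟨_, hxW, this⟩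
  let φ := φ₃ ≫ φ₂ ≫ φ₁
  have hU₃c : IsCompact (U₃ : Set (D.obj i₃)) := by
    have := isCompact_inf σ₃ hU₃ (V := ⊤) isCompact_univ
    rwa [inf_top_eq] at this
  have heq : c.π.app i₃ ⁻¹ᵁ (D.map φ ⁻¹ᵁ U₀) = c.π.app i₃ ⁻¹ᵁ U₃ := by
    rw [← Scheme.Hom.comp_preimage, c.w φ]
    exact le_antisymm (le_of_charts hσ hch) (le_of_charts hch hσ)
  obtain ⟨k, ψ, hk⟩ := exists_map_preimage_eq_map_preimage D c hc
    (QuasiCompact.isCompact_preimage (f := D.map φ) _ U₀.2 hU₀) hU₃c heq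
  refine ⟨k, ψ ≫ φ, _, pull (D.map ψ) N₃ ⊤ σ₃, Groth.L29.LocFree.pullback _ hN₃, fun x => ?_⟩
  obtain ⟨W, hxW, hW⟩ := hU₃ (D.map ψ x)
  refine ⟨D.map ψ ⁻¹ᵁ W, hxW, ?_⟩
  rw [D.map_comp, Scheme.Hom.comp_preimage, hk]
  exact hW.pullback (D.map ψ)

omit [IsCofiltered I] [∀ i, CompactSpace (D.obj i)] [∀ i, QuasiSeparatedSpace (D.obj i)] in
/-- Charts pull back along transition maps. -/
theorem IsChart.mono_stage {i j : I} (a : j ⟶ i) {M : (D.obj i).Modules} (s : Γ(M, ⊤)) {U : (D.obj i).Opens}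
    (h : ∀ x : D.obj i, ∃ W, x ∈ W ∧ IsChart s U W) (x : D.obj j) :
    ∃ W, x ∈ W ∧ IsChart (pull (D.map a) M ⊤ s) (D.map a ⁻¹ᵁ U) W := by
  obtain ⟨W, hxW, hW⟩ := h (D.map a x)
  exact ⟨_, hxW, hW.pullback (D.map a)⟩

/-- The resolution property of a limit comes from a stage. -/
theorem exists_stage_resolutionProperty (hc : IsLimit c) (hX : PerfAux.HasResolutionProperty c.pt) :
    ∃ i, PerfAux.HasResolutionProperty (D.obj i) := by
  obtain ⟨i₀⟩ := IsCofiltered.nonempty (C := I)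
  haveI := Groth.L19.LimMod.affine_π D c hc i₀
  haveI : CompactSpace c.pt := QuasiCompact.compactSpace_of_compactSpace (c.π.app i₀)
  haveI : QuasiSeparatedSpace c.pt := quasiSeparatedSpace_of_quasiSeparated (c.π.app i₀)
  obtain ⟨ι, _, V, hV, -, hcov⟩ :=
    Groth.L16.QcqsPush.exists_affine_cover (X := D.obj i₀) (U := ⊤) isCompact_univ
  obtain ⟨m, ⟨en⟩⟩ := Finite.exists_equiv_fin ι
  let U : Fin m → (D.obj i₀).Opens := fun j => V (en.symm j)
  have hsec : ∀ j, ∃ (k : I) (φ : k ⟶ i₀) (Nk : (D.obj k).Modules) (σk : Γ(Nk, ⊤)), FlatMod.IsFinLocFree Nk ∧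
      ∀ x : D.obj k, ∃ W, x ∈ W ∧ IsChart σk (D.map φ ⁻¹ᵁ U j) W := fun j => by
    obtain ⟨N, σ, hN, hσ⟩ := exists_section hX (c.π.app i₀ ⁻¹ᵁ U j) (((hV _).preimage _).isCompact)
    exact exists_stage D c hc i₀ (U j) (hV _).isCompact hN σ hσ
  choose k φ N σ hN hσ using hsec
  obtain ⟨k', a, hk'⟩ := Groth.L19.LimMod.exists_common D k φ
  refine ⟨k', hasResolutionProperty_of_charts (fun j => D.map a ⁻¹ᵁ U j) (fun j => (hV _).preimage _) ?_
    (N := fun j => (Scheme.Modules.pullback (D.map (hk' j).choose)).obj (N j))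
    (fun j => pull (D.map (hk' j).choose) (N j) ⊤ (σ j)) (fun j => Groth.L29.LocFree.pullback _ (hN j))
    fun j x => ?_⟩
  · rw [← Scheme.Hom.preimage_iSup]
    have : ⨆ j, U j = ⊤ := top_le_iff.1 fun x _ => by
      obtain ⟨q, hq⟩ := Opens.mem_iSup.1 (hcov (Opens.mem_top x))
      exact Opens.mem_iSup.2 ⟨en q, by simpa [U] using hq⟩
    rw [this, Scheme.Hom.preimage_top]
  · have := IsChart.mono_stage D (hk' j).choose (σ j) (hσ j) x
    rw [← Scheme.Hom.comp_preimage, ← D.map_comp, (hk' j).choose_spec] at this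
    exact this

/-- The resolution property of a stage passes to the limit. -/
theorem hasResolutionProperty_limit (hc : IsLimit c) {i : I} (h : PerfAux.HasResolutionProperty (D.obj i)) :
    PerfAux.HasResolutionProperty c.pt :=
  haveI := Groth.L19.LimMod.affine_π D c hc i
  Groth.L20.ResDescent.hasResolutionProperty_of_isAffineHom (c.π.app i) h

end Groth.L19.ResBdry
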