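import Groth.Agent.S4094
import Groth.Agent.L08.MonoClosed
import Groth.Agent.L26.AV.GroupSep
import Groth.Agent.L22.CartierDecomp
import Groth.Agent.L28.Ext.Basic
import Mathlib.AlgebraicGeometry.Morphisms.SchemeTheoreticallyDominant
import Mathlib.CategoryTheory.Filtered.Basic

/-!
# Schematically dominant homomorphisms into limits of algebraic groups
-/

set_option autoImplicit false
set_option linter.style.haveILetI false
set_option backward.isDefEq.respectTransparency.types false
set_option backward.isDefEq.respectTransparency false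

universe u

open CategoryTheory MonoidalCategory CartesianMonoidalCategory MonObj AlgebraicGeometry

namespace Groth.L19.SchDomLimitGroup

variable {k : Type u} [Field k]

/-- Morphisms to separated schemes agreeing after a schematically dominant morphism are equal. -/
theorem eq_of_schDom {S : Scheme.{u}} {X Y Z : Over S} [IsSeparated Z.hom] (u : X ⟶ Y)
    [IsSchemeTheoreticallyDominant u.left] {a b : Y ⟶ Z} (e : u ≫ a = u ≫ b) : a = b := by
  let eι := Limits.equalizer.ι a b
  have hu : (Limits.equalizer.lift u e).left ≫ eι.left = u.left :=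
    congrArg CommaMorphism.left (Limits.equalizer.lift_ι u e)
  haveI : IsIso eι.left := by
    haveI : IsSchemeTheoreticallyDominant eι.left := ⟨by
      rw [eq_bot_iff, ← u.left.ker_eq_bot, ← hu]
      exact Scheme.Hom.le_ker_comp _ _⟩
    haveI : IsIso eι.left.imageι := by
      rw [Scheme.Hom.imageι, Scheme.isIso_subschemeι_iff_eq_bot]
      exact eι.left.ker_eq_bot
    haveI : IsIso eι.left.toImage := inferInstance
    rw [← Scheme.Hom.toImage_imageι eι.left]
    infer_instance
  haveI : IsIso eι := by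
    haveI : IsIso ((Over.forget S).map eι) := ‹IsIso eι.left›
    exact isIso_of_reflects_iso eι (Over.forget S)
  exact (cancel_epi eι).1 (Limits.equalizer.condition a b)

theorem one_left {S : Scheme.{u}} {T H : Over S} [GrpObj H] : (1 : T ⟶ H).left = T.hom ≫ η[H].left := by
  rw [Hom.one_def]
  rfl

variable {G : Over (Spec (CommRingCat.of k))} [GrpObj G] [LocallyOfFiniteType G.hom] [QuasiCompact G.hom]
  {J : Type u} [SmallCategory J] [IsCofiltered J] {D : J ⥤ Over (Spec (CommRingCat.of k))}
  [∀ j, GrpObj (D.obj j)] [∀ (j j' : J) (φ : j ⟶ j'), IsMonHom (D.map φ)]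

/-- The kernels of a compatible system of homomorphisms out of an algebraic group stabilise. -/
theorem exists_kernel_stable (φ : ∀ j, G ⟶ D.obj j) (hφ : ∀ {j j' : J} (g : j ⟶ j'), φ j ≫ D.map g = φ j') :
    ∃ j₀, ∀ j (_ : j ⟶ j₀) (T : Over (Spec (CommRingCat.of k))) (t : T ⟶ G),
      t ≫ φ j₀ = 1 → t ≫ φ j = 1 := by
  haveI : IsNoetherian G.left := by
    haveI : CompactSpace G.left := QuasiCompact.compactSpace_of_compactSpace G.hom
    haveI : IsLocallyNoetherian G.left := LocallyOfFiniteType.isLocallyNoetherian G.hom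
    exact {}
  haveI hη : ∀ j, IsClosedImmersion (η[D.obj j]).left := fun j => by
    haveI : IsSeparated (D.obj j).hom := Groth.Agent.AV.isSeparated_of_grpObj (D.obj j)
    haveI : IsClosedImmersion ((η[D.obj j]).left ≫ (D.obj j).hom) := by
      rw [Over.w]
      exact inferInstanceAs (IsClosedImmersion (𝟙 (Spec (CommRingCat.of k))))
    exact IsClosedImmersion.of_comp _ (D.obj j).hom
  let K : J → G.left.IdealSheafData := fun j => (Limits.pullback.fst (φ j).left (η[D.obj j]).left).ker
  haveI : Nonempty J := IsCofiltered.nonempty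
  obtain ⟨I, ⟨j₀, hj₀⟩, hmax⟩ := (Groth.L22.CartierDecomp.wellFoundedGT (X := G.left)).wf.has_min (Set.range K)
    (Set.range_nonempty K)
  refine ⟨j₀, fun j g T t ht => ?_⟩
  -- the kernel at `j` is contained in the kernel at `j₀`
  have hle : K j₀ ≤ K j := by
    have e : Limits.pullback.fst (φ j).left (η[D.obj j]).left ≫ (φ j₀).left =
        Limits.pullback.snd (φ j).left (η[D.obj j]).left ≫ (η[D.obj j₀]).left := by
      rw [← IsMonHom.one_hom (D.map g), ← hφ g, Over.comp_left, Over.comp_left, Limits.pullback.condition_assoc]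
    show (Limits.pullback.fst (φ j₀).left (η[D.obj j₀]).left).ker ≤ _
    have := Scheme.Hom.le_ker_comp (Limits.pullback.lift _ _ e)
      (Limits.pullback.fst (φ j₀).left (η[D.obj j₀]).left)
    rwa [Limits.pullback.lift_fst] at this
  have heq : K j = K j₀ := by
    by_contra hne
    exact hmax (K j) ⟨j, rfl⟩ (hj₀ ▸ lt_of_le_of_ne hle (Ne.symm hne))
  -- factor `t` through the kernels
  have e₀ : t.left ≫ (φ j₀).left = T.hom ≫ (η[D.obj j₀]).left := by
    rw [← Over.comp_left, ht, one_left]
  have ht' : K j₀ ≤ t.left.ker := by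
    have := Scheme.Hom.le_ker_comp (Limits.pullback.lift _ _ e₀)
      (Limits.pullback.fst (φ j₀).left (η[D.obj j₀]).left)
    rwa [Limits.pullback.lift_fst] at this
  haveI : IsClosedImmersion (Limits.pullback.fst (φ j).left (η[D.obj j]).left) :=
    MorphismProperty.pullback_fst _ _ (hη j)
  obtain ⟨w, hw⟩ : ∃ w, w ≫ Limits.pullback.fst (φ j).left (η[D.obj j]).left = t.left :=
    ⟨IsClosedImmersion.lift _ t.left (heq.le.trans ht'), IsClosedImmersion.lift_fac _ _ _⟩
  ext1
  have hsnd : Limits.pullback.snd (φ j).left (η[D.obj j]).left =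
      Limits.pullback.fst (φ j).left (η[D.obj j]).left ≫ G.hom := by
    have h2 := congrArg (· ≫ (D.obj j).hom) (Limits.pullback.condition (f := (φ j).left) (g := (η[D.obj j]).left))
    simp only [Category.assoc, Over.w] at h2
    exact (Category.comp_id _).symm.trans h2.symm
  rw [one_left, Over.comp_left, ← hw, Category.assoc, Limits.pullback.condition, hsnd, ← Category.assoc,
    ← Category.assoc, hw, Over.w]

theorem main (hD : ∀ j, LocallyOfFiniteType (D.obj j).hom ∧ QuasiCompact (D.obj j).hom)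
    (c : Limits.Cone D) (hc : Limits.IsLimit c) [GrpObj c.pt]
    [∀ j, IsMonHom (M := c.pt) (N := D.obj j) (c.π.app j)]
    (u : G ⟶ c.pt) [IsMonHom u] [QuasiCompact u.left] (hdom : u.left.ker = ⊥) :
    Flat u.left ∧ Surjective u.left ∧ LocallyOfFiniteType c.pt.hom ∧ QuasiCompact c.pt.hom := by
  haveI : IsSchemeTheoreticallyDominant u.left := ⟨hdom⟩
  haveI hsep : ∀ j, IsSeparated (D.obj j).hom := fun j => Groth.Agent.AV.isSeparated_of_grpObj (D.obj j)
  let φ : ∀ j, G ⟶ D.obj j := fun j => u ≫ c.π.app j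
  have hφ : ∀ {j j' : J} (g : j ⟶ j'), φ j ≫ D.map g = φ j' := fun g => by
    simp only [φ, Category.assoc, c.w]
  obtain ⟨j₀, hj₀⟩ := exists_kernel_stable φ hφ
  haveI := (hD j₀).1
  haveI : LocallyOfFinitePresentation G.hom := inferInstance
  obtain ⟨Q, _, p, i, _, _, hpi, hps, hpf, hpp, hi, hQ, -⟩ := Groth.Agent.S4094.result _ G (D.obj j₀) (φ j₀)
    inferInstance
  haveI := hps; haveI := hpf; haveI := hpp; haveI := hi; haveI := hQ
  haveI : CompactSpace G.left := QuasiCompact.compactSpace_of_compactSpace G.hom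
  haveI : CompactSpace Q.left :=
    ⟨by rw [← p.left.surjective.range_eq]; exact isCompact_range p.left.continuous⟩
  haveI : QuasiCompact Q.hom := quasiCompact_iff_compactSpace (f := Q.hom) |>.2 inferInstance
  haveI : QuasiCompact i.left := by
    haveI : QuasiCompact (i.left ≫ (D.obj j₀).hom) := by rw [Over.w i]; infer_instance
    exact QuasiCompact.of_comp i.left (D.obj j₀).hom
  haveI : IsClosedImmersion i.left := Groth.L08.MonoClosed.isClosedImmersion_of_field i
  have hcov : Groth.L28.Ext.Cov p := by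
    refine Groth.L28.Ext.cov_of_isLocallyTrivialFor p ⟨Presieve.singleton p.left, ?_, ?_⟩
    · rw [Scheme.fppfPrecoverage, Scheme.singleton_mem_precoverage_iff]
      exact ⟨p.left.surjective, hpf, hpp⟩
    · rintro _ _ ⟨⟩
      exact ⟨𝟙 _, Category.id_comp _⟩
  -- every `φ j` descends to `Q`
  have hs : ∀ j, ∃ s : Q ⟶ D.obj j, p ≫ s = φ j := fun j => by
    refine Groth.L28.Ext.descend hcov (φ j) fun T a b hab => ?_
    obtain ⟨j', g, g', -⟩ : ∃ (j' : J) (_ : j' ⟶ j) (_ : j' ⟶ j₀), True :=
      ⟨_, IsCofiltered.minToLeft j j₀, IsCofiltered.minToRight j j₀, trivial⟩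
    have h₀ : a ≫ φ j₀ = b ≫ φ j₀ := by rw [← hpi, ← Category.assoc, hab, Category.assoc]
    have h₁ := hj₀ j' g' T (a * b⁻¹) (by rw [MonObj.mul_comp, GrpObj.inv_comp, h₀, mul_inv_cancel])
    rw [MonObj.mul_comp, GrpObj.inv_comp, mul_inv_eq_one] at h₁
    rw [← hφ g, ← Category.assoc, h₁, Category.assoc]
  choose s hs using hs
  haveI : Epi p := ⟨fun f g e => Groth.L28.Ext.cancel hcov e⟩
  let cQ : Limits.Cone D :=
    { pt := Q
      π := { app := s
             naturality := fun j j' g => by
              rw [← cancel_epi p]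
              simp [hs, reassoc_of% hs, hφ g] } }
  obtain ⟨σ, hσ⟩ : ∃ σ : Q ⟶ c.pt, ∀ j, σ ≫ c.π.app j = s j := ⟨hc.lift cQ, hc.fac cQ⟩
  have hpσ : p ≫ σ = u := hc.hom_ext fun j => by rw [Category.assoc, hσ, hs]
  obtain ⟨r₀, hr₀⟩ : ∃ r₀, r₀ ≫ i.left = (c.π.app j₀).left := by
    refine ⟨IsClosedImmersion.lift i.left (c.π.app j₀).left ?_, IsClosedImmersion.lift_fac _ _ _⟩
    have e : (u ≫ c.π.app j₀).left = p.left ≫ i.left := by rw [← Over.comp_left, hpi]
    have h' : i.left.ker ≤ (u.left ≫ (c.π.app j₀).left).ker := by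
      rw [← Over.comp_left, e]
      exact Scheme.Hom.le_ker_comp _ _
    rwa [Scheme.Hom.ker_comp, hdom, Scheme.IdealSheafData.map_bot] at h'
  let r : c.pt ⟶ Q := Over.homMk r₀ (by rw [← Over.w i, ← Category.assoc, hr₀, Over.w (c.π.app j₀)]; rfl)
  have hri : r ≫ i = c.π.app j₀ := by ext1; exact hr₀
  have hur : u ≫ r = p := by rw [← cancel_mono i, Category.assoc, hri, hpi]
  have h₁ : σ ≫ r = 𝟙 Q := by rw [← cancel_epi p, ← Category.assoc, hpσ, hur, Category.comp_id]
  have h₂ : r ≫ σ = 𝟙 c.pt := hc.hom_ext fun j => by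
    apply eq_of_schDom u
    rw [Category.id_comp, Category.assoc, ← Category.assoc u, hur, ← Category.assoc, hpσ]
  let e : Q ≅ c.pt := ⟨σ, r, h₁, h₂⟩
  haveI : IsIso σ.left := ((Over.forget _).mapIso e).isIso_hom
  haveI : IsIso r.left := ((Over.forget _).mapIso e).isIso_inv
  refine ⟨?_, ?_, ?_, ?_⟩
  · rw [← hpσ, Over.comp_left]; infer_instance
  · rw [← hpσ, Over.comp_left]; infer_instance
  · rw [← Over.w r]; infer_instance
  · rw [← Over.w r]; infer_instance

end Groth.L19.SchDomLimitGroup
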