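import Groth.Prelude.Def_MoreMor
import Groth.Agent.L22.GeomConn.Main
import Groth.Agent.L07.SectionCompFlat
import Groth.Agent.L16.SecComp.Smooth

/-!
For a smooth morphism the union of the fibre components meeting the image of a universally open
morphism is open.
-/

universe u

open CategoryTheory CategoryTheory.Limits AlgebraicGeometry

namespace Groth.L19.SectionComp

set_option linter.style.haveILetI false
set_option backward.isDefEq.respectTransparency.types false

theorem image_connectedComponent {α β : Type*} [TopologicalSpace α] [TopologicalSpace β] {φ : α → β}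
    (hφ : Topology.IsInducing φ) (b : α) :
    φ '' connectedComponent b = connectedComponentIn (Set.range φ) (φ b) := by
  refine subset_antisymm ((isPreconnected_connectedComponent.image φ hφ.continuous.continuousOn).subset_connectedComponentIn
    ⟨b, mem_connectedComponent, rfl⟩ (Set.image_subset_range _ _)) fun y hy => ?_
  have hR := connectedComponentIn_subset (Set.range φ) (φ b)
  obtain ⟨a, rfl⟩ := hR hy
  refine ⟨a, ?_, rfl⟩
  have hpre : IsPreconnected (φ ⁻¹' connectedComponentIn (Set.range φ) (φ b)) := by
    refine hφ.isPreconnected_image.1 ?_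
    rw [Set.image_preimage_eq_of_subset hR]
    exact isPreconnected_connectedComponentIn
  exact hpre.subset_connectedComponent (mem_connectedComponentIn (Set.mem_range_self b)) hy

theorem isGeomReducedAt_fiber {X S : Scheme.{u}} (f : X ⟶ S) [Smooth f] (y : S) (x : f.fiber y) :
    FBase.IsGeomReducedAt (f.fiberToSpecResidueField y) x := by
  intro K _ _ x' _
  have h : Smooth (f.fiberToSpecResidueField y) := MorphismProperty.pullback_snd _ _ inferInstance
  haveI : Smooth (FBase.bcStr (f.fiberToSpecResidueField y) K) := MorphismProperty.pullback_snd _ _ h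
  haveI := Groth.L16.SecComp.isReduced_of_smooth (FBase.bcStr (f.fiberToSpecResidueField y) K)
  infer_instance

theorem exists_open {S S' X : Scheme.{u}} (f : X ⟶ S) [Smooth f] [QuasiCompact f] [QuasiSeparated f]
    (g : S' ⟶ S) [UniversallyOpen g] (e : S' ⟶ X) (he : e ≫ f = g) :
    ∃ U : X.Opens, ∀ s : S, (U : Set X) ∩ f.base ⁻¹' {s} =
      ⋃ x ∈ Set.range e.base ∩ f.base ⁻¹' {s}, connectedComponentIn (f.base ⁻¹' {s}) x := by
  let T := pullback f g
  let f' : T ⟶ S' := pullback.snd f g
  let π : T ⟶ X := pullback.fst f g
  haveI : Smooth f' := MorphismProperty.pullback_snd _ _ inferInstance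
  haveI : QuasiCompact f' := MorphismProperty.pullback_snd _ _ inferInstance
  haveI : QuasiSeparated f' := MorphismProperty.pullback_snd _ _ inferInstance
  let σ : S' ⟶ T := pullback.lift e (𝟙 _) (by rw [he, Category.id_comp])
  have hσ : σ ≫ f' = 𝟙 S' := pullback.lift_snd _ _ _
  have hσe : ∀ s', π (σ s') = e s' := fun s' => by
    rw [← Scheme.Hom.comp_apply, pullback.lift_fst]
  have hσf : ∀ s', f' (σ s') = s' := fun s' => by
    rw [← Scheme.Hom.comp_apply, hσ]; rfl
  have hopen : IsOpen (MoreMor.sectionComponents f' σ) := by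
    rw [← subset_interior_iff_isOpen]
    intro x hx
    exact Groth.L07.SectionComp.subset_interior_of_flat f' σ hσ (f' x)
      (fun z _ => isGeomReducedAt_fiber f' _ _) hx
  haveI : UniversallyOpen π := MorphismProperty.pullback_fst _ _ inferInstance
  have himage : ∀ s' : S', π '' connectedComponentIn (f' ⁻¹' {s'}) (σ s') =
      connectedComponentIn (f ⁻¹' {g s'}) (e s') := by
    intro s'
    let q : f.fiber (g s') ⟶ Spec (CommRingCat.of (S.residueField (g s'))) := f.fiberToSpecResidueField (g s')
    letI : Algebra (S.residueField (g s')) (S'.residueField s') := (g.residueFieldMap s').hom.toAlgebra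
    let φ : FBase.bc q (S'.residueField s') ⟶ T :=
      pullback.lift (FBase.bcπ q (S'.residueField s') ≫ f.fiberι (g s')) (FBase.bcStr q (S'.residueField s') ≫ S'.fromSpecResidueField s') (by
        rw [Category.assoc, f.fiber_fac, Category.assoc]
        show FBase.bcπ q (S'.residueField s') ≫ q ≫ _ = _
        rw [← Category.assoc, show FBase.bcπ q (S'.residueField s') ≫ q = FBase.bcStr q (S'.residueField s') ≫ Spec.map (g.residueFieldMap s') from
          pullback.condition, Category.assoc, Scheme.Hom.SpecMap_residueFieldMap_fromSpecResidueField])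
    have hP : IsPullback φ (FBase.bcStr q (S'.residueField s')) f' (S'.fromSpecResidueField s') := by
      refine IsPullback.of_right ?_ (pullback.lift_snd _ _ _) (IsPullback.of_hasPullback f g)
      rw [pullback.lift_fst, ← g.SpecMap_residueFieldMap_fromSpecResidueField s']
      exact (IsPullback.of_hasPullback q (Spec.map (g.residueFieldMap s'))).paste_horiz
        (IsPullback.of_hasPullback f (S.fromSpecResidueField (g s')))
    haveI : IsPreimmersion φ := MorphismProperty.of_isPullback hP.flip inferInstance
    have hφr : Set.range φ = f' ⁻¹' {s'} := by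
      rw [← hP.isoPullback_hom_fst, Scheme.Hom.comp_base, TopCat.coe_comp,
        Set.range_comp, Set.range_eq_univ.2 hP.isoPullback.hom.surjective, Set.image_univ,
        Scheme.Pullback.range_fst, Scheme.range_fromSpecResidueField]
    obtain ⟨b, hb⟩ : σ s' ∈ Set.range φ := by rw [hφr]; exact hσf s'
    have h1 : π '' (φ '' connectedComponent b) = f.fiberι (g s') '' (FBase.bcπ q (S'.residueField s') '' connectedComponent b) := by
      rw [Set.image_image, Set.image_image]
      refine Set.image_congr' fun a => ?_
      rw [← Scheme.Hom.comp_apply, ← Scheme.Hom.comp_apply, pullback.lift_fst]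
    have h2 : f.fiberι (g s') (FBase.bcπ q (S'.residueField s') b) = e s' := by
      rw [← hσe, ← hb, ← Scheme.Hom.comp_apply, ← Scheme.Hom.comp_apply, pullback.lift_fst]
    rw [← hb, ← hφr, ← image_connectedComponent φ.isEmbedding.isInducing, h1,
      Groth.L22.GeomConn.image_component, image_connectedComponent (f.fiberι (g s')).isEmbedding.isInducing,
      f.range_fiberι, h2]
  refine ⟨⟨π '' MoreMor.sectionComponents f' σ, π.isOpenMap _ hopen⟩, fun s => ?_⟩
  ext x
  simp only [TopologicalSpace.Opens.coe_mk, Set.mem_inter_iff, Set.mem_iUnion, exists_prop]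
  constructor
  · rintro ⟨⟨t, ht, rfl⟩, hs⟩
    have hm : π t ∈ connectedComponentIn (f ⁻¹' {g (f' t)}) (e (f' t)) := himage (f' t) ▸ ⟨t, ht, rfl⟩
    have hgs : g (f' t) = s := (connectedComponentIn_subset _ _ hm).symm.trans hs
    refine ⟨e (f' t), ⟨⟨_, rfl⟩, ?_⟩, hgs ▸ hm⟩
    show f (e (f' t)) = s
    rw [← Scheme.Hom.comp_apply, he, hgs]
  · rintro ⟨_, ⟨⟨s', rfl⟩, hs'⟩, hx⟩
    have hgs : g s' = s := by rw [← he, Scheme.Hom.comp_apply]; exact hs'
    subst hgs
    refine ⟨?_, connectedComponentIn_subset _ _ hx⟩
    rw [← himage s'] at hx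
    obtain ⟨t, ht, rfl⟩ := hx
    refine ⟨t, ?_, rfl⟩
    show t ∈ connectedComponentIn (f' ⁻¹' {f' t}) (σ (f' t))
    rw [show f' t = s' from connectedComponentIn_subset (f' ⁻¹' {s'}) _ ht]
    exact ht

end Groth.L19.SectionComp
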