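import Groth.Agent.S9407
import Mathlib.RingTheory.Kaehler.TensorProduct
import Mathlib.FieldTheory.Perfect
import Mathlib.FieldTheory.IsAlgClosed.AlgebraicClosure
import Mathlib.RingTheory.Smooth.Basic
import Mathlib.RingTheory.Derivation.MapCoeffs

/-!
# Integral elements of smooth algebras over a field have zero differential
-/

set_option autoImplicit false
set_option linter.style.haveILetI false

universe u

open TensorProduct Polynomial

attribute [local instance] Algebra.TensorProduct.rightAlgebra

namespace Groth.L19.SmoothDiffZero

theorem D_eq_zero_of_reduced {L B : Type u} [Field L] [PerfectField L] [CommRing B] [Algebra L B]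
    [IsReduced B] {s : B} (hs : IsIntegral L s) : KaehlerDifferential.D L B s = 0 := by
  let P := minpoly L s
  have hsq : Squarefree P := by
    rintro x ⟨y, hy⟩
    have h0 : P ≠ 0 := minpoly.ne_zero hs
    have hxy : aeval s (x * y) = 0 := by
      refine pow_eq_zero_iff two_ne_zero |>.1 ?_
      rw [← map_pow, show (x * y) ^ 2 = x * x * y * y by ring, ← hy, map_mul, minpoly.aeval, zero_mul]
    have hd := minpoly.dvd L s hxy
    change P ∣ x * y at hd
    have hx0 : x * y ≠ 0 := by
      intro h
      exact h0 (by rw [hy, mul_assoc, h, mul_zero])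
    rw [hy, mul_assoc] at hd
    have := (mul_dvd_mul_iff_right hx0).1 (by rwa [one_mul] : x * (x * y) ∣ 1 * (x * y))
    exact isUnit_of_dvd_one this
  have hsep : P.Separable := PerfectField.separable_iff_squarefree.2 hsq
  obtain ⟨a, b, hab⟩ := hsep
  have h1 : aeval s b * aeval s (derivative P) = 1 := by
    have := congrArg (aeval s) hab
    rw [map_add, map_mul, map_mul, minpoly.aeval, mul_zero, zero_add, map_one] at this
    exact this
  have h2 : aeval s (derivative P) • KaehlerDifferential.D L B s = 0 := by
    rw [← Derivation.map_aeval, minpoly.aeval, map_zero]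
  rw [← one_smul B (KaehlerDifferential.D L B s), ← h1, mul_smul, h2, smul_zero]

theorem D_eq_zero {k B : Type u} [Field k] [CommRing B] [Algebra k B] [Algebra.Smooth k B]
    {s : B} (hs : IsIntegral k s) : KaehlerDifferential.D k B s = 0 := by
  let L := AlgebraicClosure k
  haveI : Algebra.Smooth L (L ⊗[k] B) := inferInstance
  haveI : IsReduced (L ⊗[k] B) := Groth.Agent.S9407.isReduced_of_field L (L ⊗[k] B)
  haveI : Algebra.IsPushout k L B (L ⊗[k] B) := inferInstance
  have h := D_eq_zero_of_reduced (L := L) (B := L ⊗[k] B)
    ((hs.map (Algebra.TensorProduct.includeRight : B →ₐ[k] L ⊗[k] B)).tower_top (A := L))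
  have hinj : Function.Injective (TensorProduct.mk k L Ω[B⁄k] 1) :=
    Module.Flat.tensorProduct_mk_injective (R := k) (S := L) (M := Ω[B⁄k])
  apply hinj
  apply (KaehlerDifferential.tensorKaehlerEquivBase k L B (L ⊗[k] B)).injective
  simp only [TensorProduct.mk_apply, KaehlerDifferential.tensorKaehlerEquivBase_tmul, KaehlerDifferential.map_D,
    map_zero, one_smul]
  exact h

end Groth.L19.SmoothDiffZero
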