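import Groth.Agent.L19.TorusStabChars
import Groth.Agent.L19.SchDomLimitGroup
import Mathlib.AlgebraicGeometry.FunctionField
import Mathlib.RingTheory.Localization.FractionRing

/-!
# A faithful action of a split torus on a variety has generically trivial stabilisers
-/

set_option autoImplicit false
universe u

open CategoryTheory MonoidalCategory CartesianMonoidalCategory AlgebraicGeometry
open scoped MonObj nonZeroDivisors

set_option backward.isDefEq.respectTransparency.types false
set_option linter.style.haveILetI false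

noncomputable section

namespace Groth.L19.TorusStab

open Groth.L25.SplitSub Groth.L25.Cocycle Groth.L25

variable {k : Type u} [Field k]

theorem isPullback_whiskerLeft {S : Scheme.{u}} {Q A B : Over S} (f : A ⟶ B) :
    IsPullback (snd Q A) (Q ◁ f) f (snd Q B) := by
  refine IsPullback.mk' (whiskerLeft_snd Q f).symm (fun T u v e₁ e₂ => ?_) (fun T u v e => ?_)
  · have e₃ := congrArg (· ≫ fst Q B) e₂
    simp only [Category.assoc, whiskerLeft_fst] at e₃
    exact CartesianMonoidalCategory.hom_ext _ _ e₃ e₁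
  · refine ⟨lift (v ≫ fst Q B) u, lift_snd _ _, ?_⟩
    rw [lift_whiskerLeft, e, lift_comp_fst_snd]

/-- A group homomorphism out of `Fin r → ℤ` killing the standard basis is trivial. -/
theorem eq_one_of_single {r : ℕ} {C : Type u} [CommRing C] (χ : Multiplicative (Fin r → ℤ) →* C)
    (h : ∀ i, χ (Multiplicative.ofAdd (Pi.single i 1)) = 1) (m : Fin r → ℤ) : χ (Multiplicative.ofAdd m) = 1 := by
  have h0 : MonoidHom.toAdditiveRight χ.toHomUnits = 0 := AddMonoidHom.functions_ext _ _ _ fun i z => by
    have e : Pi.single (M := fun _ => ℤ) i z = z • Pi.single i 1 := by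
      rw [← Pi.single_smul', smul_eq_mul, _root_.mul_one]
    rw [e, map_zsmul, show MonoidHom.toAdditiveRight χ.toHomUnits (Pi.single i 1) = 0 from
      congrArg Additive.ofMul (Units.ext (h i)), smul_zero]
    rfl
  exact congrArg Units.val (congrArg Additive.toMul (DFunLike.congr_fun h0 m))

/-- Elements killed in every algebra over the fraction field are killed by a nonzero scalar. -/
theorem exists_smul_mem {A : Type u} [CommRing A] [IsDomain A] {B : Type u} [CommRing B] [Algebra A B]
    (J : Ideal B) (z : B)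
    (h : ∀ (C : Type u) [CommRing C] [Algebra (FractionRing A) C] [Algebra A C]
      [IsScalarTower A (FractionRing A) C] (f : B →ₐ[A] C), (∀ y ∈ J, f y = 0) → f z = 0) :
    ∃ c : A, c ≠ 0 ∧ c • z ∈ J := by
  have h2 := h (TensorProduct A (FractionRing A) (B ⧸ J))
    (Algebra.TensorProduct.includeRight.comp (Ideal.Quotient.mkₐ A J)) fun y hy => by
      rw [AlgHom.comp_apply, Ideal.Quotient.mkₐ_eq_mk, Ideal.Quotient.eq_zero_iff_mem.2 hy, map_zero]
  have h3 : TensorProduct.mk A (FractionRing A) (B ⧸ J) 1 (Ideal.Quotient.mk J z) = 0 := h2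
  obtain ⟨⟨c, hc⟩, hs⟩ := (IsLocalizedModule.eq_zero_iff A⁰ (TensorProduct.mk A (FractionRing A) (B ⧸ J) 1)).1 h3
  refine ⟨c, nonZeroDivisors.ne_zero hc, ?_⟩
  rw [← Ideal.Quotient.eq_zero_iff_mem]
  exact hs

theorem main (T X' : Over (Spec (CommRingCat.of k))) [GrpObj T] (r : ℕ)
    (hT : Red.IsSplitTorusWith (Fin r → ℤ) T) [IsSeparated X'.hom] [IsIntegral X'.left]
    (a : AlgGrp.Action T X')
    (hfaith : ∀ (S : Over (Spec (CommRingCat.of k))) (g : S ⟶ T),
      (∀ (S' : Over (Spec (CommRingCat.of k))) (s : S' ⟶ S) (x : S' ⟶ X'), lift (s ≫ g) x ≫ a.act = x) → g = 1) :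
    ∃ U : X'.left.Opens, Dense (U : Set ↥X'.left) ∧
      ∀ x : 𝟙_ (Over (Spec (CommRingCat.of k))) ⟶ X', x.left (IsLocalRing.closedPoint k) ∈ U →
        ∀ (S : Over (Spec (CommRingCat.of k))) (g : S ⟶ T), lift g (toUnit S ≫ x) ≫ a.act = toUnit S ≫ x → g = 1 := by
  classical
  obtain ⟨φ⟩ := hT
  let N := Fin r → ℤ
  let D := Red.DS (Spec (CommRingCat.of k)) N
  let ψ : D ⟶ T := φ.inv.hom.hom
  let ψ' : T ⟶ D := φ.hom.hom.hom
  haveI : IsMonHom ψ := inferInstanceAs (IsMonHom φ.inv.hom.hom)
  haveI : IsMonHom ψ' := inferInstanceAs (IsMonHom φ.hom.hom.hom)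
  have hψ₁ : ψ ≫ ψ' = 𝟙 D := congrArg (fun f => f.hom.hom) φ.inv_hom_id
  have hψ₂ : ψ' ≫ ψ = 𝟙 T := congrArg (fun f => f.hom.hom) φ.hom_inv_id
  let b : AlgGrp.Action D X' := a.restrict ψ
  -- an affine chart
  obtain ⟨_, ⟨U₀, hU₀, rfl⟩, hxU₀, -⟩ := X'.left.isBasis_affineOpens.exists_subset_of_mem_open
    (Set.mem_univ (genericPoint X'.left)) isOpen_univ
  haveI : Nonempty U₀ := ⟨⟨_, hxU₀⟩⟩
  let A := Γ(X'.left, U₀)
  haveI : IsDomain A := IsIntegral.component_integral U₀
  letI : Algebra k A := (Spec.preimage (hU₀.fromSpec ≫ X'.hom)).hom.toAlgebra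
  let xA : X (𝟙 (Spec (CommRingCat.of k))) A ⟶ X' := Over.homMk hU₀.fromSpec (by
    simp only [Over.mk_hom, Category.comp_id, RingHom.algebraMap_toAlgebra]
    exact (Spec.map_preimage _).symm)
  obtain ⟨J, hJ⟩ := exists_ideal_fix b xA
  let K := FractionRing A
  let mapK : MonoidAlgebra A (Multiplicative N) →ₐ[A] MonoidAlgebra K (Multiplicative N) :=
    evalAt (MonoidAlgebra.of K (Multiplicative N))
  let I := J.map mapK.toRingHom
  have key : ∀ (C : Type u) [CommRing C] [Algebra K C] [Algebra k C] [Algebra A C] [IsScalarTower k A C]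
      [IsScalarTower A K C] (χ : Multiplicative N →* C),
      (∀ x ∈ I, evalAt χ x = 0) ↔ Fix b xA C χ := by
    intro C _ _ _ _ _ _ χ
    have hcomp : ∀ y, evalAt χ (mapK y) = evalAt χ y := fun y => by
      have e : ((evalAt (R := K) χ).restrictScalars A).comp mapK = evalAt χ :=
        (MonoidAlgebra.lift A C (Multiplicative N)).symm.injective (MonoidHom.ext fun m => by simp [mapK])
      exact DFunLike.congr_fun e y
    rw [hJ C χ]
    constructor
    · intro h y hy
      rw [← hcomp]
      exact h _ (Ideal.mem_map_of_mem _ hy)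
    · intro h x hx
      have hle : I ≤ RingHom.ker (evalAt χ) := Ideal.map_le_iff_le_comap.2 fun y hy => by
        show evalAt χ (mapK y) = 0
        rw [hcomp]
        exact h y hy
      exact hle hx
  obtain ⟨A', hA'⟩ := exists_chars (k := K) (fun C _ _ χ => ∀ x ∈ I, evalAt χ x = 0) I (fun C _ _ χ => Iff.rfl)
    ((key K 1).2 (fix_one b xA K))
    (fun C _ _ χ χ' h h' => by
      letI : Algebra A C := ((algebraMap K C).comp (algebraMap A K)).toAlgebra
      letI : Algebra k C := ((algebraMap A C).comp (algebraMap k A)).toAlgebra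
      haveI : IsScalarTower k A C := IsScalarTower.of_algebraMap_eq' rfl
      haveI : IsScalarTower A K C := IsScalarTower.of_algebraMap_eq' rfl
      exact (key C (χ * χ')).2 (fix_mul b xA C χ χ' ((key C χ).1 h) ((key C χ').1 h')))
  -- the generic stabiliser is trivial
  have htop : ∀ m : N, m ∈ A' := by
    let Q₀ := MonoidAlgebra k (Multiplicative (N ⧸ A'))
    let χ₀ : Multiplicative N →* Q₀ :=
      (MonoidAlgebra.of k _).comp (AddMonoidHom.toMultiplicative (QuotientAddGroup.mk' A'))
    let S := X (𝟙 (Spec (CommRingCat.of k))) Q₀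
    let g₀ : S ⟶ T := (idChart k N).pt χ₀ ≫ ψ
    let xK : X (𝟙 (Spec (CommRingCat.of k))) K ⟶ X' := mor (𝟙 _) (IsScalarTower.toAlgHom k A K) ≫ xA
    have huniv : lift (fst S X' ≫ g₀) (snd S X') ≫ a.act = snd S X' := by
      haveI : Flat (snd S X').left := by
        haveI : Flat S.hom := inferInstance
        exact MorphismProperty.pullback_snd (P := @Flat) _ _ inferInstance
      haveI : IsSchemeTheoreticallyDominant xK.left := by
        haveI : IsDominant xK.left := by
          refine ⟨?_⟩
          have h1 : DenseRange (Spec.map (CommRingCat.ofHom (algebraMap A K))) := by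
            exact (PrimeSpectrum.denseRange_comap_iff_ker_le_nilRadical _).2 (by
              show RingHom.ker (algebraMap A K) ≤ _
              rw [(RingHom.injective_iff_ker_eq_bot _).1 (IsFractionRing.injective A K)]; exact bot_le)
          have h2 : DenseRange hU₀.fromSpec := by
            show Dense (Set.range hU₀.fromSpec)
            rw [hU₀.range_fromSpec]
            exact U₀.2.dense ⟨_, hxU₀⟩
          exact h2.comp h1 hU₀.fromSpec.continuous
        exact .of_isDominant _
      haveI : QuasiCompact xK.left := by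
        haveI : QuasiCompact (xK.left ≫ X'.hom) := by
          rw [Over.w xK]
          exact inferInstanceAs (QuasiCompact (Spec.map _ ≫ 𝟙 _))
        exact QuasiCompact.of_comp xK.left X'.hom
      haveI : IsSchemeTheoreticallyDominant ((Over.forget _).map xK) := ‹IsSchemeTheoreticallyDominant xK.left›
      haveI : QuasiCompact ((Over.forget _).map xK) := ‹QuasiCompact xK.left›
      haveI : Flat ((Over.forget _).map (snd S X')) := ‹Flat (snd S X').left›
      haveI : IsSchemeTheoreticallyDominant (S ◁ xK).left := by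
        have sq : IsPullback (snd S (X (𝟙 (Spec (CommRingCat.of k))) K)).left (S ◁ xK).left xK.left (snd S X').left :=
          (isPullback_whiskerLeft (Q := S) xK).map (Over.forget _)
        exact IsSchemeTheoreticallyDominant.of_isPullback sq
      apply SchDomLimitGroup.eq_of_schDom (S ◁ xK)
      haveI : IsAffine S.left := inferInstanceAs (IsAffine (Spec _))
      haveI : IsAffine (X (𝟙 (Spec (CommRingCat.of k))) K).left := inferInstanceAs (IsAffine (Spec _))
      haveI : IsAffine (S ⊗ X (𝟙 (Spec (CommRingCat.of k))) K).left :=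
        inferInstanceAs (IsAffine (Limits.pullback _ _))
      let W := S ⊗ X (𝟙 (Spec (CommRingCat.of k))) K
      let C := Γ(W.left, ⊤)
      obtain ⟨θ, hθ⟩ : ∃ θ : CommRingCat.of K ⟶ C, Spec.map θ = W.left.isoSpec.inv ≫ (snd S _).left :=
        ⟨Spec.preimage _, Spec.map_preimage _⟩
      letI : Algebra K C := θ.hom.toAlgebra
      letI : Algebra A C := ((algebraMap K C).comp (algebraMap A K)).toAlgebra
      letI : Algebra k C := ((algebraMap K C).comp (algebraMap k K)).toAlgebra
      haveI : IsScalarTower A K C := IsScalarTower.of_algebraMap_eq' rfl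
      haveI : IsScalarTower k A C := IsScalarTower.of_algebraMap_eq' (by
        show (algebraMap K C).comp (algebraMap k K) = ((algebraMap K C).comp (algebraMap A K)).comp (algebraMap k A)
        rw [RingHom.comp_assoc, ← IsScalarTower.algebraMap_eq k A K])
      let e : X (𝟙 (Spec (CommRingCat.of k))) C ⟶ W := Over.homMk W.left.isoSpec.inv (by
        show W.left.isoSpec.inv ≫ W.hom = Spec.map (CommRingCat.ofHom (algebraMap k C)) ≫ 𝟙 _
        rw [Category.comp_id, ← Over.w (snd S _), ← Category.assoc, ← hθ]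
        show Spec.map θ ≫ Spec.map (CommRingCat.ofHom (algebraMap k K)) ≫ 𝟙 _ = _
        rw [Category.comp_id, ← Spec.map_comp]
        rfl)
      haveI : IsIso ((Over.forget _).map e) := inferInstanceAs (IsIso W.left.isoSpec.inv)
      haveI : IsIso e := isIso_of_reflects_iso e (Over.forget _)
      have he : e ≫ snd S _ ≫ mor (𝟙 _) (IsScalarTower.toAlgHom k A K) =
          mor (𝟙 _) (IsScalarTower.toAlgHom k A C) := by
        ext1
        show W.left.isoSpec.inv ≫ (snd S _).left ≫ Spec.map _ = Spec.map _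
        rw [← Category.assoc, ← hθ, ← Spec.map_comp]
        rfl
      obtain ⟨χ, hχ⟩ := ((idChart k N).bij C).2 (e ≫ fst S _ ≫ (idChart k N).pt χ₀)
      have hkill : ∀ n ∈ A', χ (Multiplicative.ofAdd n) = 1 := fun n hn => by
        have h1 := DFunLike.congr_fun (congrArg DSPts.char hχ) (Multiplicative.ofAdd n)
        rw [← Category.assoc, DSPts.char_comp] at h1
        simp only [idChart, stdChart, DSPts.char_pt, MonoidHom.comp_apply] at h1
        have h2 : χ₀ (Multiplicative.ofAdd n) = 1 := by
          show MonoidAlgebra.of k _ (Multiplicative.ofAdd (QuotientAddGroup.mk' A' n)) = 1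
          rw [show QuotientAddGroup.mk' A' n = 0 from (QuotientAddGroup.eq_zero_iff n).2 hn, ofAdd_zero, map_one]
        rw [h2] at h1
        apply (ConcreteCategory.bijective_of_isIso (Scheme.ΓSpecIso (CommRingCat.of C)).inv).1
        simpa using h1
      have hfix := (key C χ).1 ((hA' C χ).2 hkill)
      rw [Fix, hχ, AlgGrp.Action.lift_restrict_act, ← he] at hfix
      rw [← cancel_epi e]
      simp only [comp_lift_assoc, whiskerLeft_fst_assoc, whiskerLeft_snd, comp_lift, g₀, xK, Category.assoc] at hfix ⊢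
      exact hfix
    have hg₀ : g₀ = 1 := hfaith S g₀ fun S' s x => by
      have h1 := lift s x ≫= huniv
      rwa [comp_lift_assoc, lift_fst_assoc, lift_snd] at h1
    have hpt : (idChart k N).pt χ₀ = 1 := by
      have h1 := congrArg (· ≫ ψ') hg₀
      simp only [g₀, Category.assoc, hψ₁, MonObj.one_comp] at h1
      exact (Category.comp_id _).symm.trans h1
    intro m
    have h2 := DFunLike.congr_fun (congrArg DSPts.char hpt) (Multiplicative.ofAdd m)
    simp only [idChart, stdChart, DSPts.char_pt, DSPts.char_one, MonoidHom.comp_apply] at h2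
    have h3 : χ₀ (Multiplicative.ofAdd m) = 1 := by
      apply (ConcreteCategory.bijective_of_isIso (Scheme.ΓSpecIso (CommRingCat.of Q₀)).inv).1
      simpa using h2
    have h4 : Multiplicative.ofAdd (QuotientAddGroup.mk' A' m) = 1 :=
      MonoidAlgebra.of_injective (h3.trans (map_one _).symm)
    exact (QuotientAddGroup.eq_zero_iff m).1 h4
  -- clearing denominators
  have hden : ∀ m : Multiplicative N, ∃ c : A, c ≠ 0 ∧ c • (MonoidAlgebra.of A _ m - 1) ∈ J := by
    intro m
    refine exists_smul_mem J _ fun C _ _ _ _ f hf => ?_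
    letI : Algebra k C := ((algebraMap A C).comp (algebraMap k A)).toAlgebra
    haveI : IsScalarTower k A C := IsScalarTower.of_algebraMap_eq' rfl
    let χ : Multiplicative N →* C := (f : MonoidAlgebra A (Multiplicative N) →* C).comp (MonoidAlgebra.of A _)
    have hfix : Fix b xA C χ := (hJ C χ).2 fun y hy => by
      rw [show evalAt χ = f from (MonoidAlgebra.lift A C (Multiplicative N)).apply_symm_apply f]
      exact hf y hy
    have h1 : χ m = 1 := (hA' C χ).1 ((key C χ).2 hfix) m.toAdd (htop _)
    rw [map_sub, map_one, sub_eq_zero]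
    exact h1
  choose c hc0 hcJ using hden
  let c₀ : A := ∏ i : Fin r, c (Multiplicative.ofAdd (Pi.single i 1))
  have hc₀ : c₀ ≠ 0 := Finset.prod_ne_zero_iff.2 fun i _ => hc0 _
  haveI : IsOpenImmersion hU₀.fromSpec := inferInstance
  refine ⟨hU₀.fromSpec ''ᵁ (PrimeSpectrum.basicOpen c₀ : (Spec A).Opens), ?_, fun x hx S g hg => ?_⟩
  · refine (hU₀.fromSpec ''ᵁ (PrimeSpectrum.basicOpen c₀ : (Spec A).Opens)).2.dense ?_
    refine ⟨_, ⟨⟨⊥, Ideal.isPrime_bot⟩, ?_, rfl⟩⟩
    show c₀ ∉ (⊥ : Ideal A)
    simpa using hc₀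
  · obtain ⟨p, hp, hpx⟩ := hx
    obtain ⟨l, hl⟩ : ∃ l, l ≫ hU₀.fromSpec = x.left := ⟨IsOpenImmersion.lift hU₀.fromSpec x.left (by
      rintro _ ⟨z, rfl⟩
      rw [Subsingleton.elim (α := PrimeSpectrum k) z (IsLocalRing.closedPoint k)]
      exact ⟨p, hpx⟩), IsOpenImmersion.lift_fac _ _ _⟩
    obtain ⟨β, hβ⟩ := Spec.map_surjective l
    have hβk : (CommRingCat.ofHom (algebraMap k A)) ≫ β = 𝟙 _ := by
      apply Spec.map_injective
      rw [Spec.map_comp, hβ, Spec.map_id]
      have := Over.w x
      rw [← hl, Category.assoc] at this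
      refine Eq.trans ?_ this
      congr 1
      exact Spec.map_preimage _
    have hne : β.hom c₀ ≠ 0 := by
      intro h0
      have hlp : l (IsLocalRing.closedPoint k) = p := hU₀.fromSpec.isOpenEmbedding.injective (by
        rw [← Scheme.Hom.comp_apply, hl]
        exact hpx.symm)
      apply hp
      rw [← hlp, ← hβ]
      show β.hom c₀ ∈ (IsLocalRing.closedPoint k).asIdeal
      rw [h0]
      exact Ideal.zero_mem _
    -- reduce to affine test schemes
    let aff := {W : S.left.Opens // IsAffineOpen W}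
    let Y : aff → Over (Spec (CommRingCat.of k)) := fun W => Over.mk (W.2.fromSpec ≫ S.hom)
    let cv : ∀ W, Y W ⟶ S := fun W => Over.homMk W.2.fromSpec rfl
    haveI : ∀ W, Flat (cv W).left := fun W => inferInstanceAs (Flat W.2.fromSpec)
    refine eq_of_cover cv (fun z => ?_) fun W => ?_
    · obtain ⟨_, ⟨W, hW, rfl⟩, hz, -⟩ := S.left.isBasis_affineOpens.exists_subset_of_mem_open
        (Set.mem_univ z) isOpen_univ
      exact ⟨⟨W, hW⟩, (hW.range_fromSpec).ge hz⟩
    let C := Γ(S.left, W.1)
    letI : Algebra k C := (Spec.preimage (W.2.fromSpec ≫ S.hom)).hom.toAlgebra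
    letI : Algebra A C := ((algebraMap k C).comp β.hom).toAlgebra
    haveI : IsScalarTower k A C := IsScalarTower.of_algebraMap_eq fun s =>
      congrArg (algebraMap k C) (congrArg (fun f => f.hom s) hβk).symm
    let e : X (𝟙 (Spec (CommRingCat.of k))) C ⟶ Y W := Over.homMk (𝟙 _) (by
      simp only [Category.id_comp, Over.mk_hom, Category.comp_id, RingHom.algebraMap_toAlgebra]
      exact (Spec.map_preimage _).symm)
    haveI : IsIso ((Over.forget _).map e) := inferInstanceAs (IsIso (𝟙 (Spec C)))
    haveI : IsIso e := isIso_of_reflects_iso e (Over.forget _)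
    rw [← cancel_epi e, MonObj.comp_one, MonObj.comp_one]
    obtain ⟨χ, hχ⟩ := ((idChart k N).bij C).2 ((e ≫ cv W ≫ g) ≫ ψ')
    have hx' : (e ≫ cv W) ≫ toUnit S ≫ x = mor (𝟙 _) (IsScalarTower.toAlgHom k A C) ≫ xA := by
      rw [← Category.assoc, toUnit_unique ((e ≫ cv W) ≫ toUnit S) (toUnit _)]
      ext1
      show (Spec.map (CommRingCat.ofHom (algebraMap k C)) ≫ 𝟙 _) ≫ x.left = Spec.map _ ≫ hU₀.fromSpec
      rw [Category.comp_id, ← hl, ← hβ, ← Category.assoc, ← Spec.map_comp]
      rfl
    have hfix : Fix b xA C χ := by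
      rw [Fix, hχ, AlgGrp.Action.lift_restrict_act, Category.assoc, hψ₂, Category.comp_id, ← hx']
      have h1 := (e ≫ cv W) ≫= hg
      rw [comp_lift_assoc, Category.assoc] at h1
      simpa [Category.assoc] using h1
    have hker := (hJ C χ).1 hfix
    have hχ1 : ∀ m, χ (Multiplicative.ofAdd m) = 1 := eq_one_of_single χ fun i => by
      have h1 := hker _ (hcJ (Multiplicative.ofAdd (Pi.single i 1)))
      rw [map_smul, map_sub, map_one, evalAt, MonoidAlgebra.lift_of, Algebra.smul_def] at h1
      have hu : IsUnit (algebraMap A C (c (Multiplicative.ofAdd (Pi.single i 1)))) := by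
        show IsUnit (algebraMap k C (β.hom _))
        refine (IsUnit.mk0 _ fun h0 => hne ?_).map _
        rw [show c₀ = _ from rfl, map_prod]
        exact Finset.prod_eq_zero (Finset.mem_univ i) h0
      exact sub_eq_zero.1 (hu.mul_right_eq_zero.1 h1)
    have : χ = 1 := MonoidHom.ext fun m => hχ1 m.toAdd
    rw [this, pt_one] at hχ
    have h2 := congrArg (· ≫ ψ) hχ
    simp only [Category.assoc, hψ₂, Category.comp_id, MonObj.one_comp] at h2
    exact h2.symm

end Groth.L19.TorusStab
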