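import Groth.Agent.L25.SplitSub.KernelField
import Groth.Prelude.Def_ChGrp

/-!
# Ideals of group algebras over a field closed under multiplication are cut out by characters;
# stabiliser ideals of split torus actions
-/

set_option autoImplicit false
universe u

open CategoryTheory MonoidalCategory CartesianMonoidalCategory AlgebraicGeometry
open TensorProduct
open scoped MonObj

set_option backward.isDefEq.respectTransparency.types false
set_option linter.style.haveILetI false

noncomputable section

namespace Groth.L19.TorusStab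

open Groth.L25.SplitSub Groth.L25.Cocycle Groth.L25

/-- A condition on characters cut out by an ideal and stable under products is cut out by characters. -/
theorem exists_chars {k : Type u} [Field k] {N : Type} [AddCommGroup N]
    (P : ∀ (C : Type u) [CommRing C] [Algebra k C], (Multiplicative N →* C) → Prop)
    (I : Ideal (MonoidAlgebra k (Multiplicative N)))
    (hI : ∀ (C : Type u) [CommRing C] [Algebra k C] (χ : Multiplicative N →* C), P C χ ↔ ∀ x ∈ I, evalAt χ x = 0)
    (h1 : P k 1)
    (hmul : ∀ (C : Type u) [CommRing C] [Algebra k C] (χ ψ : Multiplicative N →* C), P C χ → P C ψ → P C (χ * ψ)) :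
    ∃ A : AddSubgroup N, ∀ (C : Type u) [CommRing C] [Algebra k C] (χ : Multiplicative N →* C),
      P C χ ↔ ∀ n ∈ A, χ (Multiplicative.ofAdd n) = 1 := by
  classical
  let B := MonoidAlgebra k (Multiplicative N)
  let Q := B ⧸ I
  let q : B →ₐ[k] Q := Ideal.Quotient.mkₐ k I
  let g : Multiplicative N →* Q := (q : B →* Q).comp (MonoidAlgebra.of k _)
  have hq : ∀ x, evalAt g x = q x := fun x => by
    induction x using MonoidAlgebra.induction_linear with
    | zero => rw [map_zero, map_zero]
    | add a b ha hb => rw [map_add, map_add, ha, hb]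
    | single m c =>
      rw [show evalAt g (MonoidAlgebra.single m c) = c • g m from MonoidAlgebra.lift_single _ _ _,
        show (MonoidAlgebra.single m c : B) = c • MonoidAlgebra.single m 1 by
          rw [MonoidAlgebra.smul_single, smul_eq_mul, _root_.mul_one], map_smul]
      rfl
  have hker : ∀ {C : Type u} [CommRing C] [Algebra k C] (χ : Multiplicative N →* C),
      P C χ → ∃ f : Q →ₐ[k] C, ∀ m, f (g m) = χ m := by
    intro C _ _ χ h
    refine ⟨Ideal.Quotient.liftₐ I (evalAt χ) ((hI C χ).1 h), fun m => ?_⟩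
    exact (Ideal.Quotient.lift_mk I _ _).trans (MonoidAlgebra.lift_of χ m)
  haveI : Nontrivial Q := by
    obtain ⟨f, -⟩ := hker _ h1
    exact f.toRingHom.domain_nontrivial
  have hg : ∀ {C : Type u} [CommRing C] [Algebra k C] (f : Q →ₐ[k] C),
      P C ((f : Q →* C).comp g) := fun {C} _ _ f => (hI C _).2 fun x hx => by
    have e : evalAt ((f : Q →* C).comp g) = f.comp (evalAt g) :=
      (MonoidAlgebra.lift k C (Multiplicative N)).symm.injective (MonoidHom.ext fun m => by simp [evalAt])
    rw [e, AlgHom.comp_apply, hq, show q x = 0 from Ideal.Quotient.eq_zero_iff_mem.2 hx, map_zero]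
  letI iQQ : CommRing (Q ⊗[k] Q) := inferInstance
  let g₁ : Multiplicative N →* Q ⊗[k] Q :=
    ((Algebra.TensorProduct.includeLeft : Q →ₐ[k] Q ⊗[k] Q) : Q →* Q ⊗[k] Q).comp g
  let g₂ : Multiplicative N →* Q ⊗[k] Q :=
    ((Algebra.TensorProduct.includeRight : Q →ₐ[k] Q ⊗[k] Q) : Q →* Q ⊗[k] Q).comp g
  obtain ⟨Δ, hΔ⟩ := hker (C := Q ⊗[k] Q) (g₁ * g₂)
    (hmul _ g₁ g₂ (hg (C := Q ⊗[k] Q) Algebra.TensorProduct.includeLeft)
      (hg (C := Q ⊗[k] Q) Algebra.TensorProduct.includeRight))
  have hΔg : ∀ m, Δ (g m) = g m ⊗ₜ g m := fun m => by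
    rw [hΔ]
    show (g m ⊗ₜ[k] (1 : Q)) * ((1 : Q) ⊗ₜ[k] g m) = _
    rw [Algebra.TensorProduct.tmul_mul_tmul, _root_.mul_one, _root_.one_mul]
  let A : AddSubgroup N := AddMonoidHom.ker (MonoidHom.toAdditiveRight g.toHomUnits)
  have hA : ∀ n, n ∈ A ↔ g (Multiplicative.ofAdd n) = 1 := fun n => by
    show Additive.ofMul (g.toHomUnits (Multiplicative.ofAdd n)) = 0 ↔ _
    rw [ofMul_eq_zero, ← Units.val_inj]
    rfl
  refine ⟨A, fun C _ _ χ => ⟨fun h n hn => ?_, fun h => (hI C χ).2 fun x hx => ?_⟩⟩
  · obtain ⟨f, hf⟩ := hker χ h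
    rw [← hf, (hA n).1 hn, map_one]
  · have hzero : ∑ m ∈ x.coeff.support, x.coeff m • g m = 0 := by
      have h2 : evalAt g x = 0 := by rw [hq]; exact Ideal.Quotient.eq_zero_iff_mem.2 hx
      rw [evalAt, MonoidAlgebra.lift_apply] at h2
      exact h2
    have hχg : ∀ m m', g m = g m' → χ m = χ m' := fun m m' e => by
      have h3 : g (m / m') = 1 := by
        have h5 : g (m / m') * g m' = g m' := by rw [← map_mul, div_mul_cancel, e]
        exact (((Group.isUnit m').map g).mul_eq_right).1 h5
      have h4 : χ (m / m') = 1 := h (m / m').toAdd ((hA _).2 h3)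
      rw [show m = m / m' * m' from (div_mul_cancel m m').symm, map_mul, h4, _root_.one_mul]
    rw [← Finset.sum_fiberwise_of_maps_to (g := g) (t := x.coeff.support.image g)
      (fun m hm => Finset.mem_image_of_mem _ hm)] at hzero
    have hcoef : ∀ a ∈ x.coeff.support.image g, ∑ m ∈ x.coeff.support.filter (fun m => g m = a), x.coeff m = 0 := by
      have hLI := linearIndependent_diag Δ.toLinearMap (x.coeff.support.image g) (fun a ha => by
        obtain ⟨m, -, rfl⟩ := Finset.mem_image.1 ha
        exact ⟨hΔg m, ((Group.isUnit m).map g).ne_zero⟩)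
      intro a ha
      refine Fintype.linearIndependent_iff.1 hLI
        (fun b => ∑ m ∈ x.coeff.support.filter (fun m => g m = (b : Q)), x.coeff m) ?_ ⟨a, ha⟩
      rw [← hzero]
      refine (Finset.sum_coe_sort (x.coeff.support.image g) (fun b =>
        (∑ m ∈ x.coeff.support.filter (fun m => g m = b), x.coeff m) • b)).trans (Finset.sum_congr rfl fun b _ => ?_)
      rw [Finset.sum_smul]
      exact Finset.sum_congr rfl fun m hm => by rw [(Finset.mem_filter.1 hm).2]
    rw [evalAt, MonoidAlgebra.lift_apply, Finsupp.sum,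
      ← Finset.sum_fiberwise_of_maps_to (g := g) (t := x.coeff.support.image g)
      (fun m hm => Finset.mem_image_of_mem _ hm)]
    refine Finset.sum_eq_zero fun a ha => ?_
    obtain ⟨m₀, -, hm₀⟩ := Finset.mem_image.1 ha
    have h5 : ∀ m ∈ x.coeff.support.filter (fun m => g m = a), x.coeff m • χ m = x.coeff m • χ m₀ :=
      fun m hm => by rw [hχg m m₀ ((Finset.mem_filter.1 hm).2.trans hm₀.symm)]
    rw [Finset.sum_congr rfl h5, ← Finset.sum_smul, hcoef a ha, zero_smul]

variable {k : Type u} [Field k] {N : Type} [AddCommGroup N] {Y : Over (Spec (CommRingCat.of k))}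
  (act : AlgGrp.Action (Red.DS (Spec (CommRingCat.of k)) N) Y)
  {A : Type u} [CommRing A] [Algebra k A] (xA : X (𝟙 (Spec (CommRingCat.of k))) A ⟶ Y)

/-- The character `χ` fixes the point `xA`. -/
def Fix (C : Type u) [CommRing C] [Algebra k C] [Algebra A C] [IsScalarTower k A C]
    (χ : Multiplicative N →* C) : Prop :=
  lift ((idChart k N).pt χ) (mor (𝟙 _) (IsScalarTower.toAlgHom k A C) ≫ xA) ≫ act.act =
    mor (𝟙 _) (IsScalarTower.toAlgHom k A C) ≫ xA

/-- The stabiliser of `xA` is cut out by an ideal of the group algebra. -/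
theorem exists_ideal_fix [IsSeparated Y.hom] :
    ∃ J : Ideal (MonoidAlgebra A (Multiplicative N)),
      ∀ (C : Type u) [CommRing C] [Algebra k C] [Algebra A C] [IsScalarTower k A C] (χ : Multiplicative N →* C),
        Fix act xA C χ ↔ ∀ x ∈ J, evalAt χ x = 0 := by
  let CA := MonoidAlgebra A (Multiplicative N)
  let U := X (𝟙 (Spec (CommRingCat.of k))) CA
  let t₀ : U ⟶ Red.DS (Spec (CommRingCat.of k)) N := (idChart k N).pt (MonoidAlgebra.of A (Multiplicative N))
  let y₀ : U ⟶ Y := mor (𝟙 _) (IsScalarTower.toAlgHom k A CA) ≫ xA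
  let eι := Limits.equalizer.ι (lift t₀ y₀ ≫ act.act) y₀
  haveI : IsClosedImmersion eι.left := inferInstance
  obtain ⟨J, ε, hε⟩ := (IsClosedImmersion.Spec_iff (R := CommRingCat.of CA) (f := eι.left)).1 ‹_›
  refine ⟨J, fun C _ _ _ _ χ => ?_⟩
  let f : X (𝟙 (Spec (CommRingCat.of k))) C ⟶ U := mor (𝟙 _) ((evalAt χ).restrictScalars k)
  have hf₁ : f ≫ t₀ = (idChart k N).pt χ := by
    rw [(idChart k N).nat]
    congr 1
    exact MonoidHom.ext fun m => MonoidAlgebra.lift_of _ m
  have hf₂ : f ≫ y₀ = mor (𝟙 _) (IsScalarTower.toAlgHom k A C) ≫ xA := by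
    rw [← Category.assoc]
    congr 1
    ext1
    show Spec.map _ ≫ Spec.map _ = Spec.map _
    rw [← Spec.map_comp, ← CommRingCat.ofHom_comp]
    congr 2
    exact RingHom.ext fun r => (evalAt χ).commutes r
  have hiff : Fix act xA C χ ↔ ∃ w, w ≫ eι.left = f.left := by
    constructor
    · intro h
      exact ⟨(Limits.equalizer.lift f (by rw [comp_lift_assoc, hf₁, hf₂]; exact h)).left,
        congrArg CommaMorphism.left (Limits.equalizer.lift_ι f _)⟩
    · rintro ⟨w, hw⟩
      have e : f ≫ lift t₀ y₀ ≫ act.act = f ≫ y₀ := by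
        ext1
        show f.left ≫ (CartesianMonoidalCategory.lift t₀ y₀ ≫ act.act).left = f.left ≫ y₀.left
        rw [← hw, Category.assoc, Category.assoc]
        exact congrArg (w ≫ ·) (congrArg CommaMorphism.left (Limits.equalizer.condition (CartesianMonoidalCategory.lift t₀ y₀ ≫ act.act) y₀))
      rwa [comp_lift_assoc, hf₁, hf₂] at e
  rw [hiff]
  constructor
  · rintro ⟨w, hw⟩ x hx
    obtain ⟨ψ, hψ⟩ := Spec.map_surjective (w ≫ ε.hom)
    have h1 : CommRingCat.ofHom (Ideal.Quotient.mk J) ≫ ψ =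
        CommRingCat.ofHom ((evalAt χ).restrictScalars k).toRingHom := by
      apply Spec.map_injective
      rw [Spec.map_comp, hψ, Category.assoc, ← hε]
      exact hw
    have h2 : ψ.hom (Ideal.Quotient.mk J x) = evalAt χ x := congrArg (fun m => m.hom x) h1
    rw [← h2, Ideal.Quotient.eq_zero_iff_mem.2 hx, map_zero]
  · intro h
    let ψ := Ideal.Quotient.lift J ((evalAt χ).restrictScalars k).toRingHom h
    refine ⟨Spec.map (CommRingCat.ofHom ψ) ≫ ε.inv, ?_⟩
    rw [hε, Category.assoc, Iso.inv_hom_id_assoc, ← Spec.map_comp, ← CommRingCat.ofHom_comp,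
      Ideal.Quotient.lift_comp_mk]
    rfl

theorem fix_mul (C : Type u) [CommRing C] [Algebra k C] [Algebra A C] [IsScalarTower k A C]
    (χ ψ : Multiplicative N →* C) (h₁ : Fix act xA C χ) (h₂ : Fix act xA C ψ) : Fix act xA C (χ * ψ) := by
  rw [Fix, (idChart k N).pt_mul, AlgGrp.Action.lift_mul_act, h₂]
  exact h₁

theorem pt_one (C : Type u) [CommRing C] [Algebra k C] :
    (idChart k N).pt (1 : Multiplicative N →* C) = 1 :=
  DSPts.char_injective (by
    simp only [idChart, stdChart, DSPts.char_pt, DSPts.char_one]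
    exact MonoidHom.ext fun m => by simp)

theorem fix_one (C : Type u) [CommRing C] [Algebra k C] [Algebra A C] [IsScalarTower k A C] :
    Fix act xA C 1 := by
  rw [Fix, pt_one, AlgGrp.Action.lift_one_act]

end Groth.L19.TorusStab
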