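import Groth.Agent.L18.ValCrit
import Mathlib.AlgebraicGeometry.Morphisms.FiniteType
import Mathlib.AlgebraicGeometry.Morphisms.QuasiSeparated
import Mathlib.Order.Filter.Ultrafilter.Basic
import Mathlib.RingTheory.Valuation.ValuationRing
import Mathlib.RingTheory.Ideal.Quotient.Basic

/-!
Ultraproducts of points of schemes with values in local rings, and the passage of lifts in valuative
squares from the ultraproduct to almost all factors.
-/

noncomputable section

namespace Groth.L19.Ultra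

open CategoryTheory AlgebraicGeometry Limits IsLocalRing Filter

universe u

set_option backward.isDefEq.respectTransparency.types false
set_option backward.isDefEq.respectTransparency false

variable {α : Type u} (U : Ultrafilter α)

section Ring

variable (R : α → Type u) [∀ p, CommRing (R p)]

/-- The ideal of families vanishing almost everywhere. -/
def nullIdeal : Ideal (∀ p, R p) where
  carrier := {x | ∀ᶠ p in U, x p = 0}
  add_mem' hx hy := by
    filter_upwards [hx, hy] with p h1 h2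
    simp [h1, h2]
  zero_mem' := .of_forall fun _ => rfl
  smul_mem' c x hx := by
    filter_upwards [hx] with p h1
    simp [h1]

/-- The ultraproduct of a family of rings. -/
abbrev UProd : Type u := (∀ p, R p) ⧸ nullIdeal U R

variable {R}

/-- The class of a family. -/
def mk : (∀ p, R p) →+* UProd U R := Ideal.Quotient.mk _

theorem mk_eq_mk {x y : ∀ p, R p} : mk U x = mk U y ↔ ∀ᶠ p in U, x p = y p := by
  rw [mk, Ideal.Quotient.eq]
  exact eventually_congr (.of_forall fun p => sub_eq_zero)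

theorem mk_surjective (z : UProd U R) : ∃ x, mk U x = z := Ideal.Quotient.mk_surjective z

theorem isUnit_mk {x : ∀ p, R p} : IsUnit (mk U x) ↔ ∀ᶠ p in U, IsUnit (x p) := by
  constructor
  · intro h
    obtain ⟨z, hz⟩ := h.exists_right_inv
    obtain ⟨y, rfl⟩ := mk_surjective U z
    rw [← map_mul, ← map_one (mk U), mk_eq_mk] at hz
    filter_upwards [hz] with p hp using IsUnit.of_mul_eq_one _ hp
  · intro h
    refine IsUnit.of_mul_eq_one (mk U fun p => Ring.inverse (x p)) ?_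
    rw [← map_mul, ← map_one (mk U), mk_eq_mk]
    filter_upwards [h] with p hp using Ring.mul_inverse_cancel _ hp

instance [∀ p, Nontrivial (R p)] : Nontrivial (UProd U R) :=
  ⟨⟨mk U 0, mk U 1, fun h => by
    rw [mk_eq_mk] at h
    obtain ⟨p, hp⟩ := h.exists
    exact zero_ne_one hp⟩⟩

instance [∀ p, IsLocalRing (R p)] : IsLocalRing (UProd U R) := by
  refine .of_isUnit_or_isUnit_one_sub_self fun z => ?_
  obtain ⟨x, rfl⟩ := mk_surjective U z
  rw [← map_one (mk U), ← map_sub, isUnit_mk, isUnit_mk, ← Ultrafilter.eventually_or]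
  exact .of_forall fun p => isUnit_or_isUnit_one_sub_self _

instance [∀ p, IsDomain (R p)] : IsDomain (UProd U R) := by
  have : NoZeroDivisors (UProd U R) := ⟨fun {a b} h => by
    obtain ⟨x, rfl⟩ := mk_surjective U a
    obtain ⟨y, rfl⟩ := mk_surjective U b
    rw [← map_mul, ← map_zero (mk U), mk_eq_mk] at h
    rw [← map_zero (mk U), mk_eq_mk, mk_eq_mk, ← Ultrafilter.eventually_or]
    exact h.mono fun p hp => mul_eq_zero.mp hp⟩
  exact NoZeroDivisors.to_isDomain _

instance [∀ p, IsDomain (R p)] [∀ p, ValuationRing (R p)] : ValuationRing (UProd U R) := by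
  have : PreValuationRing (UProd U R) := ⟨fun a b => by
    obtain ⟨x, rfl⟩ := mk_surjective U a
    obtain ⟨y, rfl⟩ := mk_surjective U b
    choose c hc using fun p => ValuationRing.cond (x p) (y p)
    refine ⟨mk U c, ?_⟩
    rw [← map_mul, ← map_mul, mk_eq_mk, mk_eq_mk, ← Ultrafilter.eventually_or]
    exact .of_forall hc⟩
  exact { }

variable {K : α → Type u} [∀ p, Field (K p)]

instance : (nullIdeal U K).IsMaximal := by
  refine Ideal.Quotient.maximal_of_isField _ ⟨⟨0, 1, zero_ne_one⟩, mul_comm, fun {z} hz => ?_⟩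
  obtain ⟨x, rfl⟩ := mk_surjective U z
  refine (IsUnit.exists_right_inv ((isUnit_mk U).mpr ?_))
  rw [ne_eq, ← map_zero (mk U), mk_eq_mk] at hz
  exact (Ultrafilter.eventually_not.mpr hz).mono fun p hp => Ne.isUnit hp

instance : Field (UProd U K) := Ideal.Quotient.field _

/-- The map of ultraproducts induced by a family of ring homomorphisms. -/
def map (ρ : ∀ p, R p →+* K p) : UProd U R →+* UProd U K :=
  Ideal.Quotient.lift _ ((mk U).comp (RingHom.pi fun p => (ρ p).comp (Pi.evalRingHom R p)))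
    fun x hx => by
      show mk U (fun p => ρ p (x p)) = 0
      rw [← map_zero (mk U), mk_eq_mk]
      exact (show ∀ᶠ p in U, x p = 0 from hx).mono fun p hp => by rw [hp, map_zero]; rfl

theorem map_mk (ρ : ∀ p, R p →+* K p) (x : ∀ p, R p) :
    map U ρ (mk U x) = mk U fun p => ρ p (x p) := rfl

theorem map_injective (ρ : ∀ p, R p →+* K p) (h : ∀ p, Function.Injective (ρ p)) :
    Function.Injective (map U ρ) := fun a b hab => by
  obtain ⟨x, rfl⟩ := mk_surjective U a
  obtain ⟨y, rfl⟩ := mk_surjective U b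
  rw [map_mk, map_mk, mk_eq_mk] at hab
  exact (mk_eq_mk U).mpr (hab.mono fun p hp => h p hp)

theorem exists_eq_div [∀ p, Algebra (R p) (K p)] [∀ p, IsFractionRing (R p) (K p)] (z : UProd U K) :
    ∃ a b : UProd U R, z = map U (fun p => algebraMap (R p) (K p)) a /
      map U (fun p => algebraMap (R p) (K p)) b := by
  obtain ⟨x, rfl⟩ := mk_surjective U z
  have (p : α) : Nontrivial (R p) := (algebraMap (R p) (K p)).domain_nontrivial
  choose a b hb h using fun p => IsFractionRing.div_surjective (R p) (x p)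
  refine ⟨mk U a, mk U b, (eq_div_iff ?_).mpr ?_⟩
  · rw [map_mk, ne_eq, ← map_zero (mk U), mk_eq_mk]
    exact fun h0 => h0.exists.elim fun p hp => IsFractionRing.to_map_ne_zero_of_mem_nonZeroDivisors
      (K := K p) (hb p) hp
  · rw [map_mk, map_mk, ← map_mul, mk_eq_mk]
    exact .of_forall fun p => (eq_div_iff
      (IsFractionRing.to_map_ne_zero_of_mem_nonZeroDivisors (hb p))).mp (h p).symm

end Ring

section Points

variable {R : α → Type u} [∀ p, CommRing (R p)] {Z Z' : Scheme.{u}}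

/-- A partially defined family of morphisms. -/
abbrev Fam (R : α → Type u) [∀ p, CommRing (R p)] (Z : Scheme.{u}) : Type u :=
  ∀ p, Option (Spec (CommRingCat.of (R p)) ⟶ Z)

/-- The member of index `p` is defined and maps the closed point into `O`. -/
def MemAt [∀ p, IsLocalRing (R p)] (g : Fam R Z) (O : Set Z) (p : α) : Prop :=
  ∃ x, g p = some x ∧ x (closedPoint (R p)) ∈ O

/-- The morphism `G` is the ultralimit of the family `g`, computed in the open `W`. -/
def IsLimAt {W : Z.Opens} (hW : IsAffineOpen W) (g : Fam R Z)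
    (G : Spec (CommRingCat.of (UProd U R)) ⟶ Z) : Prop :=
  ∃ (χ : Γ(Z, W) ⟶ CommRingCat.of (UProd U R)) (ψ : Γ(Z, W) → ∀ p, R p),
    (∀ a, χ.hom a = mk U (ψ a)) ∧ G = Spec.map χ ≫ hW.fromSpec ∧
    ∀ᶠ p in U, ∃ χp : Γ(Z, W) ⟶ CommRingCat.of (R p),
      (∀ a, χp.hom a = ψ a p) ∧ g p = some (Spec.map χp ≫ hW.fromSpec)

/-- The morphism `G` is an ultralimit of the family `g`. -/
def IsLim (g : Fam R Z)
    (G : Spec (CommRingCat.of (UProd U R)) ⟶ Z) : Prop :=
  ∃ (W : Z.Opens) (hW : IsAffineOpen W), IsLimAt U hW g G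

variable {U}
variable {g g' : Fam R Z} {G G' : Spec (CommRingCat.of (UProd U R)) ⟶ Z}

theorem IsLimAt.congr {W : Z.Opens} {hW : IsAffineOpen W} (h : IsLimAt U hW g G)
    (e : ∀ᶠ p in U, g p = g' p) : IsLimAt U hW g' G := by
  obtain ⟨χ, ψ, h1, h2, h3⟩ := h
  exact ⟨χ, ψ, h1, h2, (h3.and e).mono fun p ⟨⟨χp, a, b⟩, hp⟩ => ⟨χp, a, hp ▸ b⟩⟩

theorem IsLim.congr (h : IsLim U g G) (e : ∀ᶠ p in U, g p = g' p) : IsLim U g' G := by
  obtain ⟨W, hW, h⟩ := h
  exact ⟨W, hW, h.congr e⟩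

theorem IsLimAt.unique {W : Z.Opens} {hW : IsAffineOpen W} (h : IsLimAt U hW g G)
    (h' : IsLimAt U hW g G') : G = G' := by
  obtain ⟨χ, ψ, h1, h2, h3⟩ := h
  obtain ⟨χ', ψ', h1', h2', h3'⟩ := h'
  suffices χ = χ' by rw [h2, h2', this]
  ext a
  rw [h1, h1', mk_eq_mk]
  filter_upwards [h3, h3'] with p ⟨χp, ha, hb⟩ ⟨χp', ha', hb'⟩
  rw [hb, Option.some.injEq, cancel_mono] at hb'
  rw [← ha, ← ha', Spec.map_injective hb']

theorem IsLimAt.of_le {V W : Z.Opens} {hV : IsAffineOpen V} (hW : IsAffineOpen W) (hle : V ≤ W)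
    (h : IsLimAt U hV g G) : IsLimAt U hW g G := by
  obtain ⟨χ, ψ, h1, h2, h3⟩ := h
  refine ⟨Z.presheaf.map (homOfLE hle).op ≫ χ, fun a => ψ ((Z.presheaf.map (homOfLE hle).op).hom a),
    fun a => h1 _, ?_, ?_⟩
  · rw [Spec.map_comp, Category.assoc, hW.map_fromSpec hV, h2]
  · filter_upwards [h3] with p ⟨χp, ha, hb⟩
    refine ⟨Z.presheaf.map (homOfLE hle).op ≫ χp, fun a => ha _, ?_⟩
    rw [Spec.map_comp, Category.assoc, hW.map_fromSpec hV, hb]

variable [∀ p, IsLocalRing (R p)]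

theorem exists_isLimAt {W : Z.Opens} (hW : IsAffineOpen W)
    (h : ∀ᶠ p in U, MemAt g W p) : ∃ G, IsLimAt U hW g G := by
  classical
  choose x hx hxW using fun (p : α) (hp : MemAt g W p) => hp
  choose χp hχp using fun (p : α) (hp : MemAt g W p) =>
    Groth.L18.exists_eq_SpecMap_fromSpec hW (x p hp)
      (Groth.L18.range_subset_of_closedPoint_mem _ (hxW p hp))
  let ψ : Γ(Z, W) → ∀ p, R p := fun a p =>
    if hp : MemAt g W p then (χp p hp).hom a else 0
  have hψ : ∀ p (hp : MemAt g W p) a, ψ a p = (χp p hp).hom a := fun p hp a => dif_pos hp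
  let χ : Γ(Z, W) ⟶ CommRingCat.of (UProd U R) := CommRingCat.ofHom
    { toFun := fun a => mk U (ψ a)
      map_one' := by
        rw [← map_one (mk U), mk_eq_mk]
        filter_upwards [h] with p hp
        rw [hψ p hp, map_one]; rfl
      map_zero' := by
        rw [← map_zero (mk U), mk_eq_mk]
        filter_upwards [h] with p hp
        rw [hψ p hp, map_zero]; rfl
      map_add' := fun a b => by
        rw [← map_add, mk_eq_mk]
        filter_upwards [h] with p hp
        rw [Pi.add_apply, hψ p hp, hψ p hp, hψ p hp, map_add]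
      map_mul' := fun a b => by
        rw [← map_mul, mk_eq_mk]
        filter_upwards [h] with p hp
        rw [Pi.mul_apply, hψ p hp, hψ p hp, hψ p hp, map_mul] }
  exact ⟨Spec.map χ ≫ hW.fromSpec, χ, ψ, fun _ => rfl, rfl,
    h.mono fun p hp => ⟨χp p hp, fun a => (hψ p hp a).symm, by rw [hx p hp, hχp p hp]⟩⟩

theorem IsLimAt.eventually_mem {W : Z.Opens} {hW : IsAffineOpen W} (h : IsLimAt U hW g G) :
    ∀ᶠ p in U, MemAt g W p := by
  obtain ⟨χ, ψ, -, -, h3⟩ := h
  filter_upwards [h3] with p ⟨χp, _, hp⟩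
  exact ⟨_, hp, hW.range_fromSpec.le ⟨_, rfl⟩⟩

theorem IsLimAt.restrict {V W : Z.Opens} (hV : IsAffineOpen V) {hW : IsAffineOpen W} (hle : V ≤ W)
    (hmem : ∀ᶠ p in U, MemAt g V p) (h : IsLimAt U hW g G) :
    IsLimAt U hV g G := by
  obtain ⟨G', hG'⟩ := exists_isLimAt hV hmem
  rwa [(hG'.of_le hW hle).unique h] at hG'

/-- Almost all closed points lie in an open containing the closed point of the ultralimit. -/
theorem IsLimAt.eventually_mem_open {W : Z.Opens} {hW : IsAffineOpen W} (h : IsLimAt U hW g G)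
    {O : Z.Opens} (hO : G (closedPoint (UProd U R)) ∈ O) :
    ∀ᶠ p in U, MemAt g O p := by
  obtain ⟨χ, ψ, h1, h2, h3⟩ := h
  have hGW : G (closedPoint (UProd U R)) ∈ W := by rw [h2]; exact hW.range_fromSpec.le ⟨_, rfl⟩
  obtain ⟨a, ha, hmem⟩ := hW.exists_basicOpen_le ⟨_, hO⟩ hGW
  have key : ∀ {S : Type u} [CommRing S] [IsLocalRing S] (θ : Γ(Z, W) ⟶ CommRingCat.of S),
      (Spec.map θ ≫ hW.fromSpec) (closedPoint S) ∈ Z.basicOpen a ↔ IsUnit (θ.hom a) := by
    intro S _ _ θ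
    show Spec.map θ (closedPoint S) ∈ hW.fromSpec ⁻¹ᵁ Z.basicOpen a ↔ _
    rw [hW.fromSpec_preimage_basicOpen]
    show θ.hom a ∉ maximalIdeal S ↔ _
    exact IsLocalRing.notMem_maximalIdeal
  have hmem' : G (closedPoint (UProd U R)) ∈ Z.basicOpen a := hmem
  rw [h2] at hmem'
  have hu := (key χ).mp hmem'
  rw [h1, isUnit_mk] at hu
  filter_upwards [h3, hu] with p ⟨χp, hp, hgp⟩ hup
  exact ⟨_, hgp, ha ((key χp).mpr (hp a ▸ hup))⟩

theorem IsLim.eventually_mem_open (h : IsLim U g G) {O : Z.Opens}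
    (hO : G (closedPoint (UProd U R)) ∈ O) : ∀ᶠ p in U, MemAt g O p := by
  obtain ⟨W, hW, h⟩ := h
  exact h.eventually_mem_open hO

theorem IsLim.mem_of_isClosed (h : IsLim U g G) {C : Set Z} (hC : IsClosed C)
    (hm : ∀ᶠ p in U, MemAt g C p) : G (closedPoint (UProd U R)) ∈ C := by
  by_contra hn
  obtain ⟨p, ⟨x, h1, h1'⟩, ⟨x', h2, h2'⟩⟩ :=
    ((h.eventually_mem_open (O := ⟨Cᶜ, hC.isOpen_compl⟩) hn).and hm).exists
  rw [h1, Option.some.injEq] at h2
  exact h1' (h2 ▸ h2')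

/-- Some member of a finite affine cover of a quasi-compact open contains almost all closed points. -/
theorem exists_affine_le {O : Z.Opens} (hO : IsCompact (O : Set Z))
    (h : ∀ᶠ p in U, MemAt g O p) :
    ∃ V : Z.Opens, IsAffineOpen V ∧ V ≤ O ∧ ∀ᶠ p in U, MemAt g V p := by
  obtain ⟨s, hs, he⟩ := isCompact_and_isOpen_iff_finite_and_eq_biUnion_affineOpens.mp ⟨hO, O.2⟩
  obtain ⟨V, hV, hVm⟩ := (Ultrafilter.eventually_exists_mem_iff hs
    (P := fun (V : Z.affineOpens) p => MemAt g (V : Z.Opens) p)).mp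
    (h.mono fun p ⟨x, hx, hxO⟩ => by
      obtain ⟨V, hV, hxV⟩ := Set.mem_iUnion₂.mp (he.le hxO)
      exact ⟨V, hV, x, hx, hxV⟩)
  exact ⟨V, V.2, fun z hz => he.ge (Set.mem_iUnion₂.mpr ⟨V, hV, hz⟩), hVm⟩

variable (U g) in
/-- Ultralimits exist on a quasi-compact scheme. -/
theorem exists_isLim [CompactSpace Z] (h : ∀ᶠ p in U, (g p).isSome) : ∃ G, IsLim U g G := by
  obtain ⟨V, hV, -, hm⟩ := exists_affine_le (g := g) (U := U) (O := ⊤)
    (by simpa using! isCompact_univ) (h.mono fun p hp => ⟨_, (Option.some_get hp).symm, trivial⟩)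
  obtain ⟨G, hG⟩ := exists_isLimAt hV hm
  exact ⟨G, V, hV, hG⟩

/-- Ultralimits are unique on a quasi-separated scheme. -/
theorem IsLim.unique [QuasiSeparatedSpace Z] (h : IsLim U g G) (h' : IsLim U g G') : G = G' := by
  obtain ⟨W, hW, h⟩ := h
  obtain ⟨W', hW', h'⟩ := h'
  have hc : IsCompact ((W ⊓ W' : Z.Opens) : Set Z) :=
    IsCompact.inter_of_isOpen hW.isCompact hW'.isCompact W.2 W'.2
  obtain ⟨V, hV, hle, hm⟩ := exists_affine_le hc ((h.eventually_mem.and h'.eventually_mem).mono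
    fun p ⟨⟨x, hx, hxW⟩, ⟨x', hx', hxW'⟩⟩ => ⟨x, hx, hxW, by
      rw [hx, Option.some.injEq] at hx'
      exact hx' ▸ hxW'⟩)
  exact (h.restrict hV (hle.trans inf_le_left) hm).unique
    (h'.restrict hV (hle.trans inf_le_right) hm)

/-- Ultralimits are compatible with composition. -/
theorem IsLim.comp (h : IsLim U g G) (f : Z ⟶ Z') :
    IsLim U (fun p => (g p).map (· ≫ f)) (G ≫ f) := by
  obtain ⟨W, hW, h⟩ := h
  obtain ⟨_, ⟨W', hW', rfl⟩, hmW', -⟩ := Z'.isBasis_affineOpens.exists_subset_of_mem_open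
    (Set.mem_univ (f (G (closedPoint (UProd U R))))) isOpen_univ
  replace hW' : IsAffineOpen W' := hW'
  have hGW : G (closedPoint (UProd U R)) ∈ W := by
    obtain ⟨χ, ψ, -, h2, -⟩ := h
    rw [h2]; exact hW.range_fromSpec.le ⟨_, rfl⟩
  obtain ⟨_, ⟨V, hV, rfl⟩, hmV, hVle⟩ := Z.isBasis_affineOpens.exists_subset_of_mem_open
    (show G (closedPoint (UProd U R)) ∈ (W ⊓ f ⁻¹ᵁ W' : Z.Opens) from ⟨hGW, hmW'⟩)
    (W ⊓ f ⁻¹ᵁ W').2
  replace hV : IsAffineOpen V := hV
  have hle : V ≤ f ⁻¹ᵁ W' := fun z hz => (hVle hz).2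
  obtain ⟨χ, ψ, h1, h2, h3⟩ :=
    h.restrict hV (fun z hz => (hVle hz).1) (h.eventually_mem_open hmV)
  refine ⟨W', hW', f.appLE W' V hle ≫ χ, fun a => ψ ((f.appLE W' V hle).hom a), fun a => h1 _, ?_, ?_⟩
  · rw [h2, Category.assoc, Spec.map_comp, Category.assoc,
      IsAffineOpen.SpecMap_appLE_fromSpec f hW' hV hle]
  · filter_upwards [h3] with p ⟨χp, ha, hb⟩
    refine ⟨f.appLE W' V hle ≫ χp, fun a => ha _, ?_⟩
    rw [hb, Option.map_some, Category.assoc, Spec.map_comp, Category.assoc,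
      IsAffineOpen.SpecMap_appLE_fromSpec f hW' hV hle]

omit [∀ p, IsLocalRing (R p)] in
/-- Ultralimits are compatible with a family of ring maps to fields. -/
theorem IsLim.map {K : α → Type u} [∀ p, Field (K p)] (ρ : ∀ p, R p →+* K p) (h : IsLim U g G) :
    IsLim U (fun p => (g p).map (Spec.map (CommRingCat.ofHom (ρ p)) ≫ ·))
      (Spec.map (CommRingCat.ofHom (Ultra.map U ρ)) ≫ G) := by
  obtain ⟨W, hW, χ, ψ, h1, h2, h3⟩ := h
  refine ⟨W, hW, χ ≫ CommRingCat.ofHom (Ultra.map U ρ), fun a p => ρ p (ψ a p), fun a => ?_, ?_, ?_⟩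
  · show Ultra.map U ρ (χ.hom a) = _
    rw [h1, map_mk]
  · rw [h2, Spec.map_comp, Category.assoc]
  · filter_upwards [h3] with p ⟨χp, ha, hb⟩
    refine ⟨χp ≫ CommRingCat.ofHom (ρ p), fun a => ?_, by rw [hb, Option.map_some, Spec.map_comp, Category.assoc]⟩
    show ρ p (χp.hom a) = _
    rw [ha]

end Points

section Lift

variable {R : α → Type u} [∀ p, CommRing (R p)] [∀ p, IsLocalRing (R p)]
  {K : α → Type u} [∀ p, Field (K p)]

/-- A lift in the ultraproduct of a family of squares gives lifts in almost all of them. -/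
theorem eventually_exists_lift_fam (ρ : ∀ p, R p →+* K p) (hρ : ∀ p, Function.Injective (ρ p))
    {X Y : Scheme.{u}} [QuasiSeparatedSpace X] (f : X ⟶ Y) [LocallyOfFiniteType f]
    {m : ∀ p, Spec (CommRingCat.of (K p)) ⟶ X} {φ : Fam R Y}
    {M : Spec (CommRingCat.of (UProd U K)) ⟶ X} {Φ : Spec (CommRingCat.of (UProd U R)) ⟶ Y}
    (hM : IsLim U (fun p => some (m p)) M) (hΦ : IsLim U φ Φ)
    (w : ∀ᶠ p in U, ∃ x, φ p = some x ∧ m p ≫ f = Spec.map (CommRingCat.ofHom (ρ p)) ≫ x)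
    (L : Spec (CommRingCat.of (UProd U R)) ⟶ X)
    (hLM : Spec.map (CommRingCat.ofHom (map U ρ)) ≫ L = M) (hLΦ : L ≫ f = Φ) :
    ∀ᶠ p in U, ∃ x l, φ p = some x ∧
      Spec.map (CommRingCat.ofHom (ρ p)) ≫ l = m p ∧ l ≫ f = x := by
  classical
  obtain ⟨W, hW, χY, ψY, hY1, hY2, hY3⟩ := hΦ
  have hLW : L (closedPoint (UProd U R)) ∈ f ⁻¹ᵁ W := by
    show f (L (closedPoint (UProd U R))) ∈ W
    rw [← Scheme.Hom.comp_apply, hLΦ, hY2]
    exact hW.range_fromSpec.le ⟨_, rfl⟩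
  obtain ⟨_, ⟨V, hV, rfl⟩, hmV, hle⟩ :=
    X.isBasis_affineOpens.exists_subset_of_mem_open hLW (f ⁻¹ᵁ W).2
  replace hV : IsAffineOpen V := hV
  obtain ⟨lam, hlam⟩ := Groth.L18.exists_eq_SpecMap_fromSpec hV L
    (Groth.L18.range_subset_of_closedPoint_mem _ hmV)
  have hMV : M (closedPoint (UProd U K)) ∈ V := by
    rw [← hLM, hlam, ← Category.assoc]
    exact hV.range_fromSpec.le ⟨_, rfl⟩
  obtain ⟨M', hM'⟩ := exists_isLimAt (g := fun p => some (m p)) hV (hM.eventually_mem_open hMV)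
  obtain rfl : M' = M := IsLim.unique ⟨V, hV, hM'⟩ hM
  obtain ⟨χX, ψX, hX1, hX2, hX3⟩ := hM'
  have hcomp : ∀ a, map U ρ (lam.hom a) = mk U (ψX a) := by
    have h := hLM
    rw [hlam, ← Spec.map_comp_assoc, hX2, cancel_mono] at h
    intro a
    rw [← hX1]
    exact congr($(Spec.map_injective h) a)
  obtain ⟨t, ht⟩ : ∃ t : Finset Γ(X, V), Subring.closure
      (Set.range (f.appLE W V hle).hom ∪ t) = ⊤ := by
    let _ : Algebra Γ(Y, W) Γ(X, V) := (f.appLE W V hle).hom.toAlgebra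
    obtain ⟨t, ht⟩ : (⊤ : Subalgebra Γ(Y, W) Γ(X, V)).FG := (f.finiteType_appLE hW hV hle).1
    refine ⟨t, top_unique fun a _ => ?_⟩
    have ha : a ∈ Algebra.adjoin Γ(Y, W) (t : Set Γ(X, V)) := ht.ge Algebra.mem_top
    exact Algebra.adjoin_eq_ring_closure (R := Γ(Y, W)) (t : Set Γ(X, V)) ▸ ha
  have hgen : ∀ a ∈ t, ∀ᶠ p in U, ψX a p ∈ (ρ p).range := fun a _ => by
    obtain ⟨r, hr⟩ := mk_surjective U (lam.hom a)
    have h := hcomp a
    rw [← hr, map_mk, mk_eq_mk] at h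
    exact h.mono fun p hp => ⟨r p, hp⟩
  filter_upwards [w, hX3, hY3, (t.eventually_all).mpr hgen] with p ⟨x, hx, hw⟩ ⟨χp, hχ, hm⟩ ⟨θ, hθ, hφ⟩ hp
  have hbase : f.appLE W V hle ≫ χp = θ ≫ CommRingCat.ofHom (ρ p) := by
    rw [Option.some.inj hm, Option.some.inj (hx.symm.trans hφ), Category.assoc, ← IsAffineOpen.SpecMap_appLE_fromSpec f hW hV hle,
      ← Spec.map_comp_assoc, ← Spec.map_comp_assoc, cancel_mono] at hw
    exact Spec.map_injective hw
  have hrange : ∀ a, χp.hom a ∈ (ρ p).range := by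
    intro a
    have ha : a ∈ Subring.closure (Set.range (f.appLE W V hle).hom ∪ t) := ht ▸ trivial
    induction ha using Subring.closure_induction with
    | mem z hz =>
      rcases hz with ⟨b, rfl⟩ | hz
      · exact ⟨θ.hom b, congr($hbase b).symm⟩
      · rw [hχ]; exact hp z hz
    | zero => rw [map_zero]; exact zero_mem _
    | one => rw [map_one]; exact one_mem _
    | add _ _ _ _ h1 h2 => rw [map_add]; exact add_mem h1 h2
    | neg _ _ h1 => rw [map_neg]; exact neg_mem h1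
    | mul _ _ _ _ h1 h2 => rw [map_mul]; exact mul_mem h1 h2
  let e : R p ≃+* (ρ p).range := RingEquiv.ofBijective (ρ p).rangeRestrict
    ⟨fun a b h => hρ p (congrArg Subtype.val h), (ρ p).rangeRestrict_surjective⟩
  let ν : Γ(X, V) ⟶ CommRingCat.of (R p) :=
    CommRingCat.ofHom (e.symm.toRingHom.comp (χp.hom.codRestrict (ρ p).range hrange))
  have hν : ν ≫ CommRingCat.ofHom (ρ p) = χp := by
    ext a
    exact congrArg Subtype.val (e.apply_symm_apply ⟨χp.hom a, hrange a⟩)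
  refine ⟨x, Spec.map ν ≫ hV.fromSpec, hx, ?_, ?_⟩
  · rw [← Spec.map_comp_assoc, hν, Option.some.inj hm]
  · have hθν : f.appLE W V hle ≫ ν = θ := by
      ext a
      exact hρ p ((congr($hν ((f.appLE W V hle).hom a))).trans congr($hbase a))
    rw [Option.some.inj (hx.symm.trans hφ), Category.assoc, ← IsAffineOpen.SpecMap_appLE_fromSpec f hW hV hle,
      ← Spec.map_comp_assoc, hθν]

omit [∀ p, Field (K p)] in
/-- Two families with equal ultralimits and equal composites to a base of finite type are equal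
almost everywhere. -/
theorem eventually_eq_of_isLim {X Y : Scheme.{u}} [QuasiSeparatedSpace X] (f : X ⟶ Y)
    [LocallyOfFiniteType f] {l₁ l₂ : Fam R X} {L : Spec (CommRingCat.of (UProd U R)) ⟶ X}
    (h₁ : IsLim U l₁ L) (h₂ : IsLim U l₂ L)
    (w : ∀ᶠ p in U, (l₁ p).map (· ≫ f) = (l₂ p).map (· ≫ f)) :
    ∀ᶠ p in U, l₁ p = l₂ p := by
  obtain ⟨_, ⟨W, hW, rfl⟩, hmW, -⟩ := Y.isBasis_affineOpens.exists_subset_of_mem_open
    (Set.mem_univ (f (L (closedPoint (UProd U R))))) isOpen_univ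
  replace hW : IsAffineOpen W := hW
  obtain ⟨_, ⟨V, hV, rfl⟩, hmV, hle⟩ :=
    X.isBasis_affineOpens.exists_subset_of_mem_open
      (show L (closedPoint (UProd U R)) ∈ f ⁻¹ᵁ W from hmW) (f ⁻¹ᵁ W).2
  replace hV : IsAffineOpen V := hV
  obtain ⟨L₁, e₁⟩ := exists_isLimAt (g := l₁) hV (h₁.eventually_mem_open hmV)
  obtain ⟨L₂, e₂⟩ := exists_isLimAt (g := l₂) hV (h₂.eventually_mem_open hmV)
  obtain rfl : L₁ = L := IsLim.unique ⟨V, hV, e₁⟩ h₁
  obtain rfl : L₂ = L₁ := IsLim.unique ⟨V, hV, e₂⟩ h₂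
  obtain ⟨χ, ψ, hχ, hL, h3⟩ := e₁
  obtain ⟨χ', ψ', hχ', hL', h3'⟩ := e₂
  have hψ : ∀ a, ∀ᶠ p in U, ψ a p = ψ' a p := fun a => by
    rw [← mk_eq_mk, ← hχ, ← hχ']
    rw [hL, cancel_mono] at hL'
    rw [Spec.map_injective hL']
  obtain ⟨t, ht⟩ : ∃ t : Finset Γ(X, V), Subring.closure
      (Set.range (f.appLE W V hle).hom ∪ t) = ⊤ := by
    let _ : Algebra Γ(Y, W) Γ(X, V) := (f.appLE W V hle).hom.toAlgebra
    obtain ⟨t, ht⟩ : (⊤ : Subalgebra Γ(Y, W) Γ(X, V)).FG := (f.finiteType_appLE hW hV hle).1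
    refine ⟨t, top_unique fun a _ => ?_⟩
    have ha : a ∈ Algebra.adjoin Γ(Y, W) (t : Set Γ(X, V)) := ht.ge Algebra.mem_top
    exact Algebra.adjoin_eq_ring_closure (R := Γ(Y, W)) (t : Set Γ(X, V)) ▸ ha
  filter_upwards [h3, h3', w, (t.eventually_all).mpr fun a _ => hψ a] with
    p ⟨χp, ha, hp⟩ ⟨χp', ha', hp'⟩ hw ht'
  rw [hp, hp']
  rw [hp, hp', Option.map_some, Option.map_some, Option.some.injEq, Category.assoc,
    Category.assoc, ← IsAffineOpen.SpecMap_appLE_fromSpec f hW hV hle, ← Spec.map_comp_assoc,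
    ← Spec.map_comp_assoc, cancel_mono] at hw
  have hb := Spec.map_injective hw
  suffices χp = χp' by rw [this]
  refine CommRingCat.hom_ext (RingHom.ext fun a => ?_)
  have hmem : a ∈ Subring.closure (Set.range (f.appLE W V hle).hom ∪ t) := ht ▸ trivial
  induction hmem using Subring.closure_induction with
  | mem z hz =>
    rcases hz with ⟨b, rfl⟩ | hz
    · exact congr($hb b)
    · rw [ha, ha']; exact ht' z hz
  | zero => rw [map_zero, map_zero]
  | one => rw [map_one, map_one]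
  | add _ _ _ _ h1 h2 => rw [map_add, map_add, h1, h2]
  | neg _ _ h1 => rw [map_neg, map_neg, h1]
  | mul _ _ _ _ h1 h2 => rw [map_mul, map_mul, h1, h2]

end Lift

end Groth.L19.Ultra
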