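import Groth.Prelude.Def_W4stkdualitygroupp2Univ
import Mathlib.RingTheory.RegularLocalRing.Polynomial
import Mathlib.RingTheory.Smooth.StandardSmoothOfFree
import Mathlib.RingTheory.Etale.Locus
import Mathlib.RingTheory.Unramified.LocalStructure
import Mathlib.Algebra.Polynomial.Eval.Degree
import Mathlib.Algebra.MvPolynomial.PDeriv

/-!
# The universal square complete intersection algebra
-/

set_option autoImplicit false
set_option linter.style.haveILetI false
set_option maxSynthPendingDepth 3

open MvPolynomial

namespace Groth.L19.UnivGCI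

open Synt

variable (n d : ℕ)

/-- the exponent zero -/
def zeroIdx : UnivIdx n d := ⟨fun _ => ⟨0, Nat.succ_pos _⟩, by simp⟩

theorem exponent_zeroIdx : (zeroIdx n d).exponent = 0 := by
  ext i
  simp [UnivIdx.exponent, zeroIdx]

/-- the free variables: all coefficients but the constant ones, and the coordinates -/
abbrev Var : Type := {p : Fin n × UnivIdx n d // p.2 ≠ zeroIdx n d} ⊕ Fin n

/-- the monomial of an exponent in the free variables -/
noncomputable def mon (E : UnivIdx n d) : MvPolynomial (Var n d) ℤ :=
  E.exponent.prod fun j e => X (Sum.inr j) ^ e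

open Classical in
/-- the value of the coefficient `a_{i,E}` -/
noncomputable def coeffVal (p : Fin n × UnivIdx n d) : MvPolynomial (Var n d) ℤ :=
  if h : p.2 ≠ zeroIdx n d then X (Sum.inl ⟨p, h⟩)
  else -∑ E ∈ (Finset.univ.erase (zeroIdx n d)).attach,
    X (Sum.inl ⟨(p.1, E.1), Finset.ne_of_mem_erase E.2⟩) * mon n d E.1

/-- the coefficient map -/
noncomputable def coeffHom : UnivBase n d →+* MvPolynomial (Var n d) ℤ :=
  (aeval (coeffVal n d)).toRingHom

/-- elimination of the constant coefficients -/
noncomputable def elim : MvPolynomial (Fin n) (UnivBase n d) →+* MvPolynomial (Var n d) ℤ :=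
  eval₂Hom (coeffHom n d) fun j => X (Sum.inr j)

theorem elim_monomial (E : UnivIdx n d) (p : Fin n × UnivIdx n d) :
    elim n d (monomial E.exponent (X p)) = coeffVal n d p * mon n d E := by
  rw [elim, coe_eval₂Hom, eval₂_monomial]
  simp [coeffHom, mon]

theorem elim_univPoly (i : Fin n) : elim n d (univPoly n d i) = 0 := by
  classical
  rw [univPoly, map_sum, ← Finset.add_sum_erase _ _ (Finset.mem_univ (zeroIdx n d)), elim_monomial,
    show mon n d (zeroIdx n d) = 1 by simp [mon, exponent_zeroIdx], mul_one,
    coeffVal, dif_neg (by simp), add_comm, ← sub_eq_add_neg, sub_eq_zero, ← Finset.sum_attach]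
  refine Finset.sum_congr rfl fun E _ => ?_
  rw [elim_monomial, coeffVal, dif_pos (Finset.ne_of_mem_erase E.2)]

/-- `UnivAlg → ℤ[free variables]` -/
noncomputable def toFree : UnivAlg n d →+* MvPolynomial (Var n d) ℤ :=
  Ideal.Quotient.lift (univIdeal n d) (elim n d) fun a ha => by
    have : univIdeal n d ≤ RingHom.ker (elim n d) := Ideal.span_le.2 (by
      rintro _ ⟨i, rfl⟩
      exact elim_univPoly n d i)
    exact this ha

theorem toFree_mk (a : MvPolynomial (Fin n) (UnivBase n d)) :
    toFree n d (UnivAlg.mk n d a) = elim n d a := rfl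

/-- `ℤ[free variables] → UnivAlg` -/
noncomputable def ofFree : MvPolynomial (Var n d) ℤ →+* UnivAlg n d :=
  eval₂Hom (Int.castRingHom _)
    (Sum.elim (fun p => UnivAlg.mk n d (C (X p.1))) fun j => UnivAlg.mk n d (X j))

theorem ofFree_inl (p : {p : Fin n × UnivIdx n d // p.2 ≠ zeroIdx n d}) :
    ofFree n d (X (Sum.inl p)) = UnivAlg.mk n d (C (X p.1)) :=
  eval₂Hom_X' _ _ _

theorem ofFree_inr (j : Fin n) : ofFree n d (X (Sum.inr j)) = UnivAlg.mk n d (X j) :=
  eval₂Hom_X' _ _ _

theorem ofFree_mon (E : UnivIdx n d) :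
    ofFree n d (mon n d E) = UnivAlg.mk n d (monomial E.exponent 1) := by
  rw [mon, monomial_eq, C_1, one_mul, map_finsuppProd, map_finsuppProd]
  refine Finsupp.prod_congr fun j _ => ?_
  rw [map_pow, map_pow, ofFree_inr]

theorem mk_univPoly (i : Fin n) : UnivAlg.mk n d (univPoly n d i) = 0 :=
  Ideal.Quotient.eq_zero_iff_mem.2 (Ideal.subset_span ⟨i, rfl⟩)

theorem ofFree_elim : (ofFree n d).comp (elim n d) = (UnivAlg.mk n d).toRingHom := by
  classical
  refine MvPolynomial.ringHom_ext' ?_ fun j => ?_
  · refine MvPolynomial.ringHom_ext' (RingHom.ext_int _ _) fun p => ?_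
    show ofFree n d (elim n d (C (X p))) = UnivAlg.mk n d (C (X p))
    rw [elim, eval₂Hom_C, coeffHom]
    show ofFree n d (aeval (coeffVal n d) (X p)) = _
    rw [aeval_X]
    by_cases h : p.2 = zeroIdx n d
    · obtain ⟨i, E₀⟩ := p
      obtain rfl : E₀ = zeroIdx n d := h
      rw [coeffVal, dif_neg (by simp), map_neg, map_sum, neg_eq_iff_eq_neg, eq_neg_iff_add_eq_zero,
        ← mk_univPoly n d i, univPoly,
        ← Finset.add_sum_erase _ _ (Finset.mem_univ (zeroIdx n d)), map_add, map_sum, add_comm]
      congr 1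
      · rw [exponent_zeroIdx]; rfl
      · conv_rhs => rw [← Finset.sum_attach]
        refine Finset.sum_congr rfl fun E _ => ?_
        rw [map_mul, ofFree_mon, ofFree_inl, ← map_mul, C_mul_monomial, mul_one]
    · rw [coeffVal, dif_pos h, ofFree_inl]
  · show ofFree n d (elim n d (X j)) = _
    rw [elim, eval₂Hom_X', ofFree_inr]
    rfl

theorem toFree_ofFree : (toFree n d).comp (ofFree n d) = RingHom.id _ := by
  refine MvPolynomial.ringHom_ext' (RingHom.ext_int _ _) fun v => ?_
  rcases v with ⟨p, hp⟩ | j
  · show toFree n d (ofFree n d (X (Sum.inl ⟨p, hp⟩))) = X (Sum.inl ⟨p, hp⟩)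
    rw [ofFree_inl, toFree_mk, elim, eval₂Hom_C, coeffHom]
    simp [coeffVal, hp]
  · show toFree n d (ofFree n d (X (Sum.inr j))) = X (Sum.inr j)
    rw [ofFree_inr, toFree_mk, elim, eval₂Hom_X']

/-- The universal algebra is a polynomial ring. -/
noncomputable def equivFree : UnivAlg n d ≃+* MvPolynomial (Var n d) ℤ :=
  RingEquiv.ofRingHom (toFree n d) (ofFree n d) (toFree_ofFree n d) (RingHom.ext fun b => by
    obtain ⟨a, rfl⟩ := Ideal.Quotient.mk_surjective (I := univIdeal n d) b
    exact RingHom.congr_fun (ofFree_elim n d) a)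

theorem isDomain : IsDomain (UnivAlg n d) :=
  (equivFree n d).toMulEquiv.isDomain (MvPolynomial (Var n d) ℤ)

theorem isRegularRing : IsRegularRing (UnivAlg n d) :=
  IsRegularRing.of_ringEquiv (equivFree n d).symm

open Classical in
/-- The value of `a_{i,E}` at the point `f_i = x_i`. -/
noncomputable def pointVal (p : Fin n × UnivIdx n d) : ℤ :=
  if p.2.exponent = Finsupp.single p.1 1 then 1 else 0

/-- The specialisation `f_i = x_i`. -/
noncomputable def spec : MvPolynomial (Fin n) (UnivBase n d) →+* MvPolynomial (Fin n) ℤ :=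
  MvPolynomial.map (aeval (pointVal n d)).toRingHom

theorem spec_univPoly (hd : 1 ≤ d) (i : Fin n) : spec n d (univPoly n d i) = X i := by
  classical
  let E₁ : UnivIdx n d := ⟨fun j => if j = i then ⟨1, by omega⟩ else ⟨0, by omega⟩, by
    rw [Finset.sum_eq_single i (fun j _ hj => by simp [hj]) (by simp)]
    simpa using hd⟩
  have hE₁ : E₁.exponent = Finsupp.single i 1 := by
    ext j
    by_cases h : j = i
    · subst h; simp [UnivIdx.exponent, E₁]
    · simp [UnivIdx.exponent, E₁, h]
  have hinj : ∀ E E' : UnivIdx n d, E.exponent = E'.exponent → E = E' := fun E E' h => by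
    apply Subtype.ext
    funext j
    exact Fin.ext (Finsupp.ext_iff.1 h j)
  rw [univPoly, map_sum, Finset.sum_eq_single E₁]
  · rw [spec, map_monomial]
    show monomial E₁.exponent (aeval (pointVal n d) (MvPolynomial.X (i, E₁))) = _
    rw [aeval_X, pointVal, if_pos hE₁, hE₁]
    rfl
  · intro E _ hE
    have : ¬E.exponent = Finsupp.single i 1 := fun h => hE (hinj _ _ (h.trans hE₁.symm))
    simp [spec, pointVal, this]
  · simp

/-- evaluation at the origin of the point -/
noncomputable def point : MvPolynomial (Fin n) (UnivBase n d) →+* ℤ :=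
  (MvPolynomial.aeval (fun _ : Fin n => (0 : ℤ))).toRingHom.comp (spec n d)

theorem exists_etale_point (hd : 1 ≤ d) :
    ∃ q : PrimeSpectrum (UnivAlg n d), Algebra.QuasiFiniteAt (UnivBase n d) q.asIdeal ∧
      Algebra.IsEtaleAt (UnivBase n d) q.asIdeal := by
  classical
  let A := UnivBase n d
  let P := Algebra.PreSubmersivePresentation.naive (R := A) (v := univPoly n d) (id : Fin n → Fin n)
    Function.injective_id
  let J : MvPolynomial (Fin n) A :=
    Matrix.det (Matrix.of fun i j : Fin n => pderiv i (univPoly n d j))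
  have hker : univIdeal n d ≤ RingHom.ker (point n d) := Ideal.span_le.2 (by
    rintro _ ⟨i, rfl⟩
    show point n d (univPoly n d i) = 0
    rw [point, RingHom.comp_apply, spec_univPoly n d hd]
    simp)
  let χ : UnivAlg n d →+* ℤ := Ideal.Quotient.lift (univIdeal n d) (point n d) hker
  let q : Ideal (UnivAlg n d) := RingHom.ker χ
  haveI : q.IsPrime := RingHom.ker_isPrime χ
  have hJ : UnivAlg.mk n d J ∉ q := by
    show ¬point n d J = 0
    rw [RingHom.map_det]
    have : (point n d).mapMatrix (Matrix.of fun i j : Fin n => pderiv i (univPoly n d j)) = 1 := by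
      ext i j
      simp only [RingHom.mapMatrix_apply, Matrix.map_apply, Matrix.of_apply, point,
        RingHom.comp_apply]
      rw [spec, ← MvPolynomial.pderiv_map, ← spec, spec_univPoly n d hd]
      by_cases h : i = j
      · subst h; simp
      · simp [Matrix.one_apply_ne h, Pi.single_eq_of_ne (Ne.symm h)]
    rw [this, Matrix.det_one]
    exact one_ne_zero
  let L := Localization.Away (UnivAlg.mk n d J)
  haveI : Algebra.Etale A L := by
    let e : (MvPolynomial (Fin n) A ⧸ Ideal.span (Set.range (univPoly n d))) ≃ₐ[A] UnivAlg n d :=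
      AlgEquiv.ofRingEquiv (f := (RingEquiv.refl (UnivAlg n d) :
        (MvPolynomial (Fin n) A ⧸ Ideal.span (Set.range (univPoly n d))) ≃+* UnivAlg n d)) fun _ => rfl
    let P' := P.ofAlgEquiv e
    let Q := Algebra.PreSubmersivePresentation.localizationAway (R := UnivAlg n d) L (UnivAlg.mk n d J)
    have hu : IsUnit (algebraMap (UnivAlg n d) L P'.jacobian) := by
      rw [show P'.jacobian = e P.jacobian by simp [P'], P.jacobian_eq_jacobiMatrix_det]
      have : P.jacobiMatrix = Matrix.of fun i j : Fin n => pderiv i (univPoly n d j) := by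
        ext i j
        rw [Algebra.PreSubmersivePresentation.jacobiMatrix_naive]
        rfl
      rw [this]
      exact IsLocalization.Away.algebraMap_isUnit (UnivAlg.mk n d J)
    let SP : Algebra.SubmersivePresentation A L (Unit ⊕ Fin n) (Unit ⊕ Fin n) :=
      { toPreSubmersivePresentation := Q.comp P'
        jacobian_isUnit := by
          rw [Algebra.PreSubmersivePresentation.comp_jacobian_eq_jacobian_smul_jacobian,
            Algebra.smul_def, IsUnit.mul_iff]
          exact ⟨hu, (Algebra.SubmersivePresentation.localizationAway L (UnivAlg.mk n d J)).jacobian_isUnit⟩ }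
    exact Algebra.Etale.iff_isStandardSmoothOfRelativeDimension_zero.2
      (SP.isStandardSmoothOfRelativeDimension (by simp [Algebra.Presentation.dimension]))
  refine ⟨⟨q, inferInstance⟩, ?_, ?_⟩
  · let f : L →ₐ[A] Localization.AtPrime q :=
      IsLocalization.liftAlgHom (M := Submonoid.powers (UnivAlg.mk n d J))
        (f := IsScalarTower.toAlgHom A (UnivAlg n d) (Localization.AtPrime q)) (fun y =>
        IsLocalization.map_units (Localization.AtPrime q)
          (⟨(y : UnivAlg n d), Submonoid.powers_le.mpr hJ y.2⟩ : q.primeCompl))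
    refine Algebra.QuasiFinite.of_forall_exists_mul_mem_range f fun x => ?_
    obtain ⟨x, ⟨s, hs⟩, rfl⟩ := IsLocalization.exists_mk'_eq q.primeCompl x
    have hf : ∀ a, f (algebraMap (UnivAlg n d) L a) = algebraMap (UnivAlg n d) (Localization.AtPrime q) a :=
      fun a => IsLocalization.lift_eq _ a
    refine ⟨algebraMap _ L s, ?_, algebraMap _ L x, ?_⟩
    · rw [hf]
      exact IsLocalization.map_units (Localization.AtPrime q) (⟨s, hs⟩ : q.primeCompl)
    · exact (hf x).trans
        ((IsLocalization.mk'_spec (Localization.AtPrime q) x (⟨s, hs⟩ : q.primeCompl)).symm.trans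
          (congrArg _ (hf s).symm))
  · exact Algebra.basicOpen_subset_etaleLocus_iff.2 (inferInstance : Algebra.FormallyEtale A L) hJ

end Groth.L19.UnivGCI
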